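import Cfsg.Agent.Lib.Suzuki.Stabilizer

/-!
# Simplicity and the Sylow 2-subgroup of the Suzuki group

`uSub_fix_eq`, `zSub`, `commutator_eq_top`, `normal_transitive`, `isSimpleGroup_sz`,
`zassenhaus`, `uSylow`, `sylowEquiv`, `uSub_center_eq`, `uSub_commutator_eq`, `exponent_uSub`.
-/

set_option autoImplicit false
set_option linter.style.haveILetI false

namespace Cfsg.Agent.Suzuki

open Cfsg
open scoped Matrix commutatorElement

variable {F : Type*} [Field F] {m : ℕ} [Fintype F]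
variable (hm : 1 ≤ m) (hF : Fintype.card F = 2 ^ (2 * m + 1))

lemma uSub_fix_eq {a b : F} (h : ¬(a = 0 ∧ b = 0)) {p : Projectivization F (Fin 4 → F)}
    (hp : p ∈ suzukiOvoid F m) (hfix : tSz hF a b • p = p) : p = suzukiPointInfinity F := by
  rcases mem_ovoid_iff.mp hp with rfl | ⟨x, y, rfl⟩
  · rfl
  · rw [tSz_smul_pt] at hfix
    obtain ⟨h1, h2⟩ := pt_inj hfix
    have ha : a = 0 := add_eq_left.mp h1
    subst ha
    exact absurd ⟨rfl, by simpa using h2⟩ h

lemma tSz_dSz_mul (a b c d : F) (k l : Fˣ) :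
    tSz hF a b * dSz hF k * (tSz hF c d * dSz hF l) =
      tSz hF (a + (k : F) * c) (b + th m (k : F) * (k : F) * d + th m a * ((k : F) * c)) *
        dSz hF (k * l) := by
  rw [mul_assoc, ← mul_assoc (dSz hF k), dSz_conj_tSz, mul_assoc, dSz_mul, ← mul_assoc, tSz_mul]

lemma dSz_inv (k : Fˣ) : (dSz hF k)⁻¹ = dSz hF k⁻¹ := ((dHom hF).map_inv k).symm

lemma tSz_dSz_inv (a b : F) (k : Fˣ) :
    ∃ c d, (tSz hF a b * dSz hF k)⁻¹ = tSz hF c d * dSz hF k⁻¹ :=
  ⟨((k⁻¹ : Fˣ) : F) * a,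
    th m ((k⁻¹ : Fˣ) : F) * ((k⁻¹ : Fˣ) : F) * (b + th m a * a),
    by rw [mul_inv_rev, tSz_inv, dSz_inv, dSz_conj_tSz]⟩

/-- The centre of the unipotent subgroup. -/
def zSub : Subgroup (Sz F m) where
  carrier := {g | ∃ b, g = tSz hF 0 b}
  one_mem' := ⟨0, (tSz_zero hF).symm⟩
  mul_mem' := by
    rintro _ _ ⟨b, rfl⟩ ⟨d, rfl⟩
    exact ⟨b + d, by rw [tSz_mul]; simp⟩
  inv_mem' := by
    rintro _ ⟨b, rfl⟩
    exact ⟨b, by rw [tSz_inv]; simp⟩

lemma mem_zSub {g : Sz F m} : g ∈ zSub hF ↔ ∃ b, g = tSz hF 0 b := Iff.rfl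

lemma zSub_le : zSub hF ≤ uSub hF := fun _ ⟨b, h⟩ => ⟨0, b, h⟩

lemma card_zSub : Nat.card (zSub hF) = 2 ^ (2 * m + 1) := by
  rw [← Nat.card_congr (Equiv.ofBijective
    (fun b : F => (⟨tSz hF 0 b, b, rfl⟩ : zSub hF))
    ⟨fun b d h => (tSz_inj hF (Subtype.mk.inj h)).2,
      fun ⟨g, b, h⟩ => ⟨b, Subtype.ext h.symm⟩⟩), Nat.card_eq_fintype_card, hF]

lemma commutator_tSz (a b c d : F) :
    ⁅tSz hF a b, tSz hF c d⁆ = tSz hF 0 (th m a * c + th m c * a) := by
  haveI := charTwo hF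
  rw [commutatorElement_def, mul_inv_eq_iff_eq_mul, mul_inv_eq_iff_eq_mul, tSz_mul, tSz_mul,
    tSz_mul]
  congr 1 <;> simp [th_add] <;> grind

include hm in
lemma tSz_zero_mem_commutator (b : F) : tSz hF 0 b ∈ commutator (Sz F m) := by
  haveI := charTwo hF
  obtain ⟨k, hk0, hk1⟩ := exists_ne_zero_one hm hF
  have hne : th m k * k + 1 ≠ 0 := fun h => hk1 (thSucc_eq_one hF (by grind))
  have h : ⁅dSz hF (Units.mk0 k hk0), tSz hF 0 (b / (th m k * k + 1))⁆ = tSz hF 0 b := by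
    rw [commutatorElement_def, dSz_conj_tSz, mul_inv_cancel_right, tSz_inv, tSz_mul]
    congr 1 <;> simp
    field_simp
  rw [← h, commutator_def]
  exact Subgroup.commutator_mem_commutator (Subgroup.mem_top _) (Subgroup.mem_top _)

include hm in
lemma tSz_mem_commutator (a b : F) : tSz hF a b ∈ commutator (Sz F m) := by
  haveI := charTwo hF
  obtain ⟨k, hk0, hk1⟩ := exists_ne_zero_one hm hF
  have hne : k + 1 ≠ 0 := fun h => hk1 (by grind)
  obtain ⟨c, hc⟩ : ∃ c, c = a / (k + 1) := ⟨_, rfl⟩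
  have h : ∃ e, ⁅dSz hF (Units.mk0 k hk0), tSz hF c 0⁆ = tSz hF a e := by
    rw [commutatorElement_def, dSz_conj_tSz, mul_inv_cancel_right, tSz_inv, tSz_mul]
    refine ⟨th m c * c + th m (k * c) * c, ?_⟩
    congr 1 <;> simp
    rw [hc]; field_simp
  obtain ⟨e, he⟩ := h
  have h2 : tSz hF a b = tSz hF a e * tSz hF 0 (b + e) := by
    rw [tSz_mul]; congr 1 <;> simp; grind
  rw [h2, ← he]
  refine mul_mem ?_ (tSz_zero_mem_commutator hm hF _)
  rw [commutator_def]
  exact Subgroup.commutator_mem_commutator (Subgroup.mem_top _) (Subgroup.mem_top _)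

lemma dSz_mem_commutator (k : Fˣ) : dSz hF k ∈ commutator (Sz F m) := by
  obtain ⟨l, hl⟩ : ∃ l : Fˣ, l⁻¹ * l⁻¹ = k := by
    refine ⟨(k ^ (2 ^ (2 * m)))⁻¹, ?_⟩
    rw [inv_inv, ← pow_add, ← two_mul, ← pow_succ', ← hF]
    exact Units.ext (by rw [Units.val_pow_eq_pow_val, FiniteField.pow_card])
  have h : ⁅wSz hF, dSz hF l⁆ = dSz hF k := by
    rw [commutatorElement_def, wSz_conj_dSz, mul_inv_cancel_right, dSz_inv, dSz_mul, hl]
  rw [← h, commutator_def]
  exact Subgroup.commutator_mem_commutator (Subgroup.mem_top _) (Subgroup.mem_top _)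

include hm in
lemma wSz_mem_commutator : wSz hF ∈ commutator (Sz F m) := by
  haveI := charTwo hF
  have hz : fz m (1 : F) 1 = 1 := by simp [fz]; grind
  have hfix : wSz hF • pt m (1 : F) 1 = pt m 1 1 := by
    show wSL F • pt m (1 : F) 1 = _
    rw [wSL_smul_pt hF 1 1 (by rw [hz]; exact one_ne_zero), hz, div_one]
  obtain ⟨s, hs⟩ := exists_smul_infinity hF (pt_mem (m := m) (1 : F) 1)
  have h : (s⁻¹ * wSz hF * s) • suzukiPointInfinity F = suzukiPointInfinity F := by
    rw [mul_smul, mul_smul, hs, hfix, ← hs, inv_smul_smul]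
  obtain ⟨a, b, k, hk⟩ := exists_tSz_dSz_of_fix hm hF h
  have hmem : s⁻¹ * wSz hF * s ∈ commutator (Sz F m) :=
    hk ▸ mul_mem (tSz_mem_commutator hm hF a b) (dSz_mem_commutator hF k)
  have := (inferInstance : (commutator (Sz F m)).Normal).conj_mem _ hmem s
  rwa [show s * (s⁻¹ * wSz hF * s) * s⁻¹ = wSz hF by group] at this

include hm hF in
/-- The Suzuki group is perfect. -/
theorem commutator_eq_top : commutator (Sz F m) = ⊤ := by
  rw [eq_top_iff]
  intro g _
  rcases decompose hm hF g with ⟨a, b, k, rfl⟩ | ⟨a, b, c, d, k, rfl⟩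
  · exact mul_mem (tSz_mem_commutator hm hF a b) (dSz_mem_commutator hF k)
  · exact mul_mem (mul_mem (tSz_mem_commutator hm hF a b) (wSz_mem_commutator hm hF))
      (mul_mem (tSz_mem_commutator hm hF c d) (dSz_mem_commutator hF k))

include hm hF in
/-- A non-trivial normal subgroup is transitive on the ovoid. -/
theorem normal_transitive {N : Subgroup (Sz F m)} [hN : N.Normal] (hne : N ≠ ⊥)
    {p : Projectivization F (Fin 4 → F)} (hp : p ∈ suzukiOvoid F m) :
    ∃ n ∈ N, n • suzukiPointInfinity F = p := by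
  obtain ⟨r, hr, hrne, n₀, hn₀, hn₀r⟩ : ∃ r ∈ suzukiOvoid F m, r ≠ suzukiPointInfinity F ∧
      ∃ n ∈ N, n • suzukiPointInfinity F = r := by
    obtain ⟨⟨n, hn⟩, hn1⟩ := Subgroup.ne_bot_iff_exists_ne_one.mp hne
    have hn1' : n ≠ 1 := fun h => hn1 (Subtype.ext h)
    obtain ⟨q, hq, hmove⟩ : ∃ q ∈ suzukiOvoid F m, n • q ≠ q := by
      by_contra h
      push Not at h
      exact hn1' (eq_one_of_fix_three hm hF infinity_mem (pt_mem (0 : F) 0) (pt_mem (1 : F) 0)
        (pt_ne_infinity _ _).symm (pt_ne_infinity _ _).symm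
        (fun e => zero_ne_one (pt_inj e).1) (h _ infinity_mem) (h _ (pt_mem _ _))
        (h _ (pt_mem _ _)))
    obtain ⟨g, rfl⟩ := exists_smul_infinity hF hq
    refine ⟨g⁻¹ • n • g • suzukiPointInfinity F, smul_mem_ovoid _ (smul_mem_ovoid _ hq), ?_,
      g⁻¹ * n * g, ?_, by rw [mul_smul, mul_smul]⟩
    · intro h
      exact hmove (inv_smul_eq_iff.mp h)
    · simpa using hN.conj_mem n hn g⁻¹
  rcases eq_or_ne p (suzukiPointInfinity F) with rfl | hpne
  · exact ⟨1, one_mem _, one_smul _ _⟩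
  obtain ⟨s, hs0, hs1⟩ := exists_move hF (infinity_mem (m := m)) hp hpne.symm
  obtain ⟨t, ht0, ht1⟩ := exists_move hF (infinity_mem (m := m)) hr hrne.symm
  refine ⟨(s * t⁻¹) * n₀ * (s * t⁻¹)⁻¹, hN.conj_mem _ hn₀ _, ?_⟩
  simp only [mul_inv_rev, inv_inv, mul_smul, inv_smul_eq_iff.mpr hs0.symm, ht0, hn₀r,
    inv_smul_eq_iff.mpr ht1.symm, hs1]

include hm in
lemma commutator_stabilizer_le :
    ⁅MulAction.stabilizer (Sz F m) (suzukiPointInfinity F),
      MulAction.stabilizer (Sz F m) (suzukiPointInfinity F)⁆ ≤ uSub hF := by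
  rw [Subgroup.commutator_le]
  intro g hg h hh
  obtain ⟨a, b, k, rfl⟩ := exists_tSz_dSz_of_fix hm hF hg
  obtain ⟨c, d, l, rfl⟩ := exists_tSz_dSz_of_fix hm hF hh
  obtain ⟨a', b', hi⟩ := tSz_dSz_inv hF a b k
  obtain ⟨c', d', hj⟩ := tSz_dSz_inv hF c d l
  rw [commutatorElement_def, hi, hj, tSz_dSz_mul, tSz_dSz_mul, tSz_dSz_mul,
    show k * l * k⁻¹ * l⁻¹ = 1 by rw [mul_right_comm k l k⁻¹]; simp, dSz_one, mul_one]
  exact tSz_mem_uSub hF _ _

lemma commutator_uSub_le : ⁅uSub hF, uSub hF⁆ ≤ zSub hF := by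
  rw [Subgroup.commutator_le]
  rintro _ ⟨a, b, rfl⟩ _ ⟨c, d, rfl⟩
  rw [commutator_tSz]
  exact ⟨_, rfl⟩

lemma commutator_zSub_eq : ⁅zSub hF, zSub hF⁆ = ⊥ := by
  rw [eq_bot_iff, Subgroup.commutator_le]
  rintro _ ⟨b, rfl⟩ _ ⟨d, rfl⟩
  rw [commutator_tSz, Subgroup.mem_bot, tSz_eq_one_iff]
  simp

include hm hF in
/-- The Suzuki group is simple. -/
theorem isSimpleGroup_sz : IsSimpleGroup (Sz F m) := by
  haveI : Nontrivial (Sz F m) :=
    nontrivial_of_ne (tSz hF 1 0) 1 fun h => one_ne_zero ((tSz_eq_one_iff hF).mp h).1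
  refine ⟨fun N hN => ?_⟩
  rw [or_iff_not_imp_left]
  intro hne
  set π := QuotientGroup.mk' N
  have hperf : ⁅(⊤ : Subgroup (Sz F m ⧸ N)), (⊤ : Subgroup (Sz F m ⧸ N))⁆ = ⊤ := by
    rw [← Subgroup.map_top_of_surjective π (QuotientGroup.mk'_surjective N),
      ← Subgroup.map_commutator, ← commutator_def, commutator_eq_top hm hF]
  have hstab : (MulAction.stabilizer (Sz F m) (suzukiPointInfinity F)).map π = ⊤ := by
    rw [eq_top_iff]
    intro x _
    obtain ⟨g, rfl⟩ := QuotientGroup.mk'_surjective N x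
    obtain ⟨n, hn, hn'⟩ := normal_transitive hm hF hne (smul_mem_ovoid g (infinity_mem (m := m)))
    refine ⟨n⁻¹ * g, by
      simp only [SetLike.mem_coe, MulAction.mem_stabilizer_iff, mul_smul, ← hn', inv_smul_smul],
      ?_⟩
    rw [map_mul, map_inv, show π n = 1 from (QuotientGroup.eq_one_iff n).mpr hn, inv_one, one_mul]
  have step : ∀ X Y : Subgroup (Sz F m), ⁅X, X⁆ ≤ Y → X.map π = ⊤ → Y.map π = ⊤ := by
    intro X Y hXY hX
    rw [eq_top_iff]
    calc (⊤ : Subgroup (Sz F m ⧸ N)) = ⁅X.map π, X.map π⁆ := by rw [hX, hperf]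
      _ = (⁅X, X⁆).map π := (Subgroup.map_commutator _ _ π).symm
      _ ≤ Y.map π := Subgroup.map_mono hXY
  have hbot := step _ ⊥ (commutator_zSub_eq hF).le
    (step _ _ (commutator_uSub_le hF) (step _ _ (commutator_stabilizer_le hm hF) hstab))
  rw [Subgroup.map_bot] at hbot
  rw [eq_top_iff]
  intro g _
  have hg : π g ∈ (⊥ : Subgroup (Sz F m ⧸ N)) := hbot ▸ Subgroup.mem_top _
  exact (QuotientGroup.eq_one_iff g).mp (Subgroup.mem_bot.mp hg)

include hm hF in
/-- The Suzuki group is a Zassenhaus group on the ovoid. -/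
theorem zassenhaus : IsZassenhausGroup (Sz F m) (suzukiOvoid F m) := by
  have three := fun (g : Sz F m) (a b c : suzukiOvoid F m) (hab : a ≠ b) (hbc : b ≠ c)
      (hac : a ≠ c) (ha : g • a = a) (hb : g • b = b) (hc : g • c = c) =>
    eq_one_of_fix_three hm hF a.2 b.2 c.2 (fun e => hab (Subtype.ext e))
      (fun e => hac (Subtype.ext e)) (fun e => hbc (Subtype.ext e))
      (congrArg Subtype.val ha) (congrArg Subtype.val hb) (congrArg Subtype.val hc)
  obtain ⟨k, hk0, hk1⟩ := exists_ne_zero_one hm hF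
  have hd1 : dSz hF (Units.mk0 k hk0) ≠ 1 := fun h =>
    hk1 (congrArg Units.val (dSz_inj hF (h.trans (dSz_one hF).symm)))
  refine ⟨⟨fun {g h} e => ?_⟩, twoTransitive hF, three, ⟨_, hd1,
    ⟨suzukiPointInfinity F, infinity_mem⟩, ⟨suzukiPointZero F, pointZero_mem⟩,
    fun e => pointZero_ne_infinity (congrArg Subtype.val e).symm,
    Subtype.ext (dSz_smul_infinity hF _), Subtype.ext (dSz_smul_zero hF _)⟩, fun N hN ht => ?_⟩
  · rw [← inv_mul_eq_one]
    have e' : ∀ p : suzukiOvoid F m, (g⁻¹ * h) • p = p := fun p => by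
      rw [mul_smul, ← e p, inv_smul_smul]
    exact three (g⁻¹ * h) ⟨_, infinity_mem⟩ ⟨_, pt_mem (0 : F) 0⟩ ⟨_, pt_mem (1 : F) 0⟩
      (fun e => pt_ne_infinity _ _ (congrArg Subtype.val e).symm)
      (fun e => zero_ne_one (pt_inj (congrArg Subtype.val e)).1)
      (fun e => pt_ne_infinity _ _ (congrArg Subtype.val e).symm) (e' _) (e' _) (e' _)
  · rcases (isSimpleGroup_sz hm hF).eq_bot_or_eq_top_of_normal N hN with rfl | rfl
    · obtain ⟨⟨n, hn⟩, h⟩ := ht.exists_smul_eq (⟨_, infinity_mem⟩ : suzukiOvoid F m)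
        ⟨_, pt_mem (0 : F) 0⟩
      rw [Subgroup.mem_bot] at hn
      subst hn
      exact absurd (congrArg Subtype.val h).symm (by simpa using pt_ne_infinity (m := m) (0 : F) 0)
    · refine ⟨⟨suzukiPointInfinity F, infinity_mem⟩, fun h => ?_⟩
      have hmem : (⟨dSz hF (Units.mk0 k hk0), Subgroup.mem_top _⟩ : (⊤ : Subgroup (Sz F m))) ∈
          MulAction.stabilizer (⊤ : Subgroup (Sz F m))
            (⟨suzukiPointInfinity F, infinity_mem⟩ : suzukiOvoid F m) :=
        Subtype.ext (dSz_smul_infinity hF _)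
      rw [h, Subgroup.mem_bot] at hmem
      exact hd1 (congrArg Subtype.val hmem)

lemma isPGroup_uSub : IsPGroup 2 (uSub hF) :=
  IsPGroup.of_card (n := (2 * m + 1) * 2) (by rw [card_uSub, ← pow_mul])

include hm in
lemma index_uSub :
    (uSub hF).index = ((2 ^ (2 * m + 1)) ^ 2 + 1) * (2 ^ (2 * m + 1) - 1) := by
  have h := Subgroup.card_mul_index (uSub hF)
  rw [card_uSub, card_sz hm hF, mul_assoc] at h
  exact Nat.eq_of_mul_eq_mul_left (by positivity) h

include hm in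
/-- The unipotent subgroup as a Sylow 2-subgroup. -/
noncomputable def uSylow : Sylow 2 (Sz F m) :=
  (isPGroup_uSub hF).toSylow (by
    rw [index_uSub hm hF]
    intro h
    rw [Nat.prime_two.dvd_mul] at h
    have he : 2 ∣ 2 ^ (2 * m + 1) := dvd_pow_self 2 (by omega)
    have hpos : 1 ≤ 2 ^ (2 * m + 1) := Nat.one_le_pow _ _ (by norm_num)
    rcases h with h | h
    · exact absurd ((Nat.dvd_add_right (dvd_pow he two_ne_zero)).mp h) (by norm_num)
    · omega)

lemma coe_uSylow : (uSylow hm hF : Subgroup (Sz F m)) = uSub hF := rfl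

include hm in
/-- Every Sylow 2-subgroup is isomorphic to the unipotent subgroup. -/
theorem sylowEquiv (P : Sylow 2 (Sz F m)) : Nonempty (P ≃* uSub hF) := by
  haveI : Fact (Nat.Prime 2) := ⟨Nat.prime_two⟩
  exact ⟨P.equiv (uSylow hm hF)⟩

include hm in
lemma uSub_center_eq : Subgroup.center (uSub hF) = (zSub hF).subgroupOf (uSub hF) := by
  haveI := charTwo hF
  ext ⟨g, hg⟩
  rw [Subgroup.mem_center_iff, Subgroup.mem_subgroupOf]
  obtain ⟨a, b, rfl⟩ := hg
  constructor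
  · intro h
    have hcomm : ∀ c, th m c * a = th m a * c := fun c => by
      have h' := congrArg Subtype.val (h ⟨tSz hF c 0, tSz_mem_uSub hF c 0⟩)
      simp only [Subgroup.coe_mul] at h'
      rw [tSz_mul, tSz_mul] at h'
      have := (tSz_inj hF h').2
      simpa using this
    have ha : a = 0 := by
      obtain ⟨k, hk⟩ := exists_th_ne hm hF
      have h1 := hcomm 1
      have h2 := hcomm k
      simp at h1
      rw [← h1] at h2
      by_contra h0
      exact hk (mul_right_cancel₀ h0 (by rw [h2]; ring))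
    subst ha
    exact ⟨b, rfl⟩
  · rintro ⟨b', hb'⟩ ⟨g', c, d, rfl⟩
    apply Subtype.ext
    obtain ⟨rfl, rfl⟩ := tSz_inj hF hb'
    simp only [Subgroup.coe_mul, tSz_mul]
    congr 1 <;> simp <;> ring

include hm in
lemma uSub_commutator_eq : commutator (uSub hF) = (zSub hF).subgroupOf (uSub hF) := by
  haveI := charTwo hF
  apply le_antisymm
  · rw [commutator_def, Subgroup.commutator_le]
    rintro ⟨_, a, b, rfl⟩ - ⟨_, c, d, rfl⟩ -
    rw [Subgroup.mem_subgroupOf]
    show ⁅tSz hF a b, tSz hF c d⁆ ∈ zSub hF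
    rw [commutator_tSz]
    exact ⟨_, rfl⟩
  · rintro ⟨g, hg⟩ h
    obtain ⟨b, hb : g = _⟩ := h
    subst hb
    obtain ⟨t, ht⟩ : ∃ t : F, t + th m t = b ∨ ∃ k, th m k * k * (t + th m t) = b := by
      rcases eq_or_ne b 0 with rfl | hb
      · exact ⟨0, Or.inl (by simp)⟩
      obtain ⟨t, ht⟩ : ∃ t : F, t + th m t ≠ 0 := by
        obtain ⟨t, ht⟩ := exists_th_ne hm hF
        exact ⟨t, fun h => ht (by grind)⟩
      obtain ⟨k, hk⟩ := (thSucc_bijective hF).2 (b / (t + th m t))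
      simp only at hk
      exact ⟨t, Or.inr ⟨k, by rw [hk]; field_simp⟩⟩
    obtain ⟨x, y, hxy⟩ : ∃ x y : F, th m x * y + th m y * x = b := by
      rcases ht with ht | ⟨k, hk⟩
      · exact ⟨1, t, by simpa using ht⟩
      · exact ⟨k, k * t, by rw [th_mul, ← hk]; ring⟩
    have he : (⟨tSz hF 0 b, hg⟩ : uSub hF) =
        ⁅(⟨tSz hF x 0, tSz_mem_uSub hF x 0⟩ : uSub hF), ⟨tSz hF y 0, tSz_mem_uSub hF y 0⟩⁆ := by
      apply Subtype.ext
      show tSz hF 0 b = ⁅tSz hF x 0, tSz hF y 0⁆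
      rw [commutator_tSz, hxy]
    rw [he, commutator_def]
    exact Subgroup.commutator_mem_commutator (Subgroup.mem_top _) (Subgroup.mem_top _)

lemma exponent_uSub : Monoid.exponent (uSub hF) = 4 := by
  haveI := charTwo hF
  apply Nat.dvd_antisymm
  · apply Monoid.exponent_dvd_of_forall_pow_eq_one
    rintro ⟨_, a, b, rfl⟩
    apply Subtype.ext
    show tSz hF a b ^ (2 * 2) = 1
    rw [pow_mul, sq, sq, tSz_mul, tSz_mul, tSz_eq_one_iff]
    constructor <;> grind [th_zero]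
  · have h : orderOf (⟨tSz hF 1 0, tSz_mem_uSub hF 1 0⟩ : uSub hF) = 4 := by
      haveI : Fact (Nat.Prime 2) := ⟨Nat.prime_two⟩
      refine orderOf_eq_prime_pow (p := 2) (n := 1) ?_ ?_
      · intro h
        have h' : tSz hF 1 0 ^ (2 ^ 1) = 1 := congrArg Subtype.val h
        rw [pow_one, sq, tSz_mul, tSz_eq_one_iff] at h'
        simp at h'
      · apply Subtype.ext
        show tSz hF 1 0 ^ (2 ^ (1 + 1)) = 1
        rw [show 2 ^ (1 + 1) = 2 * 2 from rfl, pow_mul, sq, sq, tSz_mul, tSz_mul, tSz_eq_one_iff]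
        constructor <;> grind [th_zero]
    exact h.symm.dvd.trans (Monoid.order_dvd_exponent _)

include hm hF in
/-- Order, exponent, centre and derived subgroup of a Sylow 2-subgroup. -/
theorem sylow_two_structure (P : Sylow 2 (Sz F m)) :
    Nat.card P = (2 ^ (2 * m + 1)) ^ 2 ∧ Monoid.exponent P = 4 ∧
      Subgroup.center P = commutator P ∧ Nat.card (Subgroup.center P) = 2 ^ (2 * m + 1) := by
  obtain ⟨e⟩ := sylowEquiv hm hF P
  have hcz : Subgroup.center (uSub hF) = commutator (uSub hF) := by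
    rw [uSub_center_eq hm hF, uSub_commutator_eq hm hF]
  refine ⟨by rw [Nat.card_congr e.toEquiv, card_uSub],
    by rw [Monoid.exponent_eq_of_mulEquiv e, exponent_uSub], ?_, ?_⟩
  · apply Subgroup.map_injective (f := e.toMonoidHom) e.injective
    have h1 : (Subgroup.center P).map e.toMonoidHom = Subgroup.center (uSub hF) := by
      ext x
      simp only [Subgroup.mem_map, Subgroup.mem_center_iff, MulEquiv.coe_toMonoidHom]
      constructor
      · rintro ⟨z, hz, rfl⟩ y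
        rw [← e.apply_symm_apply y, ← map_mul, ← map_mul, hz]
      · intro hx
        refine ⟨e.symm x, fun y => e.injective ?_, e.apply_symm_apply x⟩
        simp [hx]
    rw [h1, commutator_def, Subgroup.map_commutator,
      Subgroup.map_top_of_surjective e.toMonoidHom e.surjective, ← commutator_def, hcz]
  · rw [Nat.card_congr (Subgroup.centerCongr e).toEquiv, uSub_center_eq hm hF,
      Nat.card_congr (Subgroup.subgroupOfEquivOfLe (zSub_le hF)).toEquiv, card_zSub]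

end Cfsg.Agent.Suzuki
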