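import Cfsg.Agent.Lib.Char.Orth

/-!
# Self-centralising tori of odd order with small normaliser quotient

`TorusDatum`, `TorusDatum.card_invol`, `TorusDatum.card_four`, `TorusDatum.conjugates`,
`TorusDatum.card_containing` (double counting of the tori normalised by an element).
-/

set_option autoImplicit false
set_option linter.style.haveILetI false

namespace Cfsg.Agent.Suzuki

open Cfsg

variable {G : Type*} [Group G]

/-- A subgroup of odd order that is the centraliser of each of its non-identity elements and has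
index `n` (two or four) in its normaliser. -/
structure TorusDatum (T : Subgroup G) (n : ℕ) : Prop where
  cent : ∀ t ∈ T, t ≠ 1 → Subgroup.centralizer {t} = T
  odd : Odd (Nat.card T)
  one_lt : 1 < Nat.card T
  card_norm : Nat.card (Subgroup.normalizer (T : Set G)) = n * Nat.card T
  n_cases : n = 2 ∨ n = 4

namespace TorusDatum

variable {T : Subgroup G} {n : ℕ} (hT : TorusDatum T n)

include hT

theorem comm {a b : G} (ha : a ∈ T) (hb : b ∈ T) : a * b = b * a := by
  rcases eq_or_ne a 1 with rfl | ha1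
  · rw [one_mul, mul_one]
  · rw [← hT.cent a ha ha1, Subgroup.mem_centralizer_singleton_iff] at hb
    exact hb.symm

theorem mem_of_commute {y t : G} (ht : t ∈ T) (ht1 : t ≠ 1) (h : y * t = t * y) : y ∈ T := by
  rw [← hT.cent t ht ht1]
  exact Subgroup.mem_centralizer_singleton_iff.mpr h

theorem eq_of_common {T' : Subgroup G} {n' : ℕ} (hT' : TorusDatum T' n') {t : G} (h : t ∈ T)
    (h' : t ∈ T') (h1 : t ≠ 1) : T = T' := by
  rw [← hT.cent t h h1, hT'.cent t h' h1]

theorem eq_one_of_pow {t : G} (ht : t ∈ T) {j : ℕ} (h : t ^ (2 ^ j) = 1) : t = 1 := by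
  have h1 : orderOf t ∣ 2 ^ j := orderOf_dvd_of_pow_eq_one h
  have h2 : orderOf t ∣ Nat.card T := Subgroup.orderOf_dvd_natCard T ht
  have hc : (2 ^ j).Coprime (Nat.card T) :=
    Nat.Coprime.pow_left _ (Nat.coprime_two_left.mpr hT.odd)
  exact orderOf_eq_one_iff.mp (Nat.eq_one_of_dvd_coprimes hc h1 h2)

theorem relIndex_eq : (T.subgroupOf (Subgroup.normalizer (T : Set G))).index = n := by
  set N := Subgroup.normalizer (T : Set G)
  have h := Subgroup.card_mul_index (T.subgroupOf N)
  rw [Nat.card_congr (Subgroup.subgroupOfEquivOfLe Subgroup.le_normalizer).toEquiv,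
    hT.card_norm, mul_comm n] at h
  exact Nat.eq_of_mul_eq_mul_left (by have := hT.one_lt; omega) h

theorem pow_mem {y : G} (hy : y ∈ Subgroup.normalizer (T : Set G)) : y ^ n ∈ T := by
  have h := Subgroup.pow_index_mem (T.subgroupOf (Subgroup.normalizer (T : Set G))) ⟨y, hy⟩
  rw [hT.relIndex_eq, Subgroup.mem_subgroupOf] at h
  exact h

theorem pow_eq_one {y : G} (hy : y ∈ Subgroup.normalizer (T : Set G)) (hyT : y ∉ T) :
    y ^ n = 1 := by
  by_contra h
  exact hyT (hT.mem_of_commute (hT.pow_mem hy) h (Commute.self_pow y n).eq)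

theorem order_cases {y : G} (hy : y ∈ Subgroup.normalizer (T : Set G)) (hyT : y ∉ T) :
    orderOf y = 2 ∨ (orderOf y = 4 ∧ n = 4) := by
  have h := orderOf_dvd_of_pow_eq_one (hT.pow_eq_one hy hyT)
  have h1 : orderOf y ≠ 1 := fun e => hyT (orderOf_eq_one_iff.mp e ▸ one_mem T)
  have hle : orderOf y ≤ n := Nat.le_of_dvd (by rcases hT.n_cases with rfl | rfl <;> omega) h
  rcases hT.n_cases with rfl | rfl
  · generalize orderOf y = o at h h1 hle ⊢
    interval_cases o <;> simp_all
  · generalize orderOf y = o at h h1 hle ⊢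
    interval_cases o <;> simp_all

theorem order_odd {t : G} (ht : t ∈ T) : Odd (orderOf t) :=
  hT.odd.of_dvd_nat (Subgroup.orderOf_dvd_natCard T ht)

theorem mem_of_odd {y : G} (hy : y ∈ Subgroup.normalizer (T : Set G)) (ho : Odd (orderOf y)) :
    y ∈ T := by
  by_contra hyT
  rcases hT.order_cases hy hyT with e | ⟨e, -⟩ <;> rw [e] at ho <;> exact absurd ho (by decide)

theorem invol_inverts {z t : G} (hz : z ∈ Subgroup.normalizer (T : Set G)) (hz2 : orderOf z = 2)
    (ht : t ∈ T) : z * t * z⁻¹ = t⁻¹ := by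
  have hzz : z * z = 1 := by rw [← sq, ← hz2, pow_orderOf_eq_one]
  have hzT : z ∉ T := fun h => by
    have := hT.order_odd h
    rw [hz2] at this
    exact absurd this (by decide)
  set c := z * t * z⁻¹ with hc
  have hcT : c ∈ T := (Subgroup.mem_normalizer_iff.mp hz t).mp ht
  have hfix : z * (t * c) * z⁻¹ = t * c := by
    rw [hc, ← hc]
    calc z * (t * c) * z⁻¹ = (z * t * z⁻¹) * (z * c * z⁻¹) := by group
      _ = c * (z * z * t * (z * z)⁻¹) := by rw [hc]; group
      _ = t * c := by rw [hzz, one_mul, inv_one, mul_one]; exact (hT.comm ht hcT).symm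
  by_contra hne
  refine hzT (hT.mem_of_commute (mul_mem ht hcT) (fun e => hne (inv_eq_of_mul_eq_one_right e).symm) ?_)
  calc z * (t * c) = z * (t * c) * z⁻¹ * z := by group
    _ = t * c * z := by rw [hfix]

theorem invol_mul {z t : G} (hz : z ∈ Subgroup.normalizer (T : Set G)) (hz2 : orderOf z = 2)
    (ht : t ∈ T) : orderOf (z * t) = 2 := by
  haveI : Fact (Nat.Prime 2) := ⟨Nat.prime_two⟩
  have hzz : z * z = 1 := by rw [← sq, ← hz2, pow_orderOf_eq_one]
  refine orderOf_eq_prime ?_ ?_
  · rw [sq]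
    calc z * t * (z * t) = (z * t * z⁻¹) * (z * z) * t := by group
      _ = 1 := by rw [hT.invol_inverts hz hz2 ht, hzz, mul_one, inv_mul_cancel]
  · intro h
    have : z = t⁻¹ := eq_inv_of_mul_eq_one_left h
    have ho := hT.order_odd (this ▸ inv_mem ht : z ∈ T)
    rw [hz2] at ho
    exact absurd ho (by decide)

theorem invol_div {z z' : G} (hz : z ∈ Subgroup.normalizer (T : Set G)) (hz2 : orderOf z = 2)
    (hz' : z' ∈ Subgroup.normalizer (T : Set G)) (hz2' : orderOf z' = 2) : z⁻¹ * z' ∈ T := by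
  obtain ⟨⟨t, ht⟩, ht1⟩ := @exists_ne T
    ((Subgroup.nontrivial_iff_ne_bot T).mpr fun h => by
      have := hT.one_lt; rw [h, Subgroup.card_bot] at this; omega) 1
  have ht1' : t ≠ 1 := fun e => ht1 (Subtype.ext e)
  refine hT.mem_of_commute ht ht1' ?_
  have e1 := hT.invol_inverts hz' hz2' ht
  have e2 := hT.invol_inverts hz hz2 ht
  calc z⁻¹ * z' * t = z⁻¹ * (z' * t * z'⁻¹) * z' := by group
    _ = z⁻¹ * (z * t * z⁻¹) * z' := by rw [e1, e2]
    _ = t * (z⁻¹ * z') := by group

theorem invol_conj {z z' : G} (hz : z ∈ Subgroup.normalizer (T : Set G)) (hz2 : orderOf z = 2)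
    (hz' : z' ∈ Subgroup.normalizer (T : Set G)) (hz2' : orderOf z' = 2) :
    ∃ t ∈ T, t * z * t⁻¹ = z' := by
  have hu := hT.invol_div hz hz2 hz' hz2'
  set u := z⁻¹ * z' with hudef
  obtain ⟨j, hj⟩ := hT.odd
  refine ⟨(u ^ (j + 1))⁻¹, inv_mem (Subgroup.pow_mem T hu _), ?_⟩
  have e := hT.invol_inverts hz hz2 (Subgroup.pow_mem T hu (j + 1))
  have hzi : z⁻¹ = z := inv_eq_of_mul_eq_one_right (by rw [← sq, ← hz2, pow_orderOf_eq_one])
  have e' : (u ^ (j + 1))⁻¹ * z = z * u ^ (j + 1) := by
    rw [← e]; group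
  have hpow : u ^ (Nat.card T) = 1 := by
    obtain ⟨d, hd⟩ := Subgroup.orderOf_dvd_natCard T hu
    rw [hd, pow_mul, pow_orderOf_eq_one, one_pow]
  rw [inv_inv, e', mul_assoc, ← pow_add, show j + 1 + (j + 1) = Nat.card T + 1 by omega, pow_succ,
    hpow, one_mul, hudef, mul_inv_cancel_left]

variable [Finite G]

theorem exists_invol :
    ∃ z ∈ Subgroup.normalizer (T : Set G), orderOf z = 2 := by
  haveI : Fact (Nat.Prime 2) := ⟨Nat.prime_two⟩
  obtain ⟨⟨z, hz⟩, ho⟩ := exists_prime_orderOf_dvd_card' (G := Subgroup.normalizer (T : Set G)) 2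
    (by rw [hT.card_norm]; rcases hT.n_cases with rfl | rfl
        · exact dvd_mul_right 2 _
        · exact (show 2 ∣ 4 by norm_num).trans (dvd_mul_right 4 _))
  rw [Subgroup.orderOf_mk] at ho
  exact ⟨z, hz, ho⟩

theorem card_invol :
    {y | y ∈ Subgroup.normalizer (T : Set G) ∧ orderOf y = 2}.ncard = Nat.card T := by
  obtain ⟨z, hz, hz2⟩ := hT.exists_invol
  have e : {y | y ∈ Subgroup.normalizer (T : Set G) ∧ orderOf y = 2} =
      (fun t => z * t) '' (T : Set G) := by
    ext y
    constructor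
    · rintro ⟨hy, hy2⟩
      exact ⟨z⁻¹ * y, hT.invol_div hz hz2 hy hy2, mul_inv_cancel_left _ _⟩
    · rintro ⟨t, ht, rfl⟩
      exact ⟨mul_mem hz (Subgroup.le_normalizer ht), hT.invol_mul hz hz2 ht⟩
  rw [e, Set.ncard_image_of_injective _ (mul_right_injective z), ← Nat.card_coe_set_eq]
  rfl

theorem card_four : {y | y ∈ Subgroup.normalizer (T : Set G) ∧ orderOf y = 4}.ncard =
    (n - 2) * Nat.card T := by
  have hsplit : (Subgroup.normalizer (T : Set G) : Set G) =
      (T : Set G) ∪ ({y | y ∈ Subgroup.normalizer (T : Set G) ∧ orderOf y = 2} ∪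
        {y | y ∈ Subgroup.normalizer (T : Set G) ∧ orderOf y = 4}) := by
    ext y
    constructor
    · intro hy
      by_cases hyT : y ∈ T
      · exact Or.inl hyT
      · rcases hT.order_cases hy hyT with e | ⟨e, -⟩
        · exact Or.inr (Or.inl ⟨hy, e⟩)
        · exact Or.inr (Or.inr ⟨hy, e⟩)
    · rintro (h | ⟨h, -⟩ | ⟨h, -⟩)
      · exact Subgroup.le_normalizer h
      · exact h
      · exact h
  have d1 : Disjoint (T : Set G) ({y | y ∈ Subgroup.normalizer (T : Set G) ∧ orderOf y = 2} ∪
      {y | y ∈ Subgroup.normalizer (T : Set G) ∧ orderOf y = 4}) := by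
    rw [Set.disjoint_left]
    rintro y hy (⟨-, e⟩ | ⟨-, e⟩) <;> have := hT.order_odd hy <;> rw [e] at this <;>
      exact absurd this (by decide)
  have d2 : Disjoint {y | y ∈ Subgroup.normalizer (T : Set G) ∧ orderOf y = 2}
      {y | y ∈ Subgroup.normalizer (T : Set G) ∧ orderOf y = 4} := by
    rw [Set.disjoint_left]
    rintro y ⟨-, e⟩ ⟨-, e'⟩
    omega
  have h := congrArg Set.ncard hsplit
  rw [Set.ncard_union_eq d1, Set.ncard_union_eq d2, hT.card_invol, ← Nat.card_coe_set_eq,
    ← Nat.card_coe_set_eq (T : Set G)] at h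
  change Nat.card (Subgroup.normalizer (T : Set G)) = _ at h
  rw [hT.card_norm] at h
  change _ = Nat.card T + _ at h
  rcases hT.n_cases with rfl | rfl <;> omega

theorem exists_sq_eq {x : G} (hn : n = 4) (hx : x ∈ Subgroup.normalizer (T : Set G))
    (hx2 : orderOf x = 2) :
    ∃ y ∈ Subgroup.normalizer (T : Set G), orderOf y = 4 ∧ y ^ 2 = x := by
  have hne : {y | y ∈ Subgroup.normalizer (T : Set G) ∧ orderOf y = 4}.ncard ≠ 0 := by
    rw [hT.card_four, hn]; have := hT.one_lt; omega
  obtain ⟨y, hy, hy4⟩ := Set.nonempty_of_ncard_ne_zero hne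
  have hs : orderOf (y ^ 2) = 2 := by
    rw [orderOf_pow' _ two_ne_zero, hy4]; norm_num
  obtain ⟨t, ht, he⟩ := hT.invol_conj ((Subgroup.normalizer (T : Set G)).pow_mem hy 2) hs hx hx2
  refine ⟨t * y * t⁻¹, mul_mem (mul_mem (Subgroup.le_normalizer ht) hy)
    (inv_mem (Subgroup.le_normalizer ht)), ?_, by rw [conj_pow, he]⟩
  rw [← hy4]
  exact (MulEquiv.orderOf_eq (MulAut.conj t) y)

omit [Finite G] in
theorem map (g : G) : TorusDatum (T.map (MulAut.conj g).toMonoidHom) n := by
  have hc : Nat.card (T.map (MulAut.conj g).toMonoidHom) = Nat.card T :=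
    (Nat.card_congr (T.equivMapOfInjective _ (MulAut.conj g).injective).toEquiv).symm
  have hN : Subgroup.normalizer ((T.map (MulAut.conj g).toMonoidHom : Subgroup G) : Set G) =
      (Subgroup.normalizer (T : Set G)).map (MulAut.conj g).toMonoidHom :=
    (Subgroup.map_equiv_normalizer_eq T (MulAut.conj g)).symm
  refine ⟨?_, hc ▸ hT.odd, hc ▸ hT.one_lt, ?_, hT.n_cases⟩
  · rintro _ ⟨t, ht, rfl⟩ h1
    have ht1 : t ≠ 1 := fun e => h1 (by rw [e, map_one])
    ext y
    rw [Subgroup.mem_map_equiv, MulAut.conj_symm_apply, ← hT.cent t ht ht1,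
      Subgroup.mem_centralizer_singleton_iff, Subgroup.mem_centralizer_singleton_iff]
    simp only [MulEquiv.coe_toMonoidHom, MulAut.conj_apply]
    constructor
    · intro h
      calc g⁻¹ * y * g * t = g⁻¹ * (y * (g * t * g⁻¹)) * g := by group
        _ = t * (g⁻¹ * y * g) := by rw [h]; group
    · intro h
      calc y * (g * t * g⁻¹) = g * (g⁻¹ * y * g * t) * g⁻¹ := by group
        _ = g * t * g⁻¹ * y := by rw [h]; group
  · rw [hN, hc, ← hT.card_norm]
    exact (Nat.card_congr ((Subgroup.normalizer (T : Set G)).equivMapOfInjective _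
      (MulAut.conj g).injective).toEquiv).symm

end TorusDatum

/-- The conjugates of a subgroup, as a finite set. -/
noncomputable def conjugatesOf' [Finite G] (T : Subgroup G) : Finset (Subgroup G) :=
  letI := Classical.decEq (Subgroup G)
  letI := Fintype.ofFinite G
  Finset.univ.image fun g : G => T.map (MulAut.conj g).toMonoidHom

theorem mem_conjugatesOf' [Finite G] {T S : Subgroup G} :
    S ∈ conjugatesOf' T ↔ ∃ g : G, T.map (MulAut.conj g).toMonoidHom = S := by
  simp [conjugatesOf']

theorem map_conj_map (T : Subgroup G) (g h : G) :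
    (T.map (MulAut.conj g).toMonoidHom).map (MulAut.conj h).toMonoidHom =
      T.map (MulAut.conj (h * g)).toMonoidHom := by
  rw [Subgroup.map_map]
  congr 1
  ext x
  simp [mul_assoc]

theorem card_conjugatesOf' [Finite G] (T : Subgroup G) :
    (conjugatesOf' T).card * Nat.card (Subgroup.normalizer (T : Set G)) = Nat.card G := by
  classical
  haveI := Fintype.ofFinite G
  have hfib : ∀ S ∈ conjugatesOf' T,
      (Finset.univ.filter fun g : G => T.map (MulAut.conj g).toMonoidHom = S).card =
        Nat.card (Subgroup.normalizer (T : Set G)) := by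
    intro S hS
    obtain ⟨g, rfl⟩ := mem_conjugatesOf'.mp hS
    rw [← Fintype.card_subtype, ← Nat.card_eq_fintype_card]
    refine Nat.card_congr ⟨fun x => ⟨g⁻¹ * x.1, ?_⟩, fun x => ⟨g * x.1, ?_⟩,
      fun x => Subtype.ext (mul_inv_cancel_left g x.1),
      fun x => Subtype.ext (inv_mul_cancel_left g x.1)⟩
    · have h := congrArg (fun U : Subgroup G => U.map (MulAut.conj g⁻¹).toMonoidHom) x.2
      simp only [map_conj_map, inv_mul_cancel] at h
      rw [show (MulAut.conj (1 : G)).toMonoidHom = MonoidHom.id G by ext; simp,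
        Subgroup.map_id] at h
      generalize g⁻¹ * x.1 = u at h ⊢
      rw [Subgroup.mem_normalizer_iff]
      intro y
      have h' := SetLike.ext_iff.mp h (u * y * u⁻¹)
      exact ((Subgroup.mem_map_iff_mem (MulAut.conj u).injective).symm).trans h'
    · show T.map (MulAut.conj (g * x.1)).toMonoidHom = T.map (MulAut.conj g).toMonoidHom
      rw [← map_conj_map]
      congr 1
      ext y
      rw [Subgroup.mem_map_equiv, MulAut.conj_symm_apply]
      exact (Subgroup.mem_normalizer_iff''.mp x.2 y).symm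
  have h := Finset.card_eq_sum_card_fiberwise (s := (Finset.univ : Finset G))
    (t := conjugatesOf' T) (f := fun g : G => T.map (MulAut.conj g).toMonoidHom)
    (fun g _ => mem_conjugatesOf'.mpr ⟨g, rfl⟩)
  rw [Finset.sum_congr rfl hfib, Finset.sum_const, smul_eq_mul, Finset.card_univ,
    ← Nat.card_eq_fintype_card] at h
  exact h.symm

open scoped Classical in
/-- Double counting: the number of conjugates of `T` whose normaliser contains `x`. -/
theorem card_containing [Finite G] (T : Subgroup G) (x : G) (v : ℕ)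
    (hv : ∀ S ∈ conjugatesOf' T,
      {y | y ∈ Subgroup.normalizer (S : Set G) ∧ IsConj x y}.ncard = v) :
    ((conjugatesOf' T).filter fun S => x ∈ Subgroup.normalizer ((S : Subgroup G) : Set G)).card *
      Nat.card (Subgroup.normalizer (T : Set G)) = v * Nat.card (Subgroup.centralizer {x}) := by
  haveI := Fintype.ofFinite G
  set cl : Finset G := Finset.univ.filter fun y => IsConj x y with hcl
  have h1 := Finset.sum_card_bipartiteAbove_eq_sum_card_bipartiteBelow
    (s := cl) (t := conjugatesOf' T)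
    (fun y (S : Subgroup G) => y ∈ Subgroup.normalizer (S : Set G))
  simp only [Finset.bipartiteAbove, Finset.bipartiteBelow] at h1
  have hr : ∀ S ∈ conjugatesOf' T,
      (cl.filter fun y => y ∈ Subgroup.normalizer ((S : Subgroup G) : Set G)).card = v := by
    intro S hS
    rw [← hv S hS, ← Set.ncard_coe_finset]
    congr 1
    ext y
    simp [hcl, and_comm]
  have hl : ∀ y ∈ cl,
      ((conjugatesOf' T).filter fun S => y ∈ Subgroup.normalizer ((S : Subgroup G) : Set G)).card =
      ((conjugatesOf' T).filter fun S => x ∈ Subgroup.normalizer ((S : Subgroup G) : Set G)).card := by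
    intro y hy
    obtain ⟨g, rfl⟩ := isConj_iff.mp (Finset.mem_filter.mp hy).2
    have hN : ∀ (S : Subgroup G) (h z : G),
        h * z * h⁻¹ ∈ Subgroup.normalizer ((S.map (MulAut.conj h).toMonoidHom : Subgroup G) : Set G) ↔
          z ∈ Subgroup.normalizer (S : Set G) := by
      intro S h z
      rw [show Subgroup.normalizer ((S.map (MulAut.conj h).toMonoidHom : Subgroup G) : Set G) =
        (Subgroup.normalizer (S : Set G)).map (MulAut.conj h).toMonoidHom from
        (Subgroup.map_equiv_normalizer_eq S (MulAut.conj h)).symm]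
      exact Subgroup.mem_map_iff_mem (MulAut.conj h).injective
    symm
    refine Finset.card_bij' (fun S _ => S.map (MulAut.conj g).toMonoidHom)
      (fun S _ => S.map (MulAut.conj g⁻¹).toMonoidHom) ?_ ?_ ?_ ?_
    · intro S hS
      obtain ⟨hS, hx⟩ := Finset.mem_filter.mp hS
      obtain ⟨h, rfl⟩ := mem_conjugatesOf'.mp hS
      exact Finset.mem_filter.mpr
        ⟨mem_conjugatesOf'.mpr ⟨g * h, (map_conj_map T h g).symm⟩, (hN _ g x).mpr hx⟩
    · intro S hS
      obtain ⟨hS, hx⟩ := Finset.mem_filter.mp hS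
      obtain ⟨h, rfl⟩ := mem_conjugatesOf'.mp hS
      refine Finset.mem_filter.mpr ⟨mem_conjugatesOf'.mpr ⟨g⁻¹ * h, (map_conj_map T h g⁻¹).symm⟩, ?_⟩
      have := (hN (T.map (MulAut.conj h).toMonoidHom) g⁻¹ (g * x * g⁻¹)).mpr hx
      rwa [show g⁻¹ * (g * x * g⁻¹) * g⁻¹⁻¹ = x by group] at this
    · intro S _
      rw [map_conj_map, inv_mul_cancel, show (MulAut.conj (1 : G)).toMonoidHom = MonoidHom.id G by
        ext; simp, Subgroup.map_id]
    · intro S _
      rw [map_conj_map, mul_inv_cancel, show (MulAut.conj (1 : G)).toMonoidHom = MonoidHom.id G by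
        ext; simp, Subgroup.map_id]
  rw [Finset.sum_congr rfl hl, Finset.sum_congr rfl hr, Finset.sum_const, Finset.sum_const,
    smul_eq_mul, smul_eq_mul] at h1
  have hc := Char.card_conjugates_mul_card_centralizer x
  have hclc : Nat.card {y : G | IsConj x y} = cl.card := by
    rw [Nat.card_coe_set_eq, ← Set.ncard_coe_finset]
    congr 1
    ext y
    simp [hcl]
  rw [hclc, ← card_conjugatesOf' T] at hc
  apply Nat.eq_of_mul_eq_mul_left (show 0 < cl.card from
    Finset.card_pos.mpr ⟨x, Finset.mem_filter.mpr ⟨Finset.mem_univ _, IsConj.refl x⟩⟩)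
  rw [← mul_assoc, h1]
  calc (conjugatesOf' T).card * v * Nat.card (Subgroup.normalizer (T : Set G))
      = v * ((conjugatesOf' T).card * Nat.card (Subgroup.normalizer (T : Set G))) := by ring
    _ = cl.card * (v * Nat.card (Subgroup.centralizer {x})) := by rw [← hc]; ring

end Cfsg.Agent.Suzuki
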