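import Cfsg.Agent.Lib.Suzuki.MinimalSimple
import Cfsg.Agent.Lib.Suzuki.TorusCount

/-!
# Solubilizers in Suzuki groups over fields of prime degree

`solSet`, `solSet_two` (involutions), `solSet_four`, `solSet_torus`, `solSet_fpf`.
-/

set_option autoImplicit false
set_option linter.style.haveILetI false

namespace Cfsg.Agent.Suzuki

open Cfsg
open scoped Matrix

variable {F : Type*} [Field F] {m : ℕ} [Fintype F]
variable (hm : 1 ≤ m) (hF : Fintype.card F = 2 ^ (2 * m + 1))

/-- The solubilizer. -/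
def solSet {G : Type*} [Group G] (x : G) : Set G :=
  {y | Group.IsSolvable (Subgroup.closure ({x, y} : Set G))}

theorem solSet_conj {G : Type*} [Group G] [Finite G] (g x : G) :
    (solSet (g * x * g⁻¹)).ncard = (solSet x).ncard := by
  have key : ∀ h a b : G, b ∈ solSet a → h * b * h⁻¹ ∈ solSet (h * a * h⁻¹) := by
    intro h a b hb
    haveI : Group.IsSolvable (Subgroup.closure ({a, b} : Set G)) := hb
    have e : (Subgroup.closure ({a, b} : Set G)).map (MulAut.conj h).toMonoidHom =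
        Subgroup.closure ({h * a * h⁻¹, h * b * h⁻¹} : Set G) := by
      rw [MonoidHom.map_closure]
      congr 1
      simp [Set.image_pair]
    show Group.IsSolvable _
    rw [← e]
    exact Group.isSolvable_of_surjective
      (f := ((Subgroup.closure ({a, b} : Set G)).equivMapOfInjective _
        (MulAut.conj h).injective).toMonoidHom)
      (MulEquiv.surjective _)
  rw [← Set.ncard_image_of_injective (solSet x) (MulAut.conj g).injective]
  congr 1
  ext y
  constructor
  · intro hy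
    refine ⟨g⁻¹ * y * g, ?_, by simp [mul_assoc]⟩
    have := key g⁻¹ _ _ hy
    rwa [show g⁻¹ * (g * x * g⁻¹) * g⁻¹⁻¹ = x by group, inv_inv] at this
  · rintro ⟨b, hb, rfl⟩
    exact key g _ _ hb

include hm hF

lemma not_solvable_top : ¬ Group.IsSolvable (Sz F m) := by
  intro h
  haveI := h
  haveI : Nontrivial (Sz F m) := ⟨⟨tSz hF 0 1, 1, fun e =>
    one_ne_zero ((tSz_eq_one_iff hF).mp e).2⟩⟩
  exact (Group.IsSolvable.commutator_lt_top_of_nontrivial (Sz F m)).ne (commutator_eq_top hm hF)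

lemma mem_solSet_iff (hp : (2 * m + 1).Prime) {x y : Sz F m} :
    y ∈ solSet x ↔ ∃ M : Subgroup (Sz F m), M ≠ ⊤ ∧ x ∈ M ∧ y ∈ M := by
  constructor
  · intro h
    refine ⟨Subgroup.closure ({x, y} : Set (Sz F m)), fun e => not_solvable_top hm hF ?_,
      Subgroup.subset_closure (Set.mem_insert x _),
      Subgroup.subset_closure (Set.mem_insert_of_mem x (Set.mem_singleton y))⟩
    have h' : Group.IsSolvable (⊤ : Subgroup (Sz F m)) := e ▸ h
    exact Group.isSolvable_of_surjective (f := (Subgroup.topEquiv (G := Sz F m)).toMonoidHom)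
      (MulEquiv.surjective _)
  · rintro ⟨M, hM, hx, hy⟩
    refine isSolvable_of_ne_top hm hF hp fun e => hM ?_
    rw [eq_top_iff, ← e, Subgroup.closure_le]
    rintro z (rfl | rfl)
    · exact hx
    · exact hy

lemma torusDatum_dSub : TorusDatum (dSub hF) 2 := by
  refine ⟨?_, ?_, ?_, by rw [card_normalizer_dSub hm hF, card_dSub], Or.inl rfl⟩
  · intro t ht h1
    obtain ⟨k, rfl⟩ := (mem_dSub hF).mp ht
    exact centralizer_dSz hm hF fun h => h1 (by rw [h, dSz_one])
  · rw [card_dSub]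
    have := two_dvd_q (m := m)
    have : 1 ≤ 2 ^ (2 * m + 1) := Nat.one_le_two_pow
    rw [Nat.odd_iff]
    omega
  · rw [card_dSub]
    have : 2 ^ 3 ≤ 2 ^ (2 * m + 1) := Nat.pow_le_pow_right (by norm_num) (by omega)
    omega

lemma torusDatum_torus {g : Sz F m} (hg : FPF g) : TorusDatum (torus g) 4 := by
  refine ⟨fun t ht h1 => centralizer_eq_of_mem hm hF hg ht h1, ?_, ?_,
    (torus_data hm hF hg).2, Or.inr rfl⟩
  · refine Odd.of_dvd_nat ?_ (card_torus_dvd hm hF hg)
    have := two_dvd_q (m := m)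
    rw [← Nat.not_even_iff_odd, Nat.even_add_one, not_not]
    exact (even_iff_two_dvd.mpr this).pow_of_ne_zero two_ne_zero
  · have := five_le_card_torus hm hF hg
    omega

omit hm in
lemma th_one' : th m (1 : F) = 1 := by
  have := hF
  simp [th]

lemma centralizer_invol {b : F} (hb : b ≠ 0) :
    Subgroup.centralizer {tSz hF 0 b} = uSub hF := by
  haveI := charTwo hF
  refine le_antisymm (centralizer_tSz_le hm hF (fun h => hb h.2)) ?_
  rintro _ ⟨c, d, rfl⟩
  rw [Subgroup.mem_centralizer_singleton_iff, tSz_mul, tSz_mul]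
  congr 1 <;> simp <;> ring

lemma card_centralizer_four {a b : F} (ha : a ≠ 0) :
    Nat.card (Subgroup.centralizer {tSz hF a b}) = 2 * 2 ^ (2 * m + 1) := by
  haveI := charTwo hF
  have e : (Subgroup.centralizer {tSz hF a b} : Set (Sz F m)) =
      Set.range (fun p : Bool × F => tSz hF (bif p.1 then a else 0) p.2) := by
    ext y
    constructor
    · intro hy
      obtain ⟨c, d, rfl⟩ := centralizer_tSz_le hm hF (fun h => ha h.1) hy
      rw [SetLike.mem_coe, Subgroup.mem_centralizer_singleton_iff, tSz_mul, tSz_mul] at hy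
      obtain ⟨-, h2⟩ := tSz_inj hF hy
      have h3 : th m c * a = th m a * c := by linear_combination h2
      rcases eq_or_ne c 0 with rfl | hc
      · exact ⟨(false, d), rfl⟩
      · refine ⟨(true, d), ?_⟩
        have hu : th m (c / a) = c / a := by
          have := th_ne_zero (m := m) ha
          rw [th_div]
          field_simp
          linear_combination h3
        rw [(div_eq_one_iff_eq ha).mp (eq_one_of_th_eq hF (div_ne_zero hc ha) hu)]
        rfl
    · rintro ⟨⟨z, d⟩, rfl⟩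
      rw [SetLike.mem_coe, Subgroup.mem_centralizer_singleton_iff, tSz_mul, tSz_mul]
      cases z <;> simp only [cond_true, cond_false] <;> congr 1 <;> simp <;> ring
  rw [← SetLike.coe_sort_coe, e, Nat.card_range_of_injective, Nat.card_prod,
    Nat.card_eq_fintype_card (α := F), hF, Nat.card_eq_fintype_card, Fintype.card_bool]
  rintro ⟨z, d⟩ ⟨z', d'⟩ h
  obtain ⟨h1, rfl⟩ := tSz_inj hF h
  cases z <;> cases z' <;> simp_all [ha.symm]

lemma orderOf_tSz_two {a b : F} (h : orderOf (tSz hF a b) = 2) : a = 0 ∧ b ≠ 0 := by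
  haveI := charTwo hF
  have h2 : tSz hF a b * tSz hF a b = 1 := by rw [← sq, ← h, pow_orderOf_eq_one]
  rw [tSz_mul, tSz_eq_one_iff] at h2
  have hb : th m a * a = 0 := by grind
  have ha : a = 0 := by
    rcases mul_eq_zero.mp hb with h' | h'
    · exact th_eq_zero.mp h'
    · exact h'
  refine ⟨ha, fun hb0 => ?_⟩
  rw [ha, hb0, tSz_zero, orderOf_one] at h
  omega

lemma orderOf_tSz_four {a b : F} (h : orderOf (tSz hF a b) = 4) : a ≠ 0 := by
  rintro rfl
  haveI := charTwo hF
  have h2 : tSz hF 0 b ^ 2 = 1 := by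
    rw [sq, tSz_mul, tSz_eq_one_iff]
    constructor <;> simp <;> grind
  have := Nat.le_of_dvd two_pos (h ▸ orderOf_dvd_of_pow_eq_one h2)
  omega

/-- Every 2-element is conjugate into the unipotent subgroup. -/
lemma exists_conj_tSz {y : Sz F m} {j : ℕ} (hy : orderOf y = 2 ^ j) :
    ∃ (s : Sz F m) (a b : F), y = s * tSz hF a b * s⁻¹ := by
  haveI : Fact (Nat.Prime 2) := ⟨Nat.prime_two⟩
  have hp : IsPGroup 2 (Subgroup.zpowers y) :=
    IsPGroup.of_card (n := j) (by rw [Nat.card_zpowers, hy])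
  obtain ⟨P, hP⟩ := hp.exists_le_sylow
  obtain ⟨s, hs⟩ := MulAction.exists_smul_eq (Sz F m) (uSylow hm hF) P
  have := hP (Subgroup.mem_zpowers y)
  rw [← hs, Sylow.coe_subgroup_smul] at this
  change y ∈ (uSub hF).map (MulAut.conj s).toMonoidHom at this
  obtain ⟨u, ⟨a, b, rfl⟩, rfl⟩ := this
  exact ⟨s, a, b, rfl⟩

lemma isConj_invol {b : F} (hb : b ≠ 0) {y : Sz F m} (hy : orderOf y = 2) :
    IsConj (tSz hF 0 b) y := by
  obtain ⟨s, a, c, rfl⟩ := exists_conj_tSz hm hF (j := 1) (by rw [hy]; norm_num)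
  have ho : orderOf (tSz hF a c) = 2 :=
    (MulEquiv.orderOf_eq (MulAut.conj s) (tSz hF a c)).symm.trans hy
  obtain ⟨rfl, hc⟩ := orderOf_tSz_two hm hF ho
  obtain ⟨k, hk⟩ := (thSucc_bijective hF).2 (c / b)
  simp only at hk
  have hk0 : k ≠ 0 := fun h => div_ne_zero hc hb (by rw [← hk, h, mul_zero])
  refine isConj_iff.mpr ⟨s * dSz hF (Units.mk0 k hk0), ?_⟩
  rw [show s * dSz hF (Units.mk0 k hk0) * tSz hF 0 b * (s * dSz hF (Units.mk0 k hk0))⁻¹ =
    s * (dSz hF (Units.mk0 k hk0) * tSz hF 0 b * (dSz hF (Units.mk0 k hk0))⁻¹) * s⁻¹ by group,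
    zSub_conj_dSz, Units.val_mk0, hk, div_mul_cancel₀ c hb]

lemma isConj_tSz_one {a b : F} (ha : a ≠ 0) : ∃ b' : F, IsConj (tSz hF a b) (tSz hF 1 b') := by
  refine ⟨th m a⁻¹ * a⁻¹ * b, isConj_iff.mpr ⟨dSz hF (Units.mk0 a⁻¹ (inv_ne_zero ha)), ?_⟩⟩
  rw [dSz_conj_tSz, mul_inv_cancel_right, Units.val_mk0, inv_mul_cancel₀ ha]

lemma isConj_tSz_shift (b c : F) :
    IsConj (tSz hF 1 b) (tSz hF 1 (b + (th m c + c))) := by
  haveI := charTwo hF
  refine isConj_iff.mpr ⟨tSz hF c 0, ?_⟩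
  rw [tSz_inv, tSz_mul, tSz_mul]
  congr 1
  · grind
  · rw [th_add, th_one' hF]; grind

lemma isConj_or_inv_one (b b' : F) :
    IsConj (tSz hF 1 b) (tSz hF 1 b') ∨ IsConj (tSz hF 1 b) (tSz hF 1 b')⁻¹ := by
  haveI := charTwo hF
  classical
  let f : F →+ F := AddMonoidHom.mk' (fun c => th m c + c) (fun x y => by rw [th_add]; ring)
  have hker : (f.ker : Set F) = {0, 1} := by
    ext c
    simp only [SetLike.mem_coe, AddMonoidHom.mem_ker, AddMonoidHom.mk'_apply, f,
      Set.mem_insert_iff, Set.mem_singleton_iff]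
    constructor
    · intro h
      rcases eq_or_ne c 0 with h0 | h0
      · exact Or.inl h0
      · exact Or.inr (eq_one_of_th_eq hF h0 (CharTwo.add_eq_zero.mp h))
    · rintro (rfl | rfl)
      · simp [th]
      · rw [th_one' hF]; exact CharTwo.add_self_eq_zero _
  have hker2 : Nat.card f.ker = 2 := by
    rw [← SetLike.coe_sort_coe, hker, Nat.card_coe_set_eq, Set.ncard_pair zero_ne_one]
  have hidx : f.range.index = 2 := by
    have h1 := AddSubgroup.card_mul_index f.ker
    rw [AddSubgroup.index_ker] at h1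
    have h2 := AddSubgroup.card_mul_index f.range
    rw [hker2] at h1
    have h3 : 0 < Nat.card f.range := Nat.card_pos
    apply Nat.eq_of_mul_eq_mul_left h3
    rw [h2, ← h1, mul_comm]
  have h1 : (1 : F) ∉ f.range := by
    rintro ⟨c, hc⟩
    simp only [AddMonoidHom.mk'_apply, f] at hc
    exact th_eq_add_one hF (show th m c = c + 1 by grind)
  have key : ∀ z : F, z ∈ f.range ∨ z + 1 ∈ f.range := fun z => by
    by_cases hz : z ∈ f.range
    · exact Or.inl hz
    · exact Or.inr ((AddSubgroup.add_mem_iff_of_index_two hidx).mpr (iff_of_false hz h1))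
  rcases key (b + b') with ⟨c, hc⟩ | ⟨c, hc⟩
  · left
    simp only [AddMonoidHom.mk'_apply, f] at hc
    have := isConj_tSz_shift hm hF b c
    rwa [hc, show b + (b + b') = b' by grind] at this
  · right
    simp only [AddMonoidHom.mk'_apply, f] at hc
    have := isConj_tSz_shift hm hF b c
    rw [hc, show b + (b + b' + 1) = b' + 1 by grind] at this
    rwa [tSz_inv, th_one' hF, one_mul]

lemma isConj_or_inv_four {a b : F} (ha : a ≠ 0) {y : Sz F m} (hy : orderOf y = 4) :
    IsConj (tSz hF a b) y ∨ IsConj (tSz hF a b) y⁻¹ := by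
  obtain ⟨s, c, d, rfl⟩ := exists_conj_tSz hm hF (j := 2) (by rw [hy]; norm_num)
  have ho : orderOf (tSz hF c d) = 4 :=
    (MulEquiv.orderOf_eq (MulAut.conj s) (tSz hF c d)).symm.trans hy
  have hc := orderOf_tSz_four hm hF ho
  obtain ⟨b1, h1⟩ := isConj_tSz_one hm hF (b := b) ha
  obtain ⟨d1, h2⟩ := isConj_tSz_one hm hF (b := d) hc
  have h3 : IsConj (tSz hF c d) (s * tSz hF c d * s⁻¹) := isConj_iff.mpr ⟨s, rfl⟩
  have hinv : ∀ {u v : Sz F m}, IsConj u v → IsConj u⁻¹ v⁻¹ := fun {u v} h => by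
    obtain ⟨g, rfl⟩ := isConj_iff.mp h
    exact isConj_iff.mpr ⟨g, by group⟩
  rcases isConj_or_inv_one hm hF b1 d1 with h | h
  · exact Or.inl (h1.trans (h.trans (h2.symm.trans h3)))
  · exact Or.inr (h1.trans (h.trans (hinv (h2.symm.trans h3))))

/-- The number of conjugates of a class in the normaliser of a torus: involutions. -/
lemma class_inter_two {T : Subgroup (Sz F m)} {n : ℕ} (hT : TorusDatum T n) {b : F} (hb : b ≠ 0) :
    {y | y ∈ Subgroup.normalizer (T : Set (Sz F m)) ∧ IsConj (tSz hF 0 b) y}.ncard = Nat.card T := by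
  haveI : Fact (Nat.Prime 2) := ⟨Nat.prime_two⟩
  haveI := charTwo hF
  rw [← hT.card_invol]
  congr 1
  ext y
  refine and_congr_right fun _ => ⟨fun h => ?_, fun h => isConj_invol hm hF hb h⟩
  obtain ⟨g, rfl⟩ := isConj_iff.mp h
  refine (MulEquiv.orderOf_eq (MulAut.conj g) (tSz hF 0 b)).trans (orderOf_eq_prime ?_ ?_)
  · rw [sq, tSz_mul, tSz_eq_one_iff]
    constructor <;> simp <;> grind
  · exact fun e => hb ((tSz_eq_one_iff hF).mp e).2

/-- The number of conjugates of a class in the normaliser of a torus: order four. -/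
lemma class_inter_four {T : Subgroup (Sz F m)} {n : ℕ} (hT : TorusDatum T n) {a b : F}
    (ho : orderOf (tSz hF a b) = 4) :
    2 * {y | y ∈ Subgroup.normalizer (T : Set (Sz F m)) ∧ IsConj (tSz hF a b) y}.ncard =
      (n - 2) * Nat.card T := by
  haveI : Fact (Nat.Prime 2) := ⟨Nat.prime_two⟩
  have ha := orderOf_tSz_four hm hF ho
  set N := Subgroup.normalizer (T : Set (Sz F m))
  set S := {y | y ∈ N ∧ IsConj (tSz hF a b) y}
  set S' := {y | y ∈ N ∧ IsConj (tSz hF a b) y⁻¹}
  have hS' : S'.ncard = S.ncard := by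
    rw [← Set.ncard_image_of_injective S inv_injective]
    congr 1
    ext y
    constructor
    · rintro ⟨h1, h2⟩
      exact ⟨y⁻¹, ⟨inv_mem h1, h2⟩, inv_inv y⟩
    · rintro ⟨z, ⟨h1, h2⟩, rfl⟩
      exact ⟨inv_mem h1, by rwa [inv_inv]⟩
  rw [two_mul, ← hT.card_four]
  nth_rewrite 2 [← hS']
  rw [← Set.ncard_union_eq]
  · congr 1
    ext y
    constructor
    · rintro (⟨h1, h2⟩ | ⟨h1, h2⟩)
      · obtain ⟨g, rfl⟩ := isConj_iff.mp h2
        exact ⟨h1, (MulEquiv.orderOf_eq (MulAut.conj g) _).trans ho⟩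
      · obtain ⟨g, hg⟩ := isConj_iff.mp h2
        refine ⟨h1, ?_⟩
        rw [← orderOf_inv, ← hg]
        exact (MulEquiv.orderOf_eq (MulAut.conj g) _).trans ho
    · rintro ⟨h1, h2⟩
      rcases isConj_or_inv_four hm hF (b := b) ha h2 with h | h
      · exact Or.inl ⟨h1, h⟩
      · exact Or.inr ⟨h1, h⟩
  · rw [Set.disjoint_left]
    rintro y ⟨-, h1⟩ ⟨-, h2⟩
    obtain ⟨g, hg⟩ := isConj_iff.mp h1
    have hy : IsConj y y⁻¹ := h1.symm.trans h2
    have hr : IsConj (tSz hF a b) (tSz hF a b)⁻¹ := by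
      obtain ⟨g', hg'⟩ := isConj_iff.mp hy
      refine isConj_iff.mpr ⟨g⁻¹ * g' * g, ?_⟩
      calc g⁻¹ * g' * g * tSz hF a b * (g⁻¹ * g' * g)⁻¹
          = g⁻¹ * (g' * (g * tSz hF a b * g⁻¹) * g'⁻¹) * g := by group
        _ = (tSz hF a b)⁻¹ := by rw [hg, hg', ← hg]; group
    have := (real_iff_involution hm hF (uSylow hm hF) (tSz_mem_uSub hF a b)
      (fun e => ha ((tSz_eq_one_iff hF).mp e).1)).mp hr
    omega

/-- The part of the normaliser of a torus that fixes infinity. -/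
lemma card_norm_inter {T : Subgroup (Sz F m)} {n : ℕ} (hT : TorusDatum T n)
    (hTu : ∀ t ∈ T, t ≠ 1 → t ∉ conjSet (uSub hF)) {a b : F}
    (ho : orderOf (tSz hF a b) = 2 ∨ orderOf (tSz hF a b) = 4)
    (hx : tSz hF a b ∈ Subgroup.normalizer (T : Set (Sz F m))) :
    Nat.card (Subgroup.normalizer (T : Set (Sz F m)) ⊓ borelSub F m : Subgroup (Sz F m)) = n := by
  set x := tSz hF a b with hxdef
  set N := Subgroup.normalizer (T : Set (Sz F m))
  have hxB : x ∈ borelSub F m := tSz_smul_infinity hF a b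
  have hxu : ¬ (a = 0 ∧ b = 0) := by
    rintro ⟨rfl, rfl⟩
    rw [hxdef, tSz_zero, orderOf_one] at ho
    omega
  have hxT : x ∉ T := fun h => by
    have := hT.order_odd h
    rcases ho with e | e <;> rw [e] at this <;> exact absurd this (by decide)
  have hTB : ∀ t ∈ T, t ∈ borelSub F m → t = 1 := by
    intro t ht htB
    by_contra h1
    have hc : x * t * x⁻¹ ∈ T := (Subgroup.mem_normalizer_iff.mp hx t).mp ht
    have hcB : x * t * x⁻¹ ∈ borelSub F m := mul_mem (mul_mem hxB htB) (inv_mem hxB)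
    have hker : borelHom hm hF ⟨x, hxB⟩ = 1 :=
      (borelHom_eq_one_iff hm hF ⟨x, hxB⟩).mpr (tSz_mem_uSub hF a b)
    let u : borelSub F m := ⟨x * t * x⁻¹, hcB⟩ * ⟨t, htB⟩⁻¹
    have hu1 : borelHom hm hF u = 1 := by
      have e : u = ⟨x, hxB⟩ * ⟨t, htB⟩ * ⟨x, hxB⟩⁻¹ * ⟨t, htB⟩⁻¹ := rfl
      rw [e, map_mul, map_mul, map_mul, map_inv, map_inv, hker, inv_one, mul_one, one_mul,
        mul_inv_cancel]
    have huT : (u : Sz F m) ∈ T := mul_mem hc (inv_mem ht)
    have hu : (u : Sz F m) = 1 := by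
      by_contra hne
      exact hTu _ huT hne
        ⟨1, u, (borelHom_eq_one_iff hm hF u).mp hu1, hne, by rw [one_mul, inv_one, mul_one]⟩
    have hcomm : x * t * x⁻¹ = t := mul_inv_eq_one.mp hu
    exact hxT (hT.mem_of_commute ht h1 (by
      calc x * t = x * t * x⁻¹ * x := by group
        _ = t * x := by rw [hcomm]))
  apply le_antisymm
  · haveI : Finite (N ⧸ T.subgroupOf N) := Quotient.finite _
    rw [← hT.relIndex_eq, Subgroup.index]
    refine Nat.card_le_card_of_injective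
      (fun y => QuotientGroup.mk (⟨y.1, (Subgroup.mem_inf.mp y.2).1⟩ : N)) ?_
    intro y z h
    rw [QuotientGroup.eq, Subgroup.mem_subgroupOf] at h
    exact Subtype.ext (inv_mul_eq_one.mp (hTB _ h
      ((borelSub F m).mul_mem ((borelSub F m).inv_mem (Subgroup.mem_inf.mp y.2).2)
        (Subgroup.mem_inf.mp z.2).2)))
  · obtain ⟨y, hy, hyo⟩ : ∃ y, y ∈ N ⊓ borelSub F m ∧ orderOf y = n := by
      rcases ho with e | e
      · rcases hT.n_cases with rfl | rfl
        · exact ⟨x, ⟨hx, hxB⟩, e⟩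
        · obtain ⟨y, hy, hy4, hy2⟩ := hT.exists_sq_eq rfl hx e
          refine ⟨y, ⟨hy, ?_⟩, hy4⟩
          refine MulAction.mem_stabilizer_iff.mpr
            (uSub_fix_eq hF hxu (smul_mem_ovoid y infinity_mem) ?_)
          rw [← hxdef, ← mul_smul, ← hy2, (Commute.pow_self y 2).eq, hy2, mul_smul, hxdef,
            tSz_smul_infinity]
      · rcases hT.order_cases hx hxT with e' | ⟨-, rfl⟩
        · omega
        · exact ⟨x, ⟨hx, hxB⟩, e⟩
    calc n = Nat.card (Subgroup.zpowers y) := by rw [Nat.card_zpowers, hyo]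
      _ ≤ _ := Nat.le_of_dvd Nat.card_pos
          (Subgroup.card_dvd_of_le (Subgroup.zpowers_le.mpr hy))

end Cfsg.Agent.Suzuki
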