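import Cfsg.Agent.Lib.Suzuki.LieModel

/-!
# Borel subgroups, generation, and elementary abelian TI subgroups

`uSub_transitive`, `closure_conj_uSub` (two distinct root groups generate), `borel_maximal`,
`two_generated`, `ti_elementary_iff`.
-/

set_option autoImplicit false
set_option linter.style.haveILetI false

namespace Cfsg.Agent.Suzuki

open Cfsg
open scoped Matrix commutatorElement

variable {F : Type*} [Field F] {m : ℕ} [Fintype F]
variable (hm : 1 ≤ m) (hF : Fintype.card F = 2 ^ (2 * m + 1))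

include hm hF in
/-- A subgroup containing the unipotent subgroup and moving infinity is everything. -/
theorem eq_top_of_uSub_le {M : Subgroup (Sz F m)} (hU : uSub hF ≤ M) {g : Sz F m} (hg : g ∈ M)
    (hne : g • suzukiPointInfinity F ≠ suzukiPointInfinity F) : M = ⊤ := by
  obtain ⟨x, y, hxy⟩ := (mem_ovoid_iff.mp (smul_mem_ovoid g (infinity_mem (m := m)))).resolve_left hne
  have hg0 : (tSz hF x y)⁻¹ * g ∈ M := mul_mem (inv_mem (hU (tSz_mem_uSub hF x y))) hg
  set g0 := (tSz hF x y)⁻¹ * g with hg0def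
  have hg0i : g0 • suzukiPointInfinity F = suzukiPointZero F := by
    rw [hg0def, mul_smul, hxy, inv_smul_eq_iff, tSz_smul_zero]
  -- every unipotent conjugate lies in `M`
  have hconj : ∀ s : Sz F m, ∀ u ∈ uSub hF, s * u * s⁻¹ ∈ M := by
    intro s u hu
    obtain ⟨n, hn, hns⟩ : ∃ n ∈ M, n • suzukiPointInfinity F = s • suzukiPointInfinity F := by
      rcases mem_ovoid_iff.mp (smul_mem_ovoid s (infinity_mem (m := m))) with h | ⟨a, b, h⟩
      · exact ⟨1, one_mem _, by rw [h, one_smul]⟩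
      · refine ⟨tSz hF a b * g0, mul_mem (hU (tSz_mem_uSub hF a b)) hg0, ?_⟩
        rw [mul_smul, hg0i, tSz_smul_zero, h]
    have hs : n⁻¹ * s ∈ Subgroup.normalizer (uSub hF : Set (Sz F m)) := by
      rw [normalizer_uSub hm hF, MulAction.mem_stabilizer_iff, mul_smul, ← hns, inv_smul_smul]
    have := (Subgroup.mem_normalizer_iff.mp hs u).mp hu
    rw [show s * u * s⁻¹ = n * (n⁻¹ * s * u * (n⁻¹ * s)⁻¹) * n⁻¹ by group]
    exact mul_mem (mul_mem hn (hU this)) (inv_mem hn)
  haveI := isSimpleGroup_sz hm hF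
  have hN : (Subgroup.normalClosure (uSub hF : Set (Sz F m))) = ⊤ := by
    refine (Subgroup.normalClosure_normal.eq_bot_or_eq_top).resolve_left fun h => ?_
    have h1 : tSz hF 1 0 ∈ (⊥ : Subgroup (Sz F m)) :=
      h ▸ Subgroup.subset_normalClosure (tSz_mem_uSub hF 1 0)
    exact one_ne_zero ((tSz_eq_one_iff hF).mp (Subgroup.mem_bot.mp h1)).1
  rw [eq_top_iff, ← hN, Subgroup.normalClosure, Subgroup.closure_le]
  intro z hz
  obtain ⟨u, hu, hcj⟩ := Group.mem_conjugatesOfSet_iff.mp hz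
  obtain ⟨s, rfl⟩ := isConj_iff.mp hcj
  exact hconj s u hu

include hm hF in
/-- The Borel subgroup at infinity is maximal and is the only maximal subgroup above `U`. -/
theorem stabilizer_maximal :
    IsCoatom (MulAction.stabilizer (Sz F m) (suzukiPointInfinity F)) ∧
    ∀ M : Subgroup (Sz F m), IsCoatom M → uSub hF ≤ M →
      M = MulAction.stabilizer (Sz F m) (suzukiPointInfinity F) := by
  have hUle : uSub hF ≤ MulAction.stabilizer (Sz F m) (suzukiPointInfinity F) := by
    rintro _ ⟨a, b, rfl⟩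
    exact tSz_smul_infinity hF a b
  have hne : MulAction.stabilizer (Sz F m) (suzukiPointInfinity F) ≠ ⊤ := fun h =>
    pointZero_ne_infinity ((wSz_smul_infinity hF).symm.trans
      (MulAction.mem_stabilizer_iff.mp (h ▸ Subgroup.mem_top (wSz hF))))
  refine ⟨⟨hne, fun M hM => ?_⟩, fun M hM hUM => ?_⟩
  · obtain ⟨g, hg, hg'⟩ := SetLike.exists_of_lt hM
    exact eq_top_of_uSub_le hm hF (hUle.trans hM.le) hg hg'
  · have hle : M ≤ MulAction.stabilizer (Sz F m) (suzukiPointInfinity F) := by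
      intro g hg
      by_contra hg'
      exact hM.1 (eq_top_of_uSub_le hm hF hUM hg hg')
    rcases hle.eq_or_lt with h | h
    · exact h
    · exact absurd (hM.2 _ h) hne

include hm hF in
/-- The normaliser of a Sylow 2-subgroup is the unique maximal subgroup above it. -/
theorem borel_maximal (P : Sylow 2 (Sz F m)) :
    IsCoatom (Subgroup.normalizer ((P : Subgroup (Sz F m)) : Set (Sz F m))) ∧
    ∀ M : Subgroup (Sz F m), IsCoatom M → (P : Subgroup (Sz F m)) ≤ M →
      M = Subgroup.normalizer ((P : Subgroup (Sz F m)) : Set (Sz F m)) := by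
  haveI : Fact (Nat.Prime 2) := ⟨Nat.prime_two⟩
  obtain ⟨s, hs⟩ := MulAction.exists_smul_eq (Sz F m) (uSylow hm hF) P
  set φ : Sz F m ≃* Sz F m := MulAut.conj s
  have hP : (P : Subgroup (Sz F m)) = (uSub hF).map φ.toMonoidHom := by
    rw [← hs, Sylow.coe_subgroup_smul]; rfl
  have hN : Subgroup.normalizer ((P : Subgroup (Sz F m)) : Set (Sz F m)) =
      φ.mapSubgroup (MulAction.stabilizer (Sz F m) (suzukiPointInfinity F)) := by
    rw [← normalizer_uSub hm hF, hP]
    exact (Subgroup.map_equiv_normalizer_eq (uSub hF) φ).symm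
  obtain ⟨h1, h2⟩ := stabilizer_maximal hm hF
  rw [hN]
  refine ⟨(OrderIso.isCoatom_iff φ.mapSubgroup _).mpr h1, fun M hM hPM => ?_⟩
  have hMc : IsCoatom (φ.mapSubgroup.symm M) := (OrderIso.isCoatom_iff φ.mapSubgroup.symm _).mpr hM
  have hUM : uSub hF ≤ φ.mapSubgroup.symm M := by
    rw [← OrderIso.le_iff_le φ.mapSubgroup, OrderIso.apply_symm_apply]
    exact hP.symm.le.trans hPM
  rw [← h2 _ hMc hUM, OrderIso.apply_symm_apply]

include hm in
/-- A subgroup normalised by the torus generator and containing one outer unipotent contains `U`. -/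
lemma uSub_le_of_torus {M : Subgroup (Sz F m)} (hD : dSub hF ≤ M) {a b : F} (ha : a ≠ 0)
    (h : tSz hF a b ∈ M) : uSub hF ≤ M := by
  haveI := charTwo hF
  have hconj : ∀ k : Fˣ, tSz hF ((k : F) * a) (th m (k : F) * (k : F) * b) ∈ M := fun k => by
    have : dSz hF k * tSz hF a b * (dSz hF k)⁻¹ ∈ M :=
      mul_mem (mul_mem (hD ((mem_dSub hF).mpr ⟨k, rfl⟩)) h)
        (inv_mem (hD ((mem_dSub hF).mpr ⟨k, rfl⟩)))
    rwa [dSz_conj_tSz, mul_inv_cancel_right] at this
  have hfst : ∀ c : F, c ≠ 0 → ∃ d, tSz hF c d ∈ M := fun c hc => by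
    have := hconj (Units.mk0 (c / a) (div_ne_zero hc ha))
    rw [Units.val_mk0, div_mul_cancel₀ c ha] at this
    exact ⟨_, this⟩
  have hz : ∀ z : F, tSz hF 0 z ∈ M := fun z => by
    rcases eq_or_ne z 0 with rfl | hz
    · rw [tSz_zero]; exact one_mem _
    obtain ⟨c, hc⟩ := (thSucc_bijective hF).2 z
    simp only at hc
    obtain ⟨d, hd⟩ := hfst c (fun h0 => hz (by rw [← hc, h0, mul_zero]))
    have := mul_mem hd hd
    rw [tSz_mul] at this
    convert this using 2 <;> grind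
  rintro _ ⟨c, d, rfl⟩
  rcases eq_or_ne c 0 with rfl | hc
  · exact hz d
  obtain ⟨d', hd'⟩ := hfst c hc
  have := mul_mem hd' (hz (d + d'))
  rw [tSz_mul] at this
  convert this using 2
  · simp
  · simp; grind

include hm hF in
/-- The Suzuki group is generated by two elements. -/
theorem two_generated : ∃ a b : Sz F m, Subgroup.closure ({a, b} : Set (Sz F m)) = ⊤ := by
  haveI := charTwo hF
  obtain ⟨κ, hκ⟩ := IsCyclic.exists_generator (α := Fˣ)
  refine ⟨dSz hF κ, tSz hF 1 0 * wSz hF, ?_⟩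
  set M := Subgroup.closure ({dSz hF κ, tSz hF 1 0 * wSz hF} : Set (Sz F m)) with hM
  have ha : dSz hF κ ∈ M := Subgroup.subset_closure (Or.inl rfl)
  have hb : tSz hF 1 0 * wSz hF ∈ M := Subgroup.subset_closure (Or.inr rfl)
  have hD : dSub hF ≤ M := by
    rintro _ ⟨k, rfl⟩
    obtain ⟨n, rfl⟩ := hκ k
    rw [map_zpow]
    exact zpow_mem ha n
  have hκ1 : (κ : F) + 1 ≠ 0 := by
    intro h
    obtain ⟨x, hx0, hx1⟩ := exists_ne_zero_one hm hF
    obtain ⟨n, hn⟩ := hκ (Units.mk0 x hx0)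
    have hk : κ = 1 := Units.ext (by rw [Units.val_one]; grind)
    rw [hk] at hn
    apply hx1
    have := congrArg Units.val hn
    simpa using this.symm
  have hu : dSz hF κ * (tSz hF 1 0 * wSz hF * dSz hF κ * (tSz hF 1 0 * wSz hF)⁻¹) ∈ M :=
    mul_mem ha (mul_mem (mul_mem hb ha) (inv_mem hb))
  have hcalc : dSz hF κ * (tSz hF 1 0 * wSz hF * dSz hF κ * (tSz hF 1 0 * wSz hF)⁻¹) =
      tSz hF ((κ : F) + 1) (th m 1 * 1 + th m (κ : F)) := by
    rw [mul_inv_rev, wSz_inv, mul_assoc (tSz hF 1 0) (wSz hF), wSz_conj_dSz]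
    calc dSz hF κ * (tSz hF 1 0 * (dSz hF κ⁻¹ * wSz hF) * (wSz hF * (tSz hF 1 0)⁻¹))
        = dSz hF κ * tSz hF 1 0 * dSz hF κ⁻¹ * (wSz hF * wSz hF) * (tSz hF 1 0)⁻¹ := by group
      _ = _ := by
        rw [dSz_conj_tSz, mul_assoc _ (dSz hF κ), dSz_mul, mul_inv_cancel, dSz_one, wSz_mul_self,
          mul_one, mul_one, tSz_inv, tSz_mul]
        congr 1 <;> simp [th_mul]
  rw [hcalc] at hu
  have hU := uSub_le_of_torus hm hF hD hκ1 hu
  refine eq_top_of_uSub_le hm hF hU hb ?_
  rw [mul_smul, wSz_smul_infinity, tSz_smul_zero]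
  exact pt_ne_infinity _ _

lemma zSub_conj_dSz (k : Fˣ) (b : F) :
    dSz hF k * tSz hF 0 b * (dSz hF k)⁻¹ = tSz hF 0 (th m (k : F) * (k : F) * b) := by
  rw [dSz_conj_tSz, mul_inv_cancel_right, mul_zero]

include hm in
/-- Conjugation by a point stabiliser element scales the centre. -/
lemma zSub_conj_stab {s : Sz F m}
    (hs : s • suzukiPointInfinity F = suzukiPointInfinity F) :
    ∃ μ : F, ∀ b : F, s * tSz hF 0 b * s⁻¹ = tSz hF 0 (μ * b) := by
  haveI := charTwo hF
  obtain ⟨a, c, k, rfl⟩ := exists_tSz_dSz_of_fix hm hF hs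
  refine ⟨th m (k : F) * (k : F), fun b => ?_⟩
  calc tSz hF a c * dSz hF k * tSz hF 0 b * (tSz hF a c * dSz hF k)⁻¹
      = tSz hF a c * (dSz hF k * tSz hF 0 b * (dSz hF k)⁻¹) * (tSz hF a c)⁻¹ := by group
    _ = _ := by
      rw [zSub_conj_dSz, tSz_inv, tSz_mul, tSz_mul]
      congr 1 <;> simp <;> grind

include hm hF in
/-- An elementary abelian 2-subgroup lies in the centre of a root group. -/
lemma elementary_le_zSub {E : Subgroup (Sz F m)} (hE : Cfsg.IsElementaryAbelian 2 E)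
    (hne : E ≠ ⊥) : ∃ s : Sz F m, ∀ e ∈ E, s⁻¹ * e * s ∈ zSub hF := by
  haveI := charTwo hF
  haveI : Fact (Nat.Prime 2) := ⟨Nat.prime_two⟩
  obtain ⟨-, hexp⟩ := hE
  have hp : IsPGroup 2 E := fun ⟨e, he⟩ => ⟨1, Subtype.ext (by simpa using hexp e he)⟩
  obtain ⟨P, hP⟩ := hp.exists_le_sylow
  obtain ⟨s, hs⟩ := MulAction.exists_smul_eq (Sz F m) (uSylow hm hF) P
  refine ⟨s, fun e he => ?_⟩
  have heP := hP he
  rw [← hs, Sylow.coe_subgroup_smul] at heP
  change e ∈ (uSub hF).map (MulAut.conj s).toMonoidHom at heP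
  obtain ⟨u, ⟨a, b, rfl⟩, rfl⟩ := heP
  simp only [MulEquiv.coe_toMonoidHom, MulAut.conj_apply]
  rw [show s⁻¹ * (s * tSz hF a b * s⁻¹) * s = tSz hF a b by group]
  have h2 : (s * tSz hF a b * s⁻¹) ^ 2 = 1 := hexp _ he
  rw [sq, show s * tSz hF a b * s⁻¹ * (s * tSz hF a b * s⁻¹) =
    s * (tSz hF a b * tSz hF a b) * s⁻¹ by group, conj_eq_one_iff, tSz_mul, tSz_eq_one_iff] at h2
  have hb : th m a * a = 0 := by grind
  rcases mul_eq_zero.mp hb with h | h
  · exact ⟨b, by rw [th_eq_zero.mp h]⟩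
  · exact ⟨b, by rw [h]⟩

include hm hF in
/-- Orders of elementary abelian TI 2-subgroups. -/
theorem ti_elementary_iff (n : ℕ) (hn : 2 ≤ n) :
    (∃ E : Subgroup (Sz F m), Cfsg.IsElementaryAbelian 2 E ∧ Nat.card E = 2 ^ n ∧
      ∀ x : Sz F m, E ⊓ E.map (MulAut.conj x).toMonoidHom ≠ ⊥ →
        x ∈ Subgroup.normalizer (E : Set (Sz F m))) ↔ n ∣ 2 * m + 1 := by
  classical
  haveI := charTwo hF
  constructor
  · rintro ⟨E, hE, hcard, hTI⟩
    have hEne : E ≠ ⊥ := fun h => by
      rw [h, Subgroup.card_bot] at hcard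
      have : 2 ^ 2 ≤ 2 ^ n := Nat.pow_le_pow_right (by norm_num) hn
      omega
    obtain ⟨s, hs⟩ := elementary_le_zSub hm hF hE hEne
    let V : Set F := {b | s * tSz hF 0 b * s⁻¹ ∈ E}
    have hVcard : Nat.card V = 2 ^ n := by
      rw [← hcard]
      refine Nat.card_congr (Equiv.ofBijective
        (fun b : V => (⟨s * tSz hF 0 (b : F) * s⁻¹, b.2⟩ : E)) ⟨?_, ?_⟩)
      · intro b c h
        exact Subtype.ext (tSz_inj hF (mul_left_cancel (mul_right_cancel
          (congrArg Subtype.val h)))).2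
      · rintro ⟨e, he⟩
        obtain ⟨b, hb⟩ := hs e he
        have e' : s * tSz hF 0 b * s⁻¹ = e := by rw [← hb]; group
        exact ⟨⟨b, show s * tSz hF 0 b * s⁻¹ ∈ E from e' ▸ he⟩, Subtype.ext e'⟩
    have h0 : (0 : F) ∈ V := by
      show s * tSz hF 0 0 * s⁻¹ ∈ E
      rw [tSz_zero, mul_one, mul_inv_cancel]; exact one_mem _
    have hadd : ∀ a ∈ V, ∀ b ∈ V, a + b ∈ V := by
      intro a ha b hb
      show s * tSz hF 0 (a + b) * s⁻¹ ∈ E
      have := mul_mem (show s * tSz hF 0 a * s⁻¹ ∈ E from ha) (show s * tSz hF 0 b * s⁻¹ ∈ E from hb)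
      rw [show s * tSz hF 0 a * s⁻¹ * (s * tSz hF 0 b * s⁻¹) =
        s * (tSz hF 0 a * tSz hF 0 b) * s⁻¹ by group, tSz_mul] at this
      simpa using this
    have hscale : ∀ μ : F, μ ≠ 0 → ∀ b ∈ V, b ≠ 0 → μ * b ∈ V → ∀ c ∈ V, μ * c ∈ V := by
      intro μ hμ b hb hb0 hμb c hc
      obtain ⟨k, hk⟩ := (thSucc_bijective hF).2 μ
      simp only at hk
      have hk0 : k ≠ 0 := fun h => hμ (by rw [← hk, h, mul_zero])
      set x := s * dSz hF (Units.mk0 k hk0) * s⁻¹ with hx
      have hmap : ∀ d : F, x * (s * tSz hF 0 d * s⁻¹) * x⁻¹ = s * tSz hF 0 (μ * d) * s⁻¹ := by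
        intro d
        calc _ = s * (dSz hF (Units.mk0 k hk0) * tSz hF 0 d * (dSz hF (Units.mk0 k hk0))⁻¹) *
              s⁻¹ := by rw [hx]; group
          _ = _ := by rw [zSub_conj_dSz, Units.val_mk0, hk]
      have hxN : x ∈ Subgroup.normalizer (E : Set (Sz F m)) := by
        refine hTI x fun hbot => ?_
        have hmem : s * tSz hF 0 (μ * b) * s⁻¹ ∈ E ⊓ E.map (MulAut.conj x).toMonoidHom :=
          ⟨hμb, s * tSz hF 0 b * s⁻¹, hb, hmap b⟩
        rw [hbot, Subgroup.mem_bot, conj_eq_one_iff, tSz_eq_one_iff] at hmem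
        exact mul_ne_zero hμ hb0 hmem.2
      have := (Subgroup.mem_normalizer_iff.mp hxN _).mp hc
      rw [hmap] at this
      exact this
    obtain ⟨v0, hv0, hv00⟩ : ∃ v ∈ V, v ≠ 0 := by
      by_contra h
      push Not at h
      have : Subsingleton V :=
        ⟨fun a b => Subtype.ext ((h a a.2).trans (h b b.2).symm)⟩
      have h1 := Finite.card_le_one_iff_subsingleton.mpr this
      rw [hVcard] at h1
      have : 2 ^ 2 ≤ 2 ^ n := Nat.pow_le_pow_right (by norm_num) hn
      omega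
    let K : Subfield F :=
      { carrier := {μ | ∀ c ∈ V, μ * c ∈ V}
        one_mem' := fun c hc => by simpa using hc
        zero_mem' := fun c hc => by simpa using h0
        mul_mem' := fun {a b} ha hb c hc => by rw [mul_assoc]; exact ha _ (hb c hc)
        add_mem' := fun {a b} ha hb c hc => by rw [add_mul]; exact hadd _ (ha c hc) _ (hb c hc)
        neg_mem' := fun {a} ha c hc => by rw [CharTwo.neg_eq]; exact ha c hc
        inv_mem' := fun a ha c hc => by
          rcases eq_or_ne a 0 with rfl | ha0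
          · simpa using h0
          · refine hscale a⁻¹ (inv_ne_zero ha0) (a * v0) (ha v0 hv0) (mul_ne_zero ha0 hv00) ?_ c hc
            rw [inv_mul_cancel_left₀ ha0]; exact hv0 }
    have hK : Nat.card K = 2 ^ n := by
      rw [← hVcard]
      refine Nat.card_congr (Equiv.ofBijective
        (fun μ : K => (⟨(μ : F) * v0, μ.2 v0 hv0⟩ : V)) ⟨?_, ?_⟩)
      · intro a b h
        exact Subtype.ext (mul_right_cancel₀ hv00 (congrArg Subtype.val h))
      · rintro ⟨v, hv⟩
        refine ⟨⟨v / v0, ?_⟩, Subtype.ext (div_mul_cancel₀ v hv00)⟩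
        intro c hc
        rcases eq_or_ne v 0 with rfl | hv'
        · simpa using h0
        exact hscale (v / v0) (div_ne_zero hv' hv00) v0 hv0 hv00
          (by rw [div_mul_cancel₀ v hv00]; exact hv) c hc
    have := Module.natCard_eq_pow_finrank (K := K) (V := F)
    rw [hK, Nat.card_eq_fintype_card, hF, ← pow_mul] at this
    exact ⟨_, Nat.pow_right_injective le_rfl this⟩
  · intro hdvd
    let V : Set F := {x | x ^ (2 ^ n) = x}
    have hVadd : ∀ a ∈ V, ∀ b ∈ V, a + b ∈ V := by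
      intro a ha b hb
      show (a + b) ^ (2 ^ n) = a + b
      rw [add_pow_char_pow, ha, hb]
    let E : Subgroup (Sz F m) :=
      { carrier := {g | ∃ b ∈ V, g = tSz hF 0 b}
        one_mem' := ⟨0, by simp [V], (tSz_zero hF).symm⟩
        mul_mem' := by
          rintro _ _ ⟨a, ha, rfl⟩ ⟨b, hb, rfl⟩
          exact ⟨a + b, hVadd a ha b hb, by rw [tSz_mul]; simp⟩
        inv_mem' := by
          rintro _ ⟨a, ha, rfl⟩
          exact ⟨a, ha, by rw [tSz_inv]; simp⟩ }
    refine ⟨E, ⟨⟨⟨?_⟩⟩, ?_⟩, ?_, ?_⟩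
    · rintro ⟨_, a, -, rfl⟩ ⟨_, b, -, rfl⟩
      apply Subtype.ext
      show tSz hF 0 a * tSz hF 0 b = tSz hF 0 b * tSz hF 0 a
      rw [tSz_mul, tSz_mul]
      congr 1 <;> simp <;> grind
    · rintro _ ⟨a, -, rfl⟩
      rw [sq, tSz_mul, tSz_eq_one_iff]
      constructor <;> simp <;> grind
    · have h2n : 2 ≤ 2 ^ n := le_self_pow₀ (by norm_num : 1 ≤ 2) (by omega)
      have hker : Nat.card (powMonoidHom (2 ^ n - 1) : Fˣ →* Fˣ).ker = 2 ^ n - 1 := by
        rw [IsCyclic.card_powMonoidHom_ker, Nat.card_units, Nat.card_eq_fintype_card, hF,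
          Nat.gcd_eq_right]
        obtain ⟨r, hr⟩ := hdvd
        rw [hr, pow_mul]
        exact Nat.sub_one_dvd_pow_sub_one _ _
      have hE : Nat.card E = Nat.card V := (Nat.card_congr (Equiv.ofBijective
        (fun b : V => (⟨tSz hF 0 (b : F), b, b.2, rfl⟩ : E))
        ⟨fun b c h => Subtype.ext (tSz_inj hF (congrArg Subtype.val h)).2,
          fun ⟨g, b, hb, h⟩ => ⟨⟨b, hb⟩, Subtype.ext h.symm⟩⟩)).symm
      have hV : Nat.card V = Nat.card (powMonoidHom (2 ^ n - 1) : Fˣ →* Fˣ).ker + 1 := by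
        rw [← Finite.card_option]
        refine (Nat.card_congr (Equiv.ofBijective (fun o =>
          match o with
          | none => (⟨0, by simp [V]⟩ : V)
          | some u => ⟨((u : Fˣ) : F), by
              show ((u : Fˣ) : F) ^ (2 ^ n) = _
              have := congrArg Units.val (MonoidHom.mem_ker.mp u.2)
              simp only [powMonoidHom_apply, Units.val_pow_eq_pow_val, Units.val_one] at this
              have h' : ((u : Fˣ) : F) ^ (2 ^ n - 1 + 1) = (u : Fˣ) := by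
                rw [pow_succ, this, one_mul]
              rwa [Nat.sub_add_cancel (show 1 ≤ 2 ^ n by omega)] at h'⟩)
          ⟨?_, ?_⟩)).symm
        · rintro (_ | a) (_ | b) h
          · rfl
          · exact absurd (congrArg Subtype.val h).symm (b : Fˣ).ne_zero
          · exact absurd (congrArg Subtype.val h) (a : Fˣ).ne_zero
          · rw [Subtype.ext (Units.ext (congrArg Subtype.val h : ((a : Fˣ) : F) = (b : Fˣ)))]
        · rintro ⟨x, hx⟩
          rcases eq_or_ne x 0 with rfl | hx0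
          · exact ⟨none, rfl⟩
          · refine ⟨some ⟨Units.mk0 x hx0, ?_⟩, rfl⟩
            rw [MonoidHom.mem_ker, powMonoidHom_apply]
            apply Units.ext
            rw [Units.val_pow_eq_pow_val, Units.val_mk0, Units.val_one]
            apply mul_right_cancel₀ hx0
            rw [← pow_succ, show 2 ^ n - 1 + 1 = 2 ^ n by omega, one_mul]
            exact hx
      rw [hE, hV, hker]
      omega
    · intro x hx
      obtain ⟨⟨e, he, he'⟩, he1⟩ := Subgroup.ne_bot_iff_exists_ne_one.mp hx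
      obtain ⟨c, hc, rfl⟩ := he
      obtain ⟨_, ⟨b, hb, rfl⟩, hxb⟩ := he'
      simp only [MulEquiv.coe_toMonoidHom, MulAut.conj_apply] at hxb
      have hc0 : c ≠ 0 := fun h => he1 (Subtype.ext ((tSz_eq_one_iff hF).mpr ⟨rfl, h⟩))
      have hxs : x • suzukiPointInfinity F = suzukiPointInfinity F :=
        uSub_fix_eq hF (fun h => hc0 h.2) (smul_mem_ovoid x infinity_mem)
          (by rw [← hxb, mul_smul, mul_smul, inv_smul_smul, tSz_smul_infinity])
      obtain ⟨μ, hμ⟩ := zSub_conj_stab hm hF hxs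
      have hcb : μ * b = c := (tSz_inj hF ((hμ b).symm.trans hxb)).2
      have hμ0 : μ ≠ 0 := fun h => hc0 (by rw [← hcb, h, zero_mul])
      have hμV : μ ^ (2 ^ n) = μ := by
        have hb0 : b ≠ 0 := fun h => hc0 (by rw [← hcb, h, mul_zero])
        apply mul_right_cancel₀ hb0
        calc μ ^ (2 ^ n) * b = μ ^ (2 ^ n) * b ^ (2 ^ n) := by rw [hb]
          _ = (μ * b) ^ (2 ^ n) := (mul_pow _ _ _).symm
          _ = μ * b := by rw [hcb, hc]
      rw [Subgroup.mem_normalizer_iff]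
      intro g
      constructor
      · rintro ⟨a, ha, rfl⟩
        refine ⟨μ * a, ?_, hμ a⟩
        show (μ * a) ^ (2 ^ n) = μ * a
        rw [mul_pow, hμV, ha]
      · rintro ⟨a, ha, hga⟩
        refine ⟨μ⁻¹ * a, ?_, ?_⟩
        · show (μ⁻¹ * a) ^ (2 ^ n) = μ⁻¹ * a
          rw [mul_pow, inv_pow, hμV, ha]
        · calc g = x⁻¹ * (x * g * x⁻¹) * x := by group
            _ = x⁻¹ * (x * tSz hF 0 (μ⁻¹ * a) * x⁻¹) * x := by
              rw [hga, hμ, mul_inv_cancel_left₀ hμ0]
            _ = _ := by group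

end Cfsg.Agent.Suzuki
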