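import Cfsg.Agent.Lib.Suzuki.Geometry
import Cfsg.Agent.Lib.Suzuki.Simple

/-!
# The model `Cfsg.Lie.Sz F (2^(m+1))` and the ovoid stabiliser agree

`lieHom`, `range_lieHom`, `lieEquiv`, `normalizer_uSub`, `lie_two_transitive`.
-/

set_option autoImplicit false
set_option linter.style.haveILetI false

namespace Cfsg.Agent.Suzuki

open Cfsg
open scoped Matrix

variable {F : Type*} [Field F] {m : ℕ} [Fintype F]
variable (hm : 1 ≤ m) (hF : Fintype.card F = 2 ^ (2 * m + 1))

lemma altForm4_eq (u v : Fin 4 → F) : Lie.altForm4 u v = u ⬝ᵥ (suzukiForm F *ᵥ v) := by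
  simp [Lie.altForm4, suzukiForm, Matrix.mulVec, dotProduct, Fin.sum_univ_four, add_assoc]

lemma altForm4_mulVec (M : Matrix (Fin 4) (Fin 4) F) (u v : Fin 4 → F) :
    Lie.altForm4 (M *ᵥ u) (M *ᵥ v) = u ⬝ᵥ ((Mᵀ * suzukiForm F * M) *ᵥ v) := by
  rw [altForm4_eq, Matrix.mulVec_mulVec, Matrix.mul_assoc, ← Matrix.mulVec_mulVec v Mᵀ,
    Matrix.dotProduct_mulVec u Mᵀ, Matrix.vecMul_transpose]

lemma form_of_mem_Sp4 {g : GL (Fin 4) F} (hg : g ∈ Lie.Sp4 F) :
    (g : Matrix (Fin 4) (Fin 4) F)ᵀ * suzukiForm F * (g : Matrix (Fin 4) (Fin 4) F) =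
      suzukiForm F := by
  ext i j
  have h := hg (Pi.single i 1) (Pi.single j 1)
  rw [Units.coeHom_apply, altForm4_mulVec, altForm4_eq] at h
  simpa using h

/-- The tangent-line property characterising the ovoid. -/
def OvoidVec (m : ℕ) (v : Fin 4 → F) : Prop :=
  ∃ u : Fin 4 → F, Lie.altForm4 v u = 0 ∧
    ∀ p : Fin 4, v (Lie.pairOf p).1 * u (Lie.pairOf p).2 - v (Lie.pairOf p).2 * u (Lie.pairOf p).1 =
      th m (v p)

/-- The matrices satisfying the two defining conditions. -/
def LieCond (m : ℕ) (M : Matrix (Fin 4) (Fin 4) F) : Prop :=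
  Mᵀ * suzukiForm F * M = suzukiForm F ∧ Lie.star4 M = M.map (th m)

include hF in
lemma ovoidVec_smul {v : Fin 4 → F} (h : OvoidVec m v) (c : F) : OvoidVec m (c • v) := by
  obtain ⟨u, hu, h4⟩ := h
  rcases eq_or_ne c 0 with rfl | hc
  · exact ⟨0, by simp [Lie.altForm4], fun p => by simp⟩
  refine ⟨(th m c / c) • u, ?_, fun p => ?_⟩
  · simp only [Lie.altForm4, Pi.smul_apply, smul_eq_mul] at hu ⊢
    linear_combination (c * (th m c / c)) * hu
  · simp only [Pi.smul_apply, smul_eq_mul, th_mul, ← h4 p]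
    field_simp

include hF in
lemma ovoidVec_mulVec {M : Matrix (Fin 4) (Fin 4) F} (hM : LieCond m M) {v : Fin 4 → F}
    (h : OvoidVec m v) : OvoidVec m (M *ᵥ v) := by
  haveI := charTwo hF
  obtain ⟨u, hu, h4⟩ := h
  refine ⟨M *ᵥ u, by rw [altForm4_mulVec, hM.1, ← altForm4_eq, hu], ?_⟩
  have hJ : M * suzukiForm F * Mᵀ = suzukiForm F := by
    have hJJ : suzukiForm F * suzukiForm F = 1 := by
      ext i j
      fin_cases i <;> fin_cases j <;> simp [suzukiForm, Matrix.mul_apply, Fin.sum_univ_four]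
    have h1 : (suzukiForm F * Mᵀ * suzukiForm F) * M = 1 := by
      rw [Matrix.mul_assoc _ _ M, Matrix.mul_assoc _ Mᵀ, ← Matrix.mul_assoc Mᵀ, hM.1, hJJ]
    have h2 := mul_eq_one_comm.mp h1
    calc M * suzukiForm F * Mᵀ =
        M * (suzukiForm F * Mᵀ * suzukiForm F) * suzukiForm F := by
          simp only [Matrix.mul_assoc, hJJ, Matrix.mul_one]
      _ = suzukiForm F := by rw [h2, Matrix.one_mul]
  intro p
  have hrow := congrFun (congrFun hJ (Lie.pairOf p).1) (Lie.pairOf p).2
  have hzero : suzukiForm F (Lie.pairOf p).1 (Lie.pairOf p).2 = 0 := by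
    fin_cases p <;> simp [Lie.pairOf, suzukiForm]
  rw [hzero] at hrow
  simp [Matrix.mul_apply, Fin.sum_univ_four, suzukiForm] at hrow
  have htp : th m ((M *ᵥ v) p) = ∑ r, th m (M p r) * th m (v r) := by
    simp only [Matrix.mulVec, dotProduct, Fin.sum_univ_four, th_add, th_mul]
  rw [htp]
  have hs : ∀ r, th m (M p r) = Lie.star4 M p r := fun r => by rw [hM.2]; rfl
  simp only [hs, ← h4, Fin.sum_univ_four]
  simp only [Lie.star4, Lie.pairOf, Matrix.of_apply, Matrix.cons_val_zero, Matrix.cons_val_one,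
    Matrix.cons_val, Matrix.mulVec, dotProduct, Fin.sum_univ_four] at hrow ⊢
  simp only [Lie.altForm4] at hu
  generalize (![(0, 1), (0, 2), (1, 3), (2, 3)] p : Fin 4 × Fin 4).1 = k at hrow ⊢
  generalize (![(0, 1), (0, 2), (1, 3), (2, 3)] p : Fin 4 × Fin 4).2 = l at hrow ⊢
  grind

include hF in
lemma lieCond_tMat (a b : F) : LieCond m (tMat m a b) := by
  haveI := charTwo hF
  refine ⟨tSz_preserves hF a b, ?_⟩
  ext i j
  fin_cases i <;> fin_cases j <;>
    simp [Lie.star4, Lie.pairOf, tMat, fz, th_add, th_mul, th_pow, th_th hF] <;> grind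

include hF in
lemma lieCond_dVec (k : Fˣ) : LieCond m (Matrix.diagonal (dVec m k)) := by
  have h : (k : F) ^ (2 ^ m) ≠ 0 := pow_ne_zero _ k.ne_zero
  have hq : th m ((k : F) ^ (2 ^ m)) = k := by
    rw [th, ← pow_mul, ← pow_add, show m + (m + 1) = 2 * m + 1 by ring, ← hF, FiniteField.pow_card]
  refine ⟨dSz_preserves hF k, ?_⟩
  ext i j
  fin_cases i <;> fin_cases j <;>
    simp [Lie.star4, Lie.pairOf, dVec, th_mul, th_inv, hq] <;>
    (try simp [th_eq_sq (k : F)]) <;> field_simp

include hF in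
lemma lieCond_form : LieCond m (suzukiForm F) := by
  haveI := charTwo hF
  refine ⟨wSz_preserves hF, ?_⟩
  ext i j
  fin_cases i <;> fin_cases j <;>
    simp [Lie.star4, Lie.pairOf, suzukiForm, CharTwo.neg_eq]

include hF in
lemma ovoidVec_vec (x y : F) : OvoidVec m (vec m x y) := by
  haveI := charTwo hF
  have h : vec m x y = tMat m x y *ᵥ ![0, 0, 0, 1] := by
    funext i
    fin_cases i <;> simp [vec, tMat, Matrix.mulVec, dotProduct, Fin.sum_univ_four]
  rw [h]
  refine ovoidVec_mulVec hF (lieCond_tMat hF x y)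
    ⟨![0, 0, 1, 0], by simp [Lie.altForm4], fun p => ?_⟩
  fin_cases p <;> simp [Lie.pairOf, CharTwo.neg_eq]

include hF in
lemma mem_ovoid_of_ovoidVec {v : Fin 4 → F} (hv : v ≠ 0) (h : OvoidVec m v) :
    Projectivization.mk F v hv ∈ suzukiOvoid F m := by
  haveI := charTwo hF
  by_cases h3 : v 3 = 0
  · obtain ⟨u, hu, h4⟩ := h
    have e0 := h4 0; have e1 := h4 1; have e2 := h4 2; have e3 := h4 3
    simp [Lie.pairOf, h3] at e0 e1 e2 e3
    simp [Lie.altForm4, h3] at hu
    have hx : v 2 = 0 := by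
      rcases e3 with h' | h'
      · exact h'
      · rw [h', mul_zero] at e2; exact th_eq_zero.mp e2.symm
    simp [hx] at e0 e1 e2 hu
    have hy : v 1 = 0 := by
      by_contra hne
      rw [e2.resolve_left hne] at hu
      simp [hne] at hu
      rw [hu, mul_zero] at e1
      exact hne (th_eq_zero.mp e1.symm)
    have hz : v 0 ≠ 0 := fun hz => hv (by funext i; fin_cases i <;> assumption)
    rw [mem_ovoid_iff]
    left
    refine (Projectivization.mk_eq_mk_iff' F _ _ _ _).mpr ⟨v 0, ?_⟩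
    funext i
    fin_cases i <;> simp [h3, hx, hy]
  · obtain ⟨x, hx⟩ : ∃ x, x = v 2 / v 3 := ⟨_, rfl⟩
    obtain ⟨y, hy⟩ : ∃ y, y = v 1 / v 3 := ⟨_, rfl⟩
    obtain ⟨z, hz⟩ : ∃ z, z = v 0 / v 3 + fz m x y := ⟨_, rfl⟩
    have hback : ((tSz hF x y)⁻¹ : Sz F m) = tSz hF x (y + th m x * x) := tSz_inv hF x y
    have hw : tMat m x (y + th m x * x) *ᵥ ((v 3)⁻¹ • v) = ![z, 0, 0, 1] := by
      have hv' : (v 3)⁻¹ • v = ![v 0 / v 3, y, x, 1] := by
        funext i
        fin_cases i <;> simp [hx, hy] <;> field_simp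
      have hfz : fz m x (y + th m x * x) = fz m x y := by
        simp only [fz, th_add, th_mul, th_th hF]; grind
      rw [hv']
      funext i
      fin_cases i <;>
        simp [tMat, hfz, hz, Matrix.mulVec, dotProduct, Fin.sum_univ_four] <;> grind
    obtain ⟨u, hu, h4⟩ := ovoidVec_mulVec hF (lieCond_tMat hF x (y + th m x * x))
      (ovoidVec_smul hF h (v 3)⁻¹)
    rw [hw] at hu h4
    have e1 := h4 1; have e2 := h4 2; have e3 := h4 3
    simp [Lie.pairOf] at e1 e2 e3
    have hz0 : z = 0 := by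
      rcases e1 with h' | h'
      · exact h'
      · exact absurd e3 (by simp [h'])
    rw [mem_ovoid_iff]
    right
    refine ⟨x, y, (Projectivization.mk_eq_mk_iff' F _ _ _ _).mpr ⟨v 3, ?_⟩⟩
    have hfz : fz m x y = v 0 / v 3 := by grind
    funext i
    fin_cases i
    · show v 3 * fz m x y = v 0
      rw [hfz]; field_simp
    · show v 3 * y = v 1
      rw [hy]; field_simp
    · show v 3 * x = v 2
      rw [hx]; field_simp
    · show v 3 * 1 = v 3
      rw [mul_one]

include hF in
lemma lieCond_preserves {g : Matrix.SpecialLinearGroup (Fin 4) F}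
    (hg : LieCond m (g : Matrix (Fin 4) (Fin 4) F)) : g ∈ Sz F m := by
  haveI := charTwo hF
  refine (MulAction.mem_stabilizer_set' ovoid_finite).mpr fun p hp => ?_
  obtain ⟨v, hv, rfl, hvec⟩ : ∃ (v : Fin 4 → F) (hv : v ≠ 0),
      p = Projectivization.mk F v hv ∧ OvoidVec m v := by
    rcases mem_ovoid_iff.mp hp with rfl | ⟨x, y, rfl⟩
    · refine ⟨![1, 0, 0, 0], by simp, rfl, ![0, 1, 0, 0], by simp [Lie.altForm4], fun q => ?_⟩
      fin_cases q <;> simp [Lie.pairOf]
    · exact ⟨vec m x y, vec_ne_zero x y, rfl, ovoidVec_vec hF x y⟩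
  rw [Projectivization.smul_mk]
  exact mem_ovoid_of_ovoidVec hF _ (ovoidVec_mulVec hF hg hvec)

/-- The embedding of the ovoid stabiliser in `GL₄`. -/
def lieHom (F : Type*) [Field F] (m : ℕ) : Sz F m →* GL (Fin 4) F :=
  Matrix.SpecialLinearGroup.toGL.comp (Sz F m).subtype

lemma coe_lieHom (g : Sz F m) : ((lieHom F m g : GL (Fin 4) F) : Matrix (Fin 4) (Fin 4) F) =
    ((g : Matrix.SpecialLinearGroup (Fin 4) F) : Matrix (Fin 4) (Fin 4) F) := rfl

lemma lieHom_injective : Function.Injective (lieHom F m) := fun a b h =>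
  Subtype.ext (Subtype.ext (congrArg (fun g : GL (Fin 4) F => (g : Matrix (Fin 4) (Fin 4) F)) h))

include hm hF in
/-- The two models have the same underlying group of matrices. -/
theorem range_lieHom : (lieHom F m).range = Lie.Sz F (2 ^ (m + 1)) := by
  haveI := charTwo hF
  apply le_antisymm
  · have gen : ∀ g : Sz F m, LieCond m ((g : Matrix.SpecialLinearGroup (Fin 4) F) :
        Matrix (Fin 4) (Fin 4) F) → lieHom F m g ∈ Lie.Sz F (2 ^ (m + 1)) := fun g hg => by
      refine Subgroup.subset_closure ⟨fun u v => ?_, hg.2⟩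
      rw [Units.coeHom_apply, coe_lieHom, altForm4_mulVec, hg.1, altForm4_eq]
    rintro _ ⟨g, rfl⟩
    rcases decompose hm hF g with ⟨a, b, k, rfl⟩ | ⟨a, b, c, d, k, rfl⟩
    · rw [map_mul]
      exact mul_mem (gen _ (lieCond_tMat hF a b)) (gen _ (lieCond_dVec hF k))
    · rw [map_mul, map_mul, map_mul]
      exact mul_mem (mul_mem (gen _ (lieCond_tMat hF a b)) (gen _ (lieCond_form hF)))
        (mul_mem (gen _ (lieCond_tMat hF c d)) (gen _ (lieCond_dVec hF k)))
  · refine (Subgroup.closure_le _).mpr ?_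
    rintro g ⟨hg, hstar⟩
    have hform := form_of_mem_Sp4 hg
    have hd : (g : Matrix (Fin 4) (Fin 4) F).det = 1 := by
      have := congrArg Matrix.det hform
      rw [Matrix.det_mul, Matrix.det_mul, Matrix.det_transpose, det_suzukiForm] at this
      rcases mul_self_eq_one_iff.mp (by linear_combination this :
        (g : Matrix (Fin 4) (Fin 4) F).det * (g : Matrix (Fin 4) (Fin 4) F).det = 1) with h | h
      · exact h
      · rw [h, CharTwo.neg_eq]
    exact ⟨⟨⟨(g : Matrix (Fin 4) (Fin 4) F), hd⟩,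
      lieCond_preserves hF ⟨hform, hstar⟩⟩, Units.ext rfl⟩

/-- The isomorphism of the two models. -/
noncomputable def lieEquiv : Sz F m ≃* Lie.Sz F (2 ^ (m + 1)) :=
  (MonoidHom.ofInjective lieHom_injective).trans (MulEquiv.subgroupCongr (range_lieHom hm hF))

include hm in
/-- The normaliser of the unipotent subgroup is the stabiliser of infinity. -/
theorem normalizer_uSub :
    Subgroup.normalizer (uSub hF : Set (Sz F m)) =
      MulAction.stabilizer (Sz F m) (suzukiPointInfinity F) := by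
  apply le_antisymm
  · intro g hg
    rw [MulAction.mem_stabilizer_iff]
    by_contra hne
    have h := (Subgroup.mem_normalizer_iff''.mp hg (tSz hF 1 0)).mp (tSz_mem_uSub hF 1 0)
    obtain ⟨a, b, hab⟩ := h
    refine hne (uSub_fix_eq hF (a := 1) (b := 0) (fun h => one_ne_zero h.1)
      (smul_mem_ovoid g infinity_mem) ?_)
    rw [show tSz hF 1 0 = g * (g⁻¹ * tSz hF 1 0 * g) * g⁻¹ by group, hab, mul_smul, mul_smul,
      inv_smul_smul, tSz_smul_infinity]
  · have key : ∀ g ∈ MulAction.stabilizer (Sz F m) (suzukiPointInfinity F),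
        ∀ x ∈ uSub hF, g * x * g⁻¹ ∈ uSub hF := by
      intro g hg x hx
      obtain ⟨a, b, k, rfl⟩ := exists_tSz_dSz_of_fix hm hF hg
      obtain ⟨c, d, rfl⟩ := hx
      obtain ⟨a', b', hi⟩ := tSz_dSz_inv hF a b k
      have hx' : tSz hF c d = tSz hF c d * dSz hF 1 := by rw [dSz_one, mul_one]
      rw [hi, hx', tSz_dSz_mul, tSz_dSz_mul, mul_one, mul_inv_cancel, dSz_one, mul_one]
      exact tSz_mem_uSub hF _ _
    intro g hg
    rw [Subgroup.mem_normalizer_iff]
    refine fun x => ⟨key g hg x, fun hx => ?_⟩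
    have := key g⁻¹ (inv_mem hg) _ hx
    simpa [mul_assoc] using this

include hF in
lemma existsUnique_unipotent {p q : Projectivization F (Fin 4 → F)}
    (hp : p ∈ suzukiOvoid F m) (hq : q ∈ suzukiOvoid F m)
    (hp' : p ≠ suzukiPointInfinity F) (hq' : q ≠ suzukiPointInfinity F) :
    ∃! u : uSub hF, (u : Sz F m) • p = q := by
  haveI := charTwo hF
  obtain ⟨x, y, rfl⟩ := (mem_ovoid_iff.mp hp).resolve_left hp'
  obtain ⟨x', y', rfl⟩ := (mem_ovoid_iff.mp hq).resolve_left hq'
  refine ⟨⟨tSz hF (x + x') (y + y' + th m (x + x') * x), tSz_mem_uSub hF _ _⟩, ?_, ?_⟩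
  · show tSz hF _ _ • pt m x y = _
    rw [tSz_smul_pt]
    congr 1 <;> grind
  · rintro ⟨_, a, b, rfl⟩ h
    change tSz hF a b • pt m x y = _ at h
    rw [tSz_smul_pt] at h
    obtain ⟨h1, h2⟩ := pt_inj h
    apply Subtype.ext
    show tSz hF a b = _
    congr 1 <;> grind

include hm hF in
/-- Order, Borel subgroup and double transitivity, for any group isomorphic to `Sz F m`. -/
theorem borel_package {G : Type*} [Group G] (e : G ≃* Sz F m) :
    Nat.card G = (2 ^ (2 * m + 1)) ^ 2 * (2 ^ (2 * m + 1) - 1) * ((2 ^ (2 * m + 1)) ^ 2 + 1) ∧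
    ∃ S : Sylow 2 G,
      Nat.card (Subgroup.normalizer ((S : Subgroup G) : Set G)) =
        (2 ^ (2 * m + 1)) ^ 2 * (2 ^ (2 * m + 1) - 1) ∧
      (Subgroup.normalizer ((S : Subgroup G) : Set G)).index = (2 ^ (2 * m + 1)) ^ 2 + 1 ∧
      MulAction.IsMultiplyPretransitive G
        (G ⧸ Subgroup.normalizer ((S : Subgroup G) : Set G)) 2 ∧
      ∀ x y : G ⧸ Subgroup.normalizer ((S : Subgroup G) : Set G),
        x ≠ (QuotientGroup.mk 1) → y ≠ (QuotientGroup.mk 1) →
          ∃! s : ↥(S : Subgroup G), (s : G) • x = y := by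
  have hcard : Nat.card G =
      (2 ^ (2 * m + 1)) ^ 2 * (2 ^ (2 * m + 1) - 1) * ((2 ^ (2 * m + 1)) ^ 2 + 1) := by
    rw [Nat.card_congr e.toEquiv, card_sz hm hF]; ring
  obtain ⟨S, hS⟩ : ∃ S : Sylow 2 G, (S : Subgroup G) = (uSub hF).comap e.toMonoidHom := by
    haveI : Fact (Nat.Prime 2) := ⟨Nat.prime_two⟩
    exact ⟨(uSylow hm hF).comapOfInjective e.toMonoidHom e.injective
      (by rw [MonoidHom.range_eq_top.mpr e.surjective]; exact le_top), rfl⟩
  refine ⟨hcard, S, ?_⟩
  set H := Subgroup.normalizer ((S : Subgroup G) : Set G) with hH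
  have hH' : H = (MulAction.stabilizer (Sz F m) (suzukiPointInfinity F)).comap e.toMonoidHom := by
    rw [hH, hS, ← normalizer_uSub hm hF]
    exact (Subgroup.comap_normalizer_eq_of_surjective _ e.surjective).symm
  have hindex : H.index = (2 ^ (2 * m + 1)) ^ 2 + 1 := by
    rw [hH', Subgroup.index_comap_of_surjective _ e.surjective, index_stabilizer hF]
  have hcardH : Nat.card H = (2 ^ (2 * m + 1)) ^ 2 * (2 ^ (2 * m + 1) - 1) := by
    have := Subgroup.card_mul_index H
    rw [hindex, hcard] at this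
    exact Nat.eq_of_mul_eq_mul_right (Nat.succ_pos _) this
  have hmem : ∀ g h : G, (QuotientGroup.mk g : G ⧸ H) = QuotientGroup.mk h ↔
      e g • suzukiPointInfinity F = e h • suzukiPointInfinity F := by
    intro g h
    rw [QuotientGroup.eq, hH', Subgroup.mem_comap, MulEquiv.coe_toMonoidHom, map_mul, map_inv,
      MulAction.mem_stabilizer_iff, mul_smul, inv_smul_eq_iff, eq_comm]
  have hreg : ∀ x y : G ⧸ H, x ≠ QuotientGroup.mk 1 → y ≠ QuotientGroup.mk 1 →
      ∃! s : ↥(S : Subgroup G), (s : G) • x = y := by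
    intro x y
    induction x using QuotientGroup.induction_on with
    | H g =>
      induction y using QuotientGroup.induction_on with
      | H h =>
        intro hx hy
        rw [ne_eq, hmem, map_one, one_smul] at hx hy
        obtain ⟨u, hu, huniq⟩ := existsUnique_unipotent hF
          (smul_mem_ovoid (e g) infinity_mem) (smul_mem_ovoid (e h) infinity_mem) hx hy
        refine ⟨⟨e.symm u, by rw [hS]; simp⟩, ?_, ?_⟩
        · show (QuotientGroup.mk (e.symm u * g) : G ⧸ H) = QuotientGroup.mk h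
          rw [hmem, map_mul, e.apply_symm_apply, mul_smul, hu]
        · rintro ⟨s, hs⟩ hsx
          change (QuotientGroup.mk (s * g) : G ⧸ H) = QuotientGroup.mk h at hsx
          rw [hmem, map_mul, mul_smul] at hsx
          rw [hS] at hs
          have := huniq ⟨e s, hs⟩ hsx
          apply Subtype.ext
          show s = e.symm u
          rw [← this]; simp
  refine ⟨hcardH, hindex, ?_, hreg⟩
  rw [MulAction.is_two_pretransitive_iff]
  intro a b c d hab hcd
  induction a using QuotientGroup.induction_on with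
  | H a =>
    induction b using QuotientGroup.induction_on with
    | H b =>
      induction c using QuotientGroup.induction_on with
      | H c =>
        induction d using QuotientGroup.induction_on with
        | H d =>
          rw [ne_eq, hmem] at hab hcd
          obtain ⟨g1, p1, q1⟩ := exists_move hF (smul_mem_ovoid (e a) infinity_mem)
            (smul_mem_ovoid (e b) (infinity_mem (m := m))) hab
          obtain ⟨g2, p2, q2⟩ := exists_move hF (smul_mem_ovoid (e c) infinity_mem)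
            (smul_mem_ovoid (e d) (infinity_mem (m := m))) hcd
          refine ⟨e.symm (g2 * g1⁻¹), ?_, ?_⟩
          · show (QuotientGroup.mk (_ * a) : G ⧸ H) = QuotientGroup.mk c
            rw [hmem, map_mul, e.apply_symm_apply, mul_smul, mul_smul, ← p1, inv_smul_smul, p2]
          · show (QuotientGroup.mk (_ * b) : G ⧸ H) = QuotientGroup.mk d
            rw [hmem, map_mul, e.apply_symm_apply, mul_smul, mul_smul, ← q1, inv_smul_smul, q2]

end Cfsg.Agent.Suzuki
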