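import Cfsg.Agent.Lib.Suzuki.FieldMap
import Cfsg.Agent.Lib.Suzuki.LieModel

/-!
# Automorphisms of the Suzuki group

`aut_trivial` (an automorphism fixing the root group data is trivial), `aut_decompose`
(`Aut = Inn · Gal`), `fieldAut_inner`, `card_out`.
-/

set_option autoImplicit false
set_option linter.style.haveILetI false

namespace Cfsg.Agent.Suzuki

open Cfsg
open scoped Matrix

variable {F : Type*} [Field F] {m : ℕ} [Fintype F]
variable (hm : 1 ≤ m) (hF : Fintype.card F = 2 ^ (2 * m + 1))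

/-- An automorphism fixes the unipotent subgroup. -/
def FixesU (α : MulAut (Sz F m)) : Prop := ∀ x, α x ∈ uSub hF ↔ x ∈ uSub hF

lemma fixesU_mul {α β : MulAut (Sz F m)} (ha : FixesU hF α) (hb : FixesU hF β) :
    FixesU hF (α * β) := fun x => (ha (β x)).trans (hb x)

include hm hF in
lemma fixesU_conj {g : Sz F m} (hg : g • suzukiPointInfinity F = suzukiPointInfinity F) :
    FixesU hF (MulAut.conj g) := by
  intro x
  rw [← MulAction.mem_stabilizer_iff, ← normalizer_uSub hm hF] at hg
  exact (Subgroup.mem_normalizer_iff.mp hg x).symm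

include hm hF in
lemma fixes_stab {α : MulAut (Sz F m)} (h : FixesU hF α) (x : Sz F m) :
    α x • suzukiPointInfinity F = suzukiPointInfinity F ↔
      x • suzukiPointInfinity F = suzukiPointInfinity F := by
  rw [← MulAction.mem_stabilizer_iff, ← MulAction.mem_stabilizer_iff, ← normalizer_uSub hm hF,
    Subgroup.mem_normalizer_iff, Subgroup.mem_normalizer_iff]
  constructor
  · intro hx u
    rw [← h u, hx (α u), ← h (x * u * x⁻¹), map_mul, map_mul, map_inv]
  · intro hx u
    obtain ⟨u, rfl⟩ := α.surjective u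
    rw [← map_inv, ← map_mul, ← map_mul, h, h]
    exact hx u

include hm hF in
lemma fixed_points_dSz {u : Fˣ} (hu : u ≠ 1) {p : Projectivization F (Fin 4 → F)}
    (hp : p ∈ suzukiOvoid F m) (h : dSz hF u • p = p) :
    p = suzukiPointInfinity F ∨ p = suzukiPointZero F := by
  rcases mem_ovoid_iff.mp hp with rfl | ⟨x, y, rfl⟩
  · exact Or.inl rfl
  · right
    by_contra hne
    refine hu (eq_one_of_dSz_fix hF (fun hxy => hne ?_) h)
    rw [hxy.1, hxy.2, pt_zero_zero]

include hm in
/-- An automorphism acting trivially on `U` modulo its centre and on the torus is trivial. -/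
theorem aut_trivial {β : MulAut (Sz F m)} (hβ : FixesU hF β)
    (hfst : ∀ a : F, ∃ e, β (tSz hF a 0) = tSz hF a e) (hd : ∀ u, β (dSz hF u) = dSz hF u) :
    β = 1 := by
  haveI := charTwo hF
  choose e he using hfst
  -- the centre is fixed
  have hz : ∀ z, β (tSz hF 0 z) = tSz hF 0 z := fun z => by
    obtain ⟨a, ha⟩ := (thSucc_bijective hF).2 z
    simp only at ha
    have h := map_mul β (tSz hF a 0) (tSz hF a 0)
    rw [he, tSz_mul, tSz_mul, show a + a = 0 by grind, show (0 : F) + 0 + th m a * a = z by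
      rw [ha]; simp, show e a + e a + th m a * a = z by rw [← ha]; grind] at h
    exact h
  -- the defect is a multiple of `th a * a`
  have hec : ∀ a, e a = th m a * a * e 1 := by
    intro a
    rcases eq_or_ne a 0 with rfl | ha
    · have := he 0
      rw [hz] at this
      simpa using (tSz_inj hF this).2.symm
    · have h := congrArg β (dSz_conj_tSz hF (Units.mk0 a ha) 1 0)
      rw [Units.val_mk0, mul_one, mul_zero, map_mul, map_mul, hd, he, he, dSz_conj_tSz] at h
      have := (tSz_inj hF (mul_right_cancel h)).2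
      simp only [Units.val_mk0] at this
      exact this.symm
  have he1 : e 1 = 0 := by
    obtain ⟨x, hx⟩ := exists_th_ne hm hF
    have h := map_mul β (tSz hF 1 0) (tSz hF x 0)
    have hsplit : tSz hF (1 + x) (0 + 0 + th m 1 * x) = tSz hF (1 + x) 0 * tSz hF 0 x := by
      rw [tSz_mul]; congr 1 <;> simp
    rw [tSz_mul, hsplit, map_mul, he, he, he, hz, tSz_mul, tSz_mul] at h
    have h2 := (tSz_inj hF h).2
    rw [hec (1 + x), hec x] at h2
    simp [th_add] at h2
    have : (th m x + x) * e 1 = 0 := by grind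
    exact (mul_eq_zero.mp this).resolve_left fun h => hx (by grind)
  have ht : ∀ a b, β (tSz hF a b) = tSz hF a b := fun a b => by
    have hsplit : tSz hF a b = tSz hF a 0 * tSz hF 0 b := by
      rw [tSz_mul]; congr 1 <;> simp
    rw [hsplit, map_mul, he, hz, hec, he1, mul_zero]
  -- the inversion
  obtain ⟨x0, hx0, hx1⟩ := exists_ne_zero_one hm hF
  set u0 : Fˣ := Units.mk0 x0 hx0
  have hu0 : u0 ≠ 1 := fun h => hx1 (congrArg Units.val h)
  set W := β (wSz hF) with hW
  have hconj : ∀ u, W * dSz hF u = dSz hF u⁻¹ * W := fun u => by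
    have := congrArg β (wSz_conj_dSz hF u)
    rwa [map_mul, map_mul, hd, hd] at this
  have hu0' : u0⁻¹ ≠ 1 := fun h => hu0 (inv_eq_one.mp h)
  have hmoves : W • suzukiPointInfinity F ≠ suzukiPointInfinity F := fun h =>
    pointZero_ne_infinity ((wSz_smul_infinity hF).symm.trans ((fixes_stab hm hF hβ _).mp h))
  have hWi : W • suzukiPointInfinity F = suzukiPointZero F := by
    refine (fixed_points_dSz hm hF hu0' (smul_mem_ovoid W infinity_mem) ?_).resolve_left hmoves
    rw [← mul_smul, ← hconj, mul_smul, dSz_smul_infinity]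
  have hWz : W • suzukiPointZero F = suzukiPointInfinity F := by
    refine (fixed_points_dSz hm hF hu0' (smul_mem_ovoid W pointZero_mem) ?_).resolve_right
      fun h => pointZero_ne_infinity (smul_left_cancel W (h.trans hWi.symm))
    rw [← mul_smul, ← hconj, mul_smul, dSz_smul_zero]
  obtain ⟨j, hj⟩ := exists_dSz_of_fix hm hF (g := wSz hF * W)
    (by rw [mul_smul, hWi, wSz_smul_zero]) (by rw [mul_smul, hWz, wSz_smul_infinity])
  have hWj : W = wSz hF * dSz hF j := by rw [← hj, ← mul_assoc, wSz_mul_self, one_mul]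
  have hfz : ∀ J : F, J ≠ 0 → wSz hF • pt m 0 J = pt m (J / th m J) 0 := fun J hJ => by
    have hz' : fz m (0 : F) J = th m J := by simp [fz]
    show wSL F • pt m 0 J = _
    rw [wSL_smul_pt hF 0 J (by rw [hz']; exact th_ne_zero hJ), hz', zero_div]
  -- the relation `w t w = t' w s`
  set s := (tSz hF 1 0 * wSz hF)⁻¹ * (wSz hF * tSz hF 0 1 * wSz hF) with hs
  have hsfix : s • suzukiPointInfinity F = suzukiPointInfinity F := by
    rw [hs, mul_smul, inv_smul_eq_iff, mul_smul, mul_smul, mul_smul, wSz_smul_infinity,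
      tSz_smul_zero, tSz_smul_zero, hfz 1 one_ne_zero, th_one, div_one]
  have hrel : W * tSz hF 0 1 * W = tSz hF 1 0 * W * β s := by
    rw [hs, map_mul, map_inv, map_mul, map_mul, map_mul, ht, ht, ← hW]
    group
  have hJ := congrArg (fun g : Sz F m => g • suzukiPointInfinity F) hrel
  simp only [mul_smul, hWi, (fixes_stab hm hF hβ s).mpr hsfix] at hJ
  rw [tSz_smul_zero, tSz_smul_zero, hWj, mul_smul, dSz_smul_pt] at hJ
  set J : F := th m (j : F) * (j : F) with hJdef
  have hJ0 : J ≠ 0 := mul_ne_zero (th_ne_zero j.ne_zero) j.ne_zero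
  rw [mul_zero, mul_one, hfz J hJ0] at hJ
  have hJ1 := (pt_inj hJ).1
  rw [div_eq_one_iff_eq (th_ne_zero hJ0)] at hJ1
  have hJJ := th_th hF J
  rw [← hJ1, ← hJ1, sq] at hJJ
  have hj1 : j = 1 := Units.ext (thSucc_eq_one hF ((mul_eq_right₀ hJ0).mp hJJ.symm))
  have hw : β (wSz hF) = wSz hF := by rw [← hW, hWj, hj1, dSz_one, mul_one]
  exact MulEquiv.toMonoidHom_injective (hom_ext_gens hm hF ht hd hw)

include hm hF in
/-- Every automorphism is inner times a field automorphism. -/
theorem aut_decompose (α : MulAut (Sz F m)) :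
    ∃ (g : Sz F m) (τ : RingAut F), α = MulAut.conj g * fieldAut hm hF τ := by
  haveI := charTwo hF
  haveI : Fact (Nat.Prime 2) := ⟨Nat.prime_two⟩
  -- move `U` back
  obtain ⟨g0, hg0⟩ := MulAction.exists_smul_eq (Sz F m) (uSylow hm hF)
    ((uSylow hm hF).comapOfInjective α.toMonoidHom α.injective
      (by rw [MonoidHom.range_eq_top.mpr α.surjective]; exact le_top))
  have hg0' : (uSub hF).map (MulAut.conj g0).toMonoidHom = (uSub hF).comap α.toMonoidHom := by
    have := congrArg (fun P : Sylow 2 (Sz F m) => (P : Subgroup (Sz F m))) hg0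
    simp only [Sylow.coe_subgroup_smul] at this
    exact this
  set α1 : MulAut (Sz F m) := α * MulAut.conj g0 with hα1
  have hU1 : FixesU hF α1 := by
    intro x
    have := SetLike.ext_iff.mp hg0' (MulAut.conj g0 x)
    rw [Subgroup.mem_comap, Subgroup.mem_map_equiv, MulAut.conj_symm_apply] at this
    rw [show g0⁻¹ * MulAut.conj g0 x * g0 = x by simp [MulAut.conj_apply]; group] at this
    exact this.symm
  -- move the opposite point back
  obtain ⟨x, y, hxy⟩ := (mem_ovoid_iff.mp (smul_mem_ovoid (α1 (wSz hF))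
    (infinity_mem (m := m)))).resolve_left fun h =>
      pointZero_ne_infinity ((wSz_smul_infinity hF).symm.trans ((fixes_stab hm hF hU1 _).mp h))
  set α2 : MulAut (Sz F m) := MulAut.conj (tSz hF x y)⁻¹ * α1 with hα2
  have hU2 : FixesU hF α2 := fixesU_mul hF
    (fixesU_conj hm hF (inv_smul_eq_iff.mpr (tSz_smul_infinity hF x y).symm)) hU1
  have hw2 : α2 (wSz hF) • suzukiPointInfinity F = suzukiPointZero F := by
    show MulAut.conj (tSz hF x y)⁻¹ (α1 (wSz hF)) • _ = _
    rw [MulAut.conj_apply, inv_inv, mul_smul, mul_smul, tSz_smul_infinity, hxy,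
      inv_smul_eq_iff, tSz_smul_zero]
  have hdD : ∀ u, ∃ v, α2 (dSz hF u) = dSz hF v := fun u => by
    refine exists_dSz_of_fix hm hF ((fixes_stab hm hF hU2 _).mpr (dSz_smul_infinity hF u)) ?_
    have h := (fixes_stab hm hF hU2 ((wSz hF)⁻¹ * dSz hF u * wSz hF)).mpr
      (by rw [mul_smul, mul_smul, wSz_smul_infinity, dSz_smul_zero, wSz_inv, wSz_smul_zero])
    rw [map_mul, map_mul, map_inv, mul_smul, mul_smul, inv_smul_eq_iff, hw2] at h
    exact h
  choose σ hσ using hdD
  have hfstex : ∀ a, ∃ p : F × F, α2 (tSz hF a 0) = tSz hF p.1 p.2 := fun a => by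
    obtain ⟨c, d, h⟩ := (hU2 _).mpr (tSz_mem_uSub hF a 0)
    exact ⟨(c, d), h⟩
  choose P hP using hfstex
  have hzz : ∀ z, ∃ z', α2 (tSz hF 0 z) = tSz hF 0 z' := fun z => by
    obtain ⟨c, d, h⟩ := (hU2 _).mpr (tSz_mem_uSub hF 0 z)
    refine ⟨d, ?_⟩
    have h2 : α2 (tSz hF 0 z) * α2 (tSz hF 0 z) = 1 := by
      rw [← map_mul, tSz_mul, show tSz hF (0 + 0) (z + z + th m 0 * 0) = 1 from
        (tSz_eq_one_iff hF).mpr ⟨by simp, by simp; grind⟩, map_one]
    rw [h, tSz_mul, tSz_eq_one_iff] at h2
    have hc : th m c * c = 0 := by grind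
    rcases mul_eq_zero.mp hc with h' | h'
    · rw [h, th_eq_zero.mp h']
    · rw [h, h']
  have hadd : ∀ a a', (P (a + a')).1 = (P a).1 + (P a').1 := by
    intro a a'
    obtain ⟨z', hz'⟩ := hzz (th m a * a')
    have h := map_mul α2 (tSz hF a 0) (tSz hF a' 0)
    rw [tSz_mul, show tSz hF (a + a') (0 + 0 + th m a * a') =
      tSz hF (a + a') 0 * tSz hF 0 (th m a * a') by rw [tSz_mul]; congr 1 <;> simp,
      map_mul, hP, hP, hP, hz', tSz_mul, tSz_mul] at h
    simpa using (tSz_inj hF h).1
  have hmul : ∀ (u : Fˣ) a, (P ((u : F) * a)).1 = (σ u : F) * (P a).1 := by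
    intro u a
    have h := congrArg α2 (dSz_conj_tSz hF u a 0)
    rw [mul_zero, map_mul, map_mul, hσ, hP, hP, dSz_conj_tSz] at h
    exact ((tSz_inj hF (mul_right_cancel h)).1).symm
  have hP0 : ∀ a, (P a).1 = 0 → a = 0 := by
    intro a ha
    have h := map_mul α2 (tSz hF a 0) (tSz hF a 0)
    rw [hP, ha, show tSz hF (0 : F) (P a).2 * tSz hF 0 (P a).2 = 1 from by
      rw [tSz_mul, tSz_eq_one_iff]; constructor <;> simp <;> grind,
      MulEquiv.map_eq_one_iff, tSz_mul, tSz_eq_one_iff] at h
    have hc : th m a * a = 0 := by simpa using h.2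
    rcases mul_eq_zero.mp hc with h' | h'
    · exact th_eq_zero.mp h'
    · exact h'
  have h1 : (P 1).1 ≠ 0 := fun h => one_ne_zero (hP0 1 h)
  set c := (P 1).1 with hc
  have hσP : ∀ u : Fˣ, (σ u : F) = (P (u : F)).1 / c := fun u => by
    rw [eq_div_iff h1, hc, ← hmul, mul_one]
  let f : F →+* F :=
    { toFun := fun a => (P a).1 / c
      map_one' := div_self h1
      map_zero' := by
        have := hadd 0 0
        rw [add_zero] at this
        rw [show (P 0).1 = 0 by grind, zero_div]
      map_add' := fun a b => by rw [hadd, add_div]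
      map_mul' := fun a b => by
        rcases eq_or_ne a 0 with rfl | ha
        · have := hadd 0 0
          rw [add_zero] at this
          rw [zero_mul, show (P 0).1 = 0 by grind, zero_div, zero_mul]
        · have := hmul (Units.mk0 a ha) b
          rw [Units.val_mk0] at this
          rw [this, hσP, Units.val_mk0, mul_div_assoc] }
  let τ : RingAut F := RingEquiv.ofBijective f (Finite.injective_iff_bijective.mp f.injective)
  set d := dSz hF (Units.mk0 c h1) with hd
  set β : MulAut (Sz F m) := (fieldAut hm hF τ)⁻¹ * (MulAut.conj d⁻¹ * α2) with hβ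
  have hdfix : d⁻¹ • suzukiPointInfinity F = suzukiPointInfinity F :=
    inv_smul_eq_iff.mpr (dSz_smul_infinity hF _).symm
  have hfU : FixesU hF (fieldAut hm hF τ)⁻¹ := by
    have hdir : ∀ x, x ∈ uSub hF → fieldAut hm hF τ x ∈ uSub hF := by
      rintro _ ⟨a, b, rfl⟩
      exact ⟨_, _, fieldAut_tSz hm hF τ a b⟩
    have hdir' : ∀ x, x ∈ uSub hF → (fieldAut hm hF τ)⁻¹ x ∈ uSub hF := by
      rintro _ ⟨a, b, rfl⟩
      refine ⟨τ.symm a, τ.symm b, ?_⟩
      apply (fieldAut hm hF τ).injective
      rw [MulAut.apply_inv_self, fieldAut_tSz, RingEquiv.apply_symm_apply,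
        RingEquiv.apply_symm_apply]
    intro x
    refine ⟨fun h => ?_, hdir' x⟩
    simpa using hdir _ h
  have hβ1 : β = 1 := by
    refine aut_trivial hm hF (fixesU_mul hF hfU (fixesU_mul hF (fixesU_conj hm hF hdfix) hU2))
      (fun a => ?_) (fun u => ?_)
    · have e : MulAut.conj d⁻¹ (α2 (tSz hF a 0)) =
          tSz hF (τ a) (th m (c⁻¹) * c⁻¹ * (P a).2) := by
        rw [MulAut.conj_apply, inv_inv, hP, hd, dSz_inv, dSz_conj_tSz, mul_assoc, dSz_mul,
          inv_mul_cancel, dSz_one, mul_one]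
        congr 1
        show _ = (P a).1 / c
        rw [Units.val_inv_eq_inv_val, Units.val_mk0]; ring
      refine ⟨τ.symm (th m (c⁻¹) * c⁻¹ * (P a).2), ?_⟩
      show (fieldAut hm hF τ)⁻¹ (MulAut.conj d⁻¹ (α2 (tSz hF a 0))) = _
      apply (fieldAut hm hF τ).injective
      rw [MulAut.apply_inv_self, e, fieldAut_tSz, RingEquiv.apply_symm_apply]
    · show (fieldAut hm hF τ)⁻¹ (MulAut.conj d⁻¹ (α2 (dSz hF u))) = _
      apply (fieldAut hm hF τ).injective
      rw [MulAut.apply_inv_self, MulAut.conj_apply, inv_inv, hσ, fieldAut_dSz, hd, dSz_inv,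
        dSz_mul, dSz_mul, mul_right_comm, inv_mul_cancel, one_mul]
      congr 1
      exact Units.ext (hσP u)
  have e2 : α2 = MulAut.conj d * fieldAut hm hF τ := by
    have := inv_mul_eq_one.mp hβ1
    rw [this, ← mul_assoc, ← map_mul, mul_inv_cancel, map_one, one_mul]
  have e1 : α1 = MulAut.conj (tSz hF x y * d) * fieldAut hm hF τ := by
    rw [map_mul, mul_assoc, ← e2, hα2, ← mul_assoc, ← map_mul, mul_inv_cancel, map_one, one_mul]
  have e0 : α = α1 * MulAut.conj g0⁻¹ := by
    rw [hα1, mul_assoc, ← map_mul, mul_inv_cancel, map_one, mul_one]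
  have e3 : ∀ (γ : MulAut (Sz F m)) (h : Sz F m),
      γ * MulAut.conj h = MulAut.conj (γ h) * γ := fun γ h => by
    apply MulEquiv.ext
    intro z
    simp [MulAut.conj_apply]
  refine ⟨tSz hF x y * d * fieldAut hm hF τ g0⁻¹, τ, ?_⟩
  rw [e0, e1, mul_assoc (MulAut.conj (tSz hF x y * d)), e3, ← mul_assoc, ← map_mul]

include hm hF in
/-- A field automorphism which is inner is trivial. -/
theorem fieldAut_inner {τ : RingAut F} {g : Sz F m} (h : fieldAut hm hF τ = MulAut.conj g) :
    τ = 1 := by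
  haveI := charTwo hF
  have happ : ∀ a b, g * tSz hF a b * g⁻¹ = tSz hF (τ a) (τ b) := fun a b =>
    (congrArg (fun γ : MulAut (Sz F m) => γ (tSz hF a b)) h).symm.trans (fieldAut_tSz hm hF τ a b)
  have hg : g • suzukiPointInfinity F = suzukiPointInfinity F := by
    refine uSub_fix_eq hF (a := τ 1) (b := τ 0) (fun e => ?_) (smul_mem_ovoid g infinity_mem) ?_
    · exact one_ne_zero (τ.injective (e.1.trans (map_zero τ).symm))
    · rw [← happ, mul_smul, mul_smul, inv_smul_smul, tSz_smul_infinity]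
  obtain ⟨x, y, u, rfl⟩ := exists_tSz_dSz_of_fix hm hF hg
  have hfst : ∀ a, (u : F) * a = τ a := fun a => by
    have := happ a 0
    rw [mul_inv_eq_iff_eq_mul,
      show tSz hF a 0 = tSz hF a 0 * dSz hF 1 by rw [dSz_one, mul_one],
      show tSz hF (τ a) (τ 0) = tSz hF (τ a) (τ 0) * dSz hF 1 by rw [dSz_one, mul_one],
      tSz_dSz_mul, tSz_dSz_mul, one_mul, mul_one] at this
    have := (tSz_inj hF (mul_right_cancel this)).1
    simp only [Units.val_one, one_mul] at this
    grind
  have hu1 : (u : F) = 1 := by have := hfst 1; simpa using this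
  refine RingEquiv.ext fun a => ?_
  show τ a = a
  rw [← hfst, hu1, one_mul]

include hm hF in
/-- The order of the outer automorphism group, for any group isomorphic to `Sz F m`. -/
theorem card_out {G : Type*} [Group G] (e : G ≃* Sz F m) :
    Nat.card (Cfsg.Out G) = 2 * m + 1 := by
  haveI := charTwo hF
  letI := ZMod.algebra F 2
  haveI := Fact.mk Nat.prime_two
  let c : MulAut (Sz F m) ≃* MulAut G := MulAut.congr e.symm
  have hc : ∀ (γ : MulAut (Sz F m)) (z : G), c γ z = e.symm (γ (e z)) := fun γ z => rfl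
  let Ψ : RingAut F →* Cfsg.Out G :=
    ((QuotientGroup.mk' _).comp c.toMonoidHom).comp (fieldAutHom hm hF)
  have hbij : Function.Bijective Ψ := by
    constructor
    · rw [injective_iff_map_eq_one]
      intro τ hτ
      obtain ⟨g, hg⟩ := (QuotientGroup.eq_one_iff _).mp hτ
      refine fieldAut_inner hm hF (g := e g) (MulEquiv.ext fun z => ?_)
      have := congrArg (fun γ : MulAut G => e (γ (e.symm z))) hg
      simp only [MulAut.conj_apply] at this
      simpa [hc, fieldAutHom, MulAut.conj_apply] using this.symm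
    · intro q
      obtain ⟨α, rfl⟩ := QuotientGroup.mk_surjective q
      obtain ⟨g, τ, hgτ⟩ := aut_decompose hm hF (c.symm α)
      refine ⟨τ, QuotientGroup.eq.mpr ⟨(c (fieldAut hm hF τ))⁻¹ (e.symm g), ?_⟩⟩
      have hα : α = MulAut.conj (e.symm g) * c (fieldAut hm hF τ) := by
        rw [← c.apply_symm_apply α, hgτ, map_mul]
        congr 1
        exact MulEquiv.ext fun z => by simp [hc, MulAut.conj_apply]
      rw [hα]
      refine MulEquiv.ext fun z => ?_
      simp [fieldAutHom, MulAut.conj_apply]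
  rw [← Nat.card_congr (Equiv.ofBijective Ψ hbij)]
  let toAlg : RingAut F → (F ≃ₐ[ZMod 2] F) := fun τ =>
    AlgEquiv.ofRingEquiv (f := τ) fun x =>
      RingHom.congr_fun (Subsingleton.elim (τ.toRingHom.comp (algebraMap (ZMod 2) F))
        (algebraMap (ZMod 2) F)) x
  let eq : RingAut F ≃ (F ≃ₐ[ZMod 2] F) :=
    { toFun := toAlg
      invFun := fun σ => σ.toRingEquiv
      left_inv := fun τ => RingEquiv.ext fun _ => rfl
      right_inv := fun σ => AlgEquiv.ext fun _ => rfl }
  rw [Nat.card_congr eq, IsGalois.card_aut_eq_finrank]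
  have := Module.card_eq_pow_finrank (K := ZMod 2) (V := F)
  rw [hF, ZMod.card] at this
  exact (Nat.pow_right_injective le_rfl this).symm

end Cfsg.Agent.Suzuki
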