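import Cfsg.Agent.Lib.Suzuki.Simple

/-!
# Fixed points and centralisers of non-identity elements

`fixer_cases`, `centralizer_tSz_le`, `centralizer_dSz`, `FPF`, `fpf_of_commute`,
`prime_dvd_of_fpf`, `orderOf_dvd_of_fpf`.
-/

set_option autoImplicit false
set_option linter.style.haveILetI false

namespace Cfsg.Agent.Suzuki

open Cfsg
open scoped Matrix commutatorElement Pointwise

variable {F : Type*} [Field F] {m : ℕ}

/-- No point of the ovoid is fixed. -/
def FPF (g : Sz F m) : Prop := ∀ p ∈ suzukiOvoid F m, g • p ≠ p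

variable [Fintype F]
variable (hm : 1 ≤ m) (hF : Fintype.card F = 2 ^ (2 * m + 1))

include hm in
/-- A non-identity element with a fixed point is conjugate to a unipotent or torus element. -/
theorem fixer_cases {g : Sz F m} (hg : g ≠ 1) {p : Projectivization F (Fin 4 → F)}
    (hp : p ∈ suzukiOvoid F m) (hgp : g • p = p) :
    (∃ (s : Sz F m) (a b : F), ¬(a = 0 ∧ b = 0) ∧ s • suzukiPointInfinity F = p ∧
      g = s * tSz hF a b * s⁻¹) ∨
    (∃ (s : Sz F m) (k : Fˣ), k ≠ 1 ∧ g = s * dSz hF k * s⁻¹) := by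
  haveI := charTwo hF
  obtain ⟨s, rfl⟩ := exists_smul_infinity hF hp
  have h : (s⁻¹ * g * s) • suzukiPointInfinity F = suzukiPointInfinity F := by
    rw [mul_smul, mul_smul, hgp, inv_smul_smul]
  obtain ⟨a, b, k, hk⟩ := exists_tSz_dSz_of_fix hm hF h
  have hg' : g = s * (tSz hF a b * dSz hF k) * s⁻¹ := by rw [← hk]; group
  rcases eq_or_ne k 1 with rfl | hk1
  · left
    rw [dSz_one, mul_one] at hg'
    refine ⟨s, a, b, ?_, rfl, hg'⟩
    rintro ⟨rfl, rfl⟩
    rw [tSz_zero, mul_one, mul_inv_cancel] at hg'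
    exact hg hg'
  · right
    have hk1' : (k : F) ≠ 1 := fun h => hk1 (Units.ext h)
    have d1 : (k : F) + 1 ≠ 0 := fun h => hk1' (by grind)
    have d2 : th m (k : F) * (k : F) + 1 ≠ 0 := fun h => hk1' (thSucc_eq_one hF (by grind))
    obtain ⟨x, hx⟩ : ∃ x, x = a / ((k : F) + 1) := ⟨_, rfl⟩
    obtain ⟨y, hy⟩ : ∃ y, y = (th m a * ((k : F) * x) + b) / (th m (k : F) * (k : F) + 1) :=
      ⟨_, rfl⟩
    have hfix : (tSz hF a b * dSz hF k) • pt m x y = pt m x y := by
      have h1 : a = ((k : F) + 1) * x := by rw [hx]; field_simp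
      have h2 : th m a * ((k : F) * x) + b = (th m (k : F) * (k : F) + 1) * y := by
        rw [hy, mul_div_cancel₀ _ d2]
      rw [mul_smul, dSz_smul_pt, tSz_smul_pt]
      congr 1 <;> grind
    set t := tSz hF x y with ht
    have h0 : (t⁻¹ * (tSz hF a b * dSz hF k) * t) • suzukiPointInfinity F =
        suzukiPointInfinity F := by
      have e : t • suzukiPointInfinity F = suzukiPointInfinity F := tSz_smul_infinity hF x y
      rw [mul_smul, mul_smul, e, mul_smul, dSz_smul_infinity, tSz_smul_infinity,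
        inv_smul_eq_iff, e]
    have h1 : (t⁻¹ * (tSz hF a b * dSz hF k) * t) • suzukiPointZero F = suzukiPointZero F := by
      rw [mul_smul, mul_smul, ht, tSz_smul_zero, hfix, inv_smul_eq_iff, tSz_smul_zero]
    obtain ⟨l, hl⟩ := exists_dSz_of_fix hm hF h0 h1
    refine ⟨s * t, l, ?_, by rw [← hl, hg']; group⟩
    rintro rfl
    rw [dSz_one] at hl
    have hone : tSz hF a b * dSz hF k = 1 := by
      calc tSz hF a b * dSz hF k = t * (t⁻¹ * (tSz hF a b * dSz hF k) * t) * t⁻¹ := by group
        _ = 1 := by rw [hl, mul_one, mul_inv_cancel]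
    rw [hone, mul_one, mul_inv_cancel] at hg'
    exact hg hg'

include hm in
/-- The centraliser of a non-identity unipotent element consists of unipotent elements. -/
theorem centralizer_tSz_le {a b : F} (hab : ¬(a = 0 ∧ b = 0)) :
    Subgroup.centralizer {tSz hF a b} ≤ uSub hF := by
  haveI := charTwo hF
  intro h hh
  have hc : tSz hF a b * h = h * tSz hF a b :=
    Subgroup.mem_centralizer_singleton_iff.mp hh |>.symm
  have hfix : h • suzukiPointInfinity F = suzukiPointInfinity F := by
    refine uSub_fix_eq hF hab (smul_mem_ovoid h infinity_mem) ?_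
    rw [← mul_smul, hc, mul_smul, tSz_smul_infinity]
  obtain ⟨c, d, k, rfl⟩ := exists_tSz_dSz_of_fix hm hF hfix
  have hk : k = 1 := by
    have h1 : tSz hF a b = tSz hF a b * dSz hF 1 := by rw [dSz_one, mul_one]
    rw [h1, tSz_dSz_mul, tSz_dSz_mul, one_mul, mul_one] at hc
    obtain ⟨e1, e2⟩ := tSz_inj hF (mul_right_cancel hc)
    simp only [Units.val_one, one_mul, th_one, mul_one] at e1 e2
    apply Units.ext
    rcases eq_or_ne a 0 with rfl | ha
    · have hb : b ≠ 0 := fun hb => hab ⟨rfl, hb⟩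
      simp [th_zero] at e2
      apply thSucc_eq_one hF
      have e3 : th m (k : F) * (k : F) * b = b := by grind
      exact (mul_eq_right₀ hb).mp e3
    · have e3 : (k : F) * a = a := by grind
      exact (mul_eq_right₀ ha).mp e3
  subst hk
  rw [dSz_one, mul_one]
  exact tSz_mem_uSub hF c d

include hm in
/-- The centraliser of a non-identity torus element is the torus. -/
theorem centralizer_dSz {k : Fˣ} (hk : k ≠ 1) :
    Subgroup.centralizer {dSz hF k} = dSub hF := by
  haveI := charTwo hF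
  apply le_antisymm
  · intro h hh
    have hc : dSz hF k * h = h * dSz hF k :=
      Subgroup.mem_centralizer_singleton_iff.mp hh |>.symm
    have fixed : ∀ p, dSz hF k • p = p → p ∈ suzukiOvoid F m →
        p = suzukiPointInfinity F ∨ p = suzukiPointZero F := by
      intro p hp hpm
      rcases mem_ovoid_iff.mp hpm with rfl | ⟨x, y, rfl⟩
      · exact Or.inl rfl
      · right
        by_contra hne
        refine hk (eq_one_of_dSz_fix hF (fun h => hne ?_) hp)
        rw [h.1, h.2, pt_zero_zero]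
    have fi := fixed (h • suzukiPointInfinity F)
      (by rw [← mul_smul, hc, mul_smul, dSz_smul_infinity]) (smul_mem_ovoid h infinity_mem)
    have fz' := fixed (h • suzukiPointZero F)
      (by rw [← mul_smul, hc, mul_smul, dSz_smul_zero]) (smul_mem_ovoid h pointZero_mem)
    rw [mem_dSub]
    rcases fi with fi | fi
    · rcases fz' with fz' | fz'
      · exact absurd (smul_left_cancel h (fi.trans fz'.symm)) pointZero_ne_infinity.symm
      · exact exists_dSz_of_fix hm hF fi fz'
    · exfalso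
      rcases fz' with fz' | fz'
      · have h0 : (wSz hF * h) • suzukiPointInfinity F = suzukiPointInfinity F := by
          rw [mul_smul, fi, wSz_smul_zero]
        have h1 : (wSz hF * h) • suzukiPointZero F = suzukiPointZero F := by
          rw [mul_smul, fz', wSz_smul_infinity]
        obtain ⟨l, hl⟩ := exists_dSz_of_fix hm hF h0 h1
        have hh' : h = wSz hF * dSz hF l := by rw [← hl, ← mul_assoc, wSz_mul_self, one_mul]
        rw [hh'] at hc
        have hcd : dSz hF k * wSz hF = wSz hF * dSz hF k := by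
          apply mul_right_cancel (b := dSz hF l)
          rw [mul_assoc, hc, mul_assoc, mul_assoc, dSz_mul, dSz_mul, mul_comm l k]
        rw [wSz_conj_dSz, mul_left_inj] at hcd
        have h2 : k = k⁻¹ := dSz_inj hF hcd
        apply hk
        have h3 : (k : F) * (k : F) = 1 := by
          rw [← Units.val_mul, mul_eq_one_iff_eq_inv.mpr h2, Units.val_one]
        rcases mul_self_eq_one_iff.mp h3 with h' | h'
        · exact Units.ext h'
        · exact Units.ext (by rw [h', CharTwo.neg_eq, Units.val_one])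
      · exact pointZero_ne_infinity.symm (smul_left_cancel h (fi.trans fz'.symm))
  · intro h hh
    obtain ⟨l, rfl⟩ := (mem_dSub hF).mp hh
    rw [Subgroup.mem_centralizer_singleton_iff, dSz_mul, dSz_mul, mul_comm]

include hm hF in
/-- Commuting with a fixed-point-free element forces being fixed-point-free. -/
theorem fpf_of_commute {g h : Sz F m} (hg : FPF g) (hh : h ≠ 1) (hc : Commute g h) : FPF h := by
  intro p hp hfix
  rcases fixer_cases hm hF hh hp hfix with ⟨s, a, b, hab, -, rfl⟩ | ⟨s, k, hk, rfl⟩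
  · have hmem : s⁻¹ * g * s ∈ uSub hF := by
      refine centralizer_tSz_le hm hF hab (Subgroup.mem_centralizer_singleton_iff.mpr ?_)
      calc s⁻¹ * g * s * tSz hF a b = s⁻¹ * (g * (s * tSz hF a b * s⁻¹)) * s := by group
        _ = s⁻¹ * (s * tSz hF a b * s⁻¹ * g) * s := by rw [hc.eq]
        _ = tSz hF a b * (s⁻¹ * g * s) := by group
    obtain ⟨c, d, hcd⟩ := hmem
    refine hg (s • suzukiPointInfinity F) (smul_mem_ovoid s infinity_mem) ?_
    rw [show g = s * (s⁻¹ * g * s) * s⁻¹ by group, hcd, mul_smul, mul_smul, inv_smul_smul,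
      tSz_smul_infinity]
  · have hmem : s⁻¹ * g * s ∈ dSub hF := by
      rw [← centralizer_dSz hm hF hk, Subgroup.mem_centralizer_singleton_iff]
      calc s⁻¹ * g * s * dSz hF k = s⁻¹ * (g * (s * dSz hF k * s⁻¹)) * s := by group
        _ = s⁻¹ * (s * dSz hF k * s⁻¹ * g) * s := by rw [hc.eq]
        _ = dSz hF k * (s⁻¹ * g * s) := by group
    obtain ⟨l, hl⟩ := (mem_dSub hF).mp hmem
    refine hg (s • suzukiPointInfinity F) (smul_mem_ovoid s infinity_mem) ?_
    rw [show g = s * (s⁻¹ * g * s) * s⁻¹ by group, hl, mul_smul, mul_smul, inv_smul_smul,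
      dSz_smul_infinity]

lemma ne_one_of_fpf {g : Sz F m} (hg : FPF g) : g ≠ 1 := by
  rintro rfl
  exact hg _ infinity_mem (one_smul _ _)

lemma fpf_conj {g : Sz F m} (s : Sz F m) (hg : FPF g) : FPF (s * g * s⁻¹) := by
  intro p hp h
  refine hg (s⁻¹ • p) (smul_mem_ovoid _ hp) ?_
  rw [eq_inv_smul_iff]
  simpa [mul_smul] using h

include hF in
/-- An element of prime order not dividing `q² + 1` has a fixed point. -/
lemma exists_fixed_of_prime {g : Sz F m} {p : ℕ} [Fact p.Prime] (hg : orderOf g = p)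
    (hp : ¬ p ∣ (2 ^ (2 * m + 1)) ^ 2 + 1) : ¬ FPF g := by
  intro hfpf
  haveI : Finite (suzukiOvoid F m) := Finite.of_equiv _ (ovoidEquiv F m)
  have hP : IsPGroup p (Subgroup.zpowers g) :=
    IsPGroup.of_card (n := 1) (by rw [Nat.card_zpowers, hg, pow_one])
  obtain ⟨x, hx⟩ := hP.nonempty_fixed_point_of_prime_not_dvd_card (suzukiOvoid F m)
    (by rw [card_ovoid, hF]; exact hp)
  exact hfpf x x.2 (congrArg Subtype.val (hx ⟨g, Subgroup.mem_zpowers g⟩))

include hm hF in
/-- Prime divisors of the order of a fixed-point-free element divide `q² + 1`. -/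
theorem prime_dvd_of_fpf {g : Sz F m} (hg : FPF g) {p : ℕ} (hp : p.Prime)
    (hdvd : p ∣ orderOf g) : p ∣ (2 ^ (2 * m + 1)) ^ 2 + 1 := by
  haveI := Fact.mk hp
  by_contra h
  obtain ⟨d, hd⟩ := hdvd
  have hpos : 0 < orderOf g := orderOf_pos g
  have hd0 : d ≠ 0 := fun h0 => by rw [h0, mul_zero] at hd; omega
  have hord : orderOf (g ^ d) = p := by
    rw [orderOf_pow' g hd0, hd, Nat.gcd_eq_right (dvd_mul_left d p),
      Nat.mul_div_cancel _ (Nat.pos_of_ne_zero hd0)]
  have hne : g ^ d ≠ 1 := fun h1 => hp.ne_one (by rw [← hord, h1, orderOf_one])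
  exact exists_fixed_of_prime hF hord h (fpf_of_commute hm hF hg hne (Commute.self_pow g d))

lemma two_dvd_q : 2 ∣ 2 ^ (2 * m + 1) := dvd_pow_self 2 (by omega)

lemma coprime_sq_add_one (q : ℕ) : Nat.Coprime (q ^ 2) (q ^ 2 + 1) :=
  Nat.coprime_self_add_right.mpr (Nat.coprime_one_right _)

lemma coprime_pred (q : ℕ) (hq : 2 ∣ q) : Nat.Coprime (q - 1) (q ^ 2 + 1) := by
  rcases Nat.eq_zero_or_pos q with rfl | hpos
  · simp
  refine Nat.coprime_of_dvd fun p hp h1 h2 => ?_
  have hz : ((q : ℤ) - 1) * ((q : ℤ) + 1) + 2 = (q : ℤ) ^ 2 + 1 := by ring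
  have h1' : (p : ℤ) ∣ (q : ℤ) - 1 := by
    have := Int.natCast_dvd_natCast.mpr h1
    rwa [Nat.cast_sub hpos, Nat.cast_one] at this
  have h2' : (p : ℤ) ∣ (q : ℤ) ^ 2 + 1 := by exact_mod_cast h2
  rw [← hz] at h2'
  have h3 : p ∣ 2 := Int.natCast_dvd_natCast.mp
    ((dvd_add_right (dvd_mul_of_dvd_left h1' _)).mp h2')
  obtain rfl := (Nat.prime_dvd_prime_iff_eq hp Nat.prime_two).mp h3
  omega

include hm hF in
/-- The order of a fixed-point-free element divides `q² + 1`. -/
theorem orderOf_dvd_of_fpf {g : Sz F m} (hg : FPF g) :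
    orderOf g ∣ (2 ^ (2 * m + 1)) ^ 2 + 1 := by
  have h := orderOf_dvd_natCard g
  rw [card_sz hm hF] at h
  set q := 2 ^ (2 * m + 1) with hq
  have h1 : (orderOf g).Coprime (q ^ 2) := Nat.coprime_of_dvd fun p hp ha hb =>
    hp.one_lt.ne' (Nat.dvd_one.mp ((coprime_sq_add_one q) ▸
      Nat.dvd_gcd hb (prime_dvd_of_fpf hm hF hg hp ha)))
  have h2 : (orderOf g).Coprime (q - 1) := Nat.coprime_of_dvd fun p hp ha hb =>
    hp.one_lt.ne' (Nat.dvd_one.mp ((coprime_pred q two_dvd_q) ▸
      Nat.dvd_gcd hb (prime_dvd_of_fpf hm hF hg hp ha)))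
  exact h1.dvd_of_dvd_mul_left (h2.dvd_of_dvd_mul_right h)

end Cfsg.Agent.Suzuki
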