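import Cfsg.Agent.Lib.Suzuki.Counting

/-!
# The two classes of exceptional tori of the Suzuki group

With `A = q + 2^(m+1) + 1`, `B = q - 2^(m+1) + 1` (so `A * B = q^2 + 1`): `torusA_mul_torusB`,
`torus_data`, `exists_torus`.
-/

set_option autoImplicit false
set_option linter.style.haveILetI false

namespace Cfsg.Agent.Suzuki

open Cfsg
open scoped Matrix

/-- The larger exceptional torus order. -/
def torusA (m : ℕ) : ℕ := 2 ^ (2 * m + 1) + 2 ^ (m + 1) + 1

/-- The smaller exceptional torus order. -/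
def torusB (m : ℕ) : ℕ := 2 ^ (2 * m + 1) - 2 ^ (m + 1) + 1

lemma sigma_le (m : ℕ) : 2 ^ (m + 1) ≤ 2 ^ (2 * m + 1) :=
  Nat.pow_le_pow_right (by norm_num) (by omega)

lemma torusA_add_torusB (m : ℕ) : torusA m + torusB m = 2 * (2 ^ (2 * m + 1) + 1) := by
  have := sigma_le m
  unfold torusA torusB
  omega

lemma torusA_mul_torusB (m : ℕ) : torusA m * torusB m = (2 ^ (2 * m + 1)) ^ 2 + 1 := by
  have hs : (2 ^ (m + 1)) ^ 2 = 2 * 2 ^ (2 * m + 1) := by
    rw [← pow_mul, ← pow_succ']; congr 1; ring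
  have := sigma_le m
  unfold torusA torusB
  generalize 2 ^ (m + 1) = s at hs this ⊢
  generalize 2 ^ (2 * m + 1) = q at hs this ⊢
  zify [this] at hs ⊢
  linear_combination (-1 : ℤ) * hs

lemma not_three_dvd (m : ℕ) :
    ¬ 3 ∣ (2 ^ (2 * m + 1)) ^ 2 * ((2 ^ (2 * m + 1)) ^ 2 + 1) * (2 ^ (2 * m + 1) - 1) := by
  have hq : 2 ^ (2 * m + 1) % 3 = 2 := by
    rw [pow_succ, pow_mul, Nat.mul_mod, Nat.pow_mod]; norm_num
  generalize 2 ^ (2 * m + 1) = q at hq ⊢
  intro h
  have h2 : q ^ 2 % 3 = 1 := by rw [Nat.pow_mod, hq]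
  rcases (Nat.prime_three.dvd_mul.mp h) with h | h
  · rcases (Nat.prime_three.dvd_mul.mp h) with h | h <;> omega
  · omega

variable {F : Type*} [Field F] {m : ℕ} [Fintype F]
variable (hm : 1 ≤ m) (hF : Fintype.card F = 2 ^ (2 * m + 1))

/-- The torus containing a fixed-point-free element. -/
abbrev torus (g : Sz F m) : Subgroup (Sz F m) := Subgroup.centralizer {g}

omit [Fintype F] in
lemma self_mem_torus (g : Sz F m) : g ∈ torus g := Subgroup.mem_centralizer_singleton_iff.mpr rfl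

include hm hF in
lemma fpf_of_mem_torus {g x : Sz F m} (hg : FPF g) (hx : x ∈ torus g) (h1 : x ≠ 1) : FPF x :=
  fpf_of_commute hm hF hg h1 (Subgroup.mem_centralizer_singleton_iff.mp hx).symm

include hm hF in
lemma conjSet_torus_subset {g : Sz F m} (hg : FPF g) : conjSet (torus g) ⊆ {x | FPF x} := by
  rintro _ ⟨x, c, hc, hc1, rfl⟩
  exact fpf_conj x (fpf_of_mem_torus hm hF hg hc hc1)

include hm hF in
lemma card_torus_dvd {g : Sz F m} (hg : FPF g) :
    Nat.card (torus g) ∣ (2 ^ (2 * m + 1)) ^ 2 + 1 := by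
  haveI := cyclic_centralizer_of_fpf hm hF hg
  obtain ⟨c, hc⟩ := IsCyclic.exists_ofOrder_eq_natCard (α := torus g)
  rw [← hc, ← Subgroup.orderOf_coe]
  rcases eq_or_ne (c : Sz F m) 1 with h | h
  · rw [h, orderOf_one]; exact one_dvd _
  · exact orderOf_dvd_of_fpf hm hF (fpf_of_mem_torus hm hF hg c.2 h)

include hm hF in
lemma five_le_card_torus {g : Sz F m} (hg : FPF g) : 5 ≤ Nat.card (torus g) := by
  have hd := card_torus_dvd hm hF hg
  have h3 : ¬ 3 ∣ Nat.card (torus g) := fun h => not_three_dvd m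
    (dvd_mul_of_dvd_left (dvd_mul_of_dvd_right (h.trans hd) _) _)
  have h2 : ¬ 2 ∣ Nat.card (torus g) := fun h => by
    have := h.trans hd
    have h4 : 2 ∣ (2 ^ (2 * m + 1)) ^ 2 := dvd_pow two_dvd_q two_ne_zero
    omega
  have h1 : 1 < Nat.card (torus g) := Subgroup.one_lt_card_iff_ne_bot _ |>.mpr fun h =>
    ne_one_of_fpf hg (Subgroup.mem_bot.mp (h ▸ self_mem_torus g))
  by_contra hlt
  push Not at hlt
  interval_cases Nat.card (torus g) <;> omega

include hm hF in
lemma mem_conjSet_torus {g : Sz F m} (hg : FPF g) : g ∈ conjSet (torus g) :=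
  ⟨1, g, self_mem_torus g, ne_one_of_fpf hg, by simp⟩

include hm hF in
lemma torus_of_mem_conjSet {g y : Sz F m} (hg : FPF g) (hy : y ∈ conjSet (torus g)) :
    ∃ x : Sz F m, torus y = (torus g).map (MulAut.conj x).toMonoidHom := by
  obtain ⟨x, c, hc, hc1, rfl⟩ := hy
  refine ⟨x, ?_⟩
  ext z
  rw [Subgroup.mem_map_equiv, MulAut.conj_symm_apply, torus, torus,
    ← centralizer_eq_of_mem hm hF hg hc hc1,
    @centralizer_conj F _ m _ hm hF c x (x⁻¹ * z * x),
    show x * (x⁻¹ * z * x) * x⁻¹ = z by group]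

include hm hF in
lemma mem_conjSet_trans {g g' y : Sz F m} (hg : FPF g) (hg' : FPF g')
    (h : y ∈ conjSet (torus g)) (h' : y ∈ conjSet (torus g')) : g' ∈ conjSet (torus g) := by
  obtain ⟨x, hx⟩ := torus_of_mem_conjSet hm hF hg h
  obtain ⟨x', hx'⟩ := torus_of_mem_conjSet hm hF hg' h'
  have hm' : x' * g' * x'⁻¹ ∈ torus y :=
    hx' ▸ Subgroup.mem_map_of_mem (MulAut.conj x').toMonoidHom (self_mem_torus g')
  rw [hx] at hm'
  obtain ⟨c, hc, hce⟩ := hm'
  simp only [MulEquiv.coe_toMonoidHom, MulAut.conj_apply] at hce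
  refine ⟨x'⁻¹ * x, c, hc, ?_, ?_⟩
  · rintro rfl
    rw [mul_one, mul_inv_cancel] at hce
    exact ne_one_of_fpf hg' (conj_eq_one_iff.mp hce.symm)
  · calc g' = x'⁻¹ * (x' * g' * x'⁻¹) * x' := by group
      _ = x'⁻¹ * x * c * (x'⁻¹ * x)⁻¹ := by rw [← hce]; group

include hm hF in
lemma conjSet_disjoint {g g' : Sz F m} (hg : FPF g) (hg' : FPF g')
    (h : g' ∉ conjSet (torus g)) : Disjoint (conjSet (torus g)) (conjSet (torus g')) :=
  Set.disjoint_left.mpr fun _ hy hy' => h (mem_conjSet_trans hm hF hg hg' hy hy')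

include hm hF in
/-- The class size of a torus: the index of the torus in its normaliser. -/
lemma class_eq {g : Sz F m} (hg : FPF g) :
    ∃ n : ℕ, (n = 1 ∨ n = 2 ∨ n = 4) ∧
      Nat.card (Subgroup.normalizer (torus g : Set (Sz F m))) = n * Nat.card (torus g) ∧
      (conjSet (torus g)).ncard * (n * Nat.card (torus g)) =
        Nat.card (Sz F m) * (Nat.card (torus g) - 1) := by
  obtain ⟨n, hn⟩ := Subgroup.card_dvd_of_le (Subgroup.le_normalizer (H := torus g))
  rw [mul_comm] at hn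
  have hcard := card_conjSet (torus g) (ti_torus hm hF hg)
  rw [hn] at hcard
  refine ⟨n, ?_, hn, hcard⟩
  have hle := card_normalizer_le hm hF hg
  rw [hn] at hle
  have hn4 : n ≤ 4 := Nat.le_of_mul_le_mul_right hle Nat.card_pos
  have hn0 : n ≠ 0 := fun h => by
    rw [h, zero_mul] at hn; exact Nat.card_pos.ne' hn
  have hn3 : n ≠ 3 := fun h => by
    refine not_three_dvd m ?_
    rw [← card_sz hm hF]
    exact (h ▸ hn ▸ dvd_mul_right n _).trans (Subgroup.card_subgroup_dvd_card _)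
  omega

include hm hF in
lemma class_bound {g : Sz F m} (hg : FPF g) :
    Nat.card (Sz F m) ≤ 5 * (conjSet (torus g)).ncard ∧
      (∀ n ≤ 2, Nat.card (Subgroup.normalizer (torus g : Set (Sz F m))) =
        n * Nat.card (torus g) → 2 * Nat.card (Sz F m) ≤ 5 * (conjSet (torus g)).ncard) := by
  obtain ⟨n, hn, hN, hS⟩ := class_eq hm hF hg
  have hc := five_le_card_torus hm hF hg
  generalize (conjSet (torus g)).ncard = S at hS ⊢
  generalize Nat.card (torus g) = c at hS hc hN ⊢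
  generalize Nat.card (Sz F m) = R at hS ⊢
  obtain ⟨d, rfl⟩ : ∃ d, c = d + 1 := ⟨c - 1, by omega⟩
  rw [Nat.add_sub_cancel] at hS
  refine ⟨?_, fun k hk hk' => ?_⟩
  · have h4 : R * (4 * (d + 1)) ≤ 5 * S * (4 * (d + 1)) := by
      calc R * (4 * (d + 1)) ≤ R * (5 * d) := Nat.mul_le_mul_left _ (by omega)
        _ = 5 * (S * (n * (d + 1))) := by rw [hS]; ring
        _ ≤ 5 * (S * (4 * (d + 1))) := by
          gcongr; omega
        _ = 5 * S * (4 * (d + 1)) := by ring
    exact Nat.le_of_mul_le_mul_right h4 (by omega)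
  · have hkn : n = k := Nat.eq_of_mul_eq_mul_right (Nat.succ_pos d) (hN.symm.trans hk')
    have h4 : 2 * R * (2 * (d + 1)) ≤ 5 * S * (2 * (d + 1)) := by
      calc 2 * R * (2 * (d + 1)) = R * (4 * (d + 1)) := by ring
        _ ≤ R * (5 * d) := Nat.mul_le_mul_left _ (by omega)
        _ = 5 * (S * (n * (d + 1))) := by rw [hS]; ring
        _ ≤ 5 * (S * (2 * (d + 1))) := by
          gcongr; omega
        _ = 5 * S * (2 * (d + 1)) := by ring
    exact Nat.le_of_mul_le_mul_right h4 (by omega)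

include hm hF in
lemma two_mul_fpf_lt : 2 * {g : Sz F m | FPF g}.ncard < Nat.card (Sz F m) := by
  have h := card_fpf hm hF
  have hR : 0 < Nat.card (Sz F m) := Nat.card_pos
  generalize {g : Sz F m | FPF g}.ncard = Φ at h ⊢
  generalize Nat.card (Sz F m) = R at h hR ⊢
  generalize hq : 2 ^ (2 * m + 1) = q at h
  by_contra hc
  push Not at hc
  have h1 : (q ^ 2 + 1) * R ≤ q ^ 2 * R :=
    calc (q ^ 2 + 1) * R ≤ (q ^ 2 + 1) * (2 * Φ) := Nat.mul_le_mul_left _ hc
      _ = R * (q * (q - 1)) := by rw [← h]; ring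
      _ ≤ R * (q * q) := by gcongr; omega
      _ = q ^ 2 * R := by ring
  nlinarith

include hm hF in
lemma exists_fpf : ∃ g : Sz F m, FPF g := by
  by_contra h
  have h0 : {g : Sz F m | FPF g}.ncard = 0 := by
    rw [Set.ncard_eq_zero (Set.toFinite _), Set.eq_empty_iff_forall_notMem]
    exact fun g hg => h ⟨g, hg⟩
  have := card_fpf hm hF
  rw [h0, mul_zero] at this
  have hq : 2 ≤ 2 ^ (2 * m + 1) := le_self_pow₀ (by norm_num : 1 ≤ 2) (by omega)
  have : 0 < Nat.card (Sz F m) * (2 ^ (2 * m + 1) * (2 ^ (2 * m + 1) - 1)) :=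
    Nat.mul_pos Nat.card_pos (Nat.mul_pos (by omega) (by omega))
  omega

include hm hF in
/-- A single torus class is not enough. -/
lemma not_single_class {g : Sz F m} (hg : FPF g) :
    ∃ g' : Sz F m, FPF g' ∧ g' ∉ conjSet (torus g) := by
  by_contra h
  push Not at h
  have heq : conjSet (torus g) = {x | FPF x} :=
    Set.Subset.antisymm (conjSet_torus_subset hm hF hg) h
  obtain ⟨n, hn, -, hS⟩ := class_eq hm hF hg
  have hf := card_fpf hm hF
  rw [heq] at hS
  have hc := five_le_card_torus hm hF hg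
  have hR : 0 < Nat.card (Sz F m) := Nat.card_pos
  generalize {g : Sz F m | FPF g}.ncard = Φ at hS hf
  generalize Nat.card (torus g) = c at hS hc
  generalize Nat.card (Sz F m) = R at hS hf hR
  have hqeven := two_dvd_q (m := m)
  have hq8 : 8 ≤ 2 ^ (2 * m + 1) := (show 2 ^ 3 = 8 by norm_num) ▸
    Nat.pow_le_pow_right (by norm_num : 0 < 2) (by omega : 3 ≤ 2 * m + 1)
  generalize 2 ^ (2 * m + 1) = q at hf hqeven hq8
  have h1 : q * (q - 1) * (n * c) = 2 * (q ^ 2 + 1) * (c - 1) := by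
    apply Nat.eq_of_mul_eq_mul_left hR
    calc R * (q * (q - 1) * (n * c)) = 2 * (q ^ 2 + 1) * Φ * (n * c) := by rw [hf]; ring
      _ = R * (2 * (q ^ 2 + 1) * (c - 1)) := by
        rw [mul_assoc, hS]; ring
  rcases hn with rfl | rfl | rfl
  · obtain ⟨d, rfl⟩ : ∃ d, c = d + 1 := ⟨c - 1, by omega⟩
    obtain ⟨e, rfl⟩ : ∃ e, q = e + 1 := ⟨q - 1, by omega⟩
    simp only [Nat.add_sub_cancel] at h1
    nlinarith
  · -- here `c * (q + 1) = q ^ 2 + 1`
    have h2 : c * (q + 1) = q ^ 2 + 1 := by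
      obtain ⟨d, rfl⟩ : ∃ d, c = d + 1 := ⟨c - 1, by omega⟩
      obtain ⟨e, rfl⟩ : ∃ e, q = e + 1 := ⟨q - 1, by omega⟩
      simp only [Nat.add_sub_cancel] at h1
      nlinarith
    have h3 : q + 1 ∣ q ^ 2 + 1 := Dvd.intro_left c h2
    have h4 : (q : ℤ) + 1 ∣ 2 := by
      have h5 : ((q + 1 : ℕ) : ℤ) ∣ ((q ^ 2 + 1 : ℕ) : ℤ) := Int.natCast_dvd_natCast.mpr h3
      push_cast at h5
      rw [show (q : ℤ) ^ 2 + 1 = ((q : ℤ) + 1) * ((q : ℤ) - 1) + 2 by ring] at h5
      exact (dvd_add_right (dvd_mul_right _ _)).mp h5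
    have := Int.le_of_dvd (by norm_num) h4
    omega
  · obtain ⟨d, rfl⟩ : ∃ d, c = d + 1 := ⟨c - 1, by omega⟩
    obtain ⟨e, rfl⟩ : ∃ e, q = e + 1 := ⟨q - 1, by omega⟩
    simp only [Nat.add_sub_cancel] at h1
    have he : 7 ≤ e := by omega
    nlinarith [Nat.mul_le_mul_right (e * (d + 1)) he]

include hm hF in
/-- Two classes, each of index four, exhaust the fixed-point-free elements. -/
lemma two_classes {g g' : Sz F m} (hg : FPF g) (hg' : FPF g') (h : g' ∉ conjSet (torus g)) :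
    Nat.card (Subgroup.normalizer (torus g : Set (Sz F m))) = 4 * Nat.card (torus g) ∧
    Nat.card (Subgroup.normalizer (torus g' : Set (Sz F m))) = 4 * Nat.card (torus g') ∧
    conjSet (torus g) ∪ conjSet (torus g') = {x | FPF x} := by
  have hlt := two_mul_fpf_lt hm hF
  have hsub : conjSet (torus g) ∪ conjSet (torus g') ⊆ {x | FPF x} :=
    Set.union_subset (conjSet_torus_subset hm hF hg) (conjSet_torus_subset hm hF hg')
  have hu := Set.ncard_union_eq (conjSet_disjoint hm hF hg hg' h) (Set.toFinite _) (Set.toFinite _)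
  have hle := Set.ncard_le_ncard hsub (Set.toFinite _)
  rw [hu] at hle
  obtain ⟨b1, b2⟩ := class_bound hm hF hg
  obtain ⟨b1', b2'⟩ := class_bound hm hF hg'
  have hR : 0 < Nat.card (Sz F m) := Nat.card_pos
  refine ⟨?_, ?_, ?_⟩
  · obtain ⟨n, hn, hN, -⟩ := class_eq hm hF hg
    rcases hn with rfl | rfl | rfl
    · have := b2 1 (by omega) hN; omega
    · have := b2 2 le_rfl hN; omega
    · exact hN
  · obtain ⟨n, hn, hN, -⟩ := class_eq hm hF hg'
    rcases hn with rfl | rfl | rfl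
    · have := b2' 1 (by omega) hN; omega
    · have := b2' 2 le_rfl hN; omega
    · exact hN
  · refine Set.Subset.antisymm hsub fun x (hx : FPF x) => ?_
    by_contra hout
    simp only [Set.mem_union, not_or] at hout
    have hd : Disjoint (conjSet (torus g) ∪ conjSet (torus g')) (conjSet (torus x)) := by
      rw [Set.disjoint_union_left]
      exact ⟨conjSet_disjoint hm hF hg hx hout.1, conjSet_disjoint hm hF hg' hx hout.2⟩
    have hle3 := Set.ncard_le_ncard (Set.union_subset hsub (conjSet_torus_subset hm hF hx))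
      (Set.toFinite _)
    rw [Set.ncard_union_eq hd (Set.toFinite _) (Set.toFinite _), hu] at hle3
    obtain ⟨b1'', -⟩ := class_bound hm hF hx
    omega

include hm hF in
/-- A torus contains a Sylow subgroup for each prime dividing its order. -/
lemma sylow_le_torus {g : Sz F m} (hg : FPF g) {p : ℕ} [Fact p.Prime]
    (hp : p ∣ Nat.card (torus g)) : ∃ P : Sylow p (Sz F m), (P : Subgroup (Sz F m)) ≤ torus g := by
  obtain ⟨x, hx⟩ := exists_prime_orderOf_dvd_card' p hp
  have hx1 : (x : Sz F m) ≠ 1 := fun h => by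
    have := (Fact.out : p.Prime).ne_one
    rw [← hx, ← Subgroup.orderOf_coe, h, orderOf_one] at this
    exact this rfl
  have hP' : IsPGroup p (Subgroup.zpowers (x : Sz F m)) :=
    IsPGroup.of_card (n := 1) (by rw [Nat.card_zpowers, Subgroup.orderOf_coe, hx, pow_one])
  obtain ⟨P, hP⟩ := hP'.exists_le_sylow
  refine ⟨P, ?_⟩
  have hxP : (x : Sz F m) ∈ (P : Subgroup (Sz F m)) := hP (Subgroup.mem_zpowers _)
  haveI : Nontrivial P := ⟨⟨⟨x, hxP⟩, 1, fun h => hx1 (congrArg Subtype.val h)⟩⟩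
  haveI := P.isPGroup'.center_nontrivial
  obtain ⟨⟨z, hz⟩, hz1⟩ := exists_ne (1 : Subgroup.center P)
  have hz1' : (z : Sz F m) ≠ 1 := fun h => hz1 (Subtype.ext (Subtype.ext h))
  have hcomm : ∀ y ∈ (P : Subgroup (Sz F m)), y * z = z * y := fun y hy =>
    congrArg Subtype.val (Subgroup.mem_center_iff.mp hz ⟨y, hy⟩)
  have hxC := centralizer_eq_of_mem hm hF hg x.2 hx1
  have hzT : (z : Sz F m) ∈ torus g := by
    rw [torus, ← hxC, Subgroup.mem_centralizer_singleton_iff]
    exact (hcomm _ hxP).symm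
  intro y hy
  rw [torus, ← centralizer_eq_of_mem hm hF hg hzT hz1', Subgroup.mem_centralizer_singleton_iff]
  exact hcomm y hy

include hm hF in
/-- Orders of the two tori. -/
lemma two_classes_orders {g g' : Sz F m} (hg : FPF g) (hg' : FPF g')
    (h : g' ∉ conjSet (torus g)) :
    (Nat.card (torus g) = torusA m ∧ Nat.card (torus g') = torusB m) ∨
      (Nat.card (torus g) = torusB m ∧ Nat.card (torus g') = torusA m) := by
  obtain ⟨h4, h4', hcover⟩ := two_classes hm hF hg hg' h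
  have hd := card_torus_dvd hm hF hg
  have hd' := card_torus_dvd hm hF hg'
  have hcop : (Nat.card (torus g)).Coprime (Nat.card (torus g')) := by
    refine Nat.coprime_of_dvd fun p hp ha hb => ?_
    haveI := Fact.mk hp
    obtain ⟨P, hP⟩ := sylow_le_torus hm hF hg ha
    obtain ⟨Q, hQ⟩ := sylow_le_torus hm hF hg' hb
    obtain ⟨x, hx⟩ := MulAction.exists_smul_eq (Sz F m) P Q
    obtain ⟨y, hy⟩ := exists_prime_orderOf_dvd_card' p hb
    have hne : (Q : Subgroup (Sz F m)) ≠ ⊥ := by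
      intro hbot
      have hdiv := Q.dvd_card_of_dvd_card (hb.trans (Subgroup.card_subgroup_dvd_card _))
      rw [hbot, Subgroup.card_bot] at hdiv
      exact hp.ne_one (Nat.dvd_one.mp hdiv)
    obtain ⟨⟨z, hz⟩, hz1⟩ := Subgroup.ne_bot_iff_exists_ne_one.mp hne
    have hz1' : z ≠ 1 := fun e => hz1 (Subtype.ext e)
    have hz2 : z ∈ conjSet (torus g') := ⟨1, z, hQ hz, hz1', by simp⟩
    refine h (mem_conjSet_trans hm hF hg hg' (y := z) ?_ hz2)
    rw [← hx, Sylow.coe_subgroup_smul] at hz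
    obtain ⟨c, hc, hce⟩ := hz
    refine ⟨x, c, hP hc, ?_, hce.symm⟩
    rintro rfl
    exact hz1' (by rw [← hce]; simp)
  set N0 := (2 ^ (2 * m + 1)) ^ 2 + 1 with hN0
  have hprod : Nat.card (torus g) * Nat.card (torus g') = N0 := by
    refine Nat.dvd_antisymm (hcop.mul_dvd_of_dvd_of_dvd hd hd') ?_
    rw [Nat.dvd_iff_prime_pow_dvd_dvd]
    intro p k hp hpk
    rcases Nat.eq_zero_or_pos k with rfl | hk
    · exact one_dvd _
    haveI := Fact.mk hp
    have hN0G : N0 ∣ Nat.card (Sz F m) := by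
      rw [card_sz hm hF]
      exact dvd_mul_of_dvd_left (dvd_mul_left _ _) _
    have hpN0 : p ∣ N0 := (dvd_pow_self p hk.ne').trans hpk
    obtain ⟨x, hx⟩ := exists_prime_orderOf_dvd_card' (G := Sz F m) p (hpN0.trans hN0G)
    have hx1 : x ≠ 1 := fun e => hp.ne_one (by rw [← hx, e, orderOf_one])
    have hfpf : FPF x := by
      intro q hq hfix
      rcases fixer_cases hm hF hx1 hq hfix with ⟨s, a, b, hab, -, rfl⟩ | ⟨s, j, hj, rfl⟩
      · have hord : orderOf (s * tSz hF a b * s⁻¹) ∣ (2 ^ (2 * m + 1)) ^ 2 := by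
          rw [show s * tSz hF a b * s⁻¹ = MulAut.conj s (tSz hF a b) from rfl,
            MulEquiv.orderOf_eq, ← card_uSub hF]
          exact Subgroup.orderOf_dvd_natCard _ (tSz_mem_uSub hF a b)
        rw [hx] at hord
        exact hp.ne_one (Nat.dvd_one.mp ((coprime_sq_add_one _) ▸ Nat.dvd_gcd hord hpN0))
      · have hord : orderOf (s * dSz hF j * s⁻¹) ∣ 2 ^ (2 * m + 1) - 1 := by
          rw [show s * dSz hF j * s⁻¹ = MulAut.conj s (dSz hF j) from rfl,
            MulEquiv.orderOf_eq, ← card_dSub hF]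
          exact Subgroup.orderOf_dvd_natCard _ ((mem_dSub hF).mpr ⟨j, rfl⟩)
        rw [hx] at hord
        exact hp.ne_one (Nat.dvd_one.mp ((coprime_pred _ two_dvd_q) ▸ Nat.dvd_gcd hord hpN0))
    have key : ∀ u : Sz F m, FPF u → x ∈ conjSet (torus u) → p ^ k ∣ Nat.card (torus u) := by
      rintro u hu ⟨s, c, hc, -, hce⟩
      have hpc : p ∣ Nat.card (torus u) := by
        rw [hce, show s * c * s⁻¹ = MulAut.conj s c from rfl, MulEquiv.orderOf_eq] at hx
        exact hx ▸ Subgroup.orderOf_dvd_natCard _ hc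
      obtain ⟨P, hP⟩ := sylow_le_torus hm hF hu hpc
      exact (P.pow_dvd_card_of_pow_dvd_card (hpk.trans hN0G)).trans (Subgroup.card_dvd_of_le hP)
    have hxu : x ∈ conjSet (torus g) ∪ conjSet (torus g') := hcover ▸ hfpf
    rcases hxu with h' | h'
    · exact dvd_mul_of_dvd_left (key g hg h') _
    · exact dvd_mul_of_dvd_right (key g' hg' h') _
  have hsum : Nat.card (torus g) + Nat.card (torus g') = 2 * (2 ^ (2 * m + 1) + 1) := by
    obtain ⟨n, -, hN, hS⟩ := class_eq hm hF hg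
    obtain ⟨n', -, hN', hS'⟩ := class_eq hm hF hg'
    rw [h4] at hN
    rw [h4'] at hN'
    rw [← hN] at hS
    rw [← hN'] at hS'
    have hf := card_fpf hm hF
    rw [← hcover, Set.ncard_union_eq (conjSet_disjoint hm hF hg hg' h) (Set.toFinite _)
      (Set.toFinite _)] at hf
    have hc5 := five_le_card_torus hm hF hg
    have hc5' := five_le_card_torus hm hF hg'
    have hR : 0 < Nat.card (Sz F m) := Nat.card_pos
    rw [hN0] at hprod
    generalize (conjSet (torus g)).ncard = S at hS hf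
    generalize (conjSet (torus g')).ncard = S' at hS' hf
    generalize Nat.card (torus g) = c at hS hc5 hprod ⊢
    generalize Nat.card (torus g') = c' at hS' hc5' hprod ⊢
    generalize Nat.card (Sz F m) = R at hS hS' hf hR
    have hq1 : 1 ≤ 2 ^ (2 * m + 1) := Nat.one_le_pow _ _ (by norm_num)
    generalize 2 ^ (2 * m + 1) = q at hf hprod hq1 ⊢
    have e1 : (S : ℤ) * (4 * c) = R * ((c : ℤ) - 1) := by
      have := congrArg (fun n : ℕ => (n : ℤ)) hS
      simp only [Nat.cast_mul, Nat.cast_sub (show 1 ≤ c by omega)] at this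
      simpa using this
    have e2 : (S' : ℤ) * (4 * c') = R * ((c' : ℤ) - 1) := by
      have := congrArg (fun n : ℕ => (n : ℤ)) hS'
      simp only [Nat.cast_mul, Nat.cast_sub (show 1 ≤ c' by omega)] at this
      simpa using this
    have e3 : (2 : ℤ) * ((q : ℤ) ^ 2 + 1) * ((S : ℤ) + S') = R * ((q : ℤ) * ((q : ℤ) - 1)) := by
      have := congrArg (fun n : ℕ => (n : ℤ)) hf
      simp only [Nat.cast_mul, Nat.cast_add, Nat.cast_pow, Nat.cast_sub hq1, Nat.cast_one] at this
      simpa using this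
    have e4 : (c : ℤ) * c' = (q : ℤ) ^ 2 + 1 := by exact_mod_cast hprod
    have e5 : (R : ℤ) * ((c : ℤ) + c' - 2 * ((q : ℤ) + 1)) = 0 := by
      linear_combination (c' : ℤ) * e1 + (c : ℤ) * e2 - 2 * e3 -
        (4 * ((S : ℤ) + S') - 2 * R) * e4
    have e6 := (mul_eq_zero.mp e5).resolve_left (by exact_mod_cast hR.ne')
    have : (c : ℤ) + c' = 2 * ((q : ℤ) + 1) := by linarith
    exact_mod_cast this
  rw [hN0, ← torusA_mul_torusB m] at hprod
  rw [← torusA_add_torusB m] at hsum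
  generalize Nat.card (torus g) = c at hprod hsum ⊢
  generalize Nat.card (torus g') = c' at hprod hsum ⊢
  zify at hprod hsum
  have key : ((c : ℤ) - torusA m) * ((c : ℤ) - torusB m) = 0 := by
    linear_combination (c : ℤ) * hsum - hprod
  rcases mul_eq_zero.mp key with e | e
  · left; omega
  · right; omega

include hm hF in
/-- Each fixed-point-free element lies in a cyclic torus of order `A` or `B`, of index four in
its normaliser. -/
theorem torus_data {g : Sz F m} (hg : FPF g) :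
    (Nat.card (torus g) = torusA m ∨ Nat.card (torus g) = torusB m) ∧
      Nat.card (Subgroup.normalizer (torus g : Set (Sz F m))) = 4 * Nat.card (torus g) := by
  obtain ⟨g', hg', h⟩ := not_single_class hm hF hg
  refine ⟨?_, (two_classes hm hF hg hg' h).1⟩
  rcases two_classes_orders hm hF hg hg' h with ⟨e, -⟩ | ⟨e, -⟩
  · exact Or.inl e
  · exact Or.inr e

include hm hF in
/-- Both torus orders occur. -/
theorem exists_torus :
    (∃ g : Sz F m, FPF g ∧ Nat.card (torus g) = torusA m) ∧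
      ∃ g : Sz F m, FPF g ∧ Nat.card (torus g) = torusB m := by
  obtain ⟨g, hg⟩ := exists_fpf hm hF
  obtain ⟨g', hg', h⟩ := not_single_class hm hF hg
  rcases two_classes_orders hm hF hg hg' h with ⟨e, e'⟩ | ⟨e, e'⟩
  · exact ⟨⟨g, hg, e⟩, ⟨g', hg', e'⟩⟩
  · exact ⟨⟨g', hg', e'⟩, ⟨g, hg, e⟩⟩

end Cfsg.Agent.Suzuki
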