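import Cfsg.Agent.Lib.Suzuki.Elements

/-!
# Stabilisers and order of the Suzuki group

`exists_dSz_of_fix` (two-point stabiliser = torus), `exists_tSz_dSz_of_fix` (point stabiliser),
`decompose` (Bruhat decomposition), `twoTransitive`, `eq_one_of_fix_three`, `card_stabilizer`,
`card_sz`.
-/

set_option autoImplicit false
set_option linter.style.haveILetI false

namespace Cfsg.Agent.Suzuki

open Cfsg
open scoped Matrix

variable {F : Type*} [Field F] {m : ℕ}

lemma smul_mem_ovoid (g : Sz F m) {p : Projectivization F (Fin 4 → F)}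
    (hp : p ∈ suzukiOvoid F m) : g • p ∈ suzukiOvoid F m :=
  (MulAction.mem_stabilizer_set.mp g.2 p).mpr hp

variable [Fintype F] (hm : 1 ≤ m) (hF : Fintype.card F = 2 ^ (2 * m + 1))

include hm hF in
lemma linear_coeffs {c d a b α p r : F}
    (h : ∀ x y : F, fz m (c * y + d * x) (a * y + b * x) = α * fz m x y + p * y + r * x)
    (hα : α ≠ 0) :
    c = 0 ∧ b = 0 ∧ p = 0 ∧ r = 0 ∧ a = th m d * d ∧ α = th m d * d ^ 2 := by
  haveI := charTwo hF
  have h0 : ∀ y : F, (th m c * c ^ 2) * (th m y * y ^ 2) + (th m a - α) * th m y +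
      (c * a) * y ^ 2 + (-p) * y = 0 := fun y => by
    have := h 0 y
    simp [fz, th_mul] at this
    linear_combination this
  have h1 : ∀ x : F, (th m d * d ^ 2 - α) * (th m x * x ^ 2) + th m b * th m x +
      (d * b) * x ^ 2 + (-r) * x = 0 := fun x => by
    have := h x 0
    simp [fz, th_mul] at this
    linear_combination this
  obtain ⟨hc, ha, -, hp⟩ := coeffs_zero hm hF h0
  obtain ⟨hd, hb, -, hr⟩ := coeffs_zero hm hF h1
  have hc' : c = 0 := by
    rcases mul_eq_zero.mp hc with h' | h'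
    · exact th_eq_zero.mp h'
    · exact pow_eq_zero_iff two_ne_zero |>.mp h'
  have hb' : b = 0 := th_eq_zero.mp hb
  rw [sub_eq_zero] at ha hd
  rw [neg_eq_zero] at hp hr
  have h11 := h 1 1
  rw [hc', hb', hp, hr] at h11
  simp [fz, ha, hd] at h11
  have had : d * a = α := by linear_combination h11
  have hd0 : d ≠ 0 := by rintro rfl; simp at had; exact hα had.symm
  refine ⟨hc', hb', hp, hr, ?_, hd.symm⟩
  apply mul_left_cancel₀ hd0
  rw [had, ← hd]; ring

lemma mat_zero_of_fix_infinity {g : Sz F m}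
    (h : g • suzukiPointInfinity F = suzukiPointInfinity F) :
    ∀ i : Fin 4, i ≠ 0 →
      ((g : Matrix.SpecialLinearGroup (Fin 4) F) : Matrix (Fin 4) (Fin 4) F) i 0 = 0 := by
  change (g : Matrix.SpecialLinearGroup (Fin 4) F) • suzukiPointInfinity F = _ at h
  rw [suzukiPointInfinity, Projectivization.smul_mk] at h
  obtain ⟨c, hc⟩ := (Projectivization.mk_eq_mk_iff' F _ _ _ _).mp h
  intro i hi
  have := congrFun hc i
  fin_cases i <;> simp [smul_vec_def, Matrix.mulVec, dotProduct, Fin.sum_univ_four] at hi this ⊢ <;>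
    exact this.symm

lemma mat_zero_of_fix_zero {g : Sz F m}
    (h : g • suzukiPointZero F = suzukiPointZero F) :
    ∀ i : Fin 4, i ≠ 3 →
      ((g : Matrix.SpecialLinearGroup (Fin 4) F) : Matrix (Fin 4) (Fin 4) F) i 3 = 0 := by
  change (g : Matrix.SpecialLinearGroup (Fin 4) F) • suzukiPointZero F = _ at h
  rw [suzukiPointZero, Projectivization.smul_mk] at h
  obtain ⟨c, hc⟩ := (Projectivization.mk_eq_mk_iff' F _ _ _ _).mp h
  intro i hi
  have := congrFun hc i
  fin_cases i <;> simp [smul_vec_def, Matrix.mulVec, dotProduct, Fin.sum_univ_four] at hi this ⊢ <;>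
    exact this.symm

include hm in
/-- An element fixing infinity and zero lies in the torus. -/
theorem exists_dSz_of_fix {g : Sz F m}
    (h0 : g • suzukiPointInfinity F = suzukiPointInfinity F)
    (h1 : g • suzukiPointZero F = suzukiPointZero F) : ∃ k : Fˣ, g = dSz hF k := by
  haveI := charTwo hF
  set M : Matrix (Fin 4) (Fin 4) F := ((g : Matrix.SpecialLinearGroup (Fin 4) F) :
    Matrix (Fin 4) (Fin 4) F) with hM
  have hc0 := mat_zero_of_fix_infinity h0
  have hc3 := mat_zero_of_fix_zero h1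
  rw [← hM] at hc0 hc3
  have e1 := hc0 1 (by decide); have e2 := hc0 2 (by decide); have e3 := hc0 3 (by decide)
  have f0 := hc3 0 (by decide); have f1 := hc3 1 (by decide); have f2 := hc3 2 (by decide)
  have key : ∀ x y : F, ∃ X Y l : F, l ≠ 0 ∧ M *ᵥ vec m x y = l • vec m X Y := by
    intro x y
    rcases mem_ovoid_iff.mp (smul_mem_ovoid g (pt_mem (m := m) x y)) with h | ⟨X, Y, h⟩
    · rw [← h0] at h
      exact absurd (smul_left_cancel g h) (pt_ne_infinity x y)
    · change (g : Matrix.SpecialLinearGroup (Fin 4) F) • pt m x y = _ at h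
      rw [pt, Projectivization.smul_mk] at h
      obtain ⟨l, hl⟩ := (Projectivization.mk_eq_mk_iff' F _ _ _ _).mp h
      refine ⟨X, Y, l, ?_, hl.symm⟩
      rintro rfl
      rw [zero_smul] at hl
      refine vec_ne_zero (m := m) x y
        (smul_left_cancel (g : Matrix.SpecialLinearGroup (Fin 4) F) (x := vec m x y) (y := 0) ?_)
      rw [← hl, smul_zero]
  have hW : ∀ x y : F, M 3 1 * y + M 3 2 * x + M 3 3 ≠ 0 := by
    intro x y
    obtain ⟨X, Y, l, hl, he⟩ := key x y
    have := congrFun he 3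
    simp [vec, Matrix.mulVec, dotProduct, Fin.sum_univ_four, e3] at this
    rw [this]; exact hl
  have g1 : M 3 1 = 0 := by
    by_contra hne
    apply hW 0 (-(M 3 3) / M 3 1)
    field_simp; ring
  have g2 : M 3 2 = 0 := by
    by_contra hne
    apply hW (-(M 3 3) / M 3 2) 0
    field_simp; ring
  obtain ⟨δ, hδ⟩ : ∃ δ, δ = M 3 3 := ⟨_, rfl⟩
  have hδ0 : δ ≠ 0 := by
    have := hW 0 0
    simpa [g1, g2, ← hδ] using this
  have hident : ∀ x y : F, fz m (M 2 1 / δ * y + M 2 2 / δ * x)
      (M 1 1 / δ * y + M 1 2 / δ * x) =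
      M 0 0 / δ * fz m x y + M 0 1 / δ * y + M 0 2 / δ * x := by
    intro x y
    obtain ⟨X, Y, l, hl, he⟩ := key x y
    have h3 := congrFun he 3; have h2 := congrFun he 2
    have h1' := congrFun he 1; have h0' := congrFun he 0
    simp [vec, Matrix.mulVec, dotProduct, Fin.sum_univ_four, e1, e2, e3, f0, f1, f2, g1, g2,
      ← hδ] at h3 h2 h1' h0'
    subst h3
    have hX : M 2 1 / δ * y + M 2 2 / δ * x = X := by
      field_simp; linear_combination h2
    have hY : M 1 1 / δ * y + M 1 2 / δ * x = Y := by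
      field_simp; linear_combination h1'
    rw [hX, hY]
    field_simp
    linear_combination -h0'
  have hα : M 0 0 / δ ≠ 0 := by
    refine div_ne_zero ?_ hδ0
    intro h00
    have : M.det = 0 := Matrix.det_eq_zero_of_column_eq_zero 0
      (fun i => by fin_cases i <;> assumption)
    rw [hM, Matrix.SpecialLinearGroup.det_coe] at this
    exact one_ne_zero this
  obtain ⟨hc, hb, hp, hr, ha, hA⟩ := linear_coeffs hm hF hident hα
  simp only [div_eq_zero_iff, hδ0, or_false] at hc hb hp hr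
  generalize hd : M 2 2 / δ = d at ha hA
  rw [div_eq_iff hδ0] at ha hA hd
  have hMeq : M = Matrix.diagonal ![th m d * d ^ 2 * δ, th m d * d * δ, d * δ, δ] := by
    ext i j
    fin_cases i <;> fin_cases j <;>
      simp [e1, e2, e3, f0, f1, f2, g1, g2, hc, hb, hp, hr, ha, hA, hd, ← hδ]
  have hdet : M.det = 1 := Matrix.SpecialLinearGroup.det_coe _
  rw [hMeq] at hdet
  simp [Matrix.det_diagonal, Fin.prod_univ_four] at hdet
  rw [th_eq_sq d] at hdet
  have h4 : ((δ * (d ^ (2 ^ m) * d)) ^ 2) ^ 2 = 1 := by linear_combination hdet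
  have hsq : ∀ z : F, z ^ 2 = 1 → z = 1 := fun z hz => by
    rcases sq_eq_one_iff.mp hz with h' | h'
    · exact h'
    · rw [h', CharTwo.neg_eq]
  have h5 := hsq _ (hsq _ h4)
  have hd0 : d ≠ 0 := by rintro rfl; simp at h5
  refine ⟨Units.mk0 d hd0, ?_⟩
  apply Subtype.ext
  apply Subtype.ext
  show M = Matrix.diagonal (dVec m (Units.mk0 d hd0))
  rw [hMeq]
  congr 1
  funext i
  have hp' : d ^ (2 ^ m) ≠ 0 := pow_ne_zero _ hd0
  have hδ' : δ = (d ^ (2 ^ m) * d)⁻¹ := eq_inv_of_mul_eq_one_left h5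
  fin_cases i <;> simp [dVec, th_eq_sq d, hδ'] <;> field_simp

include hm in
/-- An element fixing infinity is a unipotent times a torus element. -/
theorem exists_tSz_dSz_of_fix {g : Sz F m}
    (h : g • suzukiPointInfinity F = suzukiPointInfinity F) :
    ∃ (a b : F) (k : Fˣ), g = tSz hF a b * dSz hF k := by
  rcases mem_ovoid_iff.mp (smul_mem_ovoid g (pointZero_mem (m := m))) with h' | ⟨a, b, h'⟩
  · rw [← h] at h'
    exact absurd (smul_left_cancel g h') pointZero_ne_infinity
  · have h1 : ((tSz hF a b)⁻¹ * g) • suzukiPointZero F = suzukiPointZero F := by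
      rw [mul_smul, h', inv_smul_eq_iff, tSz_smul_zero]
    have h0 : ((tSz hF a b)⁻¹ * g) • suzukiPointInfinity F = suzukiPointInfinity F := by
      rw [mul_smul, h, inv_smul_eq_iff, tSz_smul_infinity]
    obtain ⟨k, hk⟩ := exists_dSz_of_fix hm hF h0 h1
    exact ⟨a, b, k, by rw [← hk, mul_inv_cancel_left]⟩

include hm in
/-- The Bruhat decomposition. -/
theorem decompose (g : Sz F m) :
    (∃ (a b : F) (k : Fˣ), g = tSz hF a b * dSz hF k) ∨
      ∃ (a b c d : F) (k : Fˣ), g = tSz hF a b * wSz hF * (tSz hF c d * dSz hF k) := by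
  rcases mem_ovoid_iff.mp (smul_mem_ovoid g (infinity_mem (m := m))) with h | ⟨a, b, h⟩
  · exact Or.inl (exists_tSz_dSz_of_fix hm hF h)
  · right
    have h0 : ((tSz hF a b * wSz hF)⁻¹ * g) • suzukiPointInfinity F = suzukiPointInfinity F := by
      rw [mul_smul, h, inv_smul_eq_iff, mul_smul, wSz_smul_infinity, tSz_smul_zero]
    obtain ⟨c, d, k, hk⟩ := exists_tSz_dSz_of_fix hm hF h0
    exact ⟨a, b, c, d, k, by rw [← hk, mul_inv_cancel_left]⟩

include hF in
/-- Any point of the ovoid is the image of infinity. -/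
theorem exists_smul_infinity {p : Projectivization F (Fin 4 → F)}
    (hp : p ∈ suzukiOvoid F m) : ∃ g : Sz F m, g • suzukiPointInfinity F = p := by
  rcases mem_ovoid_iff.mp hp with rfl | ⟨x, y, rfl⟩
  · exact ⟨1, one_smul _ _⟩
  · exact ⟨tSz hF x y * wSz hF, by rw [mul_smul, wSz_smul_infinity, tSz_smul_zero]⟩

include hF in
/-- Any ordered pair of distinct ovoid points can be moved to infinity and zero. -/
theorem exists_move {p q : Projectivization F (Fin 4 → F)} (hp : p ∈ suzukiOvoid F m)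
    (hq : q ∈ suzukiOvoid F m) (hne : p ≠ q) :
    ∃ g : Sz F m, g • suzukiPointInfinity F = p ∧ g • suzukiPointZero F = q := by
  obtain ⟨g, rfl⟩ := exists_smul_infinity hF hp
  rcases mem_ovoid_iff.mp (smul_mem_ovoid g⁻¹ hq) with h | ⟨x, y, h⟩
  · exact absurd ((inv_smul_eq_iff.mp h).symm) hne
  · refine ⟨g * tSz hF x y, by rw [mul_smul, tSz_smul_infinity], ?_⟩
    rw [mul_smul, tSz_smul_zero, ← h, smul_inv_smul]

include hF in
lemma twoTransitive : MulAction.IsMultiplyPretransitive (Sz F m) (suzukiOvoid F m) 2 := by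
  rw [MulAction.is_two_pretransitive_iff]
  intro a b c d hab hcd
  obtain ⟨g, hg1, hg2⟩ := exists_move hF a.2 b.2 (fun h => hab (Subtype.ext h))
  obtain ⟨g', hg1', hg2'⟩ := exists_move hF c.2 d.2 (fun h => hcd (Subtype.ext h))
  refine ⟨g' * g⁻¹, Subtype.ext ?_, Subtype.ext ?_⟩
  · show (g' * g⁻¹) • (a : Projectivization F (Fin 4 → F)) = c
    rw [mul_smul, ← hg1, inv_smul_smul, hg1']
  · show (g' * g⁻¹) • (b : Projectivization F (Fin 4 → F)) = d
    rw [mul_smul, ← hg2, inv_smul_smul, hg2']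

lemma eq_one_of_dSz_fix {k : Fˣ} {x y : F} (hxy : ¬(x = 0 ∧ y = 0))
    (h : dSz hF k • pt m x y = pt m x y) : k = 1 := by
  rw [dSz_smul_pt] at h
  obtain ⟨h1, h2⟩ := pt_inj h
  rcases eq_or_ne x 0 with rfl | hx
  · have hy : y ≠ 0 := fun hy => hxy ⟨rfl, hy⟩
    exact Units.ext (thSucc_eq_one hF (mul_eq_right₀ hy |>.mp h2))
  · exact Units.ext (mul_eq_right₀ hx |>.mp h1)

include hm hF in
/-- Only the identity fixes three points of the ovoid. -/
theorem eq_one_of_fix_three {g : Sz F m} {a b c : Projectivization F (Fin 4 → F)}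
    (ha : a ∈ suzukiOvoid F m) (hb : b ∈ suzukiOvoid F m) (hc : c ∈ suzukiOvoid F m)
    (hab : a ≠ b) (hac : a ≠ c) (hbc : b ≠ c)
    (fa : g • a = a) (fb : g • b = b) (fc : g • c = c) : g = 1 := by
  obtain ⟨s, rfl, rfl⟩ := exists_move hF ha hb hab
  have conj : ∀ p : Projectivization F (Fin 4 → F), g • (s • p) = s • p →
      (s⁻¹ * g * s) • p = p := fun p h => by rw [mul_smul, mul_smul, h, inv_smul_smul]
  obtain ⟨k, hk⟩ := exists_dSz_of_fix hm hF (conj _ fa) (conj _ fb)
  have hk1 : k = 1 := by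
    rcases mem_ovoid_iff.mp (smul_mem_ovoid s⁻¹ hc) with h | ⟨x, y, h⟩
    · exact absurd (by rw [← h, smul_inv_smul]) hac
    · refine eq_one_of_dSz_fix hF (x := x) (y := y) ?_ ?_
      · rintro ⟨rfl, rfl⟩
        rw [pt_zero_zero] at h
        exact hbc (by rw [← h, smul_inv_smul])
      · rw [← hk, ← h, mul_smul, smul_inv_smul, mul_smul, fc]
  rw [hk1, dSz_one] at hk
  calc g = s * (s⁻¹ * g * s) * s⁻¹ := by group
    _ = 1 := by rw [hk, mul_one, mul_inv_cancel]

include hm hF in
/-- The point stabiliser of infinity has order `q²(q-1)`. -/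
theorem card_stabilizer :
    Nat.card (MulAction.stabilizer (Sz F m) (suzukiPointInfinity F)) =
      (2 ^ (2 * m + 1)) ^ 2 * (2 ^ (2 * m + 1) - 1) := by
  have hbij : Function.Bijective (fun p : uSub hF × dSub hF =>
      (⟨(p.1 : Sz F m) * p.2, by
        obtain ⟨a, b, ha⟩ := p.1.2
        obtain ⟨k, hk⟩ := (mem_dSub hF).mp p.2.2
        rw [MulAction.mem_stabilizer_iff, mul_smul, hk, dSz_smul_infinity, ha,
          tSz_smul_infinity]⟩ :
        MulAction.stabilizer (Sz F m) (suzukiPointInfinity F))) := by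
    constructor
    · rintro ⟨⟨_, a, b, rfl⟩, ⟨u, hu⟩⟩ ⟨⟨_, a', b', rfl⟩, ⟨u', hu'⟩⟩ h
      obtain ⟨k, rfl⟩ := (mem_dSub hF).mp hu
      obtain ⟨k', rfl⟩ := (mem_dSub hF).mp hu'
      have h' : tSz hF a b * dSz hF k = tSz hF a' b' * dSz hF k' := congrArg Subtype.val h
      have hz := congrArg (fun g : Sz F m => g • suzukiPointZero F) h'
      simp only [mul_smul, dSz_smul_zero, tSz_smul_zero] at hz
      obtain ⟨rfl, rfl⟩ := pt_inj hz
      rw [mul_left_cancel_iff] at h'
      simp [h']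
    · rintro ⟨g, hg⟩
      obtain ⟨a, b, k, rfl⟩ := exists_tSz_dSz_of_fix hm hF hg
      exact ⟨(⟨tSz hF a b, tSz_mem_uSub hF a b⟩, ⟨dSz hF k, ⟨k, rfl⟩⟩), rfl⟩
  rw [← Nat.card_congr (Equiv.ofBijective _ hbij), Nat.card_prod, card_uSub, card_dSub]

include hF in
lemma orbit_infinity :
    MulAction.orbit (Sz F m) (suzukiPointInfinity F) = suzukiOvoid F m := by
  ext p
  constructor
  · rintro ⟨g, rfl⟩; exact smul_mem_ovoid g infinity_mem
  · exact fun hp => exists_smul_infinity hF hp

include hF in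
lemma index_stabilizer :
    (MulAction.stabilizer (Sz F m) (suzukiPointInfinity F)).index =
      (2 ^ (2 * m + 1)) ^ 2 + 1 := by
  rw [MulAction.index_stabilizer, orbit_infinity hF, ← Nat.card_coe_set_eq, card_ovoid, hF]

include hm hF in
/-- The order of the Suzuki group. -/
theorem card_sz : Nat.card (Sz F m) =
    (2 ^ (2 * m + 1)) ^ 2 * ((2 ^ (2 * m + 1)) ^ 2 + 1) * (2 ^ (2 * m + 1) - 1) := by
  rw [← Subgroup.card_mul_index (MulAction.stabilizer (Sz F m) (suzukiPointInfinity F)),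
    card_stabilizer hm hF, index_stabilizer hF]
  ring

end Cfsg.Agent.Suzuki
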