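import Cfsg.Agent.EqLemmas

/-!
# Field and point-set algebra for the Suzuki groups

`th m x = x ^ 2^(m+1)`, `fz m x y = x y + x^(th+2) + y^th`; over the field with `2^(2m+1)` elements
`th (th x) = x ^ 2`.  Main results: `th_add`, `th_th`, `fz_translate`, `fz_scale`, `fz_invert`,
`fz_eq_zero`, `th_eq_add_one`, `coeffs_zero`, `thSucc_injective`.
-/

set_option autoImplicit false
set_option linter.style.haveILetI false

namespace Cfsg.Agent.Suzuki

variable {F : Type*} [Field F] {m : ℕ}

/-- The endomorphism `x ↦ x ^ 2^(m+1)`. -/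
def th (m : ℕ) (x : F) : F := x ^ (2 ^ (m + 1))

/-- The first coordinate of the affine ovoid point with parameters `x, y`. -/
def fz (m : ℕ) (x y : F) : F := x * y + th m x * x ^ 2 + th m y

lemma th_def (x : F) : th m x = x ^ (2 ^ (m + 1)) := rfl

@[simp] lemma th_zero : th m (0 : F) = 0 := by simp [th]

@[simp] lemma th_one : th m (1 : F) = 1 := by simp [th]

lemma th_mul (x y : F) : th m (x * y) = th m x * th m y := mul_pow x y _

lemma th_pow (x : F) (n : ℕ) : th m (x ^ n) = th m x ^ n := by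
  rw [th, th, ← pow_mul, ← pow_mul, mul_comm]

lemma th_inv (x : F) : th m x⁻¹ = (th m x)⁻¹ := inv_pow x _

lemma th_div (x y : F) : th m (x / y) = th m x / th m y := div_pow x y _

lemma th_eq_zero {x : F} : th m x = 0 ↔ x = 0 := by simp [th]

lemma th_ne_zero {x : F} (hx : x ≠ 0) : th m x ≠ 0 := by simpa [th_eq_zero] using hx

@[simp] lemma fz_zero : fz m (0 : F) 0 = 0 := by simp [fz]

lemma th_add [CharP F 2] (x y : F) : th m (x + y) = th m x + th m y :=
  add_pow_char_pow x y 2 (m + 1)

/-- A field with `2^(2m+1)` elements has characteristic two. -/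
lemma charTwo [Fintype F] (hF : Fintype.card F = 2 ^ (2 * m + 1)) : CharP F 2 := by
  obtain ⟨p, hp⟩ := CharP.exists F
  obtain ⟨n, hpp, hn⟩ := FiniteField.card F p
  have h : p = 2 := by
    have hdvd : p ∣ 2 ^ (2 * m + 1) := by
      rw [← hF, hn]; exact dvd_pow_self p (PNat.ne_zero n)
    exact (Nat.prime_dvd_prime_iff_eq hpp Nat.prime_two).mp (hpp.dvd_of_dvd_pow hdvd)
  exact h ▸ hp

section finite

variable [Fintype F]

lemma th_th (hF : Fintype.card F = 2 ^ (2 * m + 1)) (x : F) : th m (th m x) = x ^ 2 := by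
  rw [th, th, ← pow_mul, ← pow_add, show m + 1 + (m + 1) = (2 * m + 1) + 1 by ring, pow_succ,
    pow_mul, ← hF, FiniteField.pow_card]

/-- The map `x ↦ x^(th+1)` is injective. -/
lemma thSucc_injective (hF : Fintype.card F = 2 ^ (2 * m + 1)) :
    Function.Injective fun x : F => th m x * x := by
  intro x y h
  haveI := charTwo hF
  simp only at h
  rcases eq_or_ne x 0 with rfl | hx
  · rcases mul_eq_zero.mp (show th m y * y = 0 by simpa [th_eq_zero] using h.symm) with h' | h'
    · exact (th_eq_zero.mp h').symm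
    · exact h'.symm
  have hy : y ≠ 0 := by
    rintro rfl
    simp [th_eq_zero, hx] at h
  have h2 := congrArg (th m) h
  rw [th_mul, th_mul, th_th hF, th_th hF] at h2
  have h4 : x * (th m x * x) = y * (th m y * y) := by linear_combination h2
  rw [h] at h4
  exact mul_right_cancel₀ (mul_ne_zero (th_ne_zero hy) hy) h4

lemma thSucc_bijective (hF : Fintype.card F = 2 ^ (2 * m + 1)) :
    Function.Bijective fun x : F => th m x * x :=
  Finite.injective_iff_bijective.mp (thSucc_injective hF)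

lemma thSucc_eq_one (hF : Fintype.card F = 2 ^ (2 * m + 1)) {x : F} (h : th m x * x = 1) : x = 1 :=
  thSucc_injective hF (by simpa using h)

/-- The equation `t^th = t + 1` has no solution. -/
lemma th_eq_add_one (hF : Fintype.card F = 2 ^ (2 * m + 1)) {t : F} : th m t ≠ t + 1 := by
  haveI := charTwo hF
  intro h
  have h1 : th m (th m t) = th m t + 1 := by rw [h, th_add, th_one, h]
  rw [th_th hF, h] at h1
  have h2 : t * (t - 1) = 0 := by grind
  rcases mul_eq_zero.mp h2 with h0 | h0
  · subst h0; simp at h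
  · rw [sub_eq_zero] at h0; subst h0
    simp at h

lemma fz_eq_zero (hF : Fintype.card F = 2 ^ (2 * m + 1)) {x y : F} (h : fz m x y = 0) :
    x = 0 ∧ y = 0 := by
  haveI := charTwo hF
  rcases eq_or_ne x 0 with rfl | hx
  · simpa [fz, th_eq_zero] using h
  exfalso
  obtain ⟨t, rfl⟩ : ∃ t, y = th m x * x * t :=
    ⟨y / (th m x * x), by field_simp [th_ne_zero hx]⟩
  apply th_eq_add_one hF (t := t)
  have h2 : th m x * x ^ 2 * (th m t + t + 1) = 0 := by
    rw [← h, fz, th_mul, th_mul, th_th hF]; ring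
  have h3 := (mul_eq_zero.mp h2).resolve_left (mul_ne_zero (th_ne_zero hx) (pow_ne_zero _ hx))
  grind

lemma fz_translate (hF : Fintype.card F = 2 ^ (2 * m + 1)) (a b x y : F) :
    fz m (x + a) (y + th m a * x + b) =
      fz m x y + a * y + (b + th m a * a) * x + fz m a b := by
  haveI := charTwo hF
  simp only [fz, th_add, th_mul, th_th hF]
  grind

lemma fz_scale (hF : Fintype.card F = 2 ^ (2 * m + 1)) (k x y : F) :
    fz m (k * x) (th m k * k * y) = th m k * k ^ 2 * fz m x y := by
  simp only [fz, th_mul, th_th hF]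
  ring

/-- The inversion `(z, y, x, 1) ↦ (1, x, y, z)` preserves the point set. -/
lemma fz_invert (hF : Fintype.card F = 2 ^ (2 * m + 1)) {x y : F} (hz : fz m x y ≠ 0) :
    fz m (y / fz m x y) (x / fz m x y) = 1 / fz m x y := by
  haveI := charTwo hF
  have htz : th m (fz m x y) = th m x * th m y + x ^ 2 * th m x ^ 2 + y ^ 2 := by
    simp only [fz, th_add, th_mul, th_th hF, th_pow]
  have key : x * y * th m (fz m x y) + th m y * y ^ 2 + th m x * fz m x y ^ 2 =
      fz m x y * th m (fz m x y) := by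
    rw [htz]; unfold fz; grind
  have e1 : fz m (y / fz m x y) (x / fz m x y) =
      y / fz m x y * (x / fz m x y) + th m y / th m (fz m x y) * (y / fz m x y) ^ 2 +
        th m x / th m (fz m x y) := by
    show y / fz m x y * (x / fz m x y) + th m (y / fz m x y) * (y / fz m x y) ^ 2 +
        th m (x / fz m x y) = _
    rw [th_div, th_div]
  rw [e1]
  generalize hT : th m (fz m x y) = T at key ⊢
  have hTne : T ≠ 0 := hT ▸ th_ne_zero hz
  field_simp
  linear_combination key

lemma two_lt_sigma (hm : 1 ≤ m) : 2 < 2 ^ (m + 1) :=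
  calc 2 < 2 ^ 2 := by norm_num
    _ ≤ 2 ^ (m + 1) := Nat.pow_le_pow_right (by norm_num) (by omega)

lemma sigma_add_two_lt (hm : 1 ≤ m) : 2 ^ (m + 1) + 2 < 2 ^ (2 * m + 1) := by
  have h1 : 2 ^ (m + 1) ≤ 2 ^ (2 * m) := Nat.pow_le_pow_right (by norm_num) (by omega)
  have h2 := two_lt_sigma hm
  rw [pow_succ 2 (2 * m)]
  omega

open Polynomial in
/-- The functions `x^(th+2), x^th, x^2, x` are linearly independent. -/
lemma coeffs_zero (hm : 1 ≤ m) (hF : Fintype.card F = 2 ^ (2 * m + 1)) {c₁ c₂ c₃ c₄ : F}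
    (h : ∀ x : F, c₁ * (th m x * x ^ 2) + c₂ * th m x + c₃ * x ^ 2 + c₄ * x = 0) :
    c₁ = 0 ∧ c₂ = 0 ∧ c₃ = 0 ∧ c₄ = 0 := by
  have h2 := two_lt_sigma hm
  have h3 := sigma_add_two_lt hm
  generalize hs : 2 ^ (m + 1) = s at h2 h3
  set P : F[X] := C c₁ * X ^ (s + 2) + C c₂ * X ^ s + C c₃ * X ^ 2 + C c₄ * X ^ 1 with hP
  have hdeg : P.natDegree < Fintype.card F := by
    rw [hF]
    refine lt_of_le_of_lt ?_ h3
    refine natDegree_add_le_of_degree_le (natDegree_add_le_of_degree_le
      (natDegree_add_le_of_degree_le ?_ ?_) ?_) ?_ <;>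
      exact (natDegree_C_mul_X_pow_le _ _).trans (by omega)
  have hP0 : P = 0 := by
    refine eq_zero_of_natDegree_lt_card_of_eval_eq_zero P (f := id) Function.injective_id
      (fun x => ?_) hdeg
    have := h x
    rw [th, hs] at this
    simp only [hP, eval_add, eval_mul, eval_C, eval_pow, eval_X, id_eq, pow_one, pow_add]
    exact this
  have e : ∀ n, P.coeff n = 0 := fun n => by simp [hP0]
  have e1 := e (s + 2); have e2 := e s; have e3 := e 2; have e4 := e 1
  simp only [hP, coeff_add, coeff_C_mul_X_pow] at e1 e2 e3 e4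
  simp [show s ≠ 0 by omega] at e1
  simp [show s ≠ 2 by omega, show s ≠ 1 by omega] at e2
  simp [show (2 : ℕ) ≠ s by omega, show s ≠ 0 by omega] at e3
  simp [show (1 : ℕ) ≠ s by omega] at e4
  exact ⟨e1, e2, e3, e4⟩

/-- Some element is not fixed by `th`. -/
lemma exists_th_ne (hm : 1 ≤ m) (hF : Fintype.card F = 2 ^ (2 * m + 1)) :
    ∃ x : F, th m x ≠ x := by
  by_contra h
  push Not at h
  obtain ⟨-, hc, -, -⟩ := coeffs_zero hm hF (c₁ := (0 : F)) (c₂ := 1) (c₃ := 0) (c₄ := -1)
    (fun x => by rw [h x]; ring)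
  exact one_ne_zero hc

lemma exists_ne_zero_one (hm : 1 ≤ m) (hF : Fintype.card F = 2 ^ (2 * m + 1)) :
    ∃ x : F, x ≠ 0 ∧ x ≠ 1 := by
  obtain ⟨x, hx⟩ := exists_th_ne hm hF
  exact ⟨x, fun h => hx (by simp [h]), fun h => hx (by simp [h])⟩

end finite

end Cfsg.Agent.Suzuki
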