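import Cfsg.Agent.Lib.Suzuki.Tori

/-!
# Consequences: CN-group, odd Sylow subgroups, tori, the partition, real 2-elements

`centralizer_cases`, `isCN`, `sylow_odd_cyclic`, `exceptional_subgroups`, `partition_unique`,
`real_iff_involution`.
-/

set_option autoImplicit false
set_option linter.style.haveILetI false

namespace Cfsg.Agent.Suzuki

open Cfsg
open scoped Matrix

variable {F : Type*} [Field F] {m : ℕ} [Fintype F]
variable (hm : 1 ≤ m) (hF : Fintype.card F = 2 ^ (2 * m + 1))

lemma map_conj_iff {G : Type*} [Group G] (H : Subgroup G) (s z : G) :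
    z ∈ H.map (MulAut.conj s).toMonoidHom ↔ s⁻¹ * z * s ∈ H := by
  rw [Subgroup.mem_map_equiv, MulAut.conj_symm_apply]

lemma card_map_conj {G : Type*} [Group G] (H : Subgroup G) (s : G) :
    Nat.card (H.map (MulAut.conj s).toMonoidHom) = Nat.card H :=
  (Nat.card_congr (H.equivMapOfInjective _ (MulAut.conj s).injective).toEquiv).symm

include hm hF in
/-- The centraliser of a non-identity element: inside a conjugate of the unipotent subgroup, or
cyclic of one of the three torus orders. -/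
theorem centralizer_cases {g : Sz F m} (hg : g ≠ 1) :
    (∃ s : Sz F m, Subgroup.centralizer {g} ≤ (uSub hF).map (MulAut.conj s).toMonoidHom) ∨
    (IsCyclic (Subgroup.centralizer {g}) ∧ g ∉ conjSet (uSub hF) ∧
      Nat.card (Subgroup.centralizer {g}) ∈
        ({2 ^ (2 * m + 1) - 1, torusA m, torusB m} : Set ℕ)) := by
  rcases mem_cases hm hF hg with ⟨⟨s, c, ⟨a, b, rfl⟩, hc1, rfl⟩, -, -⟩ | ⟨hu, ⟨s, c, hc, hc1, rfl⟩, -⟩ |
      ⟨hu, -, hf⟩
  · left
    refine ⟨s, fun z hz => (map_conj_iff _ _ _).mpr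
      (centralizer_tSz_le hm hF (fun h => hc1 ((tSz_eq_one_iff hF).mpr h)) ?_)⟩
    rw [centralizer_conj hm hF (x := s), show s * (s⁻¹ * z * s) * s⁻¹ = z by group]
    exact hz
  · right
    obtain ⟨k, rfl⟩ := (mem_dSub hF).mp hc
    have hk : k ≠ 1 := fun h => hc1 (by rw [h, dSz_one])
    have hC : Subgroup.centralizer {s * dSz hF k * s⁻¹} =
        (dSub hF).map (MulAut.conj s).toMonoidHom := by
      ext z
      rw [map_conj_iff, ← centralizer_dSz hm hF hk,
        @centralizer_conj F _ m _ hm hF (dSz hF k) s (s⁻¹ * z * s),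
        show s * (s⁻¹ * z * s) * s⁻¹ = z by group]
    haveI hcyc : IsCyclic (dSub hF) :=
      isCyclic_of_surjective (dHom hF).rangeRestrict (dHom hF).rangeRestrict_surjective
    refine ⟨?_, hu, ?_⟩
    · rw [hC]
      exact isCyclic_of_surjective _
        ((dSub hF).equivMapOfInjective _ (MulAut.conj s).injective).surjective
    · rw [hC, card_map_conj, card_dSub]
      exact Or.inl rfl
  · right
    exact ⟨cyclic_centralizer_of_fpf hm hF hf, hu, Or.inr (torus_data hm hF hf).1⟩

include hm hF in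
/-- The Suzuki group is a CN-group. -/
theorem isCN : IsCNGroup (Sz F m) := by
  intro g hg
  rcases centralizer_cases hm hF hg with ⟨s, hs⟩ | ⟨hc, -, -⟩
  · haveI : Fact (Nat.Prime 2) := ⟨Nat.prime_two⟩
    exact (((isPGroup_uSub hF).map _).to_le hs).isNilpotent
  · haveI := hc
    letI := IsCyclic.commGroup (α := Subgroup.centralizer {g})
    infer_instance

include hm hF in
/-- Odd Sylow subgroups are cyclic. -/
theorem sylow_odd_cyclic {p : ℕ} [Fact p.Prime] (hp : p ≠ 2) (P : Sylow p (Sz F m)) :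
    IsCyclic P := by
  rcases subsingleton_or_nontrivial P with h | h
  · exact isCyclic_of_subsingleton
  haveI := P.isPGroup'.center_nontrivial
  obtain ⟨⟨z, hz⟩, hz1⟩ := exists_ne (1 : Subgroup.center P)
  have hz1' : (z : Sz F m) ≠ 1 := fun h => hz1 (Subtype.ext (Subtype.ext h))
  have hle : (P : Subgroup (Sz F m)) ≤ Subgroup.centralizer {(z : Sz F m)} := fun y hy => by
    rw [Subgroup.mem_centralizer_singleton_iff]
    exact congrArg Subtype.val (Subgroup.mem_center_iff.mp hz ⟨y, hy⟩)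
  rcases centralizer_cases hm hF hz1' with ⟨s, hs⟩ | ⟨hc, -, -⟩
  · exfalso
    haveI : Fact (Nat.Prime 2) := ⟨Nat.prime_two⟩
    have h2 : IsPGroup 2 (P : Subgroup (Sz F m)) := ((isPGroup_uSub hF).map _).to_le (hle.trans hs)
    have hbot := P.isPGroup'.disjoint_of_ne p 2 hp _ _ h2
    rw [disjoint_self] at hbot
    exact hz1' (Subgroup.mem_bot.mp (hbot ▸ z.2))
  · haveI := hc
    exact isCyclic_of_injective (Subgroup.inclusion hle) (Subgroup.inclusion_injective hle)

include hm hF in
/-- The exceptional cyclic subgroups. -/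
theorem exceptional_subgroups :
    ∀ k ∈ ({2 ^ (2 * m + 1) + 2 ^ (m + 1) + 1, 2 ^ (2 * m + 1) - 2 ^ (m + 1) + 1} : Set ℕ),
      ∃ U : Subgroup (Sz F m), IsCyclic U ∧ Nat.card U = k ∧
        (∀ u ∈ U, u ≠ 1 → Subgroup.centralizer {u} = U) ∧
        Nat.card (Subgroup.normalizer (U : Set (Sz F m))) = 4 * k := by
  intro k hk
  obtain ⟨g, hg, hcard⟩ : ∃ g : Sz F m, FPF g ∧ Nat.card (torus g) = k := by
    obtain ⟨hA, hB⟩ := exists_torus hm hF
    rcases hk with rfl | rfl
    · exact hA
    · exact hB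
  exact ⟨torus g, cyclic_centralizer_of_fpf hm hF hg, hcard,
    fun u hu h1 => centralizer_eq_of_mem hm hF hg hu h1,
    by rw [(torus_data hm hF hg).2, hcard]⟩

lemma coprime_orders (m : ℕ) :
    Nat.Coprime (2 ^ (2 * m + 1) - 1) (torusA m) ∧ Nat.Coprime (2 ^ (2 * m + 1) - 1) (torusB m) ∧
      Nat.Coprime (torusA m) (torusB m) := by
  have h := coprime_pred (2 ^ (2 * m + 1)) two_dvd_q
  rw [← torusA_mul_torusB] at h
  refine ⟨h.coprime_mul_right_right, h.coprime_mul_left_right, ?_⟩
  have hodd : ¬ 2 ∣ torusA m := by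
    intro h2
    have : 2 ∣ 2 ^ (m + 1) := dvd_pow_self 2 (by omega)
    have := two_dvd_q (m := m)
    unfold torusA at h2
    omega
  refine Nat.coprime_of_dvd fun p hp ha hb => ?_
  have hsum : p ∣ 2 * (2 ^ (2 * m + 1) + 1) := torusA_add_torusB m ▸ dvd_add ha hb
  have hp2 : p ≠ 2 := fun e => hodd (e ▸ ha)
  have h1 : p ∣ 2 ^ (2 * m + 1) + 1 :=
    (hp.dvd_mul.mp hsum).resolve_left fun e =>
      hp2 ((Nat.prime_dvd_prime_iff_eq hp Nat.prime_two).mp e)
  have hpq : p ∣ (2 ^ (2 * m + 1)) ^ 2 + 1 := torusA_mul_torusB m ▸ dvd_mul_of_dvd_left ha _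
  refine hp2 ((Nat.prime_dvd_prime_iff_eq hp Nat.prime_two).mp ?_)
  generalize 2 ^ (2 * m + 1) = q at h1 hpq
  have h1' := Int.natCast_dvd_natCast.mpr h1
  have hpq' := Int.natCast_dvd_natCast.mpr hpq
  push_cast at h1' hpq'
  rw [show (q : ℤ) ^ 2 + 1 = ((q : ℤ) + 1) * ((q : ℤ) - 1) + 2 by ring] at hpq'
  exact Int.natCast_dvd_natCast.mp ((dvd_add_right (dvd_mul_of_dvd_left h1' _)).mp hpq')

include hm hF in
/-- The partition by Sylow 2-subgroups and tori. -/
theorem partition_unique {g : Sz F m} (hg : g ≠ 1) :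
    ∃! U : Subgroup (Sz F m),
      ((∃ P : Sylow 2 (Sz F m), U = (P : Subgroup (Sz F m))) ∨
      (IsCyclic U ∧ Nat.card U ∈
        ({2 ^ (2 * m + 1) - 1, torusA m, torusB m} : Set ℕ))) ∧ g ∈ U := by
  haveI : Fact (Nat.Prime 2) := ⟨Nat.prime_two⟩
  -- a Sylow 2-subgroup through a non-identity element
  have sylow_mem : ∀ (P : Sylow 2 (Sz F m)), g ∈ (P : Subgroup (Sz F m)) →
      ∃ s : Sz F m, (P : Subgroup (Sz F m)) = (uSub hF).map (MulAut.conj s).toMonoidHom ∧
        g ∈ conjSet (uSub hF) := by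
    intro P hP
    obtain ⟨s, hs⟩ := MulAction.exists_smul_eq (Sz F m) (uSylow hm hF) P
    have e : (P : Subgroup (Sz F m)) = (uSub hF).map (MulAut.conj s).toMonoidHom := by
      rw [← hs, Sylow.coe_subgroup_smul]; rfl
    refine ⟨s, e, s, s⁻¹ * g * s, ?_, ?_, by group⟩
    · rw [e, map_conj_iff] at hP; exact hP
    · exact fun h => hg (by
        calc g = s * (s⁻¹ * g * s) * s⁻¹ := by group
          _ = 1 := by rw [h, mul_one, mul_inv_cancel])
  -- a cyclic subgroup of torus order through `g`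
  have cyc_le : ∀ V : Subgroup (Sz F m), IsCyclic V → g ∈ V →
      V ≤ Subgroup.centralizer {g} := by
    intro V hV hgV y hy
    rw [Subgroup.mem_centralizer_singleton_iff]
    letI := IsCyclic.commGroup (α := V)
    exact congrArg Subtype.val (mul_comm (⟨y, hy⟩ : V) ⟨g, hgV⟩)
  by_cases hu : g ∈ conjSet (uSub hF)
  · obtain ⟨s, c, hc, hc1, hgc⟩ := id hu
    refine ⟨(s • uSylow hm hF : Sylow 2 (Sz F m)), ⟨Or.inl ⟨_, rfl⟩, ?_⟩, ?_⟩
    · rw [Sylow.coe_subgroup_smul]
      show g ∈ (uSub hF).map (MulAut.conj s).toMonoidHom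
      rw [map_conj_iff, hgc, show s⁻¹ * (s * c * s⁻¹) * s = c by group]
      exact hc
    · rintro V ⟨hV | ⟨hcyc, hcard⟩, hgV⟩
      · obtain ⟨P, rfl⟩ := hV
        obtain ⟨t, ht, -⟩ := sylow_mem P hgV
        rw [ht, map_conj_iff] at hgV
        rw [ht, Sylow.coe_subgroup_smul]
        show _ = (uSub hF).map (MulAut.conj s).toMonoidHom
        have hts : s⁻¹ * t ∈ Subgroup.normalizer (uSub hF : Set (Sz F m)) := by
          refine ti_uSub hm hF _ (t⁻¹ * g * t) hgV (fun h => hg (by
            calc g = t * (t⁻¹ * g * t) * t⁻¹ := by group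
              _ = 1 := by rw [h, mul_one, mul_inv_cancel])) ?_
          rw [hgc, show s⁻¹ * t * (t⁻¹ * (s * c * s⁻¹) * t) * (s⁻¹ * t)⁻¹ = c by group]
          exact hc
        ext z
        rw [map_conj_iff, map_conj_iff, (Subgroup.mem_normalizer_iff.mp hts (t⁻¹ * z * t))]
        rw [show s⁻¹ * t * (t⁻¹ * z * t) * (s⁻¹ * t)⁻¹ = s⁻¹ * z * s by group]
      · exfalso
        rcases centralizer_cases hm hF hg with ⟨t, ht⟩ | ⟨-, hnu, -⟩
        · have hd := Subgroup.card_dvd_of_le ((cyc_le V hcyc hgV).trans ht)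
          rw [card_map_conj, card_uSub] at hd
          have hV1 : Nat.card V ≠ 1 := fun h =>
            hg (Subgroup.mem_bot.mp (Subgroup.card_eq_one.mp h ▸ hgV))
          have hcop : (Nat.card V).Coprime ((2 ^ (2 * m + 1)) ^ 2) := by
            apply Nat.Coprime.pow_right
            have hq1 : 1 ≤ 2 ^ (2 * m + 1) := Nat.one_le_pow _ _ (by norm_num)
            rcases hcard with h | h | h
            · rw [h]; exact ((Nat.coprime_self_sub_left hq1).mpr (Nat.coprime_one_left _))
            all_goals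
              apply Nat.Coprime.pow_right
              rw [h, Nat.coprime_two_right]
              have : 2 ∣ 2 ^ (m + 1) := dvd_pow_self 2 (by omega)
              have := two_dvd_q (m := m)
              have := sigma_le m
              rw [Nat.odd_iff]
              simp only [torusA, torusB]
              omega
          exact hV1 (Nat.eq_one_of_dvd_coprimes hcop dvd_rfl hd)
        · exact hnu hu
  · rcases centralizer_cases hm hF hg with ⟨t, ht⟩ | ⟨hcyc, -, hcard⟩
    · exfalso
      refine hu ⟨t, t⁻¹ * g * t,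
        (map_conj_iff _ _ _).mp (ht (Subgroup.mem_centralizer_singleton_iff.mpr rfl)), ?_,
        by group⟩
      exact fun h => hg (by
        calc g = t * (t⁻¹ * g * t) * t⁻¹ := by group
          _ = 1 := by rw [h, mul_one, mul_inv_cancel])
    · refine ⟨Subgroup.centralizer {g}, ⟨Or.inr ⟨hcyc, hcard⟩,
        Subgroup.mem_centralizer_singleton_iff.mpr rfl⟩, ?_⟩
      rintro V ⟨hV | ⟨hcycV, hcardV⟩, hgV⟩
      · obtain ⟨P, rfl⟩ := hV
        exact absurd (sylow_mem P hgV).choose_spec.2 hu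
      · have hle := cyc_le V hcycV hgV
        refine Subgroup.eq_of_le_of_card_ge hle (le_of_eq ?_)
        have hd := Subgroup.card_dvd_of_le hle
        have hV1 : Nat.card V ≠ 1 := fun h =>
          hg (Subgroup.mem_bot.mp (Subgroup.card_eq_one.mp h ▸ hgV))
        obtain ⟨c1, c2, c3⟩ := coprime_orders m
        simp only [Set.mem_insert_iff, Set.mem_singleton_iff] at hcard hcardV
        generalize Nat.card V = v at hd hV1 hcardV ⊢
        generalize Nat.card (Subgroup.centralizer {g}) = c at hd hcard ⊢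
        rcases hcard with rfl | rfl | rfl <;> rcases hcardV with rfl | rfl | rfl <;>
          first
          | rfl
          | exact absurd (Nat.eq_one_of_dvd_coprimes c1 dvd_rfl hd) hV1
          | exact absurd (Nat.eq_one_of_dvd_coprimes c2 dvd_rfl hd) hV1
          | exact absurd (Nat.eq_one_of_dvd_coprimes c3 dvd_rfl hd) hV1
          | exact absurd (Nat.eq_one_of_dvd_coprimes c1.symm dvd_rfl hd) hV1
          | exact absurd (Nat.eq_one_of_dvd_coprimes c2.symm dvd_rfl hd) hV1
          | exact absurd (Nat.eq_one_of_dvd_coprimes c3.symm dvd_rfl hd) hV1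

include hm in
/-- An element of order four of the unipotent subgroup is not real. -/
lemma real_uSub {c : Sz F m} (hc : c ∈ uSub hF) (h : IsConj c c⁻¹) : c ^ 2 = 1 := by
  haveI := charTwo hF
  obtain ⟨a, b, rfl⟩ := hc
  rcases eq_or_ne a 0 with rfl | ha
  · rw [sq, tSz_mul, tSz_eq_one_iff]; constructor <;> simp <;> grind
  exfalso
  obtain ⟨x, hx⟩ := isConj_iff.mp h
  rw [tSz_inv] at hx
  have hfix : x • suzukiPointInfinity F = suzukiPointInfinity F := by
    have hn := ti_uSub hm hF x _ (tSz_mem_uSub hF a b)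
      (fun e => ha ((tSz_eq_one_iff hF).mp e).1) (hx ▸ tSz_mem_uSub hF _ _)
    rw [normalizer_uSub hm hF] at hn
    exact hn
  obtain ⟨c, d, k, rfl⟩ := exists_tSz_dSz_of_fix hm hF hfix
  rw [mul_inv_eq_iff_eq_mul] at hx
  have h1 : ∀ u v : F, tSz hF u v = tSz hF u v * dSz hF 1 := fun u v => by rw [dSz_one, mul_one]
  rw [h1 a b, h1 a (b + th m a * a), tSz_dSz_mul, tSz_dSz_mul, one_mul, mul_one] at hx
  obtain ⟨e1, e2⟩ := tSz_inj hF (mul_right_cancel hx)
  simp only [Units.val_one, one_mul, th_one, mul_one] at e1 e2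
  have hk : (k : F) = 1 := by
    have e : (k : F) * a = a := by grind
    exact (mul_eq_right₀ ha).mp e
  simp only [hk, th_one, one_mul] at e2
  -- `t = c / a` satisfies `t ^ th = t + 1`
  apply th_eq_add_one hF (t := c / a)
  rw [th_div]
  have hta := th_ne_zero (m := m) ha
  field_simp
  grind

include hm hF in
/-- A non-identity element of a Sylow 2-subgroup is real iff it is an involution. -/
theorem real_iff_involution (P : Sylow 2 (Sz F m)) {g : Sz F m}
    (hg : g ∈ (P : Subgroup (Sz F m))) (h1 : g ≠ 1) : IsConj g g⁻¹ ↔ orderOf g = 2 := by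
  haveI : Fact (Nat.Prime 2) := ⟨Nat.prime_two⟩
  constructor
  · intro h
    refine orderOf_eq_prime ?_ h1
    obtain ⟨s, hs⟩ := MulAction.exists_smul_eq (Sz F m) (uSylow hm hF) P
    rw [← hs, Sylow.coe_subgroup_smul] at hg
    change g ∈ (uSub hF).map (MulAut.conj s).toMonoidHom at hg
    obtain ⟨c, hc, rfl⟩ := hg
    have hc2 : c ^ 2 = 1 := by
      refine real_uSub hm hF hc ?_
      rw [← map_inv] at h
      obtain ⟨y, hy⟩ := isConj_iff.mp h
      refine isConj_iff.mpr ⟨s⁻¹ * y * s, ?_⟩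
      simp only [MulEquiv.coe_toMonoidHom, MulAut.conj_apply] at hy
      calc s⁻¹ * y * s * c * (s⁻¹ * y * s)⁻¹ = s⁻¹ * (y * (s * c * s⁻¹) * y⁻¹) * s := by group
        _ = c⁻¹ := by rw [hy]; group
    rw [← map_pow, hc2, map_one]
  · intro h
    have : g⁻¹ = g := inv_eq_of_mul_eq_one_right (by rw [← sq, ← h, pow_orderOf_eq_one])
    rw [this]

end Cfsg.Agent.Suzuki
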