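import Cfsg.Agent.Lib.Suzuki.Parts
import Cfsg.Agent.Lib.Suzuki.Borel
import Cfsg.Agent.Lib.Schur.Basic
import Cfsg.Agent.Lib.SLTwoMult.Basic
import Cfsg.Prelude.Def_KGroupFacts

/-!
# The multiplier of `Sz(q)`, `q ≥ 32`, is trivial

`alternating_zero`, `pairing_zero` (no torus-invariant pairings), `twoPart_trivial`,
`hasCyclicSchurMultiplier_sz`.
-/

set_option autoImplicit false
set_option linter.style.haveILetI false

namespace Cfsg.Agent.Suzuki

open Cfsg
open scoped Matrix commutatorElement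

variable {F : Type*} [Field F] [Fintype F] {m : ℕ}
variable (hF : Fintype.card F = 2 ^ (2 * m + 1))

include hF in
lemma sq_add_add_one_ne_zero (x : F) : x ^ 2 + x + 1 ≠ 0 := by
  haveI := charTwo hF
  intro h
  have h3 : x ^ 3 = 1 := by grind
  have hx : x ≠ 0 := fun h0 => by simp [h0] at h
  have hd : orderOf (Units.mk0 x hx) ∣ 3 := orderOf_dvd_of_pow_eq_one (Units.ext (by simpa using h3))
  have hd' : orderOf (Units.mk0 x hx) ∣ 2 ^ (2 * m + 1) - 1 := by
    rw [← hF, ← Nat.card_eq_fintype_card, ← Nat.card_units]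
    exact orderOf_dvd_natCard _
  rcases (Nat.dvd_prime Nat.prime_three).mp hd with h1 | h1
  · have := congrArg Units.val (orderOf_eq_one_iff.mp h1)
    simp at this
    subst this
    grind
  · rw [h1] at hd'
    have h4 : (2 ^ (2 * m + 1)) % 3 = 2 := by
      rw [pow_succ, pow_mul, Nat.mul_mod, Nat.pow_mod]; norm_num
    have h5 : 1 ≤ 2 ^ (2 * m + 1) := Nat.one_le_two_pow
    omega

include hF in
/-- There is no alternating biadditive pairing invariant under all scalars. -/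
theorem alternating_zero (hm : 1 ≤ m) {A : Type*} [AddCommGroup A] (γ : F → F → A)
    (hl : ∀ a a' b, γ (a + a') b = γ a b + γ a' b) (hr : ∀ a b b', γ a (b + b') = γ a b + γ a b')
    (halt : ∀ a, γ a a = 0) (hinv : ∀ k : Fˣ, ∀ a b, γ ((k : F) * a) (k * b) = γ a b) (a b : F) :
    γ a b = 0 := by
  haveI := charTwo hF
  obtain ⟨f, hf⟩ : ∃ f : F → A, ∀ x, f x = γ 1 x := ⟨_, fun _ => rfl⟩
  have hadd : ∀ u v, f (u + v) = f u + f v := fun u v => by simp only [hf, hr]
  have hf0 : f 0 = 0 := by have := hadd 0 0; rw [add_zero] at this; exact left_eq_add.mp this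
  have hgf : ∀ a b, a ≠ 0 → γ a b = f (b / a) := by
    intro a b ha
    have := hinv (Units.mk0 a ha) 1 (b / a)
    rw [Units.val_mk0, mul_one, mul_div_cancel₀ b ha] at this
    rw [this, hf]
  obtain ⟨x, hx0, hx1⟩ := exists_ne_zero_one hm hF
  have hx1' : 1 + x ≠ 0 := fun h => hx1 (by grind)
  have hz : ∀ s, f ((x ^ 2 + x + 1) * s) = 0 := by
    intro s
    have h := hl 1 x (x * (1 + x) * s)
    rw [hgf _ _ hx1', hgf _ _ one_ne_zero, hgf _ _ hx0, div_one] at h
    have e1 : x * (1 + x) * s / (1 + x) = x * s := by field_simp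
    have e2 : x * (1 + x) * s / x = x * s + s := by field_simp; ring
    have e3 : x * (1 + x) * s = x * s + x ^ 2 * s := by ring
    rw [e1, e2, e3, hadd, hadd] at h
    rw [add_mul, add_mul, one_mul, hadd, hadd]
    have : f (x ^ 2 * s) + f (x * s) + f s = (f (x * s) + f (x ^ 2 * s) + (f (x * s) + f s)) - f (x * s) := by
      abel
    rw [this, ← h, sub_self]
  have hall : ∀ u, f u = 0 := fun u => by
    have := hz (u / (x ^ 2 + x + 1))
    rwa [mul_div_cancel₀ u (sq_add_add_one_ne_zero hF x)] at this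
  rcases eq_or_ne a 0 with rfl | ha
  · have := hl 0 0 b
    rw [add_zero] at this
    exact left_eq_add.mp this
  · rw [hgf a b ha, hall]

open Polynomial in
include hF in
/-- There is no biadditive pairing invariant under the torus, for `q ≥ 32`. -/
theorem pairing_zero (hm : 2 ≤ m) {A : Type*} [AddCommGroup A] (β : F → F → A)
    (hl : ∀ a a' b, β (a + a') b = β a b + β a' b) (hr : ∀ a b b', β a (b + b') = β a b + β a b')
    (hinv : ∀ k : Fˣ, ∀ a b, β (th m (k : F) * k * a) (k * b) = β a b) (a b : F) :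
    β a b = 0 := by
  haveI := charTwo hF
  obtain ⟨f, hf⟩ : ∃ f : F → A, ∀ x, f x = β 1 x := ⟨_, fun _ => rfl⟩
  have hadd : ∀ u v, f (u + v) = f u + f v := fun u v => by simp only [hf, hr]
  have hgf : ∀ k b, k ≠ 0 → β (th m k * k) b = f (b / k) := by
    intro k b hk
    have := hinv (Units.mk0 k hk) 1 (b / k)
    rw [Units.val_mk0, mul_one, mul_div_cancel₀ b hk] at this
    rw [this, hf]
  have hb0 : ∀ b, β 0 b = 0 := fun b => by
    have := hl 0 0 b; rw [add_zero] at this; exact left_eq_add.mp this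
  suffices hall : ∀ u, f u = 0 by
    obtain ⟨k, rfl⟩ := (thSucc_bijective hF).2 a
    rcases eq_or_ne k 0 with rfl | hk
    · simp [hb0]
    · simp only
      rw [hgf k b hk, hall]
  by_contra hne
  push Not at hne
  obtain ⟨u₀, hu₀⟩ := hne
  -- the inverse of `k ↦ k^(θ+1)`, inverted, is additive
  have key : ∀ k l w : F, k ≠ 0 → l ≠ 0 → w ≠ 0 → th m k * k + th m l * l = th m w * w →
      w⁻¹ = k⁻¹ + l⁻¹ := by
    intro k l w hk hl' hw he
    by_contra hc
    obtain ⟨d, hd, hd0⟩ : ∃ d, d = w⁻¹ + (k⁻¹ + l⁻¹) ∧ d ≠ 0 :=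
      ⟨_, rfl, fun h => hc (by grind)⟩
    apply hu₀
    obtain ⟨c, hc'⟩ : ∃ c, c = u₀ / d := ⟨_, rfl⟩
    have h1 := hl (th m k * k) (th m l * l) c
    rw [he, hgf w c hw, hgf k c hk, hgf l c hl'] at h1
    have hu : u₀ = c / w + (c / k + c / l) := by
      rw [div_eq_mul_inv c w, div_eq_mul_inv c k, div_eq_mul_inv c l, ← mul_add, ← mul_add, ← hd,
        hc', div_mul_cancel₀ _ hd0]
    rw [hu, hadd, hadd, h1, ← hadd, ← hadd, show c / k + c / l + (c / k + c / l) = 0 by grind]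
    have := hadd 0 0
    rw [add_zero] at this
    exact left_eq_add.mp this
  -- a polynomial identity
  have hE : ∀ y : F, (y ^ 2 + y) * ((th m y * y) * (th m y * y) +
      (th m y * y) * (th m y + y + 1) + (th m y + y + 1)) = 0 := by
    intro y
    rcases eq_or_ne y 0 with rfl | hy0
    · simp
    rcases eq_or_ne y 1 with rfl | hy1
    · simp; grind
    obtain ⟨w, hw⟩ : ∃ w, w = y⁻¹ + 1 := ⟨_, rfl⟩
    have hw0 : w ≠ 0 := fun h => hy1 (by
      have : y⁻¹ = 1 := by grind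
      rwa [inv_eq_one] at this)
    obtain ⟨v, hv⟩ : ∃ v, v = w⁻¹ := ⟨_, rfl⟩
    obtain ⟨x, hx'⟩ := (thSucc_bijective hF).2 (th m y * y + 1)
    simp only at hx'
    have hx0 : x ≠ 0 := by
      rintro rfl
      rw [th_zero, zero_mul] at hx'
      exact hy1 (thSucc_eq_one hF (by grind))
    have h1 := key y 1 x hy0 one_ne_zero hx0 (by rw [th_one, one_mul]; exact hx'.symm)
    rw [inv_one] at h1
    -- `x = y / (y + 1)`
    have hy1' : y + 1 ≠ 0 := fun h => hy1 (by grind)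
    have hxy : x * (y + 1) = y := by
      field_simp at h1
      grind
    have h2 : th m x * (th m y + 1) = th m y := by
      rw [← th_one (F := F) (m := m), ← th_add, ← th_mul, hxy]
    have h3 : (th m y * y + 1) * ((th m y + 1) * (y + 1)) = th m y * y := by
      rw [← hx']
      calc th m x * x * ((th m y + 1) * (y + 1)) = (th m x * (th m y + 1)) * (x * (y + 1)) := by ring
        _ = th m y * y := by rw [h2, hxy]
    grind
  obtain ⟨s, hs⟩ : ∃ s, s = 2 ^ (m + 1) := ⟨_, rfl⟩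
  have hs2 : 4 < s := by
    rw [hs]
    calc 4 < 2 ^ 3 := by norm_num
      _ ≤ 2 ^ (m + 1) := Nat.pow_le_pow_right (by norm_num) (by omega)
  have hdeg : 2 * s + 4 < Fintype.card F := by
    rw [hF, hs]
    have h1 : 2 * 2 ^ (m + 1) = 2 ^ (m + 2) := by ring
    have h2 : 2 ^ (m + 2) ≤ 2 ^ (2 * m) := Nat.pow_le_pow_right (by norm_num) (by omega)
    have h3 : 2 ^ 4 ≤ 2 ^ (2 * m) := Nat.pow_le_pow_right (by norm_num) (by omega)
    rw [h1, pow_succ 2 (2 * m)]
    omega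
  obtain ⟨R, hR⟩ : ∃ R : F[X], R = X ^ (2 * s + 3) + X ^ (s + 4) + X ^ (s + 3) + X ^ (s + 2) +
      X ^ 3 + X ^ 2 + X ^ (2 * s + 3) + X ^ (2 * s + 2) + X ^ (s + 3) + X ^ (s + 2) + X ^ (s + 1) +
      X ^ 2 + X ^ 1 := ⟨_, rfl⟩
  have hRd : R.natDegree < 2 * s + 4 := by
    rw [hR]
    refine lt_of_le_of_lt (b := 2 * s + 3) ?_ (by omega)
    refine natDegree_add_le_of_degree_le (natDegree_add_le_of_degree_le (natDegree_add_le_of_degree_le
      (natDegree_add_le_of_degree_le (natDegree_add_le_of_degree_le (natDegree_add_le_of_degree_le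
        (natDegree_add_le_of_degree_le (natDegree_add_le_of_degree_le (natDegree_add_le_of_degree_le
          (natDegree_add_le_of_degree_le (natDegree_add_le_of_degree_le (natDegree_add_le_of_degree_le
            ?_ ?_) ?_) ?_) ?_) ?_) ?_) ?_) ?_) ?_) ?_) ?_) ?_ <;>
      exact (natDegree_X_pow_le _).trans (by omega)
  set P : F[X] := X ^ (2 * s + 4) + R with hP
  have hd1 : P.natDegree = 2 * s + 4 := by
    rw [hP, natDegree_add_eq_left_of_natDegree_lt] <;> rw [natDegree_X_pow]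
    exact hRd
  have hP0 : P = 0 := by
    refine eq_zero_of_natDegree_lt_card_of_eval_eq_zero P (f := id) Function.injective_id
      (fun y => ?_) (hd1 ▸ hdeg)
    have := hE y
    simp only [th, ← hs] at this
    simp only [hP, hR, eval_add, eval_pow, eval_X, id_eq]
    linear_combination this
  rw [hP0, natDegree_zero] at hd1
  omega

variable {Γ : Type*} [Group Γ] {σ : Γ →* Sz F m}

lemma comm_congr (hker : σ.ker ≤ Subgroup.center Γ) {x x' y y' : Γ} (hx : σ x = σ x')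
    (hy : σ y = σ y') : ⁅x, y⁆ = ⁅x', y'⁆ := by
  obtain ⟨c, hc, rfl⟩ : ∃ c ∈ Subgroup.center Γ, x' = x * c :=
    ⟨x⁻¹ * x', hker (by rw [MonoidHom.mem_ker, map_mul, map_inv, hx, inv_mul_cancel]),
      (mul_inv_cancel_left x x').symm⟩
  obtain ⟨d, hd, rfl⟩ : ∃ d ∈ Subgroup.center Γ, y' = y * d :=
    ⟨y⁻¹ * y', hker (by rw [MonoidHom.mem_ker, map_mul, map_inv, hy, inv_mul_cancel]),
      (mul_inv_cancel_left y y').symm⟩
  rw [Subgroup.mem_center_iff] at hc hd
  simp only [commutatorElement_def]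
  calc x * y * x⁻¹ * y⁻¹ = x * y * (c * x⁻¹ * c⁻¹) * (y⁻¹) := by
        rw [← hc x⁻¹]; group
    _ = x * y * c * x⁻¹ * (c⁻¹ * y⁻¹) := by group
    _ = x * (c * y) * x⁻¹ * (c⁻¹ * y⁻¹) := by rw [mul_assoc x y c, hc y]
    _ = x * c * y * (d * x⁻¹ * d⁻¹) * (c⁻¹ * y⁻¹) := by rw [← hd x⁻¹]; group
    _ = x * c * y * d * (c⁻¹ * x⁻¹) * (d⁻¹ * y⁻¹) := by
        have e1 : x⁻¹ * d⁻¹ * c⁻¹ = c⁻¹ * x⁻¹ * d⁻¹ := by
          have := hc (x⁻¹ * d⁻¹)
          calc x⁻¹ * d⁻¹ * c⁻¹ = c⁻¹ * (c * (x⁻¹ * d⁻¹)) * c⁻¹ := by group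
            _ = c⁻¹ * x⁻¹ * d⁻¹ := by rw [← this]; group
        calc x * c * y * (d * x⁻¹ * d⁻¹) * (c⁻¹ * y⁻¹) = x * c * y * d * (x⁻¹ * d⁻¹ * c⁻¹) * y⁻¹ := by group
          _ = _ := by rw [e1]; group
    _ = x * c * (y * d) * (x * c)⁻¹ * (y * d)⁻¹ := by group

include hF in
/-- The `2`-part of a stem kernel over `Sz(q)` is trivial as soon as lifts of central and
arbitrary root elements commute. -/
theorem twoPart_trivial_of_pairing [Finite Γ] (hm : 1 ≤ m) (hσ : Cfsg.IsStemExtension σ)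
    (hpair : ∀ (b a : F) (x y : Γ), σ x = tSz hF 0 b → σ y = tSz hF a 0 → ⁅x, y⁆ = 1)
    {z : Γ} (hz : z ∈ σ.ker) (hz2 : z ^ 2 = 1) : z = 1 := by
  classical
  haveI := charTwo hF
  obtain ⟨hsur, hker, hcom⟩ := hσ
  choose L hL using fun p : F × F => hsur (tSz hF p.1 p.2)
  choose D hD using fun k : Fˣ => hsur (dSz hF k)
  have hcen : ∀ {c : Γ}, σ c = 1 → ∀ g, g * c = c * g := fun hc g =>
    Subgroup.mem_center_iff.mp (hker hc) g
  -- the preimage of the centre of the root group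
  set Zt : Subgroup Γ := (zSub hF).comap σ with hZt
  have hZtm : ∀ {g : Γ}, g ∈ Zt ↔ ∃ b, σ g = tSz hF 0 b := Iff.rfl
  have hcommz : ∀ b b', ⁅L (0, b), L (0, b')⁆ ∈ σ.ker := fun b b' => by
    rw [MonoidHom.mem_ker, map_commutatorElement, hL, hL, commutator_tSz]
    simp [tSz_zero]
  have hcommzu : ∀ b (p : F × F), ⁅L (0, b), L p⁆ ∈ σ.ker := fun b p => by
    rw [MonoidHom.mem_ker, map_commutatorElement, hL, hL, commutator_tSz]
    simp [tSz_zero]
  have hmulL : ∀ p q : F × F, σ (L p * L q) = σ (L (p.1 + q.1, p.2 + q.2 + th m p.1 * q.1)) :=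
    fun p q => by rw [map_mul, hL, hL, hL, tSz_mul]
  have hbil1 : ∀ {x x' y : Γ}, ⁅x', y⁆ ∈ σ.ker → ⁅x * x', y⁆ = ⁅x', y⁆ * ⁅x, y⁆ := by
    intro x x' y h
    have h' := hcen h x
    calc ⁅x * x', y⁆ = x * ⁅x', y⁆ * x⁻¹ * ⁅x, y⁆ := by simp only [commutatorElement_def]; group
      _ = _ := by rw [h', mul_inv_cancel_right]
  have hbil2 : ∀ {x y y' : Γ}, ⁅x, y'⁆ ∈ σ.ker → ⁅x, y * y'⁆ = ⁅x, y⁆ * ⁅x, y'⁆ := by
    intro x y y' h
    have h' := hcen h y
    calc ⁅x, y * y'⁆ = ⁅x, y⁆ * (y * ⁅x, y'⁆ * y⁻¹) := by simp only [commutatorElement_def]; group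
      _ = _ := by rw [h', mul_inv_cancel_right]
  have hconjL : ∀ (k : Fˣ) (p : F × F),
      σ (D k * L p * (D k)⁻¹) = σ (L ((k : F) * p.1, th m (k : F) * k * p.2)) := fun k p => by
    rw [map_mul, map_mul, map_inv, hL, hL, hD, mul_inv_eq_iff_eq_mul, dSz_conj_tSz]
  have hconjc : ∀ (k : Fˣ) (x y : Γ), D k * ⁅x, y⁆ * (D k)⁻¹ =
      ⁅D k * x * (D k)⁻¹, D k * y * (D k)⁻¹⁆ := fun k x y => by
    simp only [commutatorElement_def]; group
  -- step 1: the centre's preimage is abelian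
  let γ : F → F → Additive ↥σ.ker := fun b b' => Additive.ofMul ⟨⁅L (0, b), L (0, b')⁆, hcommz b b'⟩
  letI : CommGroup ↥σ.ker :=
    { (inferInstance : Group ↥σ.ker) with
      mul_comm := fun a b => Subtype.ext (hcen b.2 a.1) }
  have hγ : ∀ b b', ⁅L (0, b), L (0, b')⁆ = 1 := by
    intro b b'
    have hl : ∀ a a' c, γ (a + a') c = γ a c + γ a' c := by
      intro a a' c
      refine Additive.toMul.injective (Subtype.ext ?_)
      show ⁅L (0, a + a'), L (0, c)⁆ = ⁅L (0, a), L (0, c)⁆ * ⁅L (0, a'), L (0, c)⁆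
      rw [comm_congr hker (x' := L (0, a) * L (0, a')) (y' := L (0, c)) (by rw [hmulL]; simp) rfl,
        hbil1 (hcommz a' c), hcen (hcommz a' c)]
    have hr : ∀ a c c', γ a (c + c') = γ a c + γ a c' := by
      intro a c c'
      refine Additive.toMul.injective (Subtype.ext ?_)
      show ⁅L (0, a), L (0, c + c')⁆ = ⁅L (0, a), L (0, c)⁆ * ⁅L (0, a), L (0, c')⁆
      rw [comm_congr hker (x' := L (0, a)) (y' := L (0, c) * L (0, c')) rfl (by rw [hmulL]; simp),
        hbil2 (hcommz a c')]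
    have halt : ∀ a, γ a a = 0 := fun a =>
      Additive.toMul.injective (Subtype.ext (commutatorElement_self _))
    have hinv : ∀ k : Fˣ, ∀ a c, γ ((k : F) * a) (k * c) = γ a c := by
      intro k a c
      obtain ⟨l, hl'⟩ := (thSucc_bijective hF).2 (k : F)
      simp only at hl'
      have hl0 : l ≠ 0 := fun h => k.ne_zero (by rw [← hl', h]; simp)
      refine Additive.toMul.injective (Subtype.ext ?_)
      show ⁅L (0, (k : F) * a), L (0, (k : F) * c)⁆ = ⁅L (0, a), L (0, c)⁆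
      rw [comm_congr hker (x' := D (Units.mk0 l hl0) * L (0, a) * (D (Units.mk0 l hl0))⁻¹)
        (y' := D (Units.mk0 l hl0) * L (0, c) * (D (Units.mk0 l hl0))⁻¹)
        (by rw [hconjL]; simp [hl']) (by rw [hconjL]; simp [hl']), ← hconjc,
        hcen (hcommz a c), mul_inv_cancel_right]
    exact congrArg (fun w : Additive ↥σ.ker => (w.toMul : Γ))
      (alternating_zero hF (by omega) γ hl hr halt hinv b b')
  -- step 2: it commutes with the whole root group
  have hcz : ∀ b a c, ⁅L (0, b), L (a, c)⁆ = ⁅L (0, b), L (a, 0)⁆ := fun b a c => by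
    rw [comm_congr hker (x' := L (0, b)) (y' := L (a, 0) * L (0, c)) rfl (by rw [hmulL]; simp),
      hbil2 (hcommz b c), hγ, mul_one]
  have hβ : ∀ b (p : F × F), ⁅L (0, b), L p⁆ = 1 := by
    intro b p
    obtain ⟨p1, p2⟩ := p
    rw [hcz]
    exact hpair b p1 _ _ (hL _) (hL _)
  -- the commutator pairing on the root group
  set Ut : Subgroup Γ := (uSub hF).comap σ with hUt
  have hZc : ∀ x ∈ Zt, ∀ y ∈ Ut, x * y = y * x := by
    intro x hx y hy
    obtain ⟨b, hb⟩ := hZtm.mp hx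
    obtain ⟨a, c, hc⟩ := hy
    rw [← commutatorElement_eq_one_iff_mul_comm, ← hβ b (a, c)]
    exact comm_congr hker (hb.trans (hL (0, b)).symm) (hc.trans (hL (a, c)).symm)
  have hZU : Zt ≤ Ut := Subgroup.comap_mono (zSub_le hF)
  letI : CommGroup ↥Zt :=
    { (inferInstance : Group ↥Zt) with
      mul_comm := fun a b => Subtype.ext (hZc a.1 a.2 b.1 (hZU b.2)) }
  have hcmem : ∀ p q : F × F, ⁅L p, L q⁆ ∈ Zt := fun p q =>
    hZtm.mpr ⟨_, by rw [map_commutatorElement, hL, hL, commutator_tSz]⟩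
  have hDZ : ∀ (k : Fˣ) (x : ↥Zt), D k * x.1 * (D k)⁻¹ ∈ Zt := by
    intro k x
    obtain ⟨b, hb⟩ := hZtm.mp x.2
    exact hZtm.mpr ⟨th m (k : F) * k * b, by rw [map_mul, map_mul, map_inv, hb, hD, zSub_conj_dSz]⟩
  let τ : ↥Zt →* ↥Zt :=
    { toFun := fun x => ∏ k : Fˣ, ⟨D k * x.1 * (D k)⁻¹, hDZ k x⟩
      map_one' := Finset.prod_eq_one fun k _ => Subtype.ext (by simp)
      map_mul' := fun x y => by
        rw [← Finset.prod_mul_distrib]
        refine Finset.prod_congr rfl fun k _ => Subtype.ext ?_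
        show D k * (x.1 * y.1) * (D k)⁻¹ = D k * x.1 * (D k)⁻¹ * (D k * y.1 * (D k)⁻¹)
        group }
  have hbilU1 : ∀ x x' y : Γ, x ∈ Ut → ⁅x', y⁆ ∈ Zt → ⁅x * x', y⁆ = ⁅x', y⁆ * ⁅x, y⁆ := by
    intro x x' y hx h
    have h' := hZc _ h x hx
    calc ⁅x * x', y⁆ = x * ⁅x', y⁆ * x⁻¹ * ⁅x, y⁆ := by simp only [commutatorElement_def]; group
      _ = _ := by rw [← h', mul_inv_cancel_right]
  have hbilU2 : ∀ x y y' : Γ, y ∈ Ut → ⁅x, y'⁆ ∈ Zt → ⁅x, y * y'⁆ = ⁅x, y⁆ * ⁅x, y'⁆ := by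
    intro x y y' hy h
    have h' := hZc _ h y hy
    calc ⁅x, y * y'⁆ = ⁅x, y⁆ * (y * ⁅x, y'⁆ * y⁻¹) := by simp only [commutatorElement_def]; group
      _ = _ := by rw [← h', mul_inv_cancel_right]
  have hLU : ∀ p, L p ∈ Ut := fun p => ⟨p.1, p.2, hL p⟩
  have hca : ∀ a b c d, ⁅L (a, b), L (c, d)⁆ = ⁅L (a, 0), L (c, 0)⁆ := by
    intro a b c d
    have hzero : ∀ e (y : Γ), y ∈ Ut → ⁅L (0, e), y⁆ = 1 := fun e y hy =>
      commutatorElement_eq_one_iff_mul_comm.mpr (hZc _ (hZtm.mpr ⟨e, hL _⟩) y hy)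
    rw [comm_congr hker (x' := L (a, 0) * L (0, b)) (y' := L (c, 0) * L (0, d))
      (by rw [hmulL]; simp) (by rw [hmulL]; simp),
      hbilU1 _ _ _ (hLU _) (by rw [hzero _ _ (Subgroup.mul_mem _ (hLU _) (hLU _))]; exact Zt.one_mem),
      hzero _ _ (Subgroup.mul_mem _ (hLU _) (hLU _)), one_mul]
    have h0 : ⁅L (a, 0), L (0, d)⁆ = 1 :=
      commutatorElement_eq_one_iff_mul_comm.mpr (hZc _ (hZtm.mpr ⟨d, hL _⟩) _ (hLU _)).symm
    rw [hbilU2 _ _ _ (hLU _) (by rw [h0]; exact Zt.one_mem), h0, mul_one]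
  let ψ : F → F → Additive ↥Zt := fun a c => Additive.ofMul (τ ⟨⁅L (a, 0), L (c, 0)⁆, hcmem _ _⟩)
  have hψ : ∀ a c, τ ⟨⁅L (a, 0), L (c, 0)⁆, hcmem _ _⟩ = 1 := by
    intro a c
    have hl : ∀ a a' c, ψ (a + a') c = ψ a c + ψ a' c := by
      intro a a' c
      refine Additive.toMul.injective (show τ _ = τ _ * τ _ from ?_)
      rw [← map_mul]
      congr 1
      refine Subtype.ext ?_
      show ⁅L (a + a', 0), L (c, 0)⁆ = ⁅L (a, 0), L (c, 0)⁆ * ⁅L (a', 0), L (c, 0)⁆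
      rw [← hca (a + a') (th m a * a') c 0,
        comm_congr hker (x := L (a + a', th m a * a')) (y := L (c, 0))
          (x' := L (a, 0) * L (a', 0)) (y' := L (c, 0)) (by rw [hmulL]; simp) rfl,
        hbilU1 _ _ _ (hLU _) (hcmem _ _)]
      exact (hZc _ (hcmem _ _) _ (hZU (hcmem _ _))).symm
    have hr : ∀ a c c', ψ a (c + c') = ψ a c + ψ a c' := by
      intro a c c'
      refine Additive.toMul.injective (show τ _ = τ _ * τ _ from ?_)
      rw [← map_mul]
      congr 1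
      refine Subtype.ext ?_
      show ⁅L (a, 0), L (c + c', 0)⁆ = ⁅L (a, 0), L (c, 0)⁆ * ⁅L (a, 0), L (c', 0)⁆
      rw [← hca a 0 (c + c') (th m c * c'),
        comm_congr hker (x := L (a, 0)) (y := L (c + c', th m c * c'))
          (x' := L (a, 0)) (y' := L (c, 0) * L (c', 0)) rfl (by rw [hmulL]; simp),
        hbilU2 _ _ _ (hLU _) (hcmem _ _)]
    have halt : ∀ a, ψ a a = 0 := by
      intro a
      refine Additive.toMul.injective (show τ _ = 1 from ?_)
      rw [show (⟨⁅L (a, 0), L (a, 0)⁆, hcmem _ _⟩ : ↥Zt) = 1 from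
        Subtype.ext (commutatorElement_self _), map_one]
    have hinv : ∀ l : Fˣ, ∀ a c, ψ ((l : F) * a) (l * c) = ψ a c := by
      intro l a c
      refine Additive.toMul.injective (show τ _ = τ _ from ?_)
      refine Fintype.prod_equiv (Equiv.mulRight l) _ _ fun k => Subtype.ext ?_
      show D k * ⁅L ((l : F) * a, 0), L ((l : F) * c, 0)⁆ * (D k)⁻¹ =
        D (k * l) * ⁅L (a, 0), L (c, 0)⁆ * (D (k * l))⁻¹
      rw [hconjc, hconjc]
      exact comm_congr hker (by rw [hconjL, hconjL]; simp [mul_assoc])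
        (by rw [hconjL, hconjL]; simp [mul_assoc])
    exact congrArg Additive.toMul (alternating_zero hF (by omega) ψ hl hr halt hinv a c)
  -- conclusion
  have hidx : ¬ 2 ∣ Ut.index := by
    rw [hUt, Subgroup.index_comap_of_surjective _ hsur, ← coe_uSylow (by omega : 1 ≤ m) hF]
    haveI : Fact (Nat.Prime 2) := ⟨Nat.prime_two⟩
    exact (uSylow (by omega : 1 ≤ m) hF).not_dvd_index
  have hzU : z ∈ Ut := by
    show σ z ∈ uSub hF
    rw [MonoidHom.mem_ker.mp hz]; exact one_mem _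
  have hzc := Schur.mem_commutator_of_not_dvd_index Nat.prime_two Ut hidx hzU (hker hz) (hcom hz)
    (k := 1) (by rw [pow_one]; exact hz2)
  have hle : (commutator ↥Ut).map Ut.subtype ≤ τ.ker.map Zt.subtype := by
    rw [Subgroup.map_subtype_commutator, Subgroup.commutator_le]
    intro x hx y hy
    obtain ⟨a, b, hab⟩ := hx
    obtain ⟨c, d, hcd⟩ := hy
    have he : ⁅x, y⁆ = ⁅L (a, 0), L (c, 0)⁆ :=
      (comm_congr hker (hab.trans (hL (a, b)).symm) (hcd.trans (hL (c, d)).symm)).trans (hca a b c d)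
    exact ⟨⟨_, hcmem (a, 0) (c, 0)⟩, hψ a c, he.symm⟩
  obtain ⟨⟨w, hw⟩, hwτ, hwz⟩ := hle ⟨_, hzc, rfl⟩
  have hwz' : w = z := hwz
  subst hwz'
  have hτz : (τ ⟨w, hw⟩ : Γ) = w ^ (Fintype.card Fˣ) := by
    show ((∏ k : Fˣ, (⟨D k * w * (D k)⁻¹, hDZ k ⟨w, hw⟩⟩ : ↥Zt) : ↥Zt) : Γ) = _
    rw [Finset.prod_congr rfl (fun k _ => show (⟨D k * w * (D k)⁻¹, hDZ k ⟨w, hw⟩⟩ : ↥Zt) = ⟨w, hw⟩ from
      Subtype.ext (show D k * w * (D k)⁻¹ = w by rw [hcen hz, mul_inv_cancel_right])), Finset.prod_const, Finset.card_univ]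
    rfl
  rw [show τ ⟨w, hw⟩ = 1 from hwτ, Fintype.card_units, hF] at hτz
  refine orderOf_eq_one_iff.mp (Nat.eq_one_of_dvd_coprimes (k := orderOf w) ?_
    (orderOf_dvd_of_pow_eq_one hz2) (orderOf_dvd_of_pow_eq_one hτz.symm))
  rw [Nat.coprime_two_left]
  exact Nat.Even.sub_odd Nat.one_le_two_pow (Nat.even_pow.mpr ⟨even_two, by omega⟩) odd_one

variable (hm : 2 ≤ m)

include hm hF in
/-- The `2`-part of a stem kernel over `Sz(q)` is trivial. -/
theorem twoPart_trivial [Finite Γ] (hσ : Cfsg.IsStemExtension σ) {z : Γ} (hz : z ∈ σ.ker)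
    (hz2 : z ^ 2 = 1) : z = 1 := by
  classical
  haveI := charTwo hF
  obtain ⟨hsur, hker, hcom⟩ := id hσ
  refine twoPart_trivial_of_pairing hF (by omega) hσ (fun b a x y hx hy => ?_) hz hz2
  choose L hL using fun p : F × F => hsur (tSz hF p.1 p.2)
  choose D hD using fun k : Fˣ => hsur (dSz hF k)
  have hcen : ∀ {c : Γ}, σ c = 1 → ∀ g, g * c = c * g := fun hc g =>
    Subgroup.mem_center_iff.mp (hker hc) g
  have hK : ∀ b (p : F × F), ⁅L (0, b), L p⁆ ∈ σ.ker := fun b p => by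
    rw [MonoidHom.mem_ker, map_commutatorElement, hL, hL, commutator_tSz]
    simp [tSz_zero]
  letI : CommGroup ↥σ.ker :=
    { (inferInstance : Group ↥σ.ker) with
      mul_comm := fun a b => Subtype.ext (hcen b.2 a.1) }
  let β : F → F → Additive ↥σ.ker := fun b a => Additive.ofMul ⟨⁅L (0, b), L (a, 0)⁆, hK b _⟩
  have hmulL : ∀ p q : F × F, σ (L p * L q) = σ (L (p.1 + q.1, p.2 + q.2 + th m p.1 * q.1)) :=
    fun p q => by rw [map_mul, hL, hL, hL, tSz_mul]
  have hl : ∀ a a' c, β (a + a') c = β a c + β a' c := by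
    intro a a' c
    refine Additive.toMul.injective (Subtype.ext ?_)
    show ⁅L (0, a + a'), L (c, 0)⁆ = ⁅L (0, a), L (c, 0)⁆ * ⁅L (0, a'), L (c, 0)⁆
    rw [comm_congr hker (x' := L (0, a) * L (0, a')) (y' := L (c, 0)) (by rw [hmulL]; simp) rfl]
    have h' := hcen (hK a' (c, 0)) (L (0, a))
    calc ⁅L (0, a) * L (0, a'), L (c, 0)⁆
        = L (0, a) * ⁅L (0, a'), L (c, 0)⁆ * (L (0, a))⁻¹ * ⁅L (0, a), L (c, 0)⁆ := by
          simp only [commutatorElement_def]; group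
      _ = ⁅L (0, a'), L (c, 0)⁆ * ⁅L (0, a), L (c, 0)⁆ := by rw [h', mul_inv_cancel_right]
      _ = _ := (hcen (hK a' (c, 0)) _).symm
  have hγ : ∀ a c (p : F), ⁅L (0, a), L (p, c)⁆ = ⁅L (0, a), L (p, 0)⁆ * ⁅L (0, a), L (0, c)⁆ := by
    intro a c p
    rw [comm_congr hker (x' := L (0, a)) (y' := L (p, 0) * L (0, c)) rfl (by rw [hmulL]; simp)]
    have h' := hcen (hK a (0, c)) (L (p, 0))
    calc ⁅L (0, a), L (p, 0) * L (0, c)⁆
        = ⁅L (0, a), L (p, 0)⁆ * (L (p, 0) * ⁅L (0, a), L (0, c)⁆ * (L (p, 0))⁻¹) := by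
          simp only [commutatorElement_def]; group
      _ = _ := by rw [h', mul_inv_cancel_right]
  let γ : F → F → Additive ↥σ.ker := fun b c => Additive.ofMul ⟨⁅L (0, b), L (0, c)⁆, hK b _⟩
  have hconjL : ∀ (k : Fˣ) (p : F × F),
      σ (D k * L p * (D k)⁻¹) = σ (L ((k : F) * p.1, th m (k : F) * k * p.2)) := fun k p => by
    rw [map_mul, map_mul, map_inv, hL, hL, hD, mul_inv_eq_iff_eq_mul, dSz_conj_tSz]
  have hinvK : ∀ (k : Fˣ) (a : F) (p : F × F),
      ⁅L (0, th m (k : F) * k * a), L ((k : F) * p.1, th m (k : F) * k * p.2)⁆ = ⁅L (0, a), L p⁆ := by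
    intro k a p
    rw [comm_congr hker (x' := D k * L (0, a) * (D k)⁻¹) (y' := D k * L p * (D k)⁻¹)
      (by rw [hconjL]; simp) (by rw [hconjL]),
      show ⁅D k * L (0, a) * (D k)⁻¹, D k * L p * (D k)⁻¹⁆ = D k * ⁅L (0, a), L p⁆ * (D k)⁻¹ by
        simp only [commutatorElement_def]; group, hcen (hK a p), mul_inv_cancel_right]
  have hinv : ∀ k : Fˣ, ∀ a c, β (th m (k : F) * k * a) (k * c) = β a c := by
    intro k a c
    refine Additive.toMul.injective (Subtype.ext ?_)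
    show ⁅L (0, th m (k : F) * k * a), L ((k : F) * c, 0)⁆ = ⁅L (0, a), L (c, 0)⁆
    simpa using hinvK k a (c, 0)
  have hr : ∀ a c c', β a (c + c') = β a c + β a c' := by
    intro a c c'
    refine Additive.toMul.injective (Subtype.ext ?_)
    show ⁅L (0, a), L (c + c', 0)⁆ = ⁅L (0, a), L (c, 0)⁆ * ⁅L (0, a), L (c', 0)⁆
    have hγ0 : ∀ e : F, ⁅L (0, a), L (0, e)⁆ = 1 := by
      intro e
      have hbl : ∀ u u' v, γ (u + u') v = γ u v + γ u' v := by
        intro u u' v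
        refine Additive.toMul.injective (Subtype.ext ?_)
        show ⁅L (0, u + u'), L (0, v)⁆ = ⁅L (0, u), L (0, v)⁆ * ⁅L (0, u'), L (0, v)⁆
        rw [comm_congr hker (x' := L (0, u) * L (0, u')) (y' := L (0, v)) (by rw [hmulL]; simp) rfl]
        have h' := hcen (hK u' (0, v)) (L (0, u))
        calc ⁅L (0, u) * L (0, u'), L (0, v)⁆
            = L (0, u) * ⁅L (0, u'), L (0, v)⁆ * (L (0, u))⁻¹ * ⁅L (0, u), L (0, v)⁆ := by
              simp only [commutatorElement_def]; group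
          _ = ⁅L (0, u'), L (0, v)⁆ * ⁅L (0, u), L (0, v)⁆ := by rw [h', mul_inv_cancel_right]
          _ = _ := (hcen (hK u' (0, v)) _).symm
      have hbr : ∀ u v v', γ u (v + v') = γ u v + γ u v' := by
        intro u v v'
        refine Additive.toMul.injective (Subtype.ext ?_)
        show ⁅L (0, u), L (0, v + v')⁆ = ⁅L (0, u), L (0, v)⁆ * ⁅L (0, u), L (0, v')⁆
        rw [comm_congr hker (x' := L (0, u)) (y' := L (0, v) * L (0, v')) rfl (by rw [hmulL]; simp)]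
        have h' := hcen (hK u (0, v')) (L (0, v))
        calc ⁅L (0, u), L (0, v) * L (0, v')⁆
            = ⁅L (0, u), L (0, v)⁆ * (L (0, v) * ⁅L (0, u), L (0, v')⁆ * (L (0, v))⁻¹) := by
              simp only [commutatorElement_def]; group
          _ = _ := by rw [h', mul_inv_cancel_right]
      have halt : ∀ u, γ u u = 0 := fun u =>
        Additive.toMul.injective (Subtype.ext (commutatorElement_self _))
      have hbinv : ∀ k : Fˣ, ∀ u v, γ ((k : F) * u) (k * v) = γ u v := by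
        intro k u v
        obtain ⟨l, hl'⟩ := (thSucc_bijective hF).2 (k : F)
        simp only at hl'
        have hl0 : l ≠ 0 := fun h => k.ne_zero (by rw [← hl', h]; simp)
        refine Additive.toMul.injective (Subtype.ext ?_)
        show ⁅L (0, (k : F) * u), L (0, (k : F) * v)⁆ = ⁅L (0, u), L (0, v)⁆
        simpa [hl'] using hinvK (Units.mk0 l hl0) u (0, v)
      exact congrArg (fun w : Additive ↥σ.ker => (w.toMul : Γ))
        (alternating_zero hF (by omega) γ hbl hbr halt hbinv a e)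
    have h2 := hγ a (th m c * c') (c + c')
    rw [hγ0, mul_one, comm_congr hker (x' := L (0, a)) (y' := L (c, 0) * L (c', 0)) rfl
      (by rw [hmulL]; simp)] at h2
    rw [← h2]
    have h' := hcen (hK a (c', 0)) (L (c, 0))
    calc ⁅L (0, a), L (c, 0) * L (c', 0)⁆
        = ⁅L (0, a), L (c, 0)⁆ * (L (c, 0) * ⁅L (0, a), L (c', 0)⁆ * (L (c, 0))⁻¹) := by
          simp only [commutatorElement_def]; group
      _ = _ := by rw [h', mul_inv_cancel_right]
  rw [comm_congr hker (hx.trans (hL (0, b)).symm) (hy.trans (hL (a, 0)).symm)]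
  exact congrArg (fun w : Additive ↥σ.ker => (w.toMul : Γ)) (pairing_zero hF hm β hl hr hinv b a)

universe u

/-- The Schur multiplier of `Sz(q)`, `q ≥ 32`, is trivial. -/
theorem hasCyclicSchurMultiplier_sz {F : Type u} [Field F] [Fintype F] {m : ℕ} (hm : 2 ≤ m)
    (hF : Fintype.card F = 2 ^ (2 * m + 1)) {G : Type u} [Group G] (e : G ≃* Sz F m) :
    Cfsg.HasCyclicSchurMultiplier G 1 := by
  haveI : Finite G := Finite.of_equiv _ e.symm.toEquiv
  refine SLTwoMult.hasCyclicSchurMultiplier_one fun Γ _ _ σ hσ r hr z hz hzr => ?_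
  have hσ' : Cfsg.IsStemExtension (e.toMonoidHom.comp σ) := by
    have hk : (e.toMonoidHom.comp σ).ker = σ.ker := by
      ext x
      simp [MonoidHom.mem_ker]
    exact ⟨e.surjective.comp hσ.1, hk ▸ hσ.2.1, hk ▸ hσ.2.2⟩
  have hz' : z ∈ (e.toMonoidHom.comp σ).ker := by
    show e (σ z) = 1
    rw [MonoidHom.mem_ker.mp hz, map_one]
  rcases eq_or_ne r 2 with rfl | hr2
  · exact twoPart_trivial hF hm hσ' hz' hzr
  · haveI := Fact.mk hr
    obtain ⟨P⟩ : Nonempty (Sylow r (Sz F m)) := inferInstance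
    haveI := sylow_odd_cyclic (m := m) (by omega) hF hr2 P
    obtain ⟨g, hg⟩ := (Subgroup.isCyclic_iff_exists_zpowers_eq_top (P : Subgroup (Sz F m))).mp inferInstance
    exact Schur.eq_one_of_cyclic hσ' hr g (hg ▸ P.not_dvd_index) hz' (k := 1) (by rw [pow_one]; exact hzr)

end Cfsg.Agent.Suzuki
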