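import Cfsg.Agent.Lib.Suzuki.CharMain
import Cfsg.Agent.Lib.Char.Eigen

/-!
# Products of two conjugates in `Sz(q)`

`cover`: for `x` of order above `2`, every non-identity element is a product of two conjugates
of `x`.
-/

set_option autoImplicit false
set_option linter.style.haveILetI false
set_option linter.unusedSectionVars false

namespace Cfsg.Agent.Suzuki.CharTable

open Cfsg Cfsg.Agent.Suzuki
open scoped ComplexConjugate

variable {F : Type*} [Field F] {m : ℕ} [Fintype F]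
variable (hm : 1 ≤ m) (hF : Fintype.card F = 2 ^ (2 * m + 1))
variable [Fintype (Sz F m)] [Fintype (IrrCharacter (Sz F m))]

/-- A term of the class multiplication formula. -/
noncomputable def term (x g : Sz F m) (φ : Sz F m → ℂ) : ℂ := φ x * φ x * conj (φ g) / φ 1

/-- `2^m` as a real number. -/
noncomputable def kR (m : ℕ) : ℝ := 2 ^ m

lemma kC_ofReal (m : ℕ) : kC m = ((kR m : ℝ) : ℂ) := by simp [kC, kR]

lemma qC_ofReal (m : ℕ) : qC m = ((2 * kR m ^ 2 : ℝ) : ℂ) := by simp [qC, kC_ofReal]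

include hm in
lemma two_le_kR : 2 ≤ kR m := le_self_pow₀ (by norm_num) (by omega)

lemma term_bound {x g : Sz F m} {φ : Sz F m → ℂ} {d N : ℝ} (hd : φ 1 = (d : ℂ)) (hd0 : 0 < d)
    (hN : ‖φ g‖ ≤ N) : -(Complex.normSq (φ x) * N / d) ≤ (term x g φ).re := by
  rw [term, hd, Complex.div_ofReal_re, ← neg_div]
  gcongr
  have h : |(φ x * φ x * conj (φ g)).re| ≤ Complex.normSq (φ x) * N := by
    refine (Complex.abs_re_le_norm _).trans ?_
    rw [norm_mul, norm_mul, Complex.norm_conj, Complex.normSq_eq_norm_sq, ← sq]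
    exact mul_le_mul_of_nonneg_left hN (sq_nonneg _)
  exact (abs_le.mp h).1

/-- The values on the class of the involutions. -/
def TypeZ (P M : Finset (IrrCharacter (Sz F m))) (W W' : IrrCharacter (Sz F m)) (y : Sz F m) : Prop :=
  (∀ θ, Xf hm hF θ y = 1) ∧ Stf hm hF y = 0 ∧ (∀ χ ∈ P, (χ : Sz F m → ℂ) y = 2 * kC m - 1) ∧
    (∀ χ ∈ M, (χ : Sz F m → ℂ) y = -2 * kC m - 1) ∧
    ∀ χ, χ = W ∨ χ = W' → (χ : Sz F m → ℂ) y = -kC m

/-- The values on the classes of the elements of order four. -/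
def TypeF (P M : Finset (IrrCharacter (Sz F m))) (W W' : IrrCharacter (Sz F m)) (y : Sz F m) : Prop :=
  (∀ θ, Xf hm hF θ y = 1) ∧ Stf hm hF y = 0 ∧ (∀ χ ∈ P, (χ : Sz F m → ℂ) y = -1) ∧
    (∀ χ ∈ M, (χ : Sz F m → ℂ) y = -1) ∧
    ∀ χ, χ = W ∨ χ = W' → ∃ ρ : ℂ, ρ ^ 2 = -kC m ^ 2 ∧ conj ρ = -ρ ∧ (χ : Sz F m → ℂ) y = ρ

/-- The values on the split torus. -/
def TypeD (y : Sz F m) : Prop :=
  (∀ θ, ‖Xf hm hF θ y‖ ≤ 2) ∧ Stf hm hF y = 1 ∧ ∀ χ ∈ rSet hm hF, (χ : Sz F m → ℂ) y = 0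

include hm hF in
/-- Every non-identity element has one of the five types. -/
theorem types {s : ℂ} {gA gB : Sz F m} {P M : Finset (IrrCharacter (Sz F m))}
    {W W' : IrrCharacter (Sz F m)} (T : IsTable hm hF s gA gB P M W W') {y : Sz F m} (hy : y ≠ 1) :
    (TypeZ hm hF P M W W' y ∧ orderOf y = 2) ∨ TypeF hm hF P M W W' y ∨ TypeD hm hF y ∨
      y ∈ conjSet (torus gA) ∨ y ∈ conjSet (torus gB) := by
  haveI := charTwo hF
  haveI : Fact (Nat.Prime 2) := ⟨Nat.prime_two⟩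
  have hX : ∀ {x : Sz F m}, IsConj y x → ∀ θ, Xf hm hF θ y = Xf hm hF θ x := fun h θ => by
    obtain ⟨c, rfl⟩ := isConj_iff.mp h
    exact (Xf_cf hm hF θ y c).symm
  have hS : ∀ {x : Sz F m}, IsConj y x → Stf hm hF y = Stf hm hF x := fun h => by
    simp [Stf, hX h]
  have hC : ∀ {x : Sz F m}, IsConj y x → ∀ χ : IrrCharacter (Sz F m),
      (χ : Sz F m → ℂ) y = (χ : Sz F m → ℂ) x := fun h χ => by
    obtain ⟨c, rfl⟩ := isConj_iff.mp h
    exact (Char.IsIrrCharacter.isClassFunction χ.2 y c).symm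
  have hf : ∀ e : F, e = 0 ∨ e = 1 → IsConj y (tSz hF 1 e) → TypeF hm hF P M W W' y := by
    intro e he h
    refine ⟨fun θ => by rw [hX h, Xf_u hm hF θ (by simp)], by rw [hS h, Stf_u hm hF (by simp)],
      fun χ hχ => ?_, fun χ hχ => ?_, fun χ hχ => ?_⟩
    · rw [hC h]; rcases he with rfl | rfl
      · exact (T.valP χ hχ).2.2.1
      · exact (T.valP χ hχ).2.2.2
    · rw [hC h]; rcases he with rfl | rfl
      · exact (T.valM χ hχ).2.2.1
      · exact (T.valM χ hχ).2.2.2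
    · obtain ⟨-, -, δ, hδ, h0, h1⟩ := T.valW χ hχ
      have hcδ : conj δ = δ := by rcases hδ with rfl | rfl <;> simp
      have hδ2 : δ ^ 2 = 1 := by rcases hδ with rfl | rfl <;> simp
      rcases he with rfl | rfl
      · refine ⟨δ * s, ?_, ?_, (hC h χ).trans h0⟩
        · rw [mul_pow, hδ2, T.sq_s, one_mul]
        · rw [map_mul, hcδ, T.conj_s, mul_neg]
      · refine ⟨-(δ * s), ?_, ?_, (hC h χ).trans h1⟩
        · rw [neg_sq, mul_pow, hδ2, T.sq_s, one_mul]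
        · rw [map_neg, map_mul, hcδ, T.conj_s, mul_neg]
  rcases class_cases hm hF hy with h | h | h | ⟨k, hk, h⟩ | h
  · refine Or.inl ⟨⟨fun θ => by rw [hX h, Xf_u hm hF θ (by simp)],
      by rw [hS h, Stf_u hm hF (by simp)], fun χ hχ => (hC h χ).trans (T.valP χ hχ).2.1,
      fun χ hχ => (hC h χ).trans (T.valM χ hχ).2.1,
      fun χ hχ => (hC h χ).trans (T.valW χ hχ).2.1⟩, ?_⟩
    obtain ⟨c, hc⟩ := isConj_iff.mp h
    refine orderOf_eq_prime ?_ hy
    have : y = c⁻¹ * tSz hF 0 1 * c⁻¹⁻¹ := by rw [← hc]; group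
    rw [this, conj_pow, sq, tSz_mul]
    simp [CharTwo.add_self_eq_zero, tSz_zero]
  · exact Or.inr (Or.inl (hf 0 (Or.inl rfl) h))
  · exact Or.inr (Or.inl (hf 1 (Or.inr rfl) h))
  · refine Or.inr (Or.inr (Or.inl ⟨fun θ => ?_, by rw [hS h, Stf_d hm hF hk],
      fun χ hχ => (hC h χ).trans (r_vanish hm hF hχ hk)⟩))
    rw [hX h, Xf_d hm hF θ hk]
    refine (norm_add_le _ _).trans ?_
    obtain ⟨n, hn, hle⟩ : ∃ n : ℝ, n = 1 ∧ ∀ l : Fˣ, ‖(θ : Fˣ → ℂ) l‖ ≤ n := by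
      refine ⟨1, rfl, fun l => ?_⟩
      have := Char.IsCharacter.norm_le (Char.IsIrrCharacter.isCharacter θ.2) l
      rwa [theta_one, Complex.one_re] at this
    have := hle k
    have := hle k⁻¹
    linarith
  · exact Or.inr (Or.inr (Or.inr (T.cover y h)))

section
variable {s : ℂ} {gA gB : Sz F m} {P M : Finset (IrrCharacter (Sz F m))}
    {W W' : IrrCharacter (Sz F m)} (T : IsTable hm hF s gA gB P M W W')

include T

theorem IsTable.sum_r (f : IrrCharacter (Sz F m) → ℂ) :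
    ∑ χ ∈ rSet hm hF, f χ = ∑ χ ∈ P, f χ + ∑ χ ∈ M, f χ + (f W + f W') := by
  classical
  have e : rSet hm hF = P ∪ M ∪ {W, W'} := by
    ext χ
    simp only [T.mem_iff χ, Finset.mem_union, Finset.mem_insert, Finset.mem_singleton, or_assoc]
  rw [e, Finset.sum_union, Finset.sum_union T.disj, Finset.sum_pair T.notW.1]
  rw [Finset.disjoint_left]
  intro χ hχ h
  simp only [Finset.mem_insert, Finset.mem_singleton] at h
  rcases h with rfl | rfl <;> simp only [Finset.mem_union] at hχ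
  · exact hχ.elim T.notW.2.1 T.notW.2.2.1
  · exact hχ.elim T.notW.2.2.2.1 T.notW.2.2.2.2

theorem IsTable.sum_all [Fintype (IrrCharacter Fˣ)] [DecidableEq (IrrCharacter Fˣ)]
    (f : (Sz F m → ℂ) → ℂ) : ∑ χ : IrrCharacter (Sz F m), f χ =
      f 1 + f (Stf hm hF) + (∑ θ ∈ Finset.univ.erase (theta0 F), f (Xf hm hF θ)) / 2 +
      (∑ χ ∈ P, f χ + ∑ χ ∈ M, f χ + (f W + f W')) := by
  rw [sum_split hm hF, T.sum_r hm hF]

/-- The column of an element of a torus. -/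
theorem IsTable.column {g : Sz F m} (hg : FPF g) {y : Sz F m} (hy : y ∈ conjSet (torus g))
    {e : ℂ} (he : e = 1 ∨ e = -1) (hW : (W : Sz F m → ℂ) y = e ∧ (W' : Sz F m → ℂ) y = e) :
    ((∑ χ ∈ P, Complex.normSq ((χ : Sz F m → ℂ) y)) +
        (∑ χ ∈ M, Complex.normSq ((χ : Sz F m → ℂ) y))) = (Nat.card (torus g) : ℝ) - 4 ∧
      -4 ≤ (∑ χ ∈ P, (χ : Sz F m → ℂ) y * (χ : Sz F m → ℂ) y +
        ∑ χ ∈ M, (χ : Sz F m → ℂ) y * (χ : Sz F m → ℂ) y).re := by
  classical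
  haveI := Fintype.ofFinite (IrrCharacter Fˣ)
  have hf : FPF y := conjSet_torus_subset hm hF hg hy
  have hcard : Nat.card (Subgroup.centralizer ({y} : Set (Sz F m))) = Nat.card (torus g) := by
    obtain ⟨x, hx⟩ := torus_of_mem_conjSet hm hF hg hy
    show Nat.card (torus y) = _
    rw [hx, card_map_conj]
  have he2 : e * e = 1 := by rcases he with rfl | rfl <;> simp
  have hec : conj e = e := by rcases he with rfl | rfl <;> simp
  constructor
  · have h := Char.column_orth y y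
    rw [if_pos (IsConj.refl _), T.sum_all hm hF (fun φ => φ y * conj (φ y)), hcard, Stf_fpf hm hF hf,
      hW.1, hW.2, hec, he2, Finset.sum_eq_zero (fun θ _ => by rw [Xf_fpf hm hF θ hf, zero_mul]),
      Pi.one_apply] at h
    simp only [Complex.mul_conj, map_one, map_neg, mul_one] at h
    have h' := congrArg Complex.re h
    simp [-Nat.card_eq_fintype_card] at h'
    linarith
  · have h := Char.column_orth y y⁻¹
    have hc : ∀ χ : IrrCharacter (Sz F m), (χ : Sz F m → ℂ) y * conj ((χ : Sz F m → ℂ) y⁻¹) =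
        (χ : Sz F m → ℂ) y * (χ : Sz F m → ℂ) y := fun χ => by
      rw [Char.IsCharacter.apply_inv (Char.IsIrrCharacter.isCharacter χ.2), Complex.conj_conj]
    rw [Finset.sum_congr rfl (fun χ _ => hc χ), T.sum_all hm hF (fun φ => φ y * φ y),
      Stf_fpf hm hF hf, hW.1, hW.2, he2,
      Finset.sum_eq_zero (fun θ _ => by rw [Xf_fpf hm hF θ hf, zero_mul]), Pi.one_apply] at h
    generalize ∑ χ ∈ P, (χ : Sz F m → ℂ) y * (χ : Sz F m → ℂ) y = SP at h ⊢
    generalize ∑ χ ∈ M, (χ : Sz F m → ℂ) y * (χ : Sz F m → ℂ) y = SM at h ⊢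
    have h' := congrArg Complex.re h
    split_ifs at h' <;> simp [-Nat.card_eq_fintype_card] at h' <;> simp only [Complex.add_re] <;>
      linarith [Nat.cast_nonneg (α := ℝ) (Nat.card (Subgroup.centralizer ({y} : Set (Sz F m))))]

theorem IsTable.colA {y : Sz F m} (hy : y ∈ conjSet (torus gA)) :
    (∑ χ ∈ P, Complex.normSq ((χ : Sz F m → ℂ) y)) = (torusA m : ℝ) - 4 ∧
      -4 ≤ (∑ χ ∈ P, (χ : Sz F m → ℂ) y * (χ : Sz F m → ℂ) y).re := by
  obtain ⟨h1, h2⟩ := T.column hm hF T.fA hy (Or.inl rfl) (T.onA y hy).2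
  rw [T.cA, Finset.sum_eq_zero (s := M) fun χ h => by rw [(T.onA y hy).1 χ h, map_zero],
    add_zero] at h1
  rw [Finset.sum_eq_zero (s := M) fun χ h => by rw [(T.onA y hy).1 χ h, mul_zero], add_zero] at h2
  exact ⟨h1, h2⟩

theorem IsTable.colB {y : Sz F m} (hy : y ∈ conjSet (torus gB)) :
    (∑ χ ∈ M, Complex.normSq ((χ : Sz F m → ℂ) y)) = (torusB m : ℝ) - 4 := by
  obtain ⟨h1, -⟩ := T.column hm hF T.fB hy (Or.inr rfl) (T.onB y hy).2
  rwa [T.cB, Finset.sum_eq_zero (s := P) fun χ h => by rw [(T.onB y hy).1 χ h, map_zero],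
    zero_add] at h1

end

lemma torusA_R (m : ℕ) : (torusA m : ℝ) = 2 * kR m ^ 2 + 2 * kR m + 1 := by
  rw [kR, torusA]; push_cast; ring

lemma torusB_R (m : ℕ) : (torusB m : ℝ) = 2 * kR m ^ 2 - 2 * kR m + 1 := by
  have h : (torusB m : ℤ) = 2 * ((2 : ℤ) ^ m) ^ 2 - 2 * 2 ^ m + 1 := torusB_cast m
  rw [kR]
  exact_mod_cast h

/-! ### numerical bounds -/

lemma ineq_split {k : ℝ} (hk : 2 ≤ k) :
    1 / (2 * k ^ 2) ^ 2 + 4 * (2 * k ^ 2 - 2) / ((2 * k ^ 2) ^ 2 + 1) < 1 := by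
  have hq : 8 ≤ 2 * k ^ 2 := by nlinarith
  generalize 2 * k ^ 2 = q at hq
  have h1 : 1 / q ^ 2 ≤ 1 / 64 := by gcongr; nlinarith
  have h2 : 4 * (q - 2) / (q ^ 2 + 1) < 1 / 2 := by
    rw [div_lt_iff₀ (by positivity)]; nlinarith
  linarith

lemma ineq_AA {k : ℝ} (hk : 2 ≤ k) :
    (2 * k ^ 2 + 2 * k - 3) * ((2 * k ^ 2 + 2 * k - 3 + (2 * k - 1) ^ 2) / (2 * (2 * k - 1))) /
      ((2 * k ^ 2 - 1) * (2 * k ^ 2 + 1 - 2 * k)) < 4 / 5 := by
  have h1 : 0 < 2 * (2 * k - 1) := by linarith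
  have h2 : 0 < (2 * k ^ 2 - 1) * (2 * k ^ 2 + 1 - 2 * k) := mul_pos (by nlinarith) (by nlinarith)
  rw [div_lt_iff₀ h2, mul_div_assoc', div_lt_iff₀ h1]
  obtain ⟨t, ht, rfl⟩ : ∃ t, 0 ≤ t ∧ k = t + 2 := ⟨k - 2, by linarith, by ring⟩
  nlinarith [mul_nonneg ht ht, mul_nonneg (mul_nonneg ht ht) ht,
    mul_nonneg (mul_nonneg ht ht) (mul_nonneg ht ht),
    mul_nonneg (mul_nonneg (mul_nonneg ht ht) (mul_nonneg ht ht)) ht]

lemma ineq_BB {k : ℝ} (hk : 2 ≤ k) :
    (2 * k ^ 2 - 2 * k - 3) * ((2 * k ^ 2 - 2 * k - 3 + 1) / 2) /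
      ((2 * k ^ 2 - 1) * (2 * k ^ 2 + 1 + 2 * k)) < 1 / 2 := by
  have h2 : 0 < (2 * k ^ 2 - 1) * (2 * k ^ 2 + 1 + 2 * k) := mul_pos (by nlinarith) (by nlinarith)
  rw [div_lt_iff₀ h2]
  obtain ⟨t, ht, rfl⟩ : ∃ t, 0 ≤ t ∧ k = t + 2 := ⟨k - 2, by linarith, by ring⟩
  nlinarith [mul_nonneg ht ht, mul_nonneg (mul_nonneg ht ht) ht,
    mul_nonneg (mul_nonneg ht ht) (mul_nonneg ht ht)]

lemma ineq_small {k : ℝ} (hk : 2 ≤ k) :
    2 * k / (2 * k ^ 2 - 1) + (2 * k ^ 2 + 2 * k - 3 + (k ^ 2 + k) / 2) / 2 /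
      ((2 * k ^ 2 - 1) * (2 * k ^ 2 + 1 - 2 * k)) < 1 ∧
    4 * (2 * k - 1) / ((2 * k ^ 2 - 1) * (2 * k ^ 2 + 1 - 2 * k)) + 2 / (2 * k ^ 2 - 1) < 1 ∧
    (2 * k ^ 2 + 2 * k - 3) / ((2 * k ^ 2 - 1) * (2 * k ^ 2 + 1 - 2 * k)) < 1 ∧
    (k ^ 2 - k) / 2 * (2 * k + 1) / ((2 * k ^ 2 - 1) * (2 * k ^ 2 + 1 + 2 * k)) < 1 ∧
    (2 * k ^ 2 - 2 * k - 3) * (2 * k + 1) / ((2 * k ^ 2 - 1) * (2 * k ^ 2 + 1 + 2 * k)) +
      2 / (2 * k ^ 2 - 1) < 1 := by
  have h1 : 0 < 2 * k ^ 2 - 1 := by nlinarith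
  have h2 : 0 < 2 * k ^ 2 + 1 - 2 * k := by nlinarith
  have h3 : 0 < 2 * k ^ 2 + 1 + 2 * k := by nlinarith
  obtain ⟨t, ht, rfl⟩ : ∃ t, 0 ≤ t ∧ k = t + 2 := ⟨k - 2, by linarith, by ring⟩
  refine ⟨?_, ?_, ?_, ?_, ?_⟩ <;> rw [← sub_pos] <;> field_simp <;>
    nlinarith [mul_nonneg ht ht, mul_nonneg (mul_nonneg ht ht) ht,
      mul_nonneg (mul_nonneg ht ht) (mul_nonneg ht ht)]

include hm hF in
/-- The class sum is positive. -/
theorem sum_term_pos {x g : Sz F m} (hx : 2 < orderOf x) (hg : g ≠ 1) :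
    0 < (∑ χ : IrrCharacter (Sz F m), term x g (χ : Sz F m → ℂ)).re := by
  classical
  haveI := Fintype.ofFinite (IrrCharacter Fˣ)
  obtain ⟨s, gA, gB, P, M, W, W', T⟩ := exists_table hm hF
  obtain ⟨k, hk⟩ : ∃ k : ℝ, k = kR m := ⟨_, rfl⟩
  have hk2 : 2 ≤ k := hk ▸ two_le_kR hm
  have hkC : kC m = (k : ℂ) := hk ▸ kC_ofReal m
  have hqC : qC m = ((2 * k ^ 2 : ℝ) : ℂ) := hk ▸ qC_ofReal m
  obtain ⟨q, hq⟩ : ∃ q : ℝ, q = 2 * k ^ 2 := ⟨_, rfl⟩
  rw [← hq] at hqC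
  have hq8 : 8 ≤ q := by rw [hq]; nlinarith
  obtain ⟨dP, hdP⟩ : ∃ d : ℝ, d = (q - 1) * (q + 1 - 2 * k) := ⟨_, rfl⟩
  obtain ⟨dM, hdM⟩ : ∃ d : ℝ, d = (q - 1) * (q + 1 + 2 * k) := ⟨_, rfl⟩
  have dP0 : 0 < dP := hdP ▸ mul_pos (by linarith) (by rw [hq]; nlinarith)
  have dM0 : 0 < dM := hdM ▸ mul_pos (by linarith) (by linarith)
  have vP : ∀ χ ∈ P, (χ : Sz F m → ℂ) 1 = (dP : ℂ) := fun χ h => by
    rw [(T.valP χ h).1, hdP, hqC, hkC]; push_cast; ring
  have vM : ∀ χ ∈ M, (χ : Sz F m → ℂ) 1 = (dM : ℂ) := fun χ h => by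
    rw [(T.valM χ h).1, hdM, hqC, hkC]; push_cast; ring
  have vW : ∀ χ, χ = W ∨ χ = W' → (χ : Sz F m → ℂ) 1 = ((k * (q - 1) : ℝ) : ℂ) := fun χ h => by
    rw [(T.valW χ h).1, hqC, hkC]; push_cast; ring
  have hNP : (P.card : ℝ) = (k ^ 2 + k) / 2 := by
    have h : (4 : ℝ) * P.card + 1 = torusA m := by exact_mod_cast T.cardP
    rw [torusA_R, ← hk] at h; linarith
  have hNM : (M.card : ℝ) = (k ^ 2 - k) / 2 := by
    have h : (4 : ℝ) * M.card + 1 = torusB m := by exact_mod_cast T.cardM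
    rw [torusB_R, ← hk] at h; linarith
  rw [T.sum_all hm hF (term x g)]
  simp only [Complex.add_re, Complex.re_sum, Complex.div_ofNat_re]
  have t1 : (term x g 1).re = 1 := by simp [term]
  rw [t1]
  have hX1 : ∀ θ, Xf hm hF θ (1 : Sz F m) = (((q ^ 2 + 1 : ℝ)) : ℂ) := fun θ => by
    rw [Xf_one, hqC]; push_cast; ring
  have hS1 : Stf hm hF (1 : Sz F m) = ((q ^ 2 : ℝ) : ℂ) := by rw [Stf_one, hqC]; push_cast; ring
  have hcθ : ((Finset.univ.erase (theta0 F)).card : ℝ) = q - 2 := by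
    have h := card_theta hF (F := F) (m := m)
    rw [hqC, ← Complex.ofReal_natCast, ← Complex.ofReal_one, ← Complex.ofReal_sub,
      Complex.ofReal_inj] at h
    rw [Finset.card_erase_of_mem (Finset.mem_univ _), Finset.card_univ,
      Nat.cast_sub (Fintype.card_pos_iff.mpr ⟨theta0 F⟩), h, Nat.cast_one]
    ring
  have hx1 : x ≠ 1 := fun e => by simp [e] at hx
  have hSabs : ∀ y : Sz F m, y ≠ 1 → ‖Stf hm hF y‖ ≤ 1 := by
    intro y hy
    rcases types hm hF T hy with ⟨h, -⟩ | h | h | h | h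
    · simp [h.2.1]
    · simp [h.2.1]
    · simp [h.2.1]
    · simp [Stf_fpf hm hF (conjSet_torus_subset hm hF T.fA h)]
    · simp [Stf_fpf hm hF (conjSet_torus_subset hm hF T.fB h)]
  have bS : -(1 / q ^ 2) ≤ (term x g (Stf hm hF)).re := by
    refine le_trans ?_ (term_bound hS1 (by positivity) (hSabs g hg))
    rw [mul_one, neg_le_neg_iff]
    gcongr
    rw [Complex.normSq_eq_norm_sq]
    nlinarith [norm_nonneg (Stf hm hF x), hSabs x hx1]
  by_cases hD : TypeD hm hF x ∨ TypeD hm hF g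
  · -- only the principal series contributes
    have r0 : ∀ χ ∈ rSet hm hF, (term x g (χ : Sz F m → ℂ)).re = 0 := fun χ h => by
      rcases hD with d | d <;> simp [term, d.2.2 χ h]
    have hP0 : ∑ χ ∈ P, (term x g (χ : Sz F m → ℂ)).re = 0 :=
      Finset.sum_eq_zero fun χ h => r0 χ ((T.mem_iff χ).mpr (Or.inl h))
    have hM0 : ∑ χ ∈ M, (term x g (χ : Sz F m → ℂ)).re = 0 :=
      Finset.sum_eq_zero fun χ h => r0 χ ((T.mem_iff χ).mpr (Or.inr (Or.inl h)))
    rw [hP0, hM0, r0 W ((T.mem_iff W).mpr (by simp)), r0 W' ((T.mem_iff W').mpr (by simp))]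
    have hXb : ∀ y : Sz F m, y ≠ 1 → ∀ θ, ‖Xf hm hF θ y‖ ≤ 2 := by
      intro y hy θ
      rcases types hm hF T hy with ⟨h, -⟩ | h | h | h | h
      · rw [h.1 θ]; norm_num
      · rw [h.1 θ]; norm_num
      · exact h.1 θ
      · rw [Xf_fpf hm hF θ (conjSet_torus_subset hm hF T.fA h)]; norm_num
      · rw [Xf_fpf hm hF θ (conjSet_torus_subset hm hF T.fB h)]; norm_num
    have bX : -(8 * (q - 2) / (q ^ 2 + 1)) ≤
        ∑ θ ∈ Finset.univ.erase (theta0 F), (term x g (Xf hm hF θ)).re := by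
      refine le_trans ?_ (Finset.sum_le_sum (f := fun _ => -(8 / (q ^ 2 + 1))) fun θ _ => ?_)
      · rw [Finset.sum_const, nsmul_eq_mul, hcθ]; exact le_of_eq (by ring)
      · refine le_trans ?_ (term_bound (hX1 θ) (by positivity) (hXb g hg θ))
        rw [neg_le_neg_iff]
        gcongr
        rw [Complex.normSq_eq_norm_sq]
        nlinarith [norm_nonneg (Xf hm hF θ x), hXb x hx1 θ]
    have := ineq_split hk2
    rw [← hq] at this
    have e : 8 * (q - 2) / (q ^ 2 + 1) = 2 * (4 * (q - 2) / (q ^ 2 + 1)) := by ring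
    linarith
  push Not at hD
  have hX0 : 0 ≤ ∑ θ ∈ Finset.univ.erase (theta0 F), (term x g (Xf hm hF θ)).re := by
    refine Finset.sum_nonneg fun θ _ => ?_
    rw [term, hX1 θ, Complex.div_ofReal_re]
    refine div_nonneg ?_ (by positivity)
    rcases types hm hF T hx1 with ⟨h, -⟩ | h | h | h | h
    rotate_left 2
    · exact absurd h hD.1
    · simp [Xf_fpf hm hF θ (conjSet_torus_subset hm hF T.fA h)]
    · simp [Xf_fpf hm hF θ (conjSet_torus_subset hm hF T.fB h)]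
    all_goals
      rw [h.1 θ]
      rcases types hm hF T hg with ⟨h', -⟩ | h' | h' | h' | h'
      · simp [h'.1 θ]
      · simp [h'.1 θ]
      · exact absurd h' hD.2
      · simp [Xf_fpf hm hF θ (conjSet_torus_subset hm hF T.fA h')]
      · simp [Xf_fpf hm hF θ (conjSet_torus_subset hm hF T.fB h')]
  obtain ⟨h₁, h₂, h₃, h₄, h₅⟩ := ineq_small hk2
  rw [← hq] at h₁ h₂ h₃ h₄ h₅
  rw [← hdP] at h₁ h₂ h₃
  rw [← hdM] at h₄ h₅
  have hq64 : 1 / q ^ 2 ≤ 1 / 64 := by gcongr; nlinarith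
  -- generic lower bounds for the two families
  have bP : ∀ c : ℝ, (∀ χ ∈ P, ‖(χ : Sz F m → ℂ) g‖ ≤ c) →
      -((∑ χ ∈ P, Complex.normSq ((χ : Sz F m → ℂ) x)) * c / dP) ≤
        ∑ χ ∈ P, (term x g (χ : Sz F m → ℂ)).re := fun c hc => by
    refine le_trans (le_of_eq ?_) (Finset.sum_le_sum fun χ h => term_bound (vP χ h) dP0 (hc χ h))
    rw [Finset.sum_neg_distrib, ← Finset.sum_div, ← Finset.sum_mul]
  have bM : ∀ c : ℝ, (∀ χ ∈ M, ‖(χ : Sz F m → ℂ) g‖ ≤ c) →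
      -((∑ χ ∈ M, Complex.normSq ((χ : Sz F m → ℂ) x)) * c / dM) ≤
        ∑ χ ∈ M, (term x g (χ : Sz F m → ℂ)).re := fun c hc => by
    refine le_trans (le_of_eq ?_) (Finset.sum_le_sum fun χ h => term_bound (vM χ h) dM0 (hc χ h))
    rw [Finset.sum_neg_distrib, ← Finset.sum_div, ← Finset.sum_mul]
  rcases types hm hF T hx1 with ⟨-, h⟩ | hxF | hxD | hxA | hxB
  · omega
  · -- `x` of order four
    have sx : (term x g (Stf hm hF)).re = 0 := by simp [term, hxF.2.1]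
    have wx : ∀ χ, χ = W ∨ χ = W' → (χ : Sz F m → ℂ) x * (χ : Sz F m → ℂ) x =
        ((-k ^ 2 : ℝ) : ℂ) := fun χ h => by
      obtain ⟨ρ, h1, -, h3⟩ := hxF.2.2.2.2 χ h
      rw [h3, ← sq, h1, hkC]; push_cast; ring
    have wv : ∀ χ, χ = W ∨ χ = W' → (term x g (χ : Sz F m → ℂ)).re =
        -(k / (q - 1)) * ((χ : Sz F m → ℂ) g).re := fun χ h => by
      rw [term, wx χ h, vW χ h, Complex.div_ofReal_re, Complex.re_ofReal_mul, Complex.conj_re]
      field_simp
    have pv : ∀ χ ∈ P, (term x g (χ : Sz F m → ℂ)).re = ((χ : Sz F m → ℂ) g).re / dP :=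
      fun χ h => by rw [term, hxF.2.2.1 χ h, vP χ h, Complex.div_ofReal_re]; simp
    have mv : ∀ χ ∈ M, (term x g (χ : Sz F m → ℂ)).re = ((χ : Sz F m → ℂ) g).re / dM :=
      fun χ h => by rw [term, hxF.2.2.2.1 χ h, vM χ h, Complex.div_ofReal_re]; simp
    rw [sx, Finset.sum_congr rfl pv, Finset.sum_congr rfl mv, wv W (Or.inl rfl), wv W' (Or.inr rfl)]
    rcases types hm hF T hg with ⟨hgZ, -⟩ | hgF | hgD | hgA | hgB
    · rw [Finset.sum_congr (s₁ := P) rfl (g := fun _ => (2 * k - 1) / dP) fun χ h => by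
          rw [hgZ.2.2.1 χ h, hkC]; simp,
        Finset.sum_congr (s₁ := M) rfl (g := fun _ => (-2 * k - 1) / dM) fun χ h => by
          rw [hgZ.2.2.2.1 χ h, hkC]; simp,
        hgZ.2.2.2.2 W (Or.inl rfl), hgZ.2.2.2.2 W' (Or.inr rfl), hkC, Finset.sum_const,
        Finset.sum_const, nsmul_eq_mul, nsmul_eq_mul, hNP, hNM, Complex.neg_re, Complex.ofReal_re]
      have e1 : 0 ≤ (k ^ 2 + k) / 2 * ((2 * k - 1) / dP) :=
        mul_nonneg (by nlinarith) (div_nonneg (by linarith) dP0.le)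
      have e2 : (k ^ 2 - k) / 2 * ((-2 * k - 1) / dM) = -((k ^ 2 - k) / 2 * (2 * k + 1) / dM) := by
        ring
      have e3 : 0 ≤ -(k / (q - 1)) * -k := by
        rw [neg_mul_neg]; exact mul_nonneg (div_nonneg (by linarith) (by linarith)) (by linarith)
      linarith
    · have w0 : ∀ χ, χ = W ∨ χ = W' → ((χ : Sz F m → ℂ) g).re = 0 := fun χ h => by
        obtain ⟨ρ, -, h2, h3⟩ := hgF.2.2.2.2 χ h
        rw [h3]
        have := congrArg Complex.re h2
        simp at this; linarith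
      rw [w0 W (Or.inl rfl), w0 W' (Or.inr rfl),
        Finset.sum_congr (s₁ := P) rfl (g := fun _ => -1 / dP) fun χ h => by rw [hgF.2.2.1 χ h]; simp,
        Finset.sum_congr (s₁ := M) rfl (g := fun _ => -1 / dM) fun χ h => by rw [hgF.2.2.2.1 χ h]; simp,
        Finset.sum_const, Finset.sum_const, nsmul_eq_mul, nsmul_eq_mul, hNP, hNM]
      have e1 : -1 / dP ≤ -1 / dM := by
        rw [neg_div, neg_div, neg_le_neg_iff]
        gcongr
        rw [hdP, hdM]; gcongr <;> linarith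
      have e2 : (k ^ 2 - k) / 2 * (-1 / dP) ≤ (k ^ 2 - k) / 2 * (-1 / dM) :=
        mul_le_mul_of_nonneg_left e1 (by nlinarith)
      have e3 : k ^ 2 / dP ≤ (q + 2 * k - 3) / dP := by gcongr; rw [hq]; nlinarith
      have e4 : (k ^ 2 + k) / 2 * (-1 / dP) + (k ^ 2 - k) / 2 * (-1 / dP) = -(k ^ 2 / dP) := by ring
      nlinarith
    · exact absurd hgD hD.2
    · rw [(T.onA g hgA).2.1, (T.onA g hgA).2.2, Finset.sum_eq_zero (s := M) fun χ h => by
        rw [(T.onA g hgA).1 χ h]; simp]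
      have hcol := (T.colA hm hF hgA).1
      rw [torusA_R, ← hk] at hcol
      have e1 : -(((q + 2 * k - 3) + (k ^ 2 + k) / 2) / 2 / dP) ≤
          ∑ χ ∈ P, ((χ : Sz F m → ℂ) g).re / dP := by
        rw [← Finset.sum_div, ← neg_div]
        gcongr
        have h1 : ∀ χ ∈ P, -((Complex.normSq ((χ : Sz F m → ℂ) g) + 1) / 2) ≤
            ((χ : Sz F m → ℂ) g).re := fun χ _ => by
          nlinarith [Complex.re_sq_le_normSq ((χ : Sz F m → ℂ) g),
            sq_nonneg (((χ : Sz F m → ℂ) g).re + 1)]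
        refine le_trans (le_of_eq ?_) (Finset.sum_le_sum h1)
        rw [Finset.sum_neg_distrib, ← Finset.sum_div, Finset.sum_add_distrib, hcol, Finset.sum_const,
          nsmul_eq_mul, hNP, hq]
        ring
      have e2 : -(k / (q - 1)) * (1 : ℂ).re + -(k / (q - 1)) * (1 : ℂ).re = -(2 * k / (q - 1)) := by
        rw [Complex.one_re]; ring
      linarith
    · rw [(T.onB g hgB).2.1, (T.onB g hgB).2.2, Finset.sum_eq_zero (s := P) fun χ h => by
        rw [(T.onB g hgB).1 χ h]; simp]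
      have hcol := T.colB hm hF hgB
      rw [torusB_R, ← hk] at hcol
      have e1 : -(((q - 2 * k - 3) + (k ^ 2 - k) / 2) / 2 / dM) ≤
          ∑ χ ∈ M, ((χ : Sz F m → ℂ) g).re / dM := by
        rw [← Finset.sum_div, ← neg_div]
        gcongr
        have h1 : ∀ χ ∈ M, -((Complex.normSq ((χ : Sz F m → ℂ) g) + 1) / 2) ≤
            ((χ : Sz F m → ℂ) g).re := fun χ _ => by
          nlinarith [Complex.re_sq_le_normSq ((χ : Sz F m → ℂ) g),
            sq_nonneg (((χ : Sz F m → ℂ) g).re + 1)]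
        refine le_trans (le_of_eq ?_) (Finset.sum_le_sum h1)
        rw [Finset.sum_neg_distrib, ← Finset.sum_div, Finset.sum_add_distrib, hcol, Finset.sum_const,
          nsmul_eq_mul, hNM, hq]
        ring
      have e2 : ((q - 2 * k - 3) + (k ^ 2 - k) / 2) / 2 / dM < 1 := by
        rw [div_lt_one dM0, hdM, hq]
        nlinarith
      have e3 : 0 ≤ -(k / (q - 1)) * (-1 : ℂ).re := by
        rw [Complex.neg_re, Complex.one_re, neg_mul_neg, mul_one]
        exact div_nonneg (by linarith) (by linarith)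
      linarith
  · exact absurd hxD hD.1
  · -- `x` in the first torus
    obtain ⟨hcol, hsq⟩ := T.colA hm hF hxA
    rw [torusA_R, ← hk] at hcol
    have m0 : ∑ χ ∈ M, (term x g (χ : Sz F m → ℂ)).re = 0 :=
      Finset.sum_eq_zero fun χ h => by simp [term, (T.onA x hxA).1 χ h]
    have wv : ∀ χ, χ = W ∨ χ = W' → (term x g (χ : Sz F m → ℂ)).re =
        ((χ : Sz F m → ℂ) g).re / (k * (q - 1)) := fun χ h => by
      have hv : (χ : Sz F m → ℂ) x = 1 := by
        rcases h with rfl | rfl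
        exacts [(T.onA x hxA).2.1, (T.onA x hxA).2.2]
      rw [term, vW χ h, hv, Complex.div_ofReal_re]
      simp
    rw [m0, wv W (Or.inl rfl), wv W' (Or.inr rfl)]
    rcases types hm hF T hg with ⟨hgZ, -⟩ | hgF | hgD | hgA | hgB
    · rw [hgZ.2.2.2.2 W (Or.inl rfl), hgZ.2.2.2.2 W' (Or.inr rfl), hkC, Complex.neg_re,
        Complex.ofReal_re]
      have sg : (term x g (Stf hm hF)).re = 0 := by simp [term, hgZ.2.1]
      have e1 : -(4 * (2 * k - 1) / dP) ≤ ∑ χ ∈ P, (term x g (χ : Sz F m → ℂ)).re := by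
        rw [Finset.sum_congr (s₁ := P) rfl (g := fun χ : IrrCharacter (Sz F m) =>
          ((χ : Sz F m → ℂ) x * (χ : Sz F m → ℂ) x).re * (2 * k - 1) / dP) fun χ h => by
            rw [term, hgZ.2.2.1 χ h, vP χ h, hkC, Complex.div_ofReal_re,
              show conj (2 * (k : ℂ) - 1) = ((2 * k - 1 : ℝ) : ℂ) by
                rw [map_sub, map_mul, map_ofNat, Complex.conj_ofReal, map_one]; push_cast; rfl,
              Complex.re_mul_ofReal],
          ← Finset.sum_div, ← Finset.sum_mul, ← neg_div, ← neg_mul]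
        rw [Complex.re_sum] at hsq
        exact div_le_div_of_nonneg_right (mul_le_mul_of_nonneg_right hsq (by linarith)) dP0.le
      have e2 : -k / (k * (q - 1)) + -k / (k * (q - 1)) = -(2 / (q - 1)) := by field_simp; ring
      linarith
    · have w0 : ∀ χ, χ = W ∨ χ = W' → ((χ : Sz F m → ℂ) g).re = 0 := fun χ h => by
        obtain ⟨ρ, -, h2, h3⟩ := hgF.2.2.2.2 χ h
        rw [h3]
        have := congrArg Complex.re h2
        simp at this; linarith
      have sg : (term x g (Stf hm hF)).re = 0 := by simp [term, hgF.2.1]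
      have e1 := bP 1 fun χ h => by rw [hgF.2.2.1 χ h]; simp
      rw [hcol, show (2 * k ^ 2 + 2 * k + 1 - 4) * 1 = q + 2 * k - 3 by rw [hq]; ring] at e1
      rw [w0 W (Or.inl rfl), w0 W' (Or.inr rfl), zero_div]
      linarith
    · exact absurd hgD hD.2
    · rw [(T.onA g hgA).2.1, (T.onA g hgA).2.2]
      have hcg := (T.colA hm hF hgA).1
      rw [torusA_R, ← hk] at hcg
      obtain ⟨c, hc⟩ : ∃ c : ℝ, c = (q + 2 * k - 3 + (2 * k - 1) ^ 2) / (2 * (2 * k - 1)) := ⟨_, rfl⟩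
      have e1 := bP c fun χ h => by
        rw [hc, le_div_iff₀ (by linarith)]
        have h1 : ‖(χ : Sz F m → ℂ) g‖ ^ 2 ≤ q + 2 * k - 3 := by
          rw [← Complex.normSq_eq_norm_sq]
          refine (Finset.single_le_sum (f := fun φ : IrrCharacter (Sz F m) =>
            Complex.normSq ((φ : Sz F m → ℂ) g)) (fun φ _ => Complex.normSq_nonneg _) h).trans ?_
          rw [hcg, hq]; linarith
        nlinarith [sq_nonneg (‖(χ : Sz F m → ℂ) g‖ - (2 * k - 1))]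
      rw [hcol, show 2 * k ^ 2 + 2 * k + 1 - 4 = q + 2 * k - 3 by rw [hq]; ring, hc] at e1
      have e2 := ineq_AA hk2
      rw [← hq, ← hdP] at e2
      have e3 : 0 ≤ (1 : ℂ).re / (k * (q - 1)) :=
        div_nonneg (by simp) (mul_nonneg (by linarith) (by linarith))
      linarith
    · rw [(T.onB g hgB).2.1, (T.onB g hgB).2.2, Finset.sum_eq_zero (s := P) fun χ h => by
        simp [term, (T.onB g hgB).1 χ h]]
      have e : (-1 : ℂ).re / (k * (q - 1)) = -(1 / (k * (q - 1))) := by simp [neg_div]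
      have e' : 1 / (k * (q - 1)) ≤ 1 / 14 := by gcongr; nlinarith
      linarith
  · -- `x` in the second torus
    have hcol := T.colB hm hF hxB
    rw [torusB_R, ← hk] at hcol
    have p0 : ∑ χ ∈ P, (term x g (χ : Sz F m → ℂ)).re = 0 :=
      Finset.sum_eq_zero fun χ h => by simp [term, (T.onB x hxB).1 χ h]
    have wv : ∀ χ, χ = W ∨ χ = W' → (term x g (χ : Sz F m → ℂ)).re =
        ((χ : Sz F m → ℂ) g).re / (k * (q - 1)) := fun χ h => by
      have hv : (χ : Sz F m → ℂ) x = -1 := by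
        rcases h with rfl | rfl
        exacts [(T.onB x hxB).2.1, (T.onB x hxB).2.2]
      rw [term, vW χ h, hv, Complex.div_ofReal_re]
      simp
    rw [p0, wv W (Or.inl rfl), wv W' (Or.inr rfl)]
    have hqm : 2 * k ^ 2 - 2 * k + 1 - 4 = q - 2 * k - 3 := by rw [hq]; ring
    rcases types hm hF T hg with ⟨hgZ, -⟩ | hgF | hgD | hgA | hgB
    · rw [hgZ.2.2.2.2 W (Or.inl rfl), hgZ.2.2.2.2 W' (Or.inr rfl), hkC, Complex.neg_re,
        Complex.ofReal_re]
      have sg : (term x g (Stf hm hF)).re = 0 := by simp [term, hgZ.2.1]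
      have e1 := bM (2 * k + 1) fun χ h => by
        rw [hgZ.2.2.2.1 χ h, hkC, show -2 * (k : ℂ) - 1 = ((-(2 * k + 1) : ℝ) : ℂ) by push_cast; ring,
          Complex.norm_real, Real.norm_eq_abs, abs_neg, abs_of_pos (by linarith)]
      rw [hcol, hqm] at e1
      have e2 : -k / (k * (q - 1)) + -k / (k * (q - 1)) = -(2 / (q - 1)) := by field_simp; ring
      linarith
    · have w0 : ∀ χ, χ = W ∨ χ = W' → ((χ : Sz F m → ℂ) g).re = 0 := fun χ h => by
        obtain ⟨ρ, -, h2, h3⟩ := hgF.2.2.2.2 χ h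
        rw [h3]
        have := congrArg Complex.re h2
        simp at this; linarith
      have sg : (term x g (Stf hm hF)).re = 0 := by simp [term, hgF.2.1]
      have e1 := bM 1 fun χ h => by rw [hgF.2.2.2.1 χ h]; simp
      rw [hcol, hqm, mul_one] at e1
      have e2 : (q - 2 * k - 3) / dM ≤ (q - 2 * k - 3) * (2 * k + 1) / dM := by
        gcongr
        exact le_mul_of_one_le_right (by rw [hq]; nlinarith) (by linarith)
      have e3 : 0 ≤ 2 / (q - 1) := div_nonneg (by norm_num) (by linarith)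
      rw [w0 W (Or.inl rfl), w0 W' (Or.inr rfl), zero_div]
      linarith
    · exact absurd hgD hD.2
    · rw [(T.onA g hgA).2.1, (T.onA g hgA).2.2, Finset.sum_eq_zero (s := M) fun χ h => by
        simp [term, (T.onA g hgA).1 χ h]]
      have e : 0 ≤ (1 : ℂ).re / (k * (q - 1)) :=
        div_nonneg (by simp) (mul_nonneg (by linarith) (by linarith))
      linarith
    · rw [(T.onB g hgB).2.1, (T.onB g hgB).2.2]
      have hcg := T.colB hm hF hgB
      rw [torusB_R, ← hk] at hcg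
      obtain ⟨c, hc⟩ : ∃ c : ℝ, c = (q - 2 * k - 3 + 1) / 2 := ⟨_, rfl⟩
      have e1 := bM c fun χ h => by
        rw [hc]
        have h1 : ‖(χ : Sz F m → ℂ) g‖ ^ 2 ≤ q - 2 * k - 3 := by
          rw [← Complex.normSq_eq_norm_sq]
          refine (Finset.single_le_sum (f := fun φ : IrrCharacter (Sz F m) =>
            Complex.normSq ((φ : Sz F m → ℂ) g)) (fun φ _ => Complex.normSq_nonneg _) h).trans ?_
          rw [hcg, hq]; linarith
        nlinarith [sq_nonneg (‖(χ : Sz F m → ℂ) g‖ - 1)]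
      rw [hcol, hqm, hc] at e1
      have e2 := ineq_BB hk2
      rw [← hq, ← hdM] at e2
      have e : (-1 : ℂ).re / (k * (q - 1)) = -(1 / (k * (q - 1))) := by simp [neg_div]
      have e' : 1 / (k * (q - 1)) ≤ 1 / 14 := by gcongr; nlinarith
      linarith

include hm hF in
/-- Every non-identity element is a product of two conjugates of `x`, for `x` of order above 2. -/
theorem cover {x g : Sz F m} (hx : 2 < orderOf x) (hg : g ≠ 1) :
    ∃ u v : Sz F m, g = u * x * u⁻¹ * (v * x * v⁻¹) := by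
  classical
  have hpos := sum_term_pos hm hF hx hg
  have h := Char.class_mult_formula x x g
  have hne : Nonempty {p : Sz F m × Sz F m // IsConj x p.1 ∧ IsConj x p.2 ∧ p.1 * p.2 = g} := by
    by_contra hempty
    rw [not_nonempty_iff] at hempty
    rw [Nat.card_of_isEmpty, Nat.cast_zero] at h
    rcases mul_eq_zero.mp h.symm with h0 | h0
    · have hx0 : Nat.card {y : Sz F m // IsConj x y} ≠ 0 :=
        (Nat.card_pos_iff.mpr ⟨⟨⟨x, IsConj.refl x⟩⟩, inferInstance⟩).ne'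
      have hG : Nat.card (Sz F m) ≠ 0 := Nat.card_pos.ne'
      exact div_ne_zero (mul_ne_zero (Nat.cast_ne_zero.mpr hx0) (Nat.cast_ne_zero.mpr hx0))
        (Nat.cast_ne_zero.mpr hG) h0
    · exact lt_irrefl 0 (lt_of_lt_of_eq hpos (congrArg Complex.re h0))
  obtain ⟨⟨a, b⟩, ha, hb, hab⟩ := hne
  obtain ⟨u, rfl⟩ := isConj_iff.mp ha
  obtain ⟨v, rfl⟩ := isConj_iff.mp hb
  exact ⟨u, v, hab.symm⟩

end Cfsg.Agent.Suzuki.CharTable
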