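import Cfsg.Agent.Lib.Suzuki.Binary
import Cfsg.Agent.Lib.Suzuki.CharCover

/-!
# Binary actions of `Sz(q)`: stabilisers of odd order, and the classification

`exists_triangle`, `not_binary_of_odd`, `binary_iff`.
-/

set_option autoImplicit false
set_option linter.style.haveILetI false
set_option linter.unusedSectionVars false

namespace Cfsg.Agent.Suzuki.CharTable

open Cfsg Cfsg.Agent.Suzuki
open scoped ComplexConjugate

variable {F : Type*} [Field F] {m : ℕ} [Fintype F]
variable (hm : 1 ≤ m) (hF : Fintype.card F = 2 ^ (2 * m + 1))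
variable [Fintype (Sz F m)] [Fintype (IrrCharacter (Sz F m))]

include hm hF in
/-- A lower bound for the class sum of a fixed-point-free element with itself. -/
theorem sum_term_fpf {h : Sz F m} (hf : FPF h) :
    1 / 10 < (∑ χ : IrrCharacter (Sz F m), term h h (χ : Sz F m → ℂ)).re := by
  classical
  haveI := Fintype.ofFinite (IrrCharacter Fˣ)
  obtain ⟨s, gA, gB, P, M, W, W', T⟩ := exists_table hm hF
  obtain ⟨k, hk⟩ : ∃ k : ℝ, k = kR m := ⟨_, rfl⟩
  have hk2 : 2 ≤ k := hk ▸ two_le_kR hm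
  have hkC : kC m = (k : ℂ) := hk ▸ kC_ofReal m
  have hqC : qC m = ((2 * k ^ 2 : ℝ) : ℂ) := hk ▸ qC_ofReal m
  obtain ⟨q, hq⟩ : ∃ q : ℝ, q = 2 * k ^ 2 := ⟨_, rfl⟩
  rw [← hq] at hqC
  have hq8 : 8 ≤ q := by rw [hq]; nlinarith
  obtain ⟨dP, hdP⟩ : ∃ d : ℝ, d = (q - 1) * (q + 1 - 2 * k) := ⟨_, rfl⟩
  obtain ⟨dM, hdM⟩ : ∃ d : ℝ, d = (q - 1) * (q + 1 + 2 * k) := ⟨_, rfl⟩
  have dP0 : 0 < dP := hdP ▸ mul_pos (by linarith) (by rw [hq]; nlinarith)
  have dM0 : 0 < dM := hdM ▸ mul_pos (by linarith) (by linarith)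
  have vP : ∀ χ ∈ P, (χ : Sz F m → ℂ) 1 = (dP : ℂ) := fun χ h' => by
    rw [(T.valP χ h').1, hdP, hqC, hkC]; push_cast; ring
  have vM : ∀ χ ∈ M, (χ : Sz F m → ℂ) 1 = (dM : ℂ) := fun χ h' => by
    rw [(T.valM χ h').1, hdM, hqC, hkC]; push_cast; ring
  have vW : ∀ χ, χ = W ∨ χ = W' → (χ : Sz F m → ℂ) 1 = ((k * (q - 1) : ℝ) : ℂ) := fun χ h' => by
    rw [(T.valW χ h').1, hqC, hkC]; push_cast; ring
  rw [T.sum_all hm hF (term h h)]
  simp only [Complex.add_re, Complex.re_sum, Complex.div_ofNat_re]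
  have t1 : (term h h (1 : Sz F m → ℂ)).re = 1 := by simp [term]
  have tX : ∀ θ, (term h h (Xf hm hF θ)).re = 0 := fun θ => by
    simp [term, Xf_fpf hm hF θ hf]
  have hS1 : Stf hm hF (1 : Sz F m) = ((q ^ 2 : ℝ) : ℂ) := by rw [Stf_one, hqC]; push_cast; ring
  have tS : -(1 / q ^ 2) ≤ (term h h (Stf hm hF)).re := by
    refine le_trans ?_ (term_bound (N := 1) hS1 (by positivity) (by simp [Stf_fpf hm hF hf]))
    simp [Stf_fpf hm hF hf]
  rw [t1, Finset.sum_eq_zero (s := Finset.univ.erase (theta0 F)) fun θ _ => tX θ, zero_div]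
  have hq64 : 1 / q ^ 2 ≤ 1 / 64 := by gcongr; nlinarith
  rcases T.cover h hf with hA | hB
  · obtain ⟨hcol, -⟩ := T.colA hm hF hA
    rw [torusA_R, ← hk] at hcol
    have hN : ∀ χ ∈ P, ‖(χ : Sz F m → ℂ) h‖ ≤
        (q + 2 * k - 3 + (2 * k - 1) ^ 2) / (2 * (2 * k - 1)) := fun χ h' => by
      rw [le_div_iff₀ (by linarith)]
      have h1 : ‖(χ : Sz F m → ℂ) h‖ ^ 2 ≤ q + 2 * k - 3 := by
        rw [← Complex.normSq_eq_norm_sq]
        refine (Finset.single_le_sum (f := fun φ : IrrCharacter (Sz F m) =>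
          Complex.normSq ((φ : Sz F m → ℂ) h)) (fun φ _ => Complex.normSq_nonneg _) h').trans ?_
        rw [hcol, hq]; linarith
      nlinarith [sq_nonneg (‖(χ : Sz F m → ℂ) h‖ - (2 * k - 1))]
    have e1 : -((∑ χ ∈ P, Complex.normSq ((χ : Sz F m → ℂ) h)) *
        ((q + 2 * k - 3 + (2 * k - 1) ^ 2) / (2 * (2 * k - 1))) / dP) ≤
        ∑ χ ∈ P, (term h h (χ : Sz F m → ℂ)).re := by
      refine le_trans (le_of_eq ?_) (Finset.sum_le_sum fun χ h' => term_bound (vP χ h') dP0 (hN χ h'))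
      rw [Finset.sum_neg_distrib, ← Finset.sum_div, ← Finset.sum_mul]
    rw [Finset.sum_eq_zero (s := M) fun χ h' => by simp [term, (T.onA h hA).1 χ h']]
    have w : ∀ χ, χ = W ∨ χ = W' → 0 ≤ (term h h (χ : Sz F m → ℂ)).re := fun χ h' => by
      have hv : (χ : Sz F m → ℂ) h = 1 := by
        rcases h' with rfl | rfl
        exacts [(T.onA h hA).2.1, (T.onA h hA).2.2]
      rw [term, vW χ h', hv, Complex.div_ofReal_re]
      exact div_nonneg (by simp) (mul_nonneg (by linarith) (by linarith))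
    have w1 := w W (Or.inl rfl)
    have w2 := w W' (Or.inr rfl)
    rw [hcol, show 2 * k ^ 2 + 2 * k + 1 - 4 = q + 2 * k - 3 by rw [hq]; ring] at e1
    have e2 := ineq_AA hk2
    rw [← hq, ← hdP] at e2
    linarith
  · have hcol := T.colB hm hF hB
    rw [torusB_R, ← hk] at hcol
    have hN : ∀ χ ∈ M, ‖(χ : Sz F m → ℂ) h‖ ≤ (q - 2 * k - 3 + 1) / 2 := fun χ h' => by
      have h1 : ‖(χ : Sz F m → ℂ) h‖ ^ 2 ≤ q - 2 * k - 3 := by
        rw [← Complex.normSq_eq_norm_sq]
        refine (Finset.single_le_sum (f := fun φ : IrrCharacter (Sz F m) =>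
          Complex.normSq ((φ : Sz F m → ℂ) h)) (fun φ _ => Complex.normSq_nonneg _) h').trans ?_
        rw [hcol, hq]; linarith
      nlinarith [sq_nonneg (‖(χ : Sz F m → ℂ) h‖ - 1)]
    have e1 : -((∑ χ ∈ M, Complex.normSq ((χ : Sz F m → ℂ) h)) *
        ((q - 2 * k - 3 + 1) / 2) / dM) ≤ ∑ χ ∈ M, (term h h (χ : Sz F m → ℂ)).re := by
      refine le_trans (le_of_eq ?_) (Finset.sum_le_sum fun χ h' => term_bound (vM χ h') dM0 (hN χ h'))
      rw [Finset.sum_neg_distrib, ← Finset.sum_div, ← Finset.sum_mul]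
    rw [Finset.sum_eq_zero (s := P) fun χ h' => by simp [term, (T.onB h hB).1 χ h']]
    have w : ∀ χ, χ = W ∨ χ = W' → -(1 / 14) ≤ (term h h (χ : Sz F m → ℂ)).re := fun χ h' => by
      have hv : (χ : Sz F m → ℂ) h = -1 := by
        rcases h' with rfl | rfl
        exacts [(T.onB h hB).2.1, (T.onB h hB).2.2]
      rw [term, vW χ h', hv, Complex.div_ofReal_re]
      simp only [neg_mul_neg, one_mul, map_neg, map_one, Complex.neg_re, Complex.one_re, neg_div]
      rw [neg_le_neg_iff]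
      gcongr
      nlinarith
    have w1 := w W (Or.inl rfl)
    have w2 := w W' (Or.inr rfl)
    rw [hcol, show 2 * k ^ 2 - 2 * k + 1 - 4 = q - 2 * k - 3 by rw [hq]; ring] at e1
    have e2 := ineq_BB hk2
    rw [← hq, ← hdM] at e2
    linarith

end Cfsg.Agent.Suzuki.CharTable

namespace Cfsg.Agent.Suzuki.BinaryAct

open Cfsg Cfsg.Agent.Suzuki

variable {F : Type*} [Field F] {m : ℕ} [Fintype F]
variable (hm : 1 ≤ m) (hF : Fintype.card F = 2 ^ (2 * m + 1))

include hm hF in
lemma card_bound {g : Sz F m} (hg : FPF g) :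
    10 * Nat.card (torus g) ^ 3 < Nat.card (Sz F m) := by
  have hle : Nat.card (torus g) ≤ torusA m := by
    rcases (torus_data hm hF hg).1 with h | h
    · exact h.le
    · have h' : torusB m ≤ torusA m := by
        unfold torusA torusB
        exact Nat.add_le_add_right ((Nat.sub_le _ _).trans (Nat.le_add_right _ _)) 1
      exact le_of_eq_of_le h h'
  refine lt_of_le_of_lt (Nat.mul_le_mul_left _ (Nat.pow_le_pow_left hle 3)) ?_
  rw [card_sz hm hF, torusA]
  obtain ⟨k, hk⟩ : ∃ k, k = 2 ^ m := ⟨_, rfl⟩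
  have hk2 : 2 ≤ k := hk ▸ Nat.le_self_pow (by omega) 2
  rw [show 2 ^ (2 * m + 1) = 2 * k ^ 2 by rw [hk, ← pow_mul]; ring,
    show 2 ^ (m + 1) = 2 * k by rw [hk]; ring]
  have h1 : 1 ≤ 2 * k ^ 2 := by nlinarith
  zify [h1]
  obtain ⟨t, ht, hkt⟩ : ∃ t : ℤ, 0 ≤ t ∧ (k : ℤ) = t + 2 := ⟨(k : ℤ) - 2, by omega, by ring⟩
  rw [hkt]
  ring_nf
  nlinarith [pow_nonneg ht 2, pow_nonneg ht 3, pow_nonneg ht 4, pow_nonneg ht 5, pow_nonneg ht 6,
    pow_nonneg ht 7, pow_nonneg ht 8, pow_nonneg ht 9, pow_nonneg ht 10]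

include hm hF in
lemma dSz_isConj {k l : Fˣ} (hk : k ≠ 1) (h : IsConj (dSz hF k) (dSz hF l)) :
    l = k ∨ l = k⁻¹ := by
  obtain ⟨y, hy⟩ := isConj_iff.mp h
  have e : dSz hF l * y = y * dSz hF k := by rw [← hy]; group
  have hl : l ≠ 1 := by
    rintro rfl
    rw [dSz_one, one_mul] at e
    exact hk (dSz_inj hF (((mul_eq_left).mp e.symm).trans (dSz_one hF).symm))
  have hfix : ∀ p ∈ suzukiOvoid F m, dSz hF k • p = p →
      y • p = suzukiPointInfinity F ∨ y • p = suzukiPointZero F := by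
    intro p hp hpf
    have h1 : dSz hF l • (y • p) = y • p := by rw [← mul_smul, e, mul_smul, hpf]
    rcases mem_ovoid_iff.mp (smul_mem_ovoid y hp) with h2 | ⟨x, z, h2⟩
    · exact Or.inl h2
    · right
      rw [h2] at h1 ⊢
      by_cases hxz : x = 0 ∧ z = 0
      · rw [hxz.1, hxz.2, pt_zero_zero]
      · exact absurd (eq_one_of_dSz_fix hF hxz h1) hl
  have hinf := hfix _ infinity_mem (dSz_smul_infinity hF k)
  have hzero := hfix _ pointZero_mem (dSz_smul_zero hF k)
  have hne : y • suzukiPointInfinity F ≠ y • suzukiPointZero F := fun h' =>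
    pointZero_ne_infinity (smul_left_cancel y h').symm
  rcases hinf with h1 | h1 <;> rcases hzero with h2 | h2
  · exact absurd (h1.trans h2.symm) hne
  · obtain ⟨j, rfl⟩ := exists_dSz_of_fix hm hF h1 h2
    left
    rw [dSz_mul, dSz_mul] at e
    exact mul_right_cancel ((dSz_inj hF e).trans (mul_comm j k))
  · right
    obtain ⟨j, hj⟩ := exists_dSz_of_fix hm hF (g := wSz hF * y)
      (by rw [mul_smul, h1, wSz_smul_zero]) (by rw [mul_smul, h2, wSz_smul_infinity])
    have hyd : y = wSz hF * dSz hF j := by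
      rw [← hj, ← mul_assoc, wSz_mul_self, one_mul]
    rw [hyd, ← mul_assoc] at e
    have e' : wSz hF * dSz hF (l⁻¹ * j) = wSz hF * dSz hF (j * k) := by
      calc wSz hF * dSz hF (l⁻¹ * j) = dSz hF l * wSz hF * dSz hF j := by
            rw [← dSz_mul, ← mul_assoc, wSz_conj_dSz, inv_inv]
        _ = _ := by rw [e, mul_assoc, dSz_mul]
    have e2 := dSz_inj hF (mul_left_cancel e')
    rw [mul_comm l⁻¹ j] at e2
    rw [← mul_left_cancel e2, inv_inv]
  · exact absurd (h1.trans h2.symm) hne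

include hm hF in
/-- An odd element is the product of two non-commuting conjugates of itself. -/
theorem exists_triangle {h : Sz F m} (h1 : h ≠ 1) (hodd : Odd (orderOf h)) :
    ∃ u v : Sz F m, IsConj h u ∧ IsConj h v ∧ u * v = h ∧ u * v ≠ v * u := by
  classical
  haveI := charTwo hF
  haveI := Fintype.ofFinite (Sz F m)
  haveI := Fintype.ofFinite (IrrCharacter (Sz F m))
  have ho : 2 < orderOf h := by
    have h0 : orderOf h ≠ 1 := fun e => h1 (orderOf_eq_one_iff.mp e)
    obtain ⟨j, hj⟩ := hodd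
    omega
  have hsq : h ^ 2 ≠ 1 := fun e => by
    have := Nat.le_of_dvd two_pos (orderOf_dvd_of_pow_eq_one e)
    omega
  have hnu : ∀ b : F, ¬ IsConj h (tSz hF 1 b) := by
    intro b hb
    obtain ⟨c, hc⟩ := isConj_iff.mp hb
    have e4 : h ^ 4 = 1 := by
      have : (c * h * c⁻¹) ^ 4 = 1 := by
        rw [hc]
        calc tSz hF 1 b ^ 4 = tSz hF 1 b * tSz hF 1 b * (tSz hF 1 b * tSz hF 1 b) := by
              simp only [pow_succ, pow_zero, one_mul, mul_assoc]
          _ = 1 := by rw [tSz_mul, tSz_mul]; simp [CharTwo.add_self_eq_zero, tSz_zero]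
      rw [conj_pow] at this
      exact conj_eq_one_iff.mp this
    have hd := orderOf_dvd_of_pow_eq_one e4
    obtain ⟨j, hj⟩ := hodd
    have hle := Nat.le_of_dvd four_pos hd
    interval_cases hr : orderOf h <;> omega
  rcases CharTable.class_cases hm hF h1 with hc | hc | hc | ⟨k, hk, hc⟩ | hf
  · obtain ⟨c, hc⟩ := isConj_iff.mp hc
    exfalso; apply hsq
    have : (c * h * c⁻¹) ^ 2 = 1 := by
      rw [hc, sq, tSz_mul]; simp [CharTwo.add_self_eq_zero, tSz_zero]
    rw [conj_pow] at this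
    exact conj_eq_one_iff.mp this
  · exact absurd hc (hnu 0)
  · exact absurd hc (hnu 1)
  · obtain ⟨c, hc'⟩ := isConj_iff.mp hc
    have hdo : orderOf (dSz hF k) = orderOf h := by
      rw [← hc', show c * h * c⁻¹ = MulAut.conj c h from rfl, MulEquiv.orderOf_eq]
    obtain ⟨x, y, hxy⟩ := CharTable.cover hm hF (x := dSz hF k) (g := dSz hF k) (by omega)
      (fun e => hk (dSz_inj hF (e.trans (dSz_one hF).symm)))
    obtain ⟨U, hU⟩ : ∃ U, U = x * dSz hF k * x⁻¹ := ⟨_, rfl⟩
    obtain ⟨V, hV⟩ : ∃ V, V = y * dSz hF k * y⁻¹ := ⟨_, rfl⟩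
    rw [← hU, ← hV] at hxy
    have hUV : U * V ≠ V * U := by
      intro hcomm
      have hmemD : ∀ W : Sz F m, W * (U * V) = U * V * W → ∃ l, W = dSz hF l := by
        intro W hW
        rw [← hxy] at hW
        have : W ∈ Subgroup.centralizer {dSz hF k} :=
          Subgroup.mem_centralizer_singleton_iff.mpr hW
        rw [centralizer_dSz hm hF hk] at this
        exact (mem_dSub hF).mp this
      obtain ⟨l, hl⟩ := hmemD U (by
        calc U * (U * V) = U * (V * U) := by rw [hcomm]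
          _ = U * V * U := by group)
      obtain ⟨l', hl'⟩ := hmemD V (by
        calc V * (U * V) = V * U * V := by group
          _ = U * V * V := by rw [hcomm])
      have c1 := dSz_isConj hm hF hk (l := l) (isConj_iff.mpr ⟨x, by rw [← hU, hl]⟩)
      have c2 := dSz_isConj hm hF hk (l := l') (isConj_iff.mpr ⟨y, by rw [← hV, hl']⟩)
      rw [hl, hl', dSz_mul] at hxy
      have e := dSz_inj hF hxy
      have h3 : k ^ 3 ≠ 1 := by
        intro e3
        have hd : orderOf k ∣ 3 := orderOf_dvd_of_pow_eq_one e3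
        have hq : orderOf k ∣ 2 ^ (2 * m + 1) - 1 := by
          rw [← hF, ← Nat.card_eq_fintype_card, ← Nat.card_units]
          exact orderOf_dvd_natCard _
        rcases (Nat.dvd_prime Nat.prime_three).mp hd with h' | h'
        · exact hk (orderOf_eq_one_iff.mp h')
        · rw [h'] at hq
          have h4 : (2 ^ (2 * m + 1)) % 3 = 2 := by
            rw [pow_succ, pow_mul, Nat.mul_mod, Nat.pow_mod]; norm_num
          have h5 : 1 ≤ 2 ^ (2 * m + 1) := Nat.one_le_two_pow
          omega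
      rcases c1 with rfl | rfl <;> rcases c2 with rfl | rfl
      · exact hk (mul_eq_left.mp e.symm)
      · exact hk (e.trans (mul_inv_cancel _))
      · exact hk (e.trans (inv_mul_cancel _))
      · refine h3 ?_
        calc k ^ 3 = k * (k * k) := by simp only [pow_succ, pow_zero, one_mul, mul_assoc]
          _ = k⁻¹ * k⁻¹ * (k * k) := by rw [← e]
          _ = 1 := by group
    refine ⟨c⁻¹ * U * c, c⁻¹ * V * c, ?_, ?_, ?_, ?_⟩
    · exact isConj_iff.mpr ⟨c⁻¹ * x * c, by rw [hU, ← hc']; group⟩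
    · exact isConj_iff.mpr ⟨c⁻¹ * y * c, by rw [hV, ← hc']; group⟩
    · calc c⁻¹ * U * c * (c⁻¹ * V * c) = c⁻¹ * (U * V) * c := by group
        _ = h := by rw [← hxy, ← hc']; group
    · intro he
      apply hUV
      calc U * V = c * (c⁻¹ * U * c * (c⁻¹ * V * c)) * c⁻¹ := by group
        _ = c * (c⁻¹ * V * c * (c⁻¹ * U * c)) * c⁻¹ := by rw [he]
        _ = V * U := by group
  · by_contra hcon
    push Not at hcon
    let X := {p : Sz F m × Sz F m // IsConj h p.1 ∧ IsConj h p.2 ∧ p.1 * p.2 = h}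
    have hinj : Nat.card X ≤ Nat.card (torus h) := by
      refine Nat.card_le_card_of_injective
        (fun p : X => (⟨p.1.1, Subgroup.mem_centralizer_singleton_iff.mpr (by
          obtain ⟨a, b, hp⟩ := p.2
          have := hcon _ _ a b hp
          have h2 : p.1.1 * (p.1.1 * p.1.2) = p.1.1 * p.1.2 * p.1.1 := by
            calc p.1.1 * (p.1.1 * p.1.2) = p.1.1 * (p.1.2 * p.1.1) := by rw [this]
              _ = p.1.1 * p.1.2 * p.1.1 := by group
          rwa [hp] at h2)⟩ : torus h)) ?_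
      intro p p' he
      have h' : p.1.1 = p'.1.1 := congrArg Subtype.val he
      refine Subtype.ext (Prod.ext h' (mul_left_cancel (a := p.1.1) ?_))
      rw [p.2.2.2, h', p'.2.2.2]
    have hS := CharTable.sum_term_fpf hm hF hf
    have hform := Char.class_mult_formula h h h
    have hcl : Nat.card {x : Sz F m // IsConj h x} * Nat.card (torus h) = Nat.card (Sz F m) := by
      exact Char.card_conjugates_mul_card_centralizer (G := Sz F m) h
    obtain ⟨S, hSdef⟩ : ∃ S, S = ∑ χ : IrrCharacter (Sz F m),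
        CharTable.term h h (χ : Sz F m → ℂ) := ⟨_, rfl⟩
    rw [← hSdef] at hS
    have hform' : (Nat.card X : ℂ) =
        ((Nat.card {x : Sz F m // IsConj h x} : ℝ) ^ 2 / (Nat.card (Sz F m) : ℝ) : ℝ) * S := by
      rw [hSdef]
      refine hform.trans ?_
      push_cast
      simp only [CharTable.term, sq]
    have hre := congrArg Complex.re hform'
    rw [Complex.natCast_re, Complex.re_ofReal_mul] at hre
    have hb := card_bound hm hF hf
    have hT : 0 < Nat.card (torus h) := Nat.card_pos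
    generalize Nat.card (torus h) = T at hinj hcl hb hT
    generalize Nat.card {x : Sz F m // IsConj h x} = C at hcl hre
    generalize Nat.card (Sz F m) = N at hcl hre hb
    generalize Nat.card X = n at hinj hre
    have hTR : (0 : ℝ) < T := by exact_mod_cast hT
    have hN : (N : ℝ) = C * T := by exact_mod_cast hcl.symm
    have hb' : 10 * (T : ℝ) ^ 3 < C * T := by rw [← hN]; exact_mod_cast hb
    have hC : 10 * (T : ℝ) ^ 2 < C := by nlinarith
    have hC0 : (C : ℝ) ≠ 0 := by nlinarith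
    have hn : (n : ℝ) ≤ T := by exact_mod_cast hinj
    rw [hN, show (C : ℝ) ^ 2 / ((C : ℝ) * T) = C / T by field_simp] at hre
    have h2 : (n : ℝ) * T = C * S.re := by rw [hre]; field_simp
    nlinarith

section

variable {Ω : Type*} [MulAction (Sz F m) Ω] [MulAction.IsPretransitive (Sz F m) Ω]

include hm hF in
/-- Stabilisers of odd order. -/
theorem not_binary_of_odd [Finite Ω] {c : Ω}
    (hodd : Odd (Nat.card (MulAction.stabilizer (Sz F m) c)))
    {h : Sz F m} (hh : h • c = c) (h1 : h ≠ 1) : ¬ Binary (Sz F m) Ω := by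
  classical
  have ho : Odd (orderOf h) := hodd.of_dvd_nat
    (Subgroup.orderOf_dvd_natCard (MulAction.stabilizer (Sz F m) c) hh)
  obtain ⟨x, y, hx, hy, hxy, hne⟩ := exists_triangle hm hF h1 ho
  have habel := comm_of_odd hm hF hodd
  have habel' : ∀ (a : Ω) (g g' : Sz F m), g • a = a → g' • a = a → g * g' = g' * g := by
    intro a g g' hg hg'
    obtain ⟨s, rfl⟩ := MulAction.exists_smul_eq (Sz F m) c a
    have hcj : ∀ f : Sz F m, f • (s • c) = s • c → s⁻¹ * f * s ∈ MulAction.stabilizer (Sz F m) c :=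
      fun f hf => by rw [MulAction.mem_stabilizer_iff, mul_smul, mul_smul, hf, inv_smul_smul]
    calc g * g' = s * ((s⁻¹ * g * s) * (s⁻¹ * g' * s)) * s⁻¹ := by group
      _ = s * ((s⁻¹ * g' * s) * (s⁻¹ * g * s)) * s⁻¹ := by rw [habel _ (hcj g hg) _ (hcj g' hg')]
      _ = g' * g := by group
  have hfix : ∀ z : Sz F m, IsConj h z → ∃ a : Ω, z • a = a ∧ z⁻¹ • a = a := by
    intro z hz
    obtain ⟨s, rfl⟩ := isConj_iff.mp hz
    have : (s * h * s⁻¹) • (s • c) = s • c := by
      rw [← mul_smul, inv_mul_cancel_right, mul_smul, hh]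
    exact ⟨s • c, this, by rw [inv_smul_eq_iff, this]⟩
  obtain ⟨a1, -, ha1⟩ := hfix x hx
  obtain ⟨a2, ha2, -⟩ := hfix y hy
  have hmove : y • c = x⁻¹ • c := by
    have h2 : y = x⁻¹ * h := by rw [← hxy, inv_mul_cancel_left]
    rw [h2, mul_smul, hh]
  refine not_binary_of_coset (c := c) (c' := x⁻¹ • c) ⟨a1, _, rfl, ha1⟩ fun u hu => ?_
  by_contra hcon
  push Not at hcon
  have hux : u * x = x * u := by
    have := habel' a1 u x⁻¹ (hcon a1 _ rfl ha1) ha1
    calc u * x = x * (x⁻¹ * u) * x := by group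
      _ = x * (u * x⁻¹) * x := by rw [this]
      _ = x * u := by group
  have huy : u * y = y * u := habel' a2 u y (hcon a2 _ hmove ha2) ha2
  rcases eq_or_ne u 1 with rfl | hu1
  · rw [one_smul, eq_inv_smul_iff] at hu
    -- then `x` fixes `c`
    have hyc : y • c = c := by rw [hmove, inv_smul_eq_iff, hu]
    exact hne (habel' c x y hu hyc)
  have hx1 : x ≠ 1 := fun e => h1 (by
    obtain ⟨s, hs⟩ := isConj_iff.mp hx
    rw [e] at hs
    exact conj_eq_one_iff.mp hs)
  have hxu : x ∉ conjSet (uSub hF) := fun hmem => by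
    obtain ⟨s, rfl⟩ := isConj_iff.mp hx
    have h2 := orderOf_dvd_of_conjSet_uSub hF hmem
    rw [show s * h * s⁻¹ = MulAut.conj s h from rfl, MulEquiv.orderOf_eq, ← pow_mul] at h2
    obtain ⟨j, -, hj⟩ := (Nat.dvd_prime_pow Nat.prime_two).mp h2
    rw [hj] at ho
    rcases eq_or_ne j 0 with rfl | hj0
    · exact h1 (orderOf_eq_one_iff.mp (by simpa using hj))
    · exact (Nat.not_even_iff_odd.mpr ho) (Nat.even_pow.mpr ⟨even_two, hj0⟩)
  obtain ⟨hcyc, hsame, -⟩ := torusElt_centralizer hm hF hx1 hxu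
  have humem : u ∈ Subgroup.centralizer {x} := Subgroup.mem_centralizer_singleton_iff.mpr hux
  have hymem : y ∈ Subgroup.centralizer {u} := Subgroup.mem_centralizer_singleton_iff.mpr huy.symm
  rw [hsame u humem hu1, Subgroup.mem_centralizer_singleton_iff] at hymem
  exact hne hymem.symm

include hm hF in
/-- The binary transitive actions of `Sz(q)`. -/
theorem binary_iff [Finite Ω] {c : Ω} (hne : MulAction.stabilizer (Sz F m) c ≠ ⊤) :
    Binary (Sz F m) Ω ↔ MulAction.stabilizer (Sz F m) c = ⊥ ∨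
      ∃ s : Sz F m, MulAction.stabilizer (Sz F m) c = (zSub hF).map (MulAut.conj s).toMonoidHom := by
  classical
  haveI := charTwo hF
  constructor
  · intro hB
    by_contra hcon
    push Not at hcon
    obtain ⟨hbot, hz⟩ := hcon
    rcases Nat.even_or_odd (Nat.card (MulAction.stabilizer (Sz F m) c)) with heven | hodd
    swap
    · haveI : Nontrivial (MulAction.stabilizer (Sz F m) c) :=
        (Subgroup.nontrivial_iff_ne_bot _).mpr hbot
      obtain ⟨⟨h, hh⟩, h1⟩ := exists_ne (1 : MulAction.stabilizer (Sz F m) c)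
      exact not_binary_of_odd hm hF hodd hh (fun e => h1 (Subtype.ext e)) hB
    haveI : Fact (Nat.Prime 2) := ⟨Nat.prime_two⟩
    obtain ⟨⟨v, hv⟩, hv2⟩ := exists_prime_orderOf_dvd_card'
      (G := MulAction.stabilizer (Sz F m) c) 2 (even_iff_two_dvd.mp heven)
    rw [Subgroup.orderOf_mk] at hv2
    have hv1 : v ≠ 1 := fun e => by rw [e, orderOf_one] at hv2; omega
    obtain ⟨s, hs⟩ := decompose_conj_zSub hm hF (hv2 ▸ pow_orderOf_eq_one v) hv1
    -- the point with the standard involution in its stabiliser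
    have hst : ∀ (t : Sz F m), MulAction.stabilizer (Sz F m) (t • c) =
        (MulAction.stabilizer (Sz F m) c).map (MulAut.conj t).toMonoidHom :=
      fun t => MulAction.stabilizer_smul_eq_stabilizer_map_conj t c
    have hne' : ∀ t : Sz F m, MulAction.stabilizer (Sz F m) (t • c) ≠ ⊤ := fun t h => hne (by
      rw [hst] at h
      rw [eq_top_iff]
      intro g _
      have := h ▸ Subgroup.mem_top (t * g * t⁻¹)
      rw [map_conj_iff] at this
      simpa [mul_assoc] using this)
    have hv' : tSz hF 0 1 • (s • c) = s • c := by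
      rw [← hs, ← mul_smul, inv_mul_cancel_right, mul_smul, MulAction.mem_stabilizer_iff.mp hv]
    by_cases hZ : ∃ e, tSz hF 0 e • (s • c) ≠ s • c
    · obtain ⟨e, he⟩ := hZ
      exact not_binary_of_partial hm hF (hne' s) one_ne_zero hv' he hB
    push Not at hZ
    have hBor : ∀ g : Sz F m, g • (s • c) = s • c →
        g • suzukiPointInfinity F = suzukiPointInfinity F := by
      intro g hg
      by_contra hmv
      refine hne' s (eq_top_of_zSub_le_root hm hF ?_ (MulAction.mem_stabilizer_iff.mpr hg) hmv)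
      rintro _ ⟨e, rfl⟩
      exact hZ e
    by_cases hU : ∀ g : Sz F m, g • (s • c) = s • c → g ∈ uSub hF
    · by_cases hZ' : ∃ a b : F, a ≠ 0 ∧ tSz hF a b • (s • c) = s • c
      · obtain ⟨a, b, ha, hab⟩ := hZ'
        exact not_binary_of_unipotent hm hF hU hZ ha hab hB
      push Not at hZ'
      refine hz s⁻¹ ?_
      have : MulAction.stabilizer (Sz F m) (s • c) = zSub hF := by
        ext g
        constructor
        · intro hg
          obtain ⟨a, b, rfl⟩ := hU g hg
          rcases eq_or_ne a 0 with rfl | ha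
          · exact ⟨b, rfl⟩
          · exact absurd hg (hZ' a b ha)
        · rintro ⟨e, rfl⟩
          exact hZ e
      rw [← this, ← MulAction.stabilizer_smul_eq_stabilizer_map_conj, inv_smul_smul]
    push Not at hU
    obtain ⟨g, hg, hgU⟩ := hU
    obtain ⟨p, q, k, hk, hgk⟩ := exists_conj_dSz hm hF (hBor g hg) hgU
    have hd : dSz hF k • ((tSz hF p q)⁻¹ • (s • c)) = (tSz hF p q)⁻¹ • (s • c) := by
      rw [eq_inv_smul_iff, ← mul_smul, ← mul_smul]
      conv_rhs => rw [← hg]
      rw [hgk]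
    have hz' : tSz hF 0 1 • ((tSz hF p q)⁻¹ • (s • c)) = (tSz hF p q)⁻¹ • (s • c) := by
      have e : tSz hF 0 1 * (tSz hF p q)⁻¹ = (tSz hF p q)⁻¹ * tSz hF 0 1 := by
        rw [tSz_inv, tSz_mul, tSz_mul]
        simp [add_comm]
      rw [← mul_smul, e, mul_smul, hv']
    refine not_binary_of_torus hm hF ?_ ?_ hz' hk hd hB
    · rw [← mul_smul]; exact hne' _
    · intro g' hg'
      have h2 : (tSz hF p q * g' * (tSz hF p q)⁻¹) • (s • c) = s • c := by
        rw [mul_smul, mul_smul, hg', smul_inv_smul]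
      have h3 := hBor _ h2
      rw [mul_smul, mul_smul, inv_smul_eq_iff.mpr (tSz_smul_infinity hF p q).symm] at h3
      exact smul_left_cancel (tSz hF p q) (h3.trans (tSz_smul_infinity hF p q).symm)
  · rintro (hbot | ⟨s, hs⟩)
    · refine binary_of_free fun g a hga => ?_
      obtain ⟨t, rfl⟩ := MulAction.exists_smul_eq (Sz F m) c a
      have : t⁻¹ * g * t ∈ MulAction.stabilizer (Sz F m) c := by
        rw [MulAction.mem_stabilizer_iff, mul_smul, mul_smul, hga, inv_smul_smul]
      rw [hbot, Subgroup.mem_bot] at this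
      calc g = t * (t⁻¹ * g * t) * t⁻¹ := by group
        _ = 1 := by rw [this, mul_one, mul_inv_cancel]
    · refine binary_of_zSub hm hF (c := s⁻¹ • c) ?_
      rw [MulAction.stabilizer_smul_eq_stabilizer_map_conj, hs, Subgroup.map_map]
      ext g
      simp [Subgroup.mem_map, mul_assoc]

end

end Cfsg.Agent.Suzuki.BinaryAct
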