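import Cfsg.Agent.Lib.Suzuki.Stabilizer

/-!
# Geometry: the form, the two-point stabiliser, independence of three ovoid points

`preserves_form`, `stabilizer_pair_eq`, `pairEquiv`, `independent_of_three`.
-/

set_option autoImplicit false
set_option linter.style.haveILetI false

namespace Cfsg.Agent.Suzuki

open Cfsg
open scoped Matrix

variable {F : Type*} [Field F] {m : ℕ} [Fintype F]
variable (hm : 1 ≤ m) (hF : Fintype.card F = 2 ^ (2 * m + 1))

/-- The subgroup of `SL₄` preserving the antidiagonal form. -/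
def formSubgroup (F : Type*) [Field F] : Subgroup (Matrix.SpecialLinearGroup (Fin 4) F) where
  carrier := {g | (g : Matrix (Fin 4) (Fin 4) F)ᵀ * suzukiForm F * (g : Matrix (Fin 4) (Fin 4) F) =
    suzukiForm F}
  one_mem' := by simp
  mul_mem' {a b} ha hb := by
    simp only [Set.mem_setOf_eq, Matrix.SpecialLinearGroup.coe_mul, Matrix.transpose_mul] at ha hb ⊢
    calc _ = (b : Matrix (Fin 4) (Fin 4) F)ᵀ * ((a : Matrix (Fin 4) (Fin 4) F)ᵀ * suzukiForm F *
          (a : Matrix (Fin 4) (Fin 4) F)) * (b : Matrix (Fin 4) (Fin 4) F) := by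
            simp only [Matrix.mul_assoc]
      _ = _ := by rw [ha, hb]
  inv_mem' {a} ha := by
    have h : (a : Matrix (Fin 4) (Fin 4) F) *
        ((a⁻¹ : Matrix.SpecialLinearGroup (Fin 4) F) : Matrix (Fin 4) (Fin 4) F) = 1 := by
      rw [← Matrix.SpecialLinearGroup.coe_mul, mul_inv_cancel, Matrix.SpecialLinearGroup.coe_one]
    have key : ∀ A B : Matrix (Fin 4) (Fin 4) F, A * B = 1 → Aᵀ * suzukiForm F * A = suzukiForm F →
        Bᵀ * suzukiForm F * B = suzukiForm F := by
      intro A B hAB hA
      calc Bᵀ * suzukiForm F * B = Bᵀ * (Aᵀ * suzukiForm F * A) * B := by rw [hA]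
        _ = (A * B)ᵀ * suzukiForm F * (A * B) := by
          simp only [Matrix.transpose_mul, Matrix.mul_assoc]
        _ = suzukiForm F := by rw [hAB, Matrix.transpose_one, Matrix.one_mul, Matrix.mul_one]
    exact key _ _ h ha

include hF in
lemma tSz_preserves (a b : F) : (tSz hF a b : Matrix.SpecialLinearGroup (Fin 4) F) ∈
    formSubgroup F := by
  haveI := charTwo hF
  show (tMat m a b)ᵀ * suzukiForm F * tMat m a b = suzukiForm F
  ext i j
  fin_cases i <;> fin_cases j <;>
    simp [tMat, suzukiForm, fz, Matrix.mul_apply, Fin.sum_univ_four] <;> grind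

include hF in
lemma dSz_preserves (k : Fˣ) : (dSz hF k : Matrix.SpecialLinearGroup (Fin 4) F) ∈
    formSubgroup F := by
  have h : (k : F) ^ (2 ^ m) ≠ 0 := pow_ne_zero _ k.ne_zero
  show (Matrix.diagonal (dVec m k))ᵀ * suzukiForm F * Matrix.diagonal (dVec m k) = suzukiForm F
  ext i j
  rw [Matrix.diagonal_transpose, Matrix.mul_diagonal, Matrix.diagonal_mul]
  fin_cases i <;> fin_cases j <;> simp [dVec, suzukiForm] <;> field_simp

include hF in
lemma wSz_preserves : (wSz hF : Matrix.SpecialLinearGroup (Fin 4) F) ∈ formSubgroup F := by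
  show (suzukiForm F)ᵀ * suzukiForm F * suzukiForm F = suzukiForm F
  ext i j
  fin_cases i <;> fin_cases j <;> simp [suzukiForm, Matrix.mul_apply, Fin.sum_univ_four]

include hm hF in
/-- Every element of the Suzuki group preserves the form. -/
theorem preserves_form {g : Matrix.SpecialLinearGroup (Fin 4) F} (hg : g ∈ Sz F m) :
    g ∈ formSubgroup F := by
  rcases decompose hm hF ⟨g, hg⟩ with ⟨a, b, k, h⟩ | ⟨a, b, c, d, k, h⟩
  · rw [show g = _ from congrArg Subtype.val h]
    exact mul_mem (tSz_preserves hF a b) (dSz_preserves hF k)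
  · rw [show g = _ from congrArg Subtype.val h]
    exact mul_mem (mul_mem (tSz_preserves hF a b) (wSz_preserves hF))
      (mul_mem (tSz_preserves hF c d) (dSz_preserves hF k))

include hm in
/-- The two-point stabiliser is the torus. -/
theorem stabilizer_pair_eq :
    MulAction.stabilizer (Sz F m) (suzukiPointInfinity F) ⊓
        MulAction.stabilizer (Sz F m) (suzukiPointZero F) = dSub hF := by
  ext g
  rw [mem_dSub, Subgroup.mem_inf, MulAction.mem_stabilizer_iff, MulAction.mem_stabilizer_iff]
  constructor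
  · exact fun h => exists_dSz_of_fix hm hF h.1 h.2
  · rintro ⟨k, rfl⟩
    exact ⟨dSz_smul_infinity hF k, dSz_smul_zero hF k⟩

include hm hF in
/-- The two-point stabiliser is isomorphic to `Fˣ`. -/
theorem pairEquiv :
    Nonempty (↥(MulAction.stabilizer (Sz F m) (suzukiPointInfinity F) ⊓
      MulAction.stabilizer (Sz F m) (suzukiPointZero F)) ≃* Fˣ) :=
  ⟨(MulEquiv.subgroupCongr (stabilizer_pair_eq hm hF)).trans
    (MonoidHom.ofInjective (f := dHom hF) (fun _ _ h => dSz_inj hF h)).symm⟩

include hF in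
/-- Three distinct points of the ovoid are independent. -/
theorem independent_of_three (p : Fin 3 ↪ suzukiOvoid F m) :
    Projectivization.Independent (fun i => (p i : Projectivization F (Fin 4 → F))) := by
  have hne : ∀ i j : Fin 3, i ≠ j →
      (p i : Projectivization F (Fin 4 → F)) ≠ (p j : Projectivization F (Fin 4 → F)) :=
    fun i j hij h => hij (p.injective (Subtype.ext h))
  obtain ⟨g, hg0, hg1⟩ := exists_move hF (p 0).2 (p 1).2 (hne 0 1 (by decide))
  obtain ⟨x, y, hxy, hg2⟩ : ∃ x y : F, ¬(x = 0 ∧ y = 0) ∧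
      g • pt m x y = (p 2 : Projectivization F (Fin 4 → F)) := by
    rcases mem_ovoid_iff.mp (smul_mem_ovoid g⁻¹ (p 2).2) with h | ⟨x, y, h⟩
    · rw [inv_smul_eq_iff, hg0] at h
      exact absurd h (hne 2 0 (by decide))
    · refine ⟨x, y, ?_, by rw [← h, smul_inv_smul]⟩
      rintro ⟨rfl, rfl⟩
      rw [pt_zero_zero, inv_smul_eq_iff, hg1] at h
      exact hne 2 1 (by decide) h
  set G : Matrix (Fin 4) (Fin 4) F :=
    ((g : Matrix.SpecialLinearGroup (Fin 4) F) : Matrix (Fin 4) (Fin 4) F) with hG
  let v : Fin 3 → Fin 4 → F := ![![1, 0, 0, 0], ![0, 0, 0, 1], vec m x y]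
  have hinj : Function.Injective G.mulVecLin := by
    intro u w huw
    exact smul_left_cancel (g : Matrix.SpecialLinearGroup (Fin 4) F) huw
  have hli : LinearIndependent F v := by
    rw [Fintype.linearIndependent_iff]
    intro c hc
    rw [Fin.sum_univ_three] at hc
    have h0 := congrFun hc 0; have h1 := congrFun hc 1
    have h2 := congrFun hc 2; have h3 := congrFun hc 3
    simp [v, vec] at h0 h1 h2 h3
    have hc2 : c 2 = 0 := by
      by_contra hc2
      exact hxy ⟨h2.resolve_left hc2, h1.resolve_left hc2⟩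
    rw [hc2] at h0 h3
    simp at h0 h3
    intro i
    fin_cases i <;> assumption
  have hv : ∀ i, v i ≠ 0 := fun i => hli.ne_zero i
  have hv' : ∀ i, (G.mulVecLin ∘ v) i ≠ 0 := fun i h => hv i (hinj (by simpa using h))
  have hfun : (fun i => (p i : Projectivization F (Fin 4 → F))) =
      fun i => Projectivization.mk F ((G.mulVecLin ∘ v) i) (hv' i) := by
    funext i
    fin_cases i
    · exact hg0.symm
    · exact hg1.symm
    · exact hg2.symm
  rw [hfun]
  exact Projectivization.Independent.mk _ hv'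
    (hli.map' G.mulVecLin (LinearMap.ker_eq_bot.mpr hinj))

end Cfsg.Agent.Suzuki
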