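import Cfsg.Agent.Lib.Suzuki.BigSubgroup

/-!
# The subgroups of the Suzuki groups

`BigSub.comap_conj`, `BigSub.exists_normalised`, `le_subfield_of_normalised`, `subgroup_cases`.
-/

set_option autoImplicit false
set_option linter.style.haveILetI false

namespace Cfsg.Agent.Suzuki

open Cfsg
open scoped Matrix

variable {F : Type*} [Field F] {m : ℕ} [Fintype F]
variable (hm : 1 ≤ m) (hF : Fintype.card F = 2 ^ (2 * m + 1))

include hm hF

/-- Transport along an element of the point stabiliser. -/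
lemma BigSub.comap_conj {M : Subgroup (Sz F m)} (hM : BigSub hF M) {s : Sz F m}
    (hs : s • suzukiPointInfinity F = suzukiPointInfinity F) :
    BigSub hF (M.comap (MulAut.conj s).toMonoidHom) := by
  have hmem : ∀ z : Sz F m, z ∈ M.comap (MulAut.conj s).toMonoidHom ↔ s * z * s⁻¹ ∈ M :=
    fun z => Iff.rfl
  have hs' : s⁻¹ • suzukiPointInfinity F = suzukiPointInfinity F := inv_smul_eq_iff.mpr hs.symm
  refine ⟨fun h => hM.ne_top ?_, ?_, ?_, ?_⟩
  · rw [eq_top_iff]
    intro y _
    have : s⁻¹ * y * s ∈ M.comap (MulAut.conj s).toMonoidHom := h ▸ Subgroup.mem_top _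
    rw [hmem] at this
    rwa [show s * (s⁻¹ * y * s) * s⁻¹ = y by group] at this
  · obtain ⟨b, hb, hbM⟩ := hM.invol
    obtain ⟨μ, hμ⟩ := zSub_conj_stab hm hF hs'
    have h := hμ b
    rw [inv_inv] at h
    refine ⟨μ * b, fun e => hb ?_, ?_⟩
    · rw [e, tSz_zero] at h
      have : tSz hF 0 b = 1 := by
        calc tSz hF 0 b = s * (s⁻¹ * tSz hF 0 b * s) * s⁻¹ := by group
          _ = 1 := by rw [h, mul_one, mul_inv_cancel]
      exact ((tSz_eq_one_iff hF).mp this).2
    · rw [hmem, ← h]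
      group
      exact hbM
  · obtain ⟨g, hg, hgi⟩ := hM.mover
    refine ⟨s⁻¹ * g * s, (hmem _).mpr (by group; exact hg), fun e => hgi ?_⟩
    rw [mul_smul, mul_smul, hs, inv_smul_eq_iff, hs] at e
    exact e
  · obtain ⟨h, hh, hhi, hhu⟩ := hM.torus
    refine ⟨s⁻¹ * h * s, (hmem _).mpr (by group; exact hh), ?_, fun hu => hhu ?_⟩
    · rw [mul_smul, mul_smul, hs, hhi, hs']
    · have hn : s ∈ Subgroup.normalizer (uSub hF : Set (Sz F m)) := by
        rw [normalizer_uSub hm hF]; exact hs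
      have := (Subgroup.mem_normalizer_iff.mp hn _).mp hu
      rwa [show s * (s⁻¹ * h * s) * s⁻¹ = h by group] at this

/-- A big subgroup is conjugate to one containing the inversion. -/
theorem BigSub.exists_normalised {M : Subgroup (Sz F m)} (hM : BigSub hF M) :
    ∃ s : Sz F m, BigSub hF (M.comap (MulAut.conj s).toMonoidHom) ∧
      wSz hF ∈ M.comap (MulAut.conj s).toMonoidHom := by
  obtain ⟨g, hg, hgi⟩ := hM.mover
  obtain ⟨y, hyM, -, hyi, hyp⟩ := (hM.pair hm hF _ g hg rfl hgi).1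
  obtain ⟨u, v, huv⟩ :=
    (mem_ovoid_iff.mp (smul_mem_ovoid g (infinity_mem (m := m)))).resolve_left hgi
  rw [huv] at hyi hyp
  set t := tSz hF u v with ht
  have hz : (t⁻¹ * y * t) • suzukiPointInfinity F = suzukiPointZero F := by
    rw [mul_smul, mul_smul, ht, tSz_smul_infinity, hyi, inv_smul_eq_iff, tSz_smul_zero]
  have hi : (t⁻¹ * y * t) • suzukiPointZero F = suzukiPointInfinity F := by
    rw [mul_smul, mul_smul, ht, tSz_smul_zero, hyp, inv_smul_eq_iff, tSz_smul_infinity]
  obtain ⟨j, hj⟩ := exists_dSz_of_fix hm hF (g := wSz hF * (t⁻¹ * y * t))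
    (by rw [mul_smul, hz, wSz_smul_zero]) (by rw [mul_smul, hi, wSz_smul_infinity])
  haveI := charTwo hF
  obtain ⟨i0, hi0⟩ := FiniteField.isSquare_of_char_two (ringChar.eq F 2) ((j⁻¹ : Fˣ) : F)
  have hi00 : i0 ≠ 0 := fun h => (j⁻¹).ne_zero (by rw [hi0, h, mul_zero])
  set i : Fˣ := Units.mk0 i0 hi00 with hidef
  have hij : i * j * i = 1 := by
    have e : i * i = j⁻¹ := Units.ext (by rw [Units.val_mul, hidef, Units.val_mk0, ← hi0])
    rw [mul_right_comm, e, inv_mul_cancel]
  refine ⟨t * dSz hF i,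
    hM.comap_conj hm hF (by rw [mul_smul, dSz_smul_infinity, ht, tSz_smul_infinity]), ?_⟩
  show t * dSz hF i * wSz hF * (t * dSz hF i)⁻¹ ∈ M
  have hy : y = t * (wSz hF * dSz hF j) * t⁻¹ := by
    rw [← hj, ← mul_assoc (wSz hF), wSz_mul_self, one_mul]; group
  have e : dSz hF i * wSz hF * (dSz hF i)⁻¹ = wSz hF * dSz hF j := by
    have e1 : dSz hF i * wSz hF = wSz hF * dSz hF i⁻¹ := by rw [wSz_conj_dSz, inv_inv]
    rw [e1, dSz_inv, mul_assoc, dSz_mul]
    congr 2
    apply mul_left_cancel (a := i)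
    apply mul_right_cancel (b := i)
    rw [hij]
    group
  convert hyM using 1
  rw [hy, ← e]
  group

/-- A normalised big subgroup consists of points over a proper subfield. -/
theorem le_subfield_of_normalised {M : Subgroup (Sz F m)} (hM : BigSub hF M)
    (hw : wSz hF ∈ M) :
    ∃ (K : Type) (_ : Field K) (_ : Fintype K) (k : ℕ), 1 ≤ k ∧ k < m ∧
      Fintype.card K = 2 ^ (2 * k + 1) ∧ 2 * k + 1 ∣ 2 * m + 1 ∧
      ∃ S : Subgroup (Sz F m), Nonempty (S ≃* Sz K k) ∧ M ≤ S := by
  classical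
  haveI := charTwo hF
  haveI := Fact.mk Nat.prime_two
  have hz0 : wSz hF • suzukiPointInfinity F ≠ suzukiPointInfinity F := by
    rw [wSz_smul_infinity]; exact pointZero_ne_infinity
  obtain ⟨b0, hb0, hb0M⟩ := hM.invol
  set C := torusPart hm hF M with hCdef
  have hD : ∀ k ∈ C, dSz hF k ∈ M := by
    intro k hk
    obtain ⟨x, hxM, hx0, rfl⟩ :=
      (hM.pair hm hF (suzukiPointZero F) (wSz hF) hw (wSz_smul_infinity hF)
        pointZero_ne_infinity).2 k hk
    obtain ⟨j, hj⟩ := exists_dSz_of_fix hm hF (MulAction.mem_stabilizer_iff.mp x.2) hx0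
    obtain ⟨a, b, e⟩ := borelHom_eq hm hF x
    have h := (tSz_dSz_uniq hF (a := (0 : F)) (b := 0) (k := j) (c := a) (d := b)
      (l := borelHom hm hF x) (by rw [tSz_zero, one_mul, ← hj]; exact e)).2.2
    rw [← h, ← hj]
    exact hxM
  let K0 : Subfield F :=
    { carrier := {x | x = 0 ∨ ∃ k ∈ C, th m (k : F) * (k : F) = x}
      one_mem' := Or.inr ⟨1, one_mem _, by simp⟩
      zero_mem' := Or.inl rfl
      mul_mem' := by
        rintro x y (rfl | ⟨k, hk, rfl⟩) hy
        · exact Or.inl (zero_mul y)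
        rcases hy with rfl | ⟨l, hl, rfl⟩
        · exact Or.inl (mul_zero _)
        · exact Or.inr ⟨k * l, mul_mem hk hl, by rw [Units.val_mul, th_mul]; ring⟩
      neg_mem' := by
        intro x hx
        rw [CharTwo.neg_eq]
        exact hx
      inv_mem' := by
        rintro x (rfl | ⟨k, hk, rfl⟩)
        · exact Or.inl inv_zero
        · exact Or.inr ⟨k⁻¹, inv_mem hk, by rw [Units.val_inv_eq_inv_val, th_inv, mul_inv]⟩
      add_mem' := by
        intro x y hx hy
        by_cases hxy : x + y = 0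
        · exact Or.inl hxy
        right
        have hV : ∀ z : F, z = 0 ∨ (∃ k ∈ C, th m (k : F) * (k : F) = z) →
            tSz hF 0 (z * b0) ∈ M := by
          rintro z (rfl | ⟨k, hk, rfl⟩)
          · rw [zero_mul, tSz_zero]; exact one_mem _
          · exact scale_mem hm hF hk hb0M
        have hmem : tSz hF 0 ((x + y) * b0) ∈ M := by
          have := mul_mem (hV x hx) (hV y hy)
          rw [tSz_mul] at this
          convert this using 2 <;> simp [add_mul]
        obtain ⟨k, hk, e⟩ := hM.scale_trans hm hF hb0 (mul_ne_zero hxy hb0) hb0M hmem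
        exact ⟨k, hk, mul_right_cancel₀ hb0 e⟩ }
  have hK0 : ∀ x, x ∈ K0 ↔ x = 0 ∨ ∃ k ∈ C, th m (k : F) * (k : F) = x := fun x => Iff.rfl
  have hpre : ∀ a : F, th m a * a ∈ K0 → a ∈ K0 := by
    intro a ha
    have hclosed : ∀ z : K0, th m (z : F) * (z : F) ∈ K0 :=
      fun z => mul_mem (pow_mem z.2 _) z.2
    obtain ⟨z, hz⟩ := Finite.surjective_of_injective
      (f := fun z : K0 => (⟨_, hclosed z⟩ : K0))
      (fun u v h => Subtype.ext (thSucc_injective hF (congrArg Subtype.val h))) ⟨_, ha⟩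
    exact (thSucc_injective hF (congrArg Subtype.val hz)) ▸ z.2
  have hCK : ∀ k ∈ C, (k : F) ∈ K0 := fun k hk => hpre _ ((hK0 _).mpr (Or.inr ⟨k, hk, rfl⟩))
  have hKC : ∀ a : F, ∀ ha0 : a ≠ 0, a ∈ K0 → Units.mk0 a ha0 ∈ C := by
    intro a ha0 ha
    rcases (hK0 _).mp (mul_mem (pow_mem ha (2 ^ (m + 1))) ha) with h | ⟨k, hk, h⟩
    · exact absurd h (mul_ne_zero (th_ne_zero ha0) ha0)
    · have e : (k : F) = a := thSucc_injective hF h
      rwa [show Units.mk0 a ha0 = k from Units.ext e.symm]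
  -- the orbit point of a central involution
  have hone : ∀ b : F, b ≠ 0 → tSz hF 0 b ∈ M →
      tSz hF 0 b⁻¹ ∈ M ∧ ∃ c, tSz hF (b / th m b) c ∈ M ∧ c = 0 := by
    intro b hb hbM
    have hy : (wSz hF * tSz hF 0 b * wSz hF) • suzukiPointInfinity F =
        pt m (b / th m b) 0 := by
      have hfz : fz m (0 : F) b = th m b := by simp [fz]
      rw [mul_smul, mul_smul, wSz_smul_infinity, tSz_smul_zero]
      change wSL F • pt m 0 b = _
      rw [wSL_smul_pt hF 0 b (by rw [hfz]; exact th_ne_zero hb), hfz, zero_div]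
    obtain ⟨a, c, hacM, hac⟩ := hM.transitive hm hF (suzukiPointZero F) (pt m (b / th m b) 0)
      (wSz hF) (wSz hF * tSz hF 0 b * wSz hF) hw (mul_mem (mul_mem hw hbM) hw)
      (wSz_smul_infinity hF) hy pointZero_ne_infinity (pt_ne_infinity _ _)
    rw [tSz_smul_zero] at hac
    obtain ⟨rfl, rfl⟩ := pt_inj hac
    refine ⟨?_, 0, hacM, rfl⟩
    have := mul_mem hacM hacM
    rw [tSz_mul] at this
    convert this using 2
    · grind
    · have := th_ne_zero (m := m) hb
      rw [th_div, th_th hF]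
      field_simp
      grind
  have hV : ∀ b : F, tSz hF 0 b ∈ M → b ∈ K0 := by
    have hb0K : b0 ∈ K0 := by
      obtain ⟨h1, -⟩ := hone b0 hb0 hb0M
      obtain ⟨k, hk, e⟩ := hM.scale_trans hm hF hb0 (inv_ne_zero hb0) hb0M h1
      have hsq : b0 * b0 ∈ K0 := by
        have e' : th m (k : F) * (k : F) = (b0 * b0)⁻¹ := by
          field_simp at e ⊢
          linear_combination e
        have := inv_mem (show th m (k : F) * (k : F) ∈ K0 from (hK0 _).mpr (Or.inr ⟨k, hk, rfl⟩))
        rwa [e', inv_inv] at this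
      obtain ⟨z, hz⟩ := Finite.surjective_of_injective (f := fun z : K0 => z * z)
        (fun u v h => by
          have h' : (u : F) * (u : F) = (v : F) * (v : F) := congrArg Subtype.val h
          rcases mul_self_eq_mul_self_iff.mp h' with h'' | h''
          · exact Subtype.ext h''
          · exact Subtype.ext (by rw [h'', CharTwo.neg_eq])) ⟨_, hsq⟩
      have hz' : (z : F) * (z : F) = b0 * b0 := congrArg Subtype.val hz
      rcases mul_self_eq_mul_self_iff.mp hz' with h'' | h''
      · exact h'' ▸ z.2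
      · rw [CharTwo.neg_eq] at h''
        exact h'' ▸ z.2
    intro b hb
    rcases eq_or_ne b 0 with rfl | hb'
    · exact zero_mem K0
    obtain ⟨k, hk, rfl⟩ := hM.scale_trans hm hF hb0 hb' hb0M hb
    exact mul_mem (mul_mem (pow_mem (hCK k hk) _) (hCK k hk)) hb0K
  have hVK : ∀ b : F, b ∈ K0 → tSz hF 0 b ∈ M := by
    intro b hb
    have hb0K : b0 ∈ K0 := hV b0 hb0M
    rcases (hK0 _).mp (mul_mem hb (inv_mem hb0K)) with h | ⟨k, hk, h⟩
    · rcases mul_eq_zero.mp h with h | h
      · rw [h, tSz_zero]; exact one_mem _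
      · exact absurd h (inv_ne_zero hb0)
    · have := scale_mem hm hF hk hb0M
      rwa [h, inv_mul_cancel_right₀ hb0] at this
  have hAM : ∀ a ∈ K0, tSz hF a 0 ∈ M := by
    intro a ha
    rcases eq_or_ne a 0 with rfl | ha0
    · rw [tSz_zero]; exact one_mem _
    obtain ⟨-, c, hc, rfl⟩ := hone 1 one_ne_zero (hVK 1 (one_mem K0))
    rw [th_one, div_one] at hc
    have hd := hD _ (hKC a ha0 ha)
    have := mul_mem (mul_mem hd hc) (inv_mem hd)
    rwa [dSz_conj_tSz, mul_inv_cancel_right, Units.val_mk0, mul_one, mul_zero] at this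
  have hU : ∀ a b : F, tSz hF a b ∈ M → a ∈ K0 ∧ b ∈ K0 := by
    intro a b h
    have h2 := mul_mem h h
    rw [tSz_mul, show a + a = 0 by grind] at h2
    have ha : a ∈ K0 := hpre a (by
      have := hV _ h2
      rwa [show b + b + th m a * a = th m a * a by grind] at this)
    refine ⟨ha, hV b ?_⟩
    have := mul_mem h (inv_mem (hAM a ha))
    rw [tSz_inv, tSz_mul] at this
    convert this using 2 <;> grind
  -- the degree
  haveI : Fintype K0 := Fintype.ofFinite K0
  have hcard := Module.card_eq_pow_finrank (K := K0) (V := F)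
  rw [hF] at hcard
  obtain ⟨d, -, hd⟩ := (Nat.dvd_prime_pow Nat.prime_two).mp
    (hcard ▸ dvd_pow_self (Fintype.card K0) Module.finrank_pos.ne')
  rw [hd, ← pow_mul] at hcard
  have hdvd : d ∣ 2 * m + 1 := Dvd.intro _ (Nat.pow_right_injective le_rfl hcard).symm
  obtain ⟨k, hk⟩ : ∃ k, d = 2 * k + 1 :=
    Odd.of_dvd_nat (odd_two_mul_add_one m) hdvd
  subst hk
  have hk1 : 1 ≤ k := by
    obtain ⟨u, hu, hu1⟩ := hM.exists_ne_one hm hF
    have h3 : Fintype.card ({0, 1, (u : F)} : Finset F) ≤ Fintype.card K0 :=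
      Fintype.card_le_of_injective
        (fun x => (⟨x.1, by
          have hx := x.2
          simp only [Finset.mem_insert, Finset.mem_singleton] at hx
          rcases hx with h | h | h
          · rw [h]; exact K0.zero_mem
          · rw [h]; exact K0.one_mem
          · rw [h]; exact hCK u hu⟩ : K0))
        (fun x y h => Subtype.ext (congrArg (fun z : K0 => (z : F)) h))
    rw [Fintype.card_coe, Finset.card_insert_of_notMem, Finset.card_pair] at h3
    · rw [hd] at h3
      by_contra hk0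
      rw [show k = 0 by omega] at h3
      norm_num at h3
    · exact fun h => hu1 (Units.ext h.symm)
    · simp [u.ne_zero.symm]
  have hkm : k < m := by
    have hle := Nat.le_of_dvd (by omega) hdvd
    by_contra hlt
    have hkm : k = m := by omega
    subst hkm
    obtain ⟨g, hg, hgi⟩ := hM.mover
    refine hM.ne_top (eq_top_of_zSub_le_root hm hF ?_ hg hgi)
    rintro _ ⟨b, rfl⟩
    obtain ⟨z, hz⟩ := ((Fintype.bijective_iff_injective_and_card (fun z : K0 => (z : F))).mpr
      ⟨Subtype.val_injective, by rw [hd, hF]⟩).2 b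
    exact hVK b (hz ▸ z.2)
  -- an abstract copy of the subfield
  let K := GaloisField 2 (2 * k + 1)
  letI : Fintype K := Fintype.ofFinite K
  have hK : Fintype.card K = 2 ^ (2 * k + 1) := by
    rw [← Nat.card_eq_fintype_card]; exact GaloisField.card 2 _ (by omega)
  letI := ZMod.algebra F 2
  obtain ⟨φ⟩ := FiniteField.nonempty_algHom_of_finrank_dvd (F := ZMod 2) (K := K) (L := F) (by
    rw [finrank_two K _ hK, finrank_two F _ hF]; exact hdvd)
  have hrange : ∀ x ∈ K0, ∃ y : K, φ y = x := by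
    intro x hx
    let P : Polynomial F := Polynomial.X ^ (2 ^ (2 * k + 1)) - Polynomial.X
    have h1 : 1 < 2 ^ (2 * k + 1) := Nat.one_lt_two_pow (by omega)
    have hP : P ≠ 0 := FiniteField.X_pow_card_sub_X_ne_zero F h1
    have hsub : Finset.univ.image φ ⊆ P.roots.toFinset := by
      intro z hz
      obtain ⟨y, -, rfl⟩ := Finset.mem_image.mp hz
      have hy : φ y ^ (2 ^ (2 * k + 1)) = φ y := by rw [← map_pow, ← hK, FiniteField.pow_card]
      simp [P, Polynomial.mem_roots hP, sub_eq_zero, hy]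
    have hc : P.roots.toFinset.card ≤ (Finset.univ.image φ).card := by
      rw [Finset.card_image_of_injective _ (show Function.Injective φ from φ.toRingHom.injective),
        Finset.card_univ, hK]
      refine (P.roots.toFinset_card_le.trans (Polynomial.card_roots' P)).trans ?_
      rw [FiniteField.X_pow_card_sub_X_natDegree_eq F h1]
    have hx' : x ^ (2 ^ (2 * k + 1)) = x := by
      have := congrArg Subtype.val (FiniteField.pow_card (⟨x, hx⟩ : K0))
      rw [hd] at this
      simpa using this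
    have hmem : x ∈ P.roots.toFinset := by
      simp [P, Polynomial.mem_roots hP, hx', sub_eq_zero]
    rw [← Finset.eq_of_subset_of_card_le hsub hc] at hmem
    obtain ⟨y, -, hy⟩ := Finset.mem_image.mp hmem
    exact ⟨y, hy⟩
  set f := szMap hF hk1 hK φ.toRingHom (th_comm_of_hom hK hdvd _) with hf
  refine ⟨K, inferInstance, inferInstance, k, hk1, hkm, hK, hdvd, f.range,
    ⟨(MonoidHom.ofInjective (szMap_injective hF hk1 hK _ _)).symm⟩, ?_⟩
  have hUr : ∀ a b : F, tSz hF a b ∈ M → tSz hF a b ∈ f.range := by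
    intro a b h
    obtain ⟨a', rfl⟩ := hrange a (hU a b h).1
    obtain ⟨b', rfl⟩ := hrange b (hU _ b h).2
    exact ⟨tSz hK a' b', szMap_tSz hF hk1 hK _ _ a' b'⟩
  have hBr : ∀ x ∈ M, x • suzukiPointInfinity F = suzukiPointInfinity F → x ∈ f.range := by
    intro x hx hxi
    obtain ⟨a, b, j, rfl⟩ := exists_tSz_dSz_of_fix hm hF hxi
    have hj : j ∈ C := by
      refine (mem_torusPart hm hF).mpr ⟨⟨_, hxi⟩, hx, ?_⟩
      obtain ⟨a', b', e⟩ := borelHom_eq hm hF ⟨_, hxi⟩
      exact (tSz_dSz_uniq hF e).2.2.symm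
    have ht : tSz hF a b ∈ M := by
      have := mul_mem hx (inv_mem (hD j hj))
      rwa [mul_inv_cancel_right] at this
    refine mul_mem (hUr a b ht) ?_
    obtain ⟨j', hj'⟩ := hrange (j : F) (hCK j hj)
    have hj0 : j' ≠ 0 := fun e => j.ne_zero (by rw [← hj', e, map_zero])
    refine ⟨dSz hK (Units.mk0 j' hj0), ?_⟩
    rw [hf, szMap_dSz]
    exact congrArg (dSz hF) (Units.ext hj')
  have hwr : wSz hF ∈ f.range := ⟨wSz hK, szMap_wSz hF hk1 hK _ _⟩
  intro x hx
  by_cases hxi : x • suzukiPointInfinity F = suzukiPointInfinity F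
  · exact hBr x hx hxi
  obtain ⟨a, b, hab, hab'⟩ := hM.transitive hm hF (suzukiPointZero F)
    (x • suzukiPointInfinity F) (wSz hF) x hw hx (wSz_smul_infinity hF) rfl
    pointZero_ne_infinity hxi
  have h1 := hBr ((tSz hF a b * wSz hF)⁻¹ * x) (mul_mem (inv_mem (mul_mem hab hw)) hx) (by
    rw [mul_smul, inv_smul_eq_iff, mul_smul, wSz_smul_infinity, hab'])
  have := mul_mem (mul_mem (hUr a b hab) hwr) h1
  rwa [mul_inv_cancel_left] at this

/-- Every proper subgroup lies in a Borel subgroup, a torus normaliser or a subfield subgroup. -/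
theorem subgroup_cases {M : Subgroup (Sz F m)} (hM : M ≠ ⊤) :
    (∃ P : Sylow 2 (Sz F m),
      M ≤ Subgroup.normalizer ((P : Subgroup (Sz F m)) : Set (Sz F m))) ∨
    (∃ U : Subgroup (Sz F m), IsCyclic U ∧
      Nat.card U ∈ ({2 ^ (2 * m + 1) - 1, torusA m, torusB m} : Set ℕ) ∧
      M ≤ Subgroup.normalizer (U : Set (Sz F m))) ∨
    (∃ (K : Type) (_ : Field K) (_ : Fintype K) (k : ℕ), 1 ≤ k ∧ k < m ∧
      Fintype.card K = 2 ^ (2 * k + 1) ∧ 2 * k + 1 ∣ 2 * m + 1 ∧
      ∃ S : Subgroup (Sz F m), Nonempty (S ≃* Sz K k) ∧ M ≤ S) := by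
  classical
  haveI : Fact (Nat.Prime 2) := ⟨Nat.prime_two⟩
  by_cases hs : Group.IsSolvable M
  · rcases container_cases hm hF (H := M) with ⟨p, hp, hfix⟩ | ⟨a, ha, hau, hle⟩
    · left
      obtain ⟨g, rfl⟩ := exists_smul_infinity hF hp
      refine ⟨g • uSylow hm hF, fun x hx => ?_⟩
      have hN : Subgroup.normalizer (((g • uSylow hm hF : Sylow 2 (Sz F m)) : Subgroup (Sz F m)) :
          Set (Sz F m)) = (borelSub F m).map (MulAut.conj g).toMonoidHom := by
        rw [Sylow.coe_subgroup_smul]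
        show Subgroup.normalizer (((uSub hF).map (MulAut.conj g).toMonoidHom : Subgroup (Sz F m)) :
          Set (Sz F m)) = _
        rw [← Subgroup.map_equiv_normalizer_eq (uSub hF) (MulAut.conj g), normalizer_uSub hm hF]
      rw [hN, map_conj_iff]
      refine MulAction.mem_stabilizer_iff.mpr ?_
      rw [mul_smul, mul_smul, hfix x hx, inv_smul_smul]
    · refine Or.inr (Or.inl ?_)
      rcases centralizer_cases hm hF ha with ⟨s, hs'⟩ | ⟨hc, -, hcard⟩
      · refine absurd ⟨s, s⁻¹ * a * s,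
          (map_conj_iff _ _ _).mp (hs' (Subgroup.mem_centralizer_singleton_iff.mpr rfl)),
          fun e => ha (by
            calc a = s * (s⁻¹ * a * s) * s⁻¹ := by group
              _ = 1 := by rw [e, mul_one, mul_inv_cancel]), by group⟩ hau
      · exact ⟨_, hc, hcard, hle⟩
  refine Or.inr (Or.inr ?_)
  have hodd : ¬ Odd (Nat.card M) := fun h => hs (isSolvable_of_odd hm hF h)
  obtain ⟨⟨z, hzM⟩, hz⟩ := exists_prime_orderOf_dvd_card' (G := M) 2
    (even_iff_two_dvd.mp (Nat.not_odd_iff_even.mp hodd))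
  rw [Subgroup.orderOf_mk] at hz
  obtain ⟨p, hp, hzp, -⟩ := invol_fixed hm hF hz
  obtain ⟨s, rfl⟩ := exists_smul_infinity hF hp
  obtain ⟨b, hb, hbz⟩ := invol_at_infinity hm hF (y := s⁻¹ * z * s)
    ((MulEquiv.orderOf_eq (MulAut.conj s).symm z ▸
      (by rw [MulAut.conj_symm_apply]) : orderOf (s⁻¹ * z * s) = orderOf z).trans hz)
    (by rw [mul_smul, mul_smul, hzp, inv_smul_smul])
  set M' := M.comap (MulAut.conj s).toMonoidHom with hM'
  have hbM : tSz hF 0 b ∈ M' := by
    show s * tSz hF 0 b * s⁻¹ ∈ M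
    rw [← hbz]
    group
    exact hzM
  have hns : ¬ Group.IsSolvable M' := fun h => hs (Group.isSolvable_of_surjective
    (f := ((MulAut.conj s).toMonoidHom.subgroupComap M))
    (fun ⟨y, hy⟩ => ⟨⟨(MulAut.conj s).symm y,
      (show (MulAut.conj s).toMonoidHom ((MulAut.conj s).symm y) ∈ M by
        rw [MulEquiv.coe_toMonoidHom, MulEquiv.apply_symm_apply]; exact hy)⟩,
      Subtype.ext (MulEquiv.apply_symm_apply _ _)⟩))
  have hbig : BigSub hF M' := by
    refine ⟨fun h => hM ?_, ⟨b, hb, hbM⟩, ?_, ?_⟩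
    · rw [eq_top_iff]
      intro y _
      have : (MulAut.conj s).symm y ∈ M' := h ▸ Subgroup.mem_top _
      rw [hM', Subgroup.mem_comap, MulEquiv.coe_toMonoidHom, MulEquiv.apply_symm_apply] at this
      exact this
    · by_contra hcon
      push Not at hcon
      haveI := isSolvable_borelSub hm hF
      exact hns (Group.isSolvable_of_isSolvable_injective
        (Subgroup.inclusion_injective (show M' ≤ borelSub F m from fun x hx => hcon x hx)))
    · by_contra hcon
      push Not at hcon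
      by_cases hg : ∀ g ∈ M', g ∈ borelSub F m
      · haveI := isSolvable_borelSub hm hF
        exact hns (Group.isSolvable_of_isSolvable_injective (Subgroup.inclusion_injective hg))
      · push Not at hg
        obtain ⟨g, hg1, hg2⟩ := hg
        exact hns (isSolvable_of_borel_unipotent hm hF hb hbM hg1 hg2 fun h hh hhB =>
          hcon h hh hhB)
  obtain ⟨t, hbig', hwt⟩ := hbig.exists_normalised hm hF
  obtain ⟨K, iK, fK, k, hk1, hkm, hK, hdvd, S, ⟨e⟩, hle⟩ :=
    le_subfield_of_normalised hm hF hbig' hwt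
  refine ⟨K, iK, fK, k, hk1, hkm, hK, hdvd, S.map (MulAut.conj (s * t)).toMonoidHom,
    ⟨(S.equivMapOfInjective _ (MulAut.conj (s * t)).injective).symm.trans e⟩, fun x hx => ?_⟩
  rw [map_conj_iff]
  refine hle ?_
  show t * ((s * t)⁻¹ * x * (s * t)) * t⁻¹ ∈ M'
  show s * (t * ((s * t)⁻¹ * x * (s * t)) * t⁻¹) * s⁻¹ ∈ M
  rwa [show s * (t * ((s * t)⁻¹ * x * (s * t)) * t⁻¹) * s⁻¹ = x by group]

end Cfsg.Agent.Suzuki
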