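import Cfsg.Agent.Lib.Suzuki.Geometry
import Cfsg.Agent.Lib.Suzuki.Simple

/-!
# Functoriality in the field

`szMap hk hK hF φ hφ : Sz K k →* Sz F m` for a ring map `φ` commuting with `th`; `szMap_tSz`,
`szMap_dSz`, `szMap_wSz`, `szMap_injective`; `fieldAut`.
-/

set_option autoImplicit false
set_option linter.style.haveILetI false

namespace Cfsg.Agent.Suzuki

open Cfsg
open scoped Matrix

variable {F : Type*} [Field F] {m : ℕ} [Fintype F]
variable {K : Type*} [Field K] {k : ℕ} [Fintype K]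
variable (hm : 1 ≤ m) (hF : Fintype.card F = 2 ^ (2 * m + 1))
variable (hk : 1 ≤ k) (hK : Fintype.card K = 2 ^ (2 * k + 1))
variable (φ : K →+* F) (hφ : ∀ x, φ (th k x) = th m (φ x))

include hφ in
omit [Fintype F] [Fintype K] in
lemma map_fz (x y : K) : φ (fz k x y) = fz m (φ x) (φ y) := by
  simp [fz, hφ]

omit [Fintype F] [Fintype K] in
include hφ in
lemma map_tMat (a b : K) : (tMat k a b).map φ = tMat m (φ a) (φ b) := by
  ext i j
  fin_cases i <;> fin_cases j <;> simp [tMat, hφ, map_fz φ hφ]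

include hF hφ in
omit [Fintype K] in
lemma map_pow_half (x : K) : φ (x ^ (2 ^ k)) = (φ x) ^ (2 ^ m) := by
  haveI := charTwo hF
  have h : (φ (x ^ (2 ^ k))) ^ 2 = ((φ x) ^ (2 ^ m)) ^ 2 := by
    rw [← map_pow, ← pow_mul, ← pow_mul, ← pow_succ, ← pow_succ]
    exact hφ x
  rcases sq_eq_sq_iff_eq_or_eq_neg.mp h with e | e
  · exact e
  · rw [e, CharTwo.neg_eq]

include hF hφ in
omit [Fintype K] in
lemma map_dVec (u : Kˣ) :
    (Matrix.diagonal (dVec k u)).map φ = Matrix.diagonal (dVec m (Units.map φ.toMonoidHom u)) := by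
  rw [Matrix.diagonal_map (map_zero φ)]
  congr 1
  funext i
  fin_cases i <;>
    simp [dVec, map_inv₀, map_pow_half hF φ hφ, map_pow, -map_pow] <;> rfl

omit [Fintype F] [Fintype K] in
lemma map_suzukiForm : (suzukiForm K).map φ = suzukiForm F := by
  ext i j
  fin_cases i <;> fin_cases j <;> simp [suzukiForm]

include hk hK hF hφ in
lemma map_mem_sz (g : Sz K k) :
    Matrix.SpecialLinearGroup.map φ (g : Matrix.SpecialLinearGroup (Fin 4) K) ∈ Sz F m := by
  set Φ := Matrix.SpecialLinearGroup.map (n := Fin 4) φ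
  have ht : ∀ a b, Φ (tSz hK a b : Matrix.SpecialLinearGroup (Fin 4) K) ∈ Sz F m := fun a b => by
    have e : Φ (tSz hK a b : Matrix.SpecialLinearGroup (Fin 4) K) = tSL m (φ a) (φ b) :=
      Subtype.ext (map_tMat φ hφ a b)
    rw [e]; exact tSL_mem hF _ _
  have hd : ∀ u, Φ (dSz hK u : Matrix.SpecialLinearGroup (Fin 4) K) ∈ Sz F m := fun u => by
    have e : Φ (dSz hK u : Matrix.SpecialLinearGroup (Fin 4) K) =
        dSL m (Units.map φ.toMonoidHom u) := Subtype.ext (map_dVec hF φ hφ u)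
    rw [e]; exact dSL_mem hF _
  have hw : Φ (wSz hK : Matrix.SpecialLinearGroup (Fin 4) K) ∈ Sz F m := by
    have e : Φ (wSz hK : Matrix.SpecialLinearGroup (Fin 4) K) = wSL F :=
      Subtype.ext (map_suzukiForm φ)
    rw [e]; exact wSL_mem hF
  rcases decompose hk hK g with ⟨a, b, u, rfl⟩ | ⟨a, b, c, d, u, rfl⟩
  · rw [Subgroup.coe_mul, map_mul]
    exact mul_mem (ht a b) (hd u)
  · simp only [Subgroup.coe_mul, map_mul]
    exact mul_mem (mul_mem (ht a b) hw) (mul_mem (ht c d) (hd u))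

/-- The map induced by a field homomorphism commuting with `th`. -/
def szMap : Sz K k →* Sz F m :=
  ((Matrix.SpecialLinearGroup.map φ).comp (Sz K k).subtype).codRestrict (Sz F m)
    (map_mem_sz hF hk hK φ hφ)

lemma szMap_tSz (a b : K) : szMap hF hk hK φ hφ (tSz hK a b) = tSz hF (φ a) (φ b) :=
  Subtype.ext (Subtype.ext (map_tMat φ hφ a b))

lemma szMap_dSz (u : Kˣ) :
    szMap hF hk hK φ hφ (dSz hK u) = dSz hF (Units.map φ.toMonoidHom u) :=
  Subtype.ext (Subtype.ext (map_dVec hF φ hφ u))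

lemma szMap_wSz : szMap hF hk hK φ hφ (wSz hK) = wSz hF :=
  Subtype.ext (Subtype.ext (map_suzukiForm φ))

lemma szMap_injective : Function.Injective (szMap hF hk hK φ hφ) := fun a b h => by
  apply Subtype.ext
  apply Subtype.ext
  have h' : ((a : Matrix.SpecialLinearGroup (Fin 4) K) : Matrix (Fin 4) (Fin 4) K).map φ =
      ((b : Matrix.SpecialLinearGroup (Fin 4) K) : Matrix (Fin 4) (Fin 4) K).map φ :=
    congrArg (fun g : Sz F m =>
      ((g : Matrix.SpecialLinearGroup (Fin 4) F) : Matrix (Fin 4) (Fin 4) F)) h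
  exact Matrix.map_injective φ.injective h'

omit [Fintype K] in
include hm in
/-- Two homomorphisms agreeing on the generators are equal. -/
lemma hom_ext_gens {H : Type*} [Group H] {f g : Sz F m →* H}
    (ht : ∀ a b, f (tSz hF a b) = g (tSz hF a b)) (hd : ∀ u, f (dSz hF u) = g (dSz hF u))
    (hw : f (wSz hF) = g (wSz hF)) : f = g := by
  refine MonoidHom.ext fun x => ?_
  rcases decompose hm hF x with ⟨a, b, u, rfl⟩ | ⟨a, b, c, d, u, rfl⟩ <;>
    simp [map_mul, ht, hd, hw]

omit [Fintype K] in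
lemma ringEquiv_th (τ : F ≃+* F) (x : F) : τ.toRingHom (th m x) = th m (τ.toRingHom x) :=
  map_pow τ x _

/-- The automorphism induced by a field automorphism. -/
noncomputable def fieldAut (τ : F ≃+* F) : MulAut (Sz F m) :=
  MulEquiv.ofBijective (szMap hF hm hF τ.toRingHom (ringEquiv_th τ))
    (Finite.injective_iff_bijective.mp (szMap_injective hF hm hF _ _))

lemma fieldAut_tSz (τ : F ≃+* F) (a b : F) :
    fieldAut hm hF τ (tSz hF a b) = tSz hF (τ a) (τ b) := szMap_tSz hF hm hF τ.toRingHom (ringEquiv_th τ) a b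

lemma fieldAut_dSz (τ : F ≃+* F) (u : Fˣ) :
    fieldAut hm hF τ (dSz hF u) = dSz hF (Units.map τ.toRingHom.toMonoidHom u) :=
  szMap_dSz hF hm hF τ.toRingHom (ringEquiv_th τ) u

lemma fieldAut_wSz (τ : F ≃+* F) : fieldAut hm hF τ (wSz hF) = wSz hF :=
  szMap_wSz hF hm hF τ.toRingHom (ringEquiv_th τ)

omit [Fintype K] in
/-- `fieldAut` as a homomorphism. -/
noncomputable def fieldAutHom : RingAut F →* MulAut (Sz F m) where
  toFun := fieldAut hm hF
  map_one' := by
    refine MulEquiv.toMonoidHom_injective (hom_ext_gens hm hF (fun a b => ?_) (fun u => ?_) ?_)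
    · exact fieldAut_tSz hm hF 1 a b
    · exact (fieldAut_dSz hm hF 1 u).trans (congrArg _ (Units.ext rfl))
    · exact fieldAut_wSz hm hF 1
  map_mul' σ τ := by
    refine MulEquiv.toMonoidHom_injective (hom_ext_gens hm hF (fun a b => ?_) (fun u => ?_) ?_)
    · show fieldAut hm hF (σ * τ) _ = fieldAut hm hF σ (fieldAut hm hF τ _)
      rw [fieldAut_tSz, fieldAut_tSz, fieldAut_tSz]; rfl
    · show fieldAut hm hF (σ * τ) _ = fieldAut hm hF σ (fieldAut hm hF τ _)
      rw [fieldAut_dSz, fieldAut_dSz, fieldAut_dSz]; rfl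
    · show fieldAut hm hF (σ * τ) _ = fieldAut hm hF σ (fieldAut hm hF τ _)
      rw [fieldAut_wSz, fieldAut_wSz, fieldAut_wSz]

end Cfsg.Agent.Suzuki
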