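import Cfsg.Agent.Lib.Suzuki.Partition

/-!
# Torus elements

An element is a torus element when it is non-identity and not conjugate into the unipotent group.
`torusElt_centralizer`: centraliser cyclic, TI, normaliser index 2 (order `q - 1`) or 4.
-/

set_option autoImplicit false
set_option linter.style.haveILetI false

namespace Cfsg.Agent.Suzuki

open Cfsg
open scoped Matrix

variable {F : Type*} [Field F] {m : ℕ} [Fintype F]
variable (hm : 1 ≤ m) (hF : Fintype.card F = 2 ^ (2 * m + 1))

include hm hF in
/-- Centralisers of conjugates correspond. -/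
lemma centralizer_map_conj (g s : Sz F m) :
    Subgroup.centralizer {s * g * s⁻¹} =
      (Subgroup.centralizer {g}).map (MulAut.conj s).toMonoidHom := by
  ext z
  rw [map_conj_iff, @centralizer_conj F _ m _ hm hF g s (s⁻¹ * z * s),
    show s * (s⁻¹ * z * s) * s⁻¹ = z by group]

include hm hF in
/-- The centraliser of a torus element and its normaliser. -/
theorem torusElt_centralizer {g : Sz F m} (hg : g ≠ 1) (hu : g ∉ conjSet (uSub hF)) :
    IsCyclic (Subgroup.centralizer {g}) ∧
    (∀ c ∈ Subgroup.centralizer {g}, c ≠ 1 →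
      Subgroup.centralizer {c} = Subgroup.centralizer {g}) ∧
    ((Nat.card (Subgroup.centralizer {g}) = 2 ^ (2 * m + 1) - 1 ∧
        Nat.card (Subgroup.normalizer
          ((Subgroup.centralizer {g} : Subgroup (Sz F m)) : Set (Sz F m))) =
          2 * Nat.card (Subgroup.centralizer {g})) ∨
      ((Nat.card (Subgroup.centralizer {g}) = torusA m ∨
          Nat.card (Subgroup.centralizer {g}) = torusB m) ∧
        Nat.card (Subgroup.normalizer
          ((Subgroup.centralizer {g} : Subgroup (Sz F m)) : Set (Sz F m))) =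
          4 * Nat.card (Subgroup.centralizer {g}))) := by
  rcases mem_cases hm hF hg with ⟨a, -, -⟩ | ⟨-, ⟨s, d, hd, hd1, rfl⟩, -⟩ | ⟨-, -, hf⟩
  · exact absurd a hu
  · obtain ⟨k, rfl⟩ := (mem_dSub hF).mp hd
    have hk : k ≠ 1 := fun h => hd1 (by rw [h, dSz_one])
    rw [centralizer_map_conj hm hF, centralizer_dSz hm hF hk]
    haveI hcyc : IsCyclic (dSub hF) :=
      isCyclic_of_surjective (dHom hF).rangeRestrict (dHom hF).rangeRestrict_surjective
    refine ⟨isCyclic_of_surjective _
      ((dSub hF).equivMapOfInjective _ (MulAut.conj s).injective).surjective, ?_, Or.inl ⟨?_, ?_⟩⟩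
    · intro c hc hc1
      obtain ⟨d, hd', rfl⟩ := hc
      obtain ⟨l, rfl⟩ := (mem_dSub hF).mp hd'
      have hl : l ≠ 1 := fun h => hc1 (by rw [h, dSz_one, map_one])
      show Subgroup.centralizer {s * dSz hF l * s⁻¹} = _
      rw [centralizer_map_conj hm hF, centralizer_dSz hm hF hl]
    · rw [card_map_conj, card_dSub]
    · rw [← Subgroup.map_equiv_normalizer_eq, card_map_conj, card_map_conj,
        card_normalizer_dSub hm hF, card_dSub]
  · exact ⟨cyclic_centralizer_of_fpf hm hF hf,
      fun c hc hc1 => centralizer_eq_of_mem hm hF hf hc hc1, Or.inr (torus_data hm hF hf)⟩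

include hm hF in
/-- The order of the centraliser of a torus element is odd. -/
lemma odd_card_torusElt {g : Sz F m} (hg : g ≠ 1) (hu : g ∉ conjSet (uSub hF)) :
    Odd (Nat.card (Subgroup.centralizer {g})) := by
  have h2 : 2 ∣ 2 ^ (m + 1) := dvd_pow_self 2 (by omega)
  have h2' := two_dvd_q (m := m)
  have hle := sigma_le m
  have h1 : 1 ≤ 2 ^ (2 * m + 1) := Nat.one_le_pow _ _ (by norm_num)
  rw [Nat.odd_iff]
  rcases (torusElt_centralizer hm hF hg hu).2.2 with ⟨h, -⟩ | ⟨h | h, -⟩ <;>
    rw [h] <;> (try simp only [torusA, torusB]) <;> omega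

include hF in
/-- Members of conjugates of the unipotent subgroup have order dividing `q²`. -/
lemma orderOf_dvd_of_conjSet_uSub {g : Sz F m} (h : g ∈ conjSet (uSub hF)) :
    orderOf g ∣ (2 ^ (2 * m + 1)) ^ 2 := by
  obtain ⟨s, c, hc, -, rfl⟩ := h
  rw [show s * c * s⁻¹ = MulAut.conj s c from rfl, MulEquiv.orderOf_eq, ← card_uSub hF]
  exact Subgroup.orderOf_dvd_natCard _ hc

end Cfsg.Agent.Suzuki
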