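import Cfsg.Agent.Lib.Suzuki.Partition
import Cfsg.Agent.Lib.Suzuki.Borel
import Cfsg.Agent.Lib.Frobenius.Kernel

/-!
# Suzuki groups over fields of prime degree have only solvable proper subgroups

`borelHom`, `eq_top_of_zSub_le_root` (two root-group centres generate), `isSolvable_of_ne_top`,
`container_cases` (a proper subgroup fixes a point or normalises a torus).
-/

set_option autoImplicit false
set_option linter.style.haveILetI false

namespace Cfsg.Agent.Suzuki

open Cfsg
open scoped Matrix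

variable {F : Type*} [Field F] {m : ℕ} [Fintype F]
variable (hm : 1 ≤ m) (hF : Fintype.card F = 2 ^ (2 * m + 1))

/-- The stabiliser of infinity. -/
abbrev borelSub (F : Type*) [Field F] (m : ℕ) : Subgroup (Sz F m) :=
  MulAction.stabilizer (Sz F m) (suzukiPointInfinity F)

lemma tSz_dSz_uniq {a b c d : F} {k l : Fˣ} (h : tSz hF a b * dSz hF k = tSz hF c d * dSz hF l) :
    a = c ∧ b = d ∧ k = l := by
  have hz := congrArg (fun g : Sz F m => g • suzukiPointZero F) h
  simp only [mul_smul, dSz_smul_zero, tSz_smul_zero] at hz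
  obtain ⟨rfl, rfl⟩ := pt_inj hz
  exact ⟨rfl, rfl, dSz_inj hF (mul_left_cancel h)⟩

/-- The projection of the Borel subgroup onto the torus parameter. -/
noncomputable def borelHom : borelSub F m →* Fˣ :=
  MonoidHom.mk' (fun g => (exists_tSz_dSz_of_fix hm hF g.2).choose_spec.choose_spec.choose)
    (fun g h => by
      have hg := (exists_tSz_dSz_of_fix hm hF g.2).choose_spec.choose_spec.choose_spec
      have hh := (exists_tSz_dSz_of_fix hm hF h.2).choose_spec.choose_spec.choose_spec
      have hgh := (exists_tSz_dSz_of_fix hm hF (g * h).2).choose_spec.choose_spec.choose_spec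
      have e : ((g * h : borelSub F m) : Sz F m) = (g : Sz F m) * (h : Sz F m) := rfl
      conv at e => rhs; rw [hg, hh, tSz_dSz_mul]
      exact (tSz_dSz_uniq hF (hgh.symm.trans e)).2.2)

lemma borelHom_eq (g : borelSub F m) :
    ∃ a b : F, (g : Sz F m) = tSz hF a b * dSz hF (borelHom hm hF g) :=
  ⟨_, _, (exists_tSz_dSz_of_fix hm hF g.2).choose_spec.choose_spec.choose_spec⟩

lemma borelHom_eq_one_iff (g : borelSub F m) :
    borelHom hm hF g = 1 ↔ (g : Sz F m) ∈ uSub hF := by
  obtain ⟨a, b, e⟩ := borelHom_eq hm hF g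
  constructor
  · intro h
    rw [e, h, dSz_one, mul_one]
    exact tSz_mem_uSub hF a b
  · rintro ⟨c, d, h⟩
    have h' : tSz hF a b * dSz hF (borelHom hm hF g) = tSz hF c d * dSz hF 1 := by
      rw [← e, dSz_one, mul_one, h]
    exact (tSz_dSz_uniq hF h').2.2

include hF in
/-- Fixed points of the twisting map are idempotent. -/
lemma eq_one_of_th_eq {u : F} (hu : u ≠ 0) (h : th m u = u) : u = 1 := by
  have h2 : th m u * u = u * u := by rw [h]
  have h3 : u ^ 2 = u := by
    have := th_th hF u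
    rw [h, h] at this
    exact this.symm
  exact (mul_eq_left₀ hu).mp (by rw [← sq]; exact h3)

include hm hF in
/-- A subgroup containing the centre of a root group and moving its point is everything. -/
theorem eq_top_of_zSub_le_root {M : Subgroup (Sz F m)} (hZ : zSub hF ≤ M) {g : Sz F m} (hg : g ∈ M)
    (hne : g • suzukiPointInfinity F ≠ suzukiPointInfinity F) : M = ⊤ := by
  haveI := charTwo hF
  obtain ⟨x, y, hxy⟩ :=
    (mem_ovoid_iff.mp (smul_mem_ovoid g (infinity_mem (m := m)))).resolve_left hne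
  set t := tSz hF x y with ht
  set M' : Subgroup (Sz F m) := M.comap (MulAut.conj t).toMonoidHom with hM'
  have hmem : ∀ z : Sz F m, z ∈ M' ↔ t * z * t⁻¹ ∈ M := fun z => Iff.rfl
  have hzz : ∀ (s : Sz F m), s • suzukiPointInfinity F = suzukiPointInfinity F →
      ∀ b : F, s * tSz hF 0 b * s⁻¹ ∈ zSub hF := fun s hs b => by
    obtain ⟨μ, hμ⟩ := zSub_conj_stab hm hF hs
    exact ⟨μ * b, hμ b⟩
  have hZ' : ∀ b : F, tSz hF 0 b ∈ M' := fun b =>
    (hmem _).mpr (hZ (hzz t (tSz_smul_infinity hF x y) b))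
  set g' := t⁻¹ * g * t with hg'def
  have hg' : g' ∈ M' := (hmem _).mpr (by rw [hg'def]; group; exact hg)
  have hg'i : g' • suzukiPointInfinity F = suzukiPointZero F := by
    rw [hg'def, mul_smul, mul_smul, ht, tSz_smul_infinity, hxy, inv_smul_eq_iff, tSz_smul_zero]
  -- the opposite centre
  have hw : ∀ b : F, wSz hF * tSz hF 0 b * (wSz hF)⁻¹ ∈ M' := fun b => by
    have hs : ((wSz hF)⁻¹ * g')⁻¹ • suzukiPointInfinity F = suzukiPointInfinity F := by
      rw [mul_inv_rev, inv_inv, mul_smul, wSz_smul_infinity, inv_smul_eq_iff, hg'i]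
    obtain ⟨c, hc⟩ := hzz _ hs b
    have e : wSz hF * tSz hF 0 b * (wSz hF)⁻¹ =
        g' * (((wSz hF)⁻¹ * g')⁻¹ * tSz hF 0 b * ((wSz hF)⁻¹ * g')⁻¹⁻¹) * g'⁻¹ := by group
    rw [e, hc]
    exact mul_mem (mul_mem hg' (hZ' c)) (inv_mem hg')
  -- the orbit of infinity is the whole ovoid
  have htr : ∀ p ∈ suzukiOvoid F m, ∃ n ∈ M', n • suzukiPointInfinity F = p := by
    intro p hp
    rcases mem_ovoid_iff.mp hp with rfl | ⟨a, c, rfl⟩
    · exact ⟨1, one_mem _, one_smul _ _⟩
    rcases eq_or_ne a 0 with rfl | ha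
    · exact ⟨tSz hF 0 c * g', mul_mem (hZ' c) hg', by rw [mul_smul, hg'i, tSz_smul_zero]⟩
    obtain ⟨b, hb0, hb⟩ : ∃ b : F, b ≠ 0 ∧ b / th m b = a := by
      classical
      have hinj : Function.Injective (fun b : F => b / th m b) := by
        intro u v huv
        simp only at huv
        rcases eq_or_ne v 0 with rfl | hv
        · rw [zero_div, div_eq_zero_iff] at huv
          rcases huv with h | h
          · exact h
          · exact th_eq_zero.mp h
        have hu : u ≠ 0 := fun h => by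
          rw [h, zero_div, eq_comm, div_eq_zero_iff] at huv
          rcases huv with h' | h'
          · exact hv h'
          · exact hv (th_eq_zero.mp h')
        have e : th m (u / v) = u / v := by
          have := th_ne_zero (m := m) hv
          have := th_ne_zero (m := m) hu
          rw [th_div]
          field_simp at huv ⊢
          linear_combination -huv
        exact (div_eq_one_iff_eq hv).mp (eq_one_of_th_eq hF (div_ne_zero hu hv) e)
      obtain ⟨b, hb⟩ := Finite.surjective_of_injective hinj a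
      exact ⟨b, fun h => ha (by rw [← hb, h]; exact zero_div _), hb⟩
    refine ⟨tSz hF 0 c * (wSz hF * tSz hF 0 b * (wSz hF)⁻¹), mul_mem (hZ' c) (hw b), ?_⟩
    have hfz : fz m (0 : F) b = th m b := by simp [fz]
    have e : (wSz hF * tSz hF 0 b * (wSz hF)⁻¹) • suzukiPointInfinity F = pt m a 0 := by
      rw [wSz_inv, mul_smul, mul_smul, wSz_smul_infinity, tSz_smul_zero]
      change wSL F • pt m 0 b = _
      rw [wSL_smul_pt hF 0 b (by rw [hfz]; exact th_ne_zero hb0), hfz, hb, zero_div]
    rw [mul_smul, e, tSz_smul_pt]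
    simp
  haveI := isSimpleGroup_sz hm hF
  have hN : (Subgroup.normalClosure (zSub hF : Set (Sz F m))) = ⊤ := by
    refine (Subgroup.normalClosure_normal.eq_bot_or_eq_top).resolve_left fun h => ?_
    have h1 : tSz hF 0 1 ∈ (⊥ : Subgroup (Sz F m)) :=
      h ▸ Subgroup.subset_normalClosure (show tSz hF 0 1 ∈ zSub hF from ⟨1, rfl⟩)
    exact one_ne_zero ((tSz_eq_one_iff hF).mp (Subgroup.mem_bot.mp h1)).2
  have hM'top : M' = ⊤ := by
    rw [eq_top_iff, ← hN, Subgroup.normalClosure, Subgroup.closure_le]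
    intro z hz
    obtain ⟨u, hu, hcj⟩ := Group.mem_conjugatesOfSet_iff.mp hz
    obtain ⟨s, rfl⟩ := isConj_iff.mp hcj
    obtain ⟨b, rfl⟩ := hu
    obtain ⟨n, hn, hns⟩ := htr _ (smul_mem_ovoid s infinity_mem)
    obtain ⟨c, hc⟩ := hzz (n⁻¹ * s) (by rw [mul_smul, ← hns, inv_smul_smul]) b
    have e : s * tSz hF 0 b * s⁻¹ = n * ((n⁻¹ * s) * tSz hF 0 b * (n⁻¹ * s)⁻¹) * n⁻¹ := by group
    rw [SetLike.mem_coe, e, hc]
    exact mul_mem (mul_mem hn (hZ' c)) (inv_mem hn)
  rw [eq_top_iff]
  intro z _
  have hz : t⁻¹ * z * t ∈ M' := hM'top ▸ Subgroup.mem_top _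
  rw [hmem] at hz
  simpa [mul_assoc] using hz

include hF in
lemma ring_stable_eq_univ (hp : (2 * m + 1).Prime) {V : AddSubgroup F} {μ b : F} (hμ0 : μ ≠ 0)
    (hμ1 : μ ≠ 1) (hb : b ∈ V) (hb0 : b ≠ 0) (hst : ∀ c ∈ V, μ * c ∈ V) : V = ⊤ := by
  classical
  let S : Subring F :=
    { carrier := {x | ∀ c ∈ V, x * c ∈ V}
      mul_mem' := fun {x y} hx hy c hc => by rw [mul_assoc]; exact hx _ (hy c hc)
      one_mem' := fun c hc => by rwa [one_mul]
      add_mem' := fun {x y} hx hy c hc => by rw [add_mul]; exact add_mem (hx c hc) (hy c hc)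
      zero_mem' := fun c _ => by rw [zero_mul]; exact zero_mem _
      neg_mem' := fun {x} hx c hc => by rw [neg_mul]; exact neg_mem (hx c hc) }
  let K : Subfield F :=
    { S with
      inv_mem' := fun x hx => by
        rcases eq_or_ne x 0 with rfl | h0
        · rw [inv_zero]; exact S.zero_mem
        · have e : x⁻¹ = x ^ (Fintype.card F - 2) := by
            apply inv_eq_of_mul_eq_one_right
            rw [← pow_succ']
            have : 2 ≤ Fintype.card F := Fintype.one_lt_card
            rw [show Fintype.card F - 2 + 1 = Fintype.card F - 1 by omega]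
            exact FiniteField.pow_card_sub_one_eq_one x h0
          rw [e]
          exact S.pow_mem hx _ }
  haveI : Fintype K := Fintype.ofFinite K
  have hcard := Module.card_eq_pow_finrank (K := K) (V := F)
  rw [hF] at hcard
  obtain ⟨d, -, hd⟩ := (Nat.dvd_prime_pow Nat.prime_two).mp
    (hcard ▸ dvd_pow_self (Fintype.card K) Module.finrank_pos.ne')
  rw [hd, ← pow_mul] at hcard
  have hdr := Nat.pow_right_injective le_rfl hcard
  have h3 : 3 ≤ Fintype.card K := by
    have : Fintype.card ({0, 1, μ} : Finset F) ≤ Fintype.card K :=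
      Fintype.card_le_of_injective
        (fun x => (⟨x.1, by
          have hx := x.2
          simp only [Finset.mem_insert, Finset.mem_singleton] at hx
          rcases hx with h | h | h
          · rw [h]; exact K.zero_mem
          · rw [h]; exact K.one_mem
          · rw [h]; exact hst⟩ : K))
        (fun x y h => Subtype.ext (congrArg (fun z : K => (z : F)) h))
    rw [Fintype.card_coe, Finset.card_insert_of_notMem, Finset.card_pair hμ1.symm] at this
    · exact this
    · simp [hμ0.symm]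
  rcases (Nat.dvd_prime hp).mp (Dvd.intro _ hdr.symm) with h1 | h1
  · rw [hd, h1] at h3; omega
  have hK : ∀ x : F, x ∈ K := by
    intro x
    have hc : Fintype.card K = Fintype.card F := by rw [hd, h1, hF]
    obtain ⟨y, hy⟩ := ((Fintype.bijective_iff_injective_and_card _).mpr
      ⟨Subtype.val_injective, hc⟩).2 x
    exact hy ▸ y.2
  rw [eq_top_iff]
  intro c _
  have := hK (c / b) b hb
  rwa [div_mul_cancel₀ c hb0] at this

include hm hF in
lemma isSolvable_borelSub : Group.IsSolvable (borelSub F m) := by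
  haveI : Fact (Nat.Prime 2) := ⟨Nat.prime_two⟩
  have hker : ∀ g : borelSub F m, g ∈ (borelHom hm hF).ker → (g : Sz F m) ∈ uSub hF :=
    fun g hg => (borelHom_eq_one_iff hm hF g).mp hg
  haveI : Group.IsNilpotent (uSub hF) := (isPGroup_uSub hF).isNilpotent
  let ψ : (borelHom hm hF).ker →* uSub hF :=
    ((borelSub F m).subtype.comp (borelHom hm hF).ker.subtype).codRestrict _ (fun g => hker _ g.2)
  have hψ : Function.Injective ψ := fun a b h =>
    Subtype.ext (Subtype.ext (congrArg (fun z : uSub hF => (z : Sz F m)) h))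
  haveI : Group.IsSolvable (borelHom hm hF).ker := Group.isSolvable_of_isSolvable_injective hψ
  exact Group.isSolvable_of_ker_le_range (borelHom hm hF).ker.subtype (borelHom hm hF)
    (by rw [Subgroup.range_subtype])

include hm hF in
lemma isSolvable_of_odd {H : Subgroup (Sz F m)} (h : Odd (Nat.card H)) : Group.IsSolvable H := by
  haveI : IsZGroup H := by
    refine ⟨fun p hp P => ?_⟩
    haveI := Fact.mk hp
    rcases eq_or_ne p 2 with rfl | hp2
    · have : Nat.card P = 1 := by
        obtain ⟨n, hn⟩ := P.isPGroup'.exists_card_eq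
        rcases Nat.eq_zero_or_pos n with rfl | h0
        · simpa using hn
        · exfalso
          have hd := (Subgroup.card_subgroup_dvd_card (P : Subgroup H))
          rw [hn] at hd
          exact (Nat.not_even_iff_odd.mpr h) ((even_iff_two_dvd).mpr
            ((dvd_pow_self 2 h0.ne').trans hd))
      exact isCyclic_of_card_dvd_prime (p := 2) (by rw [this]; exact one_dvd _)
    · obtain ⟨Q, hQ⟩ := (P.isPGroup'.map H.subtype).exists_le_sylow
      haveI := sylow_odd_cyclic hm hF hp2 Q
      exact isCyclic_of_injective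
        (((Subgroup.inclusion hQ).comp
          ((P : Subgroup H).equivMapOfInjective H.subtype H.subtype_injective).toMonoidHom))
        ((Subgroup.inclusion_injective hQ).comp
          ((P : Subgroup H).equivMapOfInjective H.subtype H.subtype_injective).injective)
  infer_instance

include hm hF in
/-- With a field of prime degree every proper subgroup is solvable. -/
theorem isSolvable_of_ne_top (hp : (2 * m + 1).Prime) {H : Subgroup (Sz F m)} (hH : H ≠ ⊤) :
    Group.IsSolvable H := by
  classical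
  haveI := charTwo hF
  haveI : Fact (Nat.Prime 2) := ⟨Nat.prime_two⟩
  by_cases hodd : Odd (Nat.card H)
  · exact isSolvable_of_odd hm hF hodd
  obtain ⟨⟨z, hzH⟩, hz⟩ := exists_prime_orderOf_dvd_card' (G := H) 2
    (even_iff_two_dvd.mp (Nat.not_odd_iff_even.mp hodd))
  rw [Subgroup.orderOf_mk] at hz
  -- conjugate the involution into the centre at infinity
  obtain ⟨s, hs⟩ : ∃ s : Sz F m, s⁻¹ * z * s ∈ zSub hF := by
    have hz2 : z ^ 2 = 1 := hz ▸ pow_orderOf_eq_one z
    have hE : Cfsg.IsElementaryAbelian 2 (Subgroup.zpowers z) := by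
      refine ⟨⟨⟨fun a b => ?_⟩⟩, ?_⟩
      · exact mul_comm' a b
      · rintro a ⟨k, rfl⟩
        simp only
        rw [← zpow_natCast, ← zpow_mul, mul_comm, zpow_mul, zpow_natCast, hz2, one_zpow]
    have hne : Subgroup.zpowers z ≠ ⊥ := by
      rw [Ne, Subgroup.zpowers_eq_bot]
      rintro rfl
      simp at hz
    obtain ⟨s, hs⟩ := elementary_le_zSub hm hF hE hne
    exact ⟨s, hs z (Subgroup.mem_zpowers z)⟩
  set H' : Subgroup (Sz F m) := H.comap (MulAut.conj s).toMonoidHom with hH'def
  suffices Group.IsSolvable H' by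
    exact Group.isSolvable_of_surjective (f := ((MulAut.conj s).toMonoidHom.subgroupComap H))
      (fun ⟨y, hy⟩ => ⟨⟨(MulAut.conj s).symm y,
        (show (MulAut.conj s).toMonoidHom ((MulAut.conj s).symm y) ∈ H by
          rw [MulEquiv.coe_toMonoidHom, MulEquiv.apply_symm_apply]; exact hy)⟩,
        Subtype.ext (MulEquiv.apply_symm_apply _ _)⟩)
  have hH' : H' ≠ ⊤ := fun h => hH (by
    rw [eq_top_iff]
    intro y _
    have : (MulAut.conj s).symm y ∈ H' := h ▸ Subgroup.mem_top _
    rw [hH'def, Subgroup.mem_comap, MulEquiv.coe_toMonoidHom, MulEquiv.apply_symm_apply] at this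
    exact this)
  obtain ⟨b, hb⟩ := hs
  have hbH : tSz hF 0 b ∈ H' := by
    rw [hH'def, Subgroup.mem_comap, MulEquiv.coe_toMonoidHom, MulAut.conj_apply, ← hb]
    group
    exact hzH
  have hb0 : b ≠ 0 := by
    rintro rfl
    rw [tSz_zero] at hb
    have : z = 1 := by
      calc z = s * (s⁻¹ * z * s) * s⁻¹ := by group
        _ = 1 := by rw [hb, mul_one, mul_inv_cancel]
    rw [this, orderOf_one] at hz
    omega
  clear_value H'
  clear hzH hz hb
  by_cases hB : H' ≤ borelSub F m
  · haveI := isSolvable_borelSub hm hF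
    exact Group.isSolvable_of_isSolvable_injective (Subgroup.inclusion_injective hB)
  obtain ⟨g, hg, hgB⟩ := SetLike.not_le_iff_exists.mp hB
  have hU : ∀ h ∈ H', h ∈ borelSub F m → h ∈ uSub hF := by
    intro h hh hhB
    by_contra hnu
    obtain ⟨a, c, he⟩ := borelHom_eq hm hF ⟨h, hhB⟩
    set k := borelHom hm hF ⟨h, hhB⟩ with hk
    have hk1 : k ≠ 1 := fun e => hnu ((borelHom_eq_one_iff hm hF ⟨h, hhB⟩).mp e)
    have hconj : ∀ e : F, h * tSz hF 0 e * h⁻¹ = tSz hF 0 (th m (k : F) * (k : F) * e) := by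
      intro e
      have he' : h = tSz hF a c * dSz hF k := he
      rw [he']
      calc tSz hF a c * dSz hF k * tSz hF 0 e * (tSz hF a c * dSz hF k)⁻¹
          = tSz hF a c * (dSz hF k * tSz hF 0 e * (dSz hF k)⁻¹) * (tSz hF a c)⁻¹ := by group
        _ = _ := by
          rw [zSub_conj_dSz, tSz_inv, tSz_mul, tSz_mul]
          congr 1 <;> simp <;> grind
    let V : AddSubgroup F :=
      { carrier := {e | tSz hF 0 e ∈ H'}
        zero_mem' := by show tSz hF 0 0 ∈ H'; rw [tSz_zero]; exact one_mem _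
        add_mem' := fun {x y} hx hy => by
          show tSz hF 0 (x + y) ∈ H'
          have e : tSz hF 0 (x + y) = tSz hF 0 x * tSz hF 0 y := by rw [tSz_mul]; simp
          rw [e]; exact mul_mem hx hy
        neg_mem' := fun {x} hx => by
          show tSz hF 0 (-x) ∈ H'
          rwa [CharTwo.neg_eq] }
    have hV := ring_stable_eq_univ hF hp (V := V) (μ := th m (k : F) * (k : F))
      (mul_ne_zero (th_ne_zero k.ne_zero) k.ne_zero)
      (fun e => hk1 (Units.ext (thSucc_eq_one hF e))) hbH hb0 (fun e he' => by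
        show tSz hF 0 _ ∈ H'
        rw [← hconj]
        exact mul_mem (mul_mem hh he') (inv_mem hh))
    refine hH' (eq_top_of_zSub_le_root hm hF ?_ hg (fun e => hgB e))
    rintro _ ⟨e, rfl⟩
    exact (hV ▸ AddSubgroup.mem_top e : e ∈ V)
  set Q : Subgroup H' := (borelSub F m).subgroupOf H' with hQdef
  have hQ : Cfsg.IsFrobeniusComplement Q := by
    refine ⟨?_, ?_, fun x hx => ?_⟩
    · intro h
      have hmem : (⟨tSz hF 0 b, hbH⟩ : H') ∈ (⊥ : Subgroup H') :=
        h ▸ (Subgroup.mem_subgroupOf.mpr (tSz_smul_infinity hF 0 b))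
      exact hb0 ((tSz_eq_one_iff hF).mp (congrArg Subtype.val (Subgroup.mem_bot.mp hmem))).2
    · intro h
      exact hgB (Subgroup.mem_subgroupOf.mp (h ▸ Subgroup.mem_top (⟨g, hg⟩ : H')))
    · rw [eq_bot_iff]
      rintro y ⟨hy1, hy2⟩
      rw [Subgroup.mem_bot]
      by_contra hy
      replace hy2 := Frobenius.mem_conj_smul.mp hy2
      rw [Subgroup.mem_subgroupOf] at hy2
      obtain ⟨a, c, hac⟩ := hU _ y.2 (Subgroup.mem_subgroupOf.mp hy1)
      have hfix : (y : Sz F m) • ((x : Sz F m) • suzukiPointInfinity F) =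
          (x : Sz F m) • suzukiPointInfinity F := by
        have := MulAction.mem_stabilizer_iff.mp hy2
        simp only [Subgroup.coe_mul, Subgroup.coe_inv, mul_smul] at this
        rwa [inv_smul_eq_iff] at this
      refine hx (Subgroup.mem_subgroupOf.mpr (MulAction.mem_stabilizer_iff.mpr
        (uSub_fix_eq hF (a := a) (b := c) ?_ (smul_mem_ovoid _ infinity_mem) (hac ▸ hfix))))
      rintro ⟨rfl, rfl⟩
      rw [tSz_zero] at hac
      exact hy (Subtype.ext hac)
  set N := Frobenius.frobKernel hQ with hNdef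
  haveI hNn : N.Normal := Frobenius.frobKernel_normal hQ
  have hcomp := Frobenius.frobKernel_isComplement hQ
  have hQ2 : IsPGroup 2 Q := by
    refine (isPGroup_uSub hF).of_injective
      ((H'.subtype.comp Q.subtype).codRestrict (uSub hF)
        (fun y => hU _ y.1.2 (Subgroup.mem_subgroupOf.mp y.2))) ?_
    exact fun a c h => Subtype.ext (Subtype.ext (congrArg (fun z : uSub hF => (z : Sz F m)) h))
  haveI : Group.IsNilpotent Q := hQ2.isNilpotent
  have hNodd : Odd (Nat.card N) := by
    obtain ⟨n, hn⟩ := hQ2.exists_card_eq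
    have hn0 : n ≠ 0 := fun h => hQ.1 (Subgroup.card_eq_one.mp (by rw [hn, h, pow_zero]))
    have hcop := Frobenius.coprime_card_index hQ
    rw [← Frobenius.card_frobKernel hQ, hn, Nat.coprime_pow_left_iff (Nat.pos_of_ne_zero hn0),
      Nat.coprime_two_left] at hcop
    exact hcop
  haveI : Group.IsSolvable (N.map H'.subtype) := isSolvable_of_odd hm hF (by
    rwa [← Nat.card_congr (N.equivMapOfInjective H'.subtype H'.subtype_injective).toEquiv])
  haveI : Group.IsSolvable N := Group.isSolvable_of_isSolvable_injective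
    (f := (N.equivMapOfInjective H'.subtype H'.subtype_injective).toMonoidHom)
    (N.equivMapOfInjective H'.subtype H'.subtype_injective).injective
  haveI : Group.IsSolvable (H' ⧸ N) := Group.isSolvable_of_surjective
    (f := ((QuotientGroup.mk' N).comp Q.subtype)) (fun y => by
      obtain ⟨y, rfl⟩ := QuotientGroup.mk'_surjective N y
      obtain ⟨⟨n, k⟩, hnk⟩ := hcomp.2 y
      refine ⟨k, ?_⟩
      have hn : QuotientGroup.mk' N (n : H') = 1 := (QuotientGroup.eq_one_iff _).mpr n.2
      rw [← hnk]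
      simp only [map_mul, hn, one_mul]
      rfl)
  exact Group.isSolvable_of_ker_le_range N.subtype (QuotientGroup.mk' N)
    (by rw [Subgroup.range_subtype, QuotientGroup.ker_mk'])

include hm hF in
/-- Two semisimple elements' centralisers coincide once they commute. -/
lemma centralizer_eq_of_semisimple {a c : Sz F m} (ha : a ≠ 1) (hau : a ∉ conjSet (uSub hF))
    (hc : c ∈ Subgroup.centralizer {a}) (hc1 : c ≠ 1) :
    c ∉ conjSet (uSub hF) ∧ Subgroup.centralizer {c} = Subgroup.centralizer {a} := by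
  rcases mem_cases hm hF ha with ⟨h, -⟩ | ⟨-, ⟨s, d, hd, hd1, rfl⟩, -⟩ | ⟨-, -, hf⟩
  · exact absurd h hau
  · obtain ⟨k, rfl⟩ := (mem_dSub hF).mp hd
    have hk : k ≠ 1 := fun h => hd1 (by rw [h, dSz_one])
    rw [centralizer_conj hm hF (x := s⁻¹),
      show s⁻¹ * (s * dSz hF k * s⁻¹) * s⁻¹⁻¹ = dSz hF k by group,
      centralizer_dSz hm hF hk, mem_dSub] at hc
    obtain ⟨l, hl⟩ := hc
    have hl1 : l ≠ 1 := fun h => hc1 (by
      rw [h, dSz_one] at hl
      calc c = s * (s⁻¹ * c * s⁻¹⁻¹) * s⁻¹ := by group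
        _ = 1 := by rw [hl, mul_one, mul_inv_cancel])
    have e : c = s * dSz hF l * s⁻¹ := by rw [← hl]; group
    refine ⟨fun h => ?_, ?_⟩
    · rcases mem_cases hm hF hc1 with ⟨-, h', -⟩ | ⟨h', -⟩ | ⟨h', -⟩
      · exact h' ⟨s, dSz hF l, (mem_dSub hF).mpr ⟨l, rfl⟩,
          fun e' => hl1 (dSz_inj hF (e'.trans (dSz_one hF).symm)), e⟩
      · exact h' h
      · exact h' h
    · ext y
      rw [e, centralizer_conj hm hF (x := s⁻¹) (g := s * dSz hF l * s⁻¹),
        centralizer_conj hm hF (x := s⁻¹) (g := s * dSz hF k * s⁻¹),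
        show s⁻¹ * (s * dSz hF l * s⁻¹) * s⁻¹⁻¹ = dSz hF l by group,
        show s⁻¹ * (s * dSz hF k * s⁻¹) * s⁻¹⁻¹ = dSz hF k by group,
        centralizer_dSz hm hF hl1, centralizer_dSz hm hF hk]
  · have hcf := fpf_of_mem_torus hm hF hf hc hc1
    refine ⟨fun h => ?_, centralizer_eq_of_mem hm hF hf hc hc1⟩
    rcases mem_cases hm hF hc1 with ⟨-, -, h'⟩ | ⟨h', -⟩ | ⟨h', -⟩
    · exact h' hcf
    · exact h' h
    · exact h' h

include hm hF in
/-- A solvable proper subgroup fixes a point or normalises the centraliser of a semisimple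
element. -/
theorem container_cases {H : Subgroup (Sz F m)} [hs : Group.IsSolvable H] :
    (∃ p ∈ suzukiOvoid F m, ∀ h ∈ H, h • p = p) ∨
      ∃ a : Sz F m, a ≠ 1 ∧ a ∉ conjSet (uSub hF) ∧
        H ≤ Subgroup.normalizer ((Subgroup.centralizer {a} : Subgroup (Sz F m)) : Set (Sz F m)) := by
  classical
  rcases eq_or_ne H ⊥ with rfl | hne
  · exact Or.inl ⟨_, infinity_mem, fun h hh => by rw [Subgroup.mem_bot.mp hh, one_smul]⟩
  haveI : Nontrivial H := (Subgroup.nontrivial_iff_ne_bot H).mpr hne
  obtain ⟨A, hAn, hAc, hA⟩ : ∃ A : Subgroup H, A.Normal ∧ (∀ a ∈ A, ∀ b ∈ A, a * b = b * a) ∧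
      A ≠ ⊥ := by
    obtain ⟨n, hn⟩ := hs.solvable
    have h0 : derivedSeries H 0 ≠ ⊥ := by rw [derivedSeries_zero]; exact top_ne_bot
    obtain ⟨j, hj, hj'⟩ : ∃ j, derivedSeries H j ≠ ⊥ ∧ derivedSeries H (j + 1) = ⊥ := by
      by_contra hcon
      push Not at hcon
      exact (Nat.rec (motive := fun j => derivedSeries H j ≠ ⊥) h0 (fun j ih => hcon j ih) n) hn
    refine ⟨derivedSeries H j, derivedSeries_normal H j, fun a ha c hc => ?_, hj⟩
    rw [derivedSeries_succ] at hj'
    have := Subgroup.commutator_mem_commutator ha hc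
    rw [hj', Subgroup.mem_bot] at this
    exact commutatorElement_eq_one_iff_mul_comm.mp this
  haveI : Nontrivial A := (Subgroup.nontrivial_iff_ne_bot A).mpr hA
  obtain ⟨⟨⟨a, haH⟩, haA⟩, ha1⟩ := exists_ne (1 : A)
  have ha : a ≠ 1 := fun h => ha1 (Subtype.ext (Subtype.ext h))
  have hAC : ∀ c : H, c ∈ A → (c : Sz F m) ∈ Subgroup.centralizer {a} := fun c hc =>
    Subgroup.mem_centralizer_singleton_iff.mpr (congrArg Subtype.val (hAc c hc ⟨a, haH⟩ haA))
  have hconj : ∀ h ∈ H, h * a * h⁻¹ ∈ Subgroup.centralizer {a} := fun h hh =>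
    hAC _ (hAn.conj_mem _ haA ⟨h, hh⟩)
  by_cases hau : a ∈ conjSet (uSub hF)
  · left
    obtain ⟨s, c, ⟨u, v, rfl⟩, hc1, rfl⟩ := hau
    refine ⟨s • suzukiPointInfinity F, smul_mem_ovoid s infinity_mem, fun h hh => ?_⟩
    have h1 := hconj h hh
    rw [centralizer_conj hm hF (x := s⁻¹),
      show s⁻¹ * (s * tSz hF u v * s⁻¹) * s⁻¹⁻¹ = tSz hF u v by group] at h1
    obtain ⟨u', v', h1⟩ := centralizer_tSz_le hm hF
      (fun e => hc1 ((tSz_eq_one_iff hF).mpr e)) h1
    have huv : ¬ (u' = 0 ∧ v' = 0) := by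
      rintro ⟨rfl, rfl⟩
      rw [tSz_zero] at h1
      exact ha (conj_eq_one_iff.mp (conj_eq_one_iff.mp h1))
    have hfix : tSz hF u' v' • ((s⁻¹ * h * s) • suzukiPointInfinity F) =
        (s⁻¹ * h * s) • suzukiPointInfinity F := by
      rw [← h1, ← mul_smul,
        show s⁻¹ * (h * (s * tSz hF u v * s⁻¹) * h⁻¹) * s⁻¹⁻¹ * (s⁻¹ * h * s) =
          s⁻¹ * h * s * tSz hF u v by group, mul_smul, tSz_smul_infinity]
    have := uSub_fix_eq hF huv (smul_mem_ovoid _ infinity_mem) hfix
    calc h • s • suzukiPointInfinity F = s • ((s⁻¹ * h * s) • suzukiPointInfinity F) := by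
          rw [← mul_smul, ← mul_smul]; group
      _ = s • suzukiPointInfinity F := by rw [this]
  · right
    refine ⟨a, ha, hau, fun h hh => ?_⟩
    have e1 := (centralizer_eq_of_semisimple hm hF ha hau (hconj h hh)
      (fun e => ha (conj_eq_one_iff.mp e))).2
    rw [Subgroup.mem_normalizer_iff]
    intro y
    conv_rhs => rw [← e1]
    exact centralizer_conj hm hF

end Cfsg.Agent.Suzuki
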