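import Cfsg.Agent.Lib.Suzuki.Field
import Cfsg.Prelude.Def_Solvable
import Cfsg.Prelude.Def_Transfer

/-!
# Automorphisms of a Suzuki 2-group

For a group `S` parametrised by `F × F` with product `(a,b)(c,d) = (a+c, b+d+a^θ c)`:
every automorphism is `(a,b) ↦ (k ψ a, k^(θ+1) ψ b + L a)` (`exists_data`), hence
`card_mulAut`, `pCore_mulAut`.
-/

set_option autoImplicit false
set_option linter.style.haveILetI false

namespace Cfsg.Agent.Suzuki.SylowAut

variable {F : Type*} [Field F] [Fintype F] {m : ℕ}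
variable (hF : Fintype.card F = 2 ^ (2 * m + 1))

/-- A parametrisation of a group as a Suzuki 2-group. -/
structure Model (S : Type*) [Group S] (F : Type*) [Field F] (m : ℕ) where
  e : F × F ≃ S
  mul : ∀ a b c d : F, e (a, b) * e (c, d) = e (a + c, b + d + th m a * c)

/-- The image of `u ↦ u^θ + u`. -/
def traceZero [CharP F 2] : AddSubgroup F :=
  (AddMonoidHom.mk' (fun u : F => th m u + u) (fun u v => by simp only [th_add]; ring)).range

include hF in
lemma index_traceZero [CharP F 2] : (traceZero (F := F) (m := m)).index = 2 := by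
  classical
  set f : F →+ F := AddMonoidHom.mk' (fun u : F => th m u + u)
    (fun u v => by simp only [th_add]; ring)
  have hk : Nat.card f.ker = 2 := by
    rw [Nat.card_eq_two_iff]
    refine ⟨⟨0, f.ker.zero_mem⟩, ⟨1, ?_⟩, by simp [Subtype.ext_iff], ?_⟩
    · show th m (1 : F) + 1 = 0
      rw [th_one]; grind
    · ext ⟨x, hx⟩
      simp only [Set.mem_insert_iff, Set.mem_singleton_iff, Set.mem_univ, iff_true, Subtype.mk.injEq]
      change th m x + x = 0 at hx
      rcases eq_or_ne x 0 with h | h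
      · exact .inl h
      · refine .inr ?_
        have hx' : th m x = x := by grind
        have h2 := th_th hF x
        rw [hx', hx'] at h2
        have : x * (x - 1) = 0 := by linear_combination -h2
        exact sub_eq_zero.mp ((mul_eq_zero.mp this).resolve_left h)
  have h1 : Nat.card f.range = f.ker.index := (AddSubgroup.index_ker f).symm
  have h2 := f.ker.card_mul_index
  have h3 := f.range.card_mul_index
  rw [hk, ← h1] at h2
  show f.range.index = 2
  rw [← h2, mul_comm 2] at h3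
  exact Nat.eq_of_mul_eq_mul_left Nat.card_pos h3

section semilinear

variable [CharP F 2]
variable (σ τ : F → F) (hσ : Function.Bijective σ) (hτ : Function.Bijective τ)
  (hσadd : ∀ x y, σ (x + y) = σ x + σ y) (hτadd : ∀ x y, τ (x + y) = τ x + τ y)
  (hcomm : ∀ a c, τ (th m a * c + th m c * a) = th m (σ a) * σ c + th m (σ c) * σ a)
  (hsq : ∀ a, τ (th m a * a) = th m (σ a) * σ a)

omit [Fintype F] in
lemma range_bracket (x c : F) (hc : c ≠ 0) :
    x / (th m c * c) ∈ traceZero (F := F) (m := m) ↔ ∃ a, x = th m a * c + th m c * a := by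
  have h0 : th m c * c ≠ 0 := mul_ne_zero (th_ne_zero hc) hc
  have hθ := th_ne_zero (m := m) hc
  constructor
  · rintro ⟨u, hu⟩
    refine ⟨u * c, ?_⟩
    simp only [AddMonoidHom.mk'_apply] at hu
    rw [th_mul, eq_div_iff h0 |>.mp hu |>.symm]
    ring
  · rintro ⟨a, rfl⟩
    refine ⟨a / c, ?_⟩
    simp only [AddMonoidHom.mk'_apply, th_div]
    field_simp

include hF hσ hτ hσadd hcomm hsq in
/-- `τ` maps the hyperplane `w T₀` onto `τ w T₀`. -/
lemma hyperplane_map (w x : F) (hw : w ≠ 0) :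
    x / w ∈ traceZero (F := F) (m := m) ↔ τ x / τ w ∈ traceZero (F := F) (m := m) := by
  obtain ⟨c, rfl⟩ := (thSucc_bijective hF).2 w
  have hc : c ≠ 0 := by rintro rfl; simp at hw
  have hσ0 : σ 0 = 0 := by have := hσadd 0 0; simp only [add_zero] at this; grind
  have hσc : σ c ≠ 0 := fun h => hc (hσ.1 (h.trans hσ0.symm))
  simp only [hsq]
  rw [range_bracket x c hc, range_bracket (τ x) (σ c) hσc]
  constructor
  · rintro ⟨a, rfl⟩
    exact ⟨σ a, hcomm a c⟩
  · rintro ⟨a', ha⟩
    obtain ⟨a, rfl⟩ := hσ.2 a'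
    exact ⟨a, hτ.1 (ha.trans (hcomm a c).symm)⟩

include hF hσ hτ hσadd hτadd hcomm hsq in
/-- Normalised at one, the pair is a field automorphism. -/
lemma eq_ringHom (h1 : σ 1 = 1) : ∃ ψ : F ≃+* F, ∀ x, σ x = ψ x ∧ τ x = ψ x := by
  classical
  have hτ0 : τ 0 = 0 := by have := hτadd 0 0; simp only [add_zero] at this; grind
  have hτne : ∀ {x : F}, x ≠ 0 → τ x ≠ 0 := fun hx h => hx (hτ.1 (h.trans hτ0.symm))
  have hτ1 : τ 1 = 1 := by simpa [h1] using hsq 1
  obtain ⟨μ, hμ⟩ : ∃ μ : F → F, ∀ u, μ u = (τ u⁻¹)⁻¹ := ⟨_, fun _ => rfl⟩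
  set T := traceZero (F := F) (m := m)
  have hidx : T.index = 2 := index_traceZero hF
  have key : ∀ u x : F, x * u ∈ T ↔ τ x * μ u ∈ T := by
    intro u x
    rcases eq_or_ne u 0 with rfl | hu
    · simp [hμ, hτ0]
    have := hyperplane_map hF σ τ hσ hτ hσadd hcomm hsq u⁻¹ x (inv_ne_zero hu)
    simpa [hμ, div_eq_mul_inv] using this
  have hμadd : ∀ u v, μ (u + v) = μ u + μ v := by
    intro u v
    by_contra hne
    obtain ⟨d, hd, hd0⟩ : ∃ d, d = μ (u + v) + (μ u + μ v) ∧ d ≠ 0 :=
      ⟨_, rfl, fun h => hne (by grind)⟩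
    obtain ⟨z, hz⟩ : ∃ z : F, z ∉ T := by
      by_contra hall
      push Not at hall
      rw [(AddSubgroup.eq_top_iff' T).mpr hall, AddSubgroup.index_top] at hidx
      omega
    obtain ⟨x, hx⟩ := hτ.2 (z / d)
    apply hz
    have hzd : z = τ x * μ (u + v) + (τ x * μ u + τ x * μ v) := by
      rw [hx, ← mul_add, ← mul_add, ← hd, div_mul_cancel₀ _ hd0]
    rw [hzd, AddSubgroup.add_mem_iff_of_index_two hidx, AddSubgroup.add_mem_iff_of_index_two hidx,
      ← key, ← key, ← key, ← AddSubgroup.add_mem_iff_of_index_two hidx, mul_add]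
  have hμ0 : μ 0 = 0 := by simp [hμ, hτ0]
  have hμ1 : μ 1 = 1 := by simp [hμ, hτ1]
  have hμne : ∀ {x : F}, x ≠ 0 → μ x ≠ 0 := fun hx => by
    rw [hμ]; exact inv_ne_zero (hτne (inv_ne_zero hx))
  have hτμ : ∀ u, τ u⁻¹ = (μ u)⁻¹ := fun u => by rw [hμ, inv_inv]
  have main : ∀ a c, c ≠ 0 → μ (a ^ 2 / c) = μ a ^ 2 / μ c := by
    intro a c hc
    rcases eq_or_ne a 0 with rfl | ha
    · simp [hμ0]
    rcases eq_or_ne (a + c) 0 with hac | hac
    · have : a = c := by grind
      subst this
      rw [pow_two, mul_div_assoc, div_self hc, mul_one, pow_two, mul_div_assoc,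
        div_self (hμne hc), mul_one]
    have e1 : a⁻¹ + (a + c)⁻¹ = (a ^ 2 / c + a)⁻¹ := by
      have : a ^ 2 / c + a = a * (a + c) / c := by field_simp
      rw [this, inv_div]; field_simp; grind
    have e2 := congrArg τ e1
    rw [hτadd, hτμ, hτμ, hτμ, hμadd, hμadd] at e2
    have ha' := hμne ha
    have hc' := hμne hc
    have hac' : μ a + μ c ≠ 0 := by rw [← hμadd]; exact hμne hac
    have : (μ a)⁻¹ + (μ a + μ c)⁻¹ = (μ a ^ 2 / μ c + μ a)⁻¹ := by
      have : μ a ^ 2 / μ c + μ a = μ a * (μ a + μ c) / μ c := by field_simp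
      rw [this, inv_div]; field_simp; grind
    rw [this] at e2
    exact (add_right_cancel (inv_injective e2)).symm
  have hsquare : ∀ a, μ (a ^ 2) = μ a ^ 2 := fun a => by simpa [hμ1] using main a 1 one_ne_zero
  have hinv : ∀ c, μ c⁻¹ = (μ c)⁻¹ := by
    intro c
    rcases eq_or_ne c 0 with rfl | hc
    · simp [hμ0]
    · simpa [hμ1, div_eq_mul_inv] using main 1 c hc
  have hmul : ∀ x y, μ (x * y) = μ x * μ y := by
    intro x y
    rcases eq_or_ne y 0 with rfl | hy
    · simp [hμ0]
    obtain ⟨a, rfl⟩ := (bijective_frobenius F 2).2 x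
    show μ (a ^ 2 * y) = μ (a ^ 2) * μ y
    have := main a y⁻¹ (inv_ne_zero hy)
    rw [hinv, div_inv_eq_mul, div_inv_eq_mul] at this
    rw [this, hsquare]
  let f : F →+* F :=
    { toFun := μ
      map_one' := hμ1
      map_mul' := hmul
      map_zero' := hμ0
      map_add' := hμadd }
  refine ⟨RingEquiv.ofBijective f (Finite.injective_iff_bijective.mp f.injective), fun x => ?_⟩
  have hτeq : ∀ x, τ x = μ x := fun x => by rw [← inv_inv x, hτμ, ← hinv]
  have hf : ∀ y, f (th m y) = th m (f y) := fun y => map_pow f y _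
  refine ⟨thSucc_injective hF ?_, hτeq x⟩
  show th m (σ x) * σ x = th m (f x) * f x
  rw [← hsq, hτeq, ← hf, ← map_mul]; rfl

include hF hσ hτ hσadd hτadd hcomm hsq in
/-- The pair is semilinear. -/
lemma exists_semilinear :
    ∃ (k : Fˣ) (ψ : F ≃+* F), ∀ x, σ x = k * ψ x ∧ τ x = th m (k : F) * k * ψ x := by
  have hσ0 : σ 0 = 0 := by have := hσadd 0 0; simp only [add_zero] at this; grind
  have hk : σ 1 ≠ 0 := fun h => one_ne_zero (hσ.1 (h.trans hσ0.symm))
  obtain ⟨k, hk'⟩ : ∃ k : Fˣ, (k : F) = σ 1 := ⟨Units.mk0 _ hk, rfl⟩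
  have hk0 : (k : F) ≠ 0 := k.ne_zero
  have hg : th m (k : F) * k ≠ 0 := mul_ne_zero (th_ne_zero hk0) hk0
  obtain ⟨ψ, hψ⟩ := eq_ringHom hF (fun x => σ x / k) (fun x => τ x / (th m (k : F) * k))
    ((mulLeft_bijective₀ _ (inv_ne_zero hk0)).comp hσ |> fun h => by
      simpa [div_eq_inv_mul, Function.comp_def] using h)
    ((mulLeft_bijective₀ _ (inv_ne_zero hg)).comp hτ |> fun h => by
      simpa [div_eq_inv_mul, Function.comp_def] using h)
    (fun x y => by simp [hσadd, add_div]) (fun x y => by simp [hτadd, add_div])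
    (fun a c => by
      simp only [hcomm, th_div]
      have := th_ne_zero (m := m) hk0
      field_simp)
    (fun a => by
      simp only [hsq, th_div]
      have := th_ne_zero (m := m) hk0
      field_simp)
    (by simp [← hk'])
  refine ⟨k, ψ, fun x => ⟨?_, ?_⟩⟩
  · rw [← (hψ x).1]; field_simp
  · rw [← (hψ x).2]
    have := th_ne_zero (m := m) hk0
    field_simp

end semilinear

variable {S : Type*} [Group S] (M : Model S F m)

/-- The parameters of an automorphism in the family `(a,b) ↦ (k ψ a, k^(θ+1) ψ b + L a)`. -/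
abbrev Data (F : Type*) [Field F] := (F →+ F) × Fˣ × (F ≃+* F)

/-- The automorphism with the given data. -/
noncomputable def build (D : Data F) : MulAut S :=
  MulEquiv.ofBijective
    (MonoidHom.mk'
      (fun s => M.e (D.2.1 * D.2.2 (M.e.symm s).1,
        th m (D.2.1 : F) * D.2.1 * D.2.2 (M.e.symm s).2 + D.1 (M.e.symm s).1))
      (fun s t => by
        obtain ⟨⟨a, b⟩, rfl⟩ := M.e.surjective s
        obtain ⟨⟨c, d⟩, rfl⟩ := M.e.surjective t
        have hψ : ∀ y, D.2.2 (th m y) = th m (D.2.2 y) := fun y => map_pow D.2.2 y _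
        simp only [M.mul, Equiv.symm_apply_apply, map_add, map_mul, th_mul, hψ]
        congr 2 <;> ring))
    (by
      haveI : Finite S := Finite.of_equiv _ M.e
      refine Finite.injective_iff_bijective.mp fun s t h => ?_
      simp only [MonoidHom.mk'_apply, EmbeddingLike.apply_eq_iff_eq, Prod.mk.injEq] at h
      have h1 := D.2.2.injective (mul_left_cancel₀ D.2.1.ne_zero h.1)
      have hk : th m (D.2.1 : F) * D.2.1 ≠ 0 :=
        mul_ne_zero (th_ne_zero D.2.1.ne_zero) D.2.1.ne_zero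
      have h2 := h.2
      rw [h1] at h2
      exact M.e.symm.injective (Prod.ext h1
        (D.2.2.injective (mul_left_cancel₀ hk (add_right_cancel h2)))))

lemma build_apply (D : Data F) (a b : F) :
    build M D (M.e (a, b)) =
      M.e (D.2.1 * D.2.2 a, th m (D.2.1 : F) * D.2.1 * D.2.2 b + D.1 a) := by
  simp [build]

include hF in
lemma exists_data (φ : MulAut S) : ∃ D, build M D = φ := by
  classical
  haveI := charTwo hF
  obtain ⟨σ, hσdef⟩ : ∃ σ : F → F, ∀ a, σ a = (M.e.symm (φ (M.e (a, 0)))).1 := ⟨_, fun _ => rfl⟩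
  obtain ⟨L, hLdef⟩ : ∃ L : F → F, ∀ a, L a = (M.e.symm (φ (M.e (a, 0)))).2 := ⟨_, fun _ => rfl⟩
  obtain ⟨τ, hτdef⟩ : ∃ τ : F → F, ∀ b, τ b = (M.e.symm (φ (M.e (0, b)))).2 := ⟨_, fun _ => rfl⟩
  have hA : ∀ a, φ (M.e (a, 0)) = M.e (σ a, L a) := fun a => by simp [hσdef, hLdef]
  have hsqr : ∀ a b, M.e (a, b) * M.e (a, b) = M.e (0, th m a * a) := fun a b => by
    rw [M.mul]; congr 2 <;> grind
  have hsqφ : ∀ a, φ (M.e (0, th m a * a)) = M.e (0, th m (σ a) * σ a) := fun a => by
    rw [← hsqr a 0, map_mul, hA, hsqr]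
  have hB : ∀ b, φ (M.e (0, b)) = M.e (0, τ b) := by
    intro b
    obtain ⟨a, rfl⟩ := (thSucc_bijective hF).2 b
    simp [hτdef, hsqφ]
  have hsq : ∀ a, τ (th m a * a) = th m (σ a) * σ a := fun a => by simp [hτdef, hsqφ]
  have hAB : ∀ a b, φ (M.e (a, b)) = M.e (σ a, L a + τ b) := by
    intro a b
    have : M.e (a, b) = M.e (a, 0) * M.e (0, b) := by rw [M.mul]; simp
    rw [this, map_mul, hA, hB, M.mul]; simp
  have hτadd : ∀ x y, τ (x + y) = τ x + τ y := by
    intro x y
    have h : φ (M.e (0, x)) * φ (M.e (0, y)) = φ (M.e (0, x + y)) := by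
      rw [← map_mul, M.mul]; simp
    simp only [hB, M.mul] at h
    simpa [th_zero] using (M.e.injective h).symm
  have hadd : ∀ a c, σ (a + c) = σ a + σ c ∧
      L (a + c) + τ (th m a * c) = L a + L c + th m (σ a) * σ c := by
    intro a c
    have h : φ (M.e (a, 0)) * φ (M.e (c, 0)) = φ (M.e (a + c, th m a * c)) := by
      rw [← map_mul, M.mul]; simp
    simp only [hA, M.mul, hAB] at h
    have := M.e.injective h
    simp only [Prod.mk.injEq] at this
    exact ⟨this.1.symm, this.2.symm⟩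
  have hcomm : ∀ a c, τ (th m a * c + th m c * a) = th m (σ a) * σ c + th m (σ c) * σ a := by
    intro a c
    have h1 := (hadd a c).2
    have h2 := (hadd c a).2
    rw [add_comm c a] at h2
    rw [hτadd]; grind
  have hτbij : Function.Bijective τ := by
    refine Finite.injective_iff_bijective.mp fun x y h => ?_
    have : φ (M.e (0, x)) = φ (M.e (0, y)) := by rw [hB, hB, h]
    simpa using M.e.injective (φ.injective this)
  have hσbij : Function.Bijective σ := by
    refine Finite.injective_iff_bijective.mp fun x y h => ?_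
    have := (hsq x).trans ((congrArg (fun z => th m z * z) h).trans (hsq y).symm)
    exact thSucc_injective hF (hτbij.1 this)
  obtain ⟨k, ψ, hkψ⟩ := exists_semilinear hF σ τ hσbij hτbij (fun a c => (hadd a c).1) hτadd hcomm hsq
  have hψ : ∀ y, ψ (th m y) = th m (ψ y) := fun y => map_pow ψ y _
  have hLadd : ∀ a c, L (a + c) = L a + L c := by
    intro a c
    have h := (hadd a c).2
    rw [(hkψ _).2, (hkψ a).1, (hkψ c).1, th_mul, map_mul, hψ] at h
    linear_combination h
  refine ⟨(AddMonoidHom.mk' L hLadd, k, ψ), MulEquiv.ext fun s => ?_⟩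
  obtain ⟨⟨a, b⟩, rfl⟩ := M.e.surjective s
  rw [build_apply, hAB, (hkψ a).1, (hkψ b).2, add_comm (L a)]
  rfl

lemma build_injective : Function.Injective (build M) := by
  rintro ⟨L, k, ψ⟩ ⟨L', k', ψ'⟩ h
  have h' : ∀ a b, (k : F) * ψ a = k' * ψ' a ∧
      th m (k : F) * k * ψ b + L a = th m (k' : F) * k' * ψ' b + L' a := fun a b => by
    have := congrArg (fun f : MulAut S => f (M.e (a, b))) h
    simpa [build_apply] using this
  obtain rfl : k = k' := Units.ext (by simpa using (h' 1 0).1)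
  obtain rfl : ψ = ψ' := RingEquiv.ext fun a => mul_left_cancel₀ k.ne_zero (h' a 0).1
  obtain rfl : L = L' := AddMonoidHom.ext fun a => by simpa using (h' a 0).2
  rfl

include hF in
lemma build_bijective : Function.Bijective (build M) :=
  ⟨build_injective M, fun φ => exists_data hF M φ⟩

include hF in
lemma card_ringAut : Nat.card (F ≃+* F) = 2 * m + 1 := by
  haveI := charTwo hF
  letI := ZMod.algebra F 2
  haveI := Fact.mk Nat.prime_two
  let eq : (F ≃+* F) ≃ (F ≃ₐ[ZMod 2] F) :=
    { toFun := fun τ => AlgEquiv.ofRingEquiv (f := τ) fun x =>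
        RingHom.congr_fun (Subsingleton.elim (τ.toRingHom.comp (algebraMap (ZMod 2) F))
          (algebraMap (ZMod 2) F)) x
      invFun := fun σ => σ.toRingEquiv
      left_inv := fun τ => RingEquiv.ext fun _ => rfl
      right_inv := fun σ => AlgEquiv.ext fun _ => rfl }
  rw [Nat.card_congr eq, IsGalois.card_aut_eq_finrank]
  have := Module.card_eq_pow_finrank (K := ZMod 2) (V := F)
  rw [hF, ZMod.card] at this
  exact (Nat.pow_right_injective le_rfl this).symm

include hF in
lemma card_addHom : Nat.card (F →+ F) = 2 ^ ((2 * m + 1) ^ 2) := by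
  haveI := charTwo hF
  letI := ZMod.algebra F 2
  haveI := Fact.mk Nat.prime_two
  let e : (F →+ F) ≃ (F →ₗ[ZMod 2] F) :=
    { toFun := fun f => f.toZModLinearMap 2
      invFun := fun f => f.toAddMonoidHom
      left_inv := fun f => rfl
      right_inv := fun f => rfl }
  have hn : Module.finrank (ZMod 2) F = 2 * m + 1 := by
    have := Module.card_eq_pow_finrank (K := ZMod 2) (V := F)
    rw [hF, ZMod.card] at this
    exact (Nat.pow_right_injective le_rfl this).symm
  rw [Nat.card_congr e, Module.natCard_eq_pow_finrank (K := ZMod 2),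
    Module.finrank_linearMap, hn, Nat.card_eq_fintype_card, ZMod.card, sq]

include hF M in
theorem card_mulAut :
    Nat.card (MulAut S) = 2 ^ ((2 * m + 1) ^ 2) * ((2 * m + 1) * (2 ^ (2 * m + 1) - 1)) := by
  classical
  rw [← Nat.card_congr (Equiv.ofBijective _ (build_bijective hF M)), Nat.card_prod, Nat.card_prod,
    card_addHom hF, card_ringAut hF, Nat.card_units, Nat.card_eq_fintype_card, hF, mul_comm (_ - 1)]

/-- The automorphisms acting trivially on the quotient by the centre. -/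
noncomputable def kerHom : Multiplicative (F →+ F) →* MulAut S where
  toFun L := build M (L.toAdd, 1, RingEquiv.refl F)
  map_one' := MulEquiv.ext fun s => by
    obtain ⟨⟨a, b⟩, rfl⟩ := M.e.surjective s
    simp [build_apply]
  map_mul' L L' := MulEquiv.ext fun s => by
    obtain ⟨⟨a, b⟩, rfl⟩ := M.e.surjective s
    simp [build_apply]
    ring

lemma kerHom_injective : Function.Injective (kerHom M) := fun L L' h => by
  have := congrArg Prod.fst (build_injective M (a₁ := (L.toAdd, 1, RingEquiv.refl F))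
    (a₂ := (L'.toAdd, 1, RingEquiv.refl F)) h)
  exact Multiplicative.toAdd.injective this

include hF in
lemma mem_range_kerHom {φ : MulAut S} :
    φ ∈ (kerHom M).range ↔ ∀ a b, ∃ c, φ (M.e (a, b)) = M.e (a, c) := by
  constructor
  · rintro ⟨L, rfl⟩ a b
    exact ⟨_, by simp [kerHom, build_apply]; rfl⟩
  · intro h
    obtain ⟨⟨L, k, ψ⟩, rfl⟩ := exists_data hF M φ
    have h' : ∀ a, (k : F) * ψ a = a := fun a => by
      obtain ⟨c, hc⟩ := h a 0
      simp [build_apply] at hc
      exact hc.1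
    obtain rfl : k = 1 := Units.ext (by simpa using h' 1)
    obtain rfl : ψ = RingEquiv.refl F := RingEquiv.ext fun a => by simpa using h' a
    exact ⟨Multiplicative.ofAdd L, rfl⟩

include hF in
lemma range_kerHom_normal : (kerHom M).range.Normal := by
  constructor
  intro φ hφ γ
  rw [mem_range_kerHom hF] at hφ ⊢
  intro a b
  obtain ⟨⟨L, k, ψ⟩, rfl⟩ := exists_data hF M γ
  obtain ⟨⟨a', b'⟩, h'⟩ := M.e.surjective ((build M (L, k, ψ))⁻¹ (M.e (a, b)))
  have he : build M (L, k, ψ) (M.e (a', b')) = M.e (a, b) := by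
    rw [h', MulAut.apply_inv_self]
  obtain ⟨c, hc⟩ := hφ a' b'
  rw [build_apply] at he
  obtain ⟨h1, -⟩ := Prod.ext_iff.mp (M.e.injective he)
  refine ⟨th m (k : F) * k * ψ c + L a', ?_⟩
  rw [MulAut.mul_apply, MulAut.mul_apply, ← h', hc, build_apply]
  simp only at h1 ⊢
  rw [h1]

include hF M in
theorem pCore_mulAut :
    Cfsg.IsElementaryAbelian 2 (Cfsg.pCore 2 (MulAut S)) ∧
      Nat.card ↥(Cfsg.pCore 2 (MulAut S)) = 2 ^ ((2 * m + 1) ^ 2) := by
  classical
  haveI := charTwo hF
  haveI : Finite S := Finite.of_equiv _ M.e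
  haveI := range_kerHom_normal hF M
  set N := (kerHom M).range with hN
  have hNcard : Nat.card N = 2 ^ ((2 * m + 1) ^ 2) := by
    rw [hN, ← Nat.card_congr (MonoidHom.ofInjective (kerHom_injective M)).toEquiv]
    exact (Nat.card_congr Multiplicative.toAdd).trans (card_addHom hF)
  have hodd : Odd N.index := by
    have h := N.card_mul_index
    rw [hNcard, card_mulAut hF M] at h
    rw [Nat.eq_of_mul_eq_mul_left (by positivity) h, Nat.odd_mul]
    exact ⟨odd_two_mul_add_one m,
      Nat.Even.sub_odd Nat.one_le_two_pow ((Nat.even_pow).mpr ⟨even_two, by omega⟩) odd_one⟩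
  have hle : ∀ Q : Subgroup (MulAut S), IsPGroup 2 Q → Q ≤ N := by
    intro Q hQ g hg
    obtain ⟨j, hj⟩ := hQ ⟨g, hg⟩
    rw [← QuotientGroup.eq_one_iff, ← orderOf_eq_one_iff]
    refine Nat.eq_one_of_dvd_coprimes (k := orderOf (g : MulAut S ⧸ N))
      (Nat.Coprime.pow_left j hodd.coprime_two_left) ?_ ?_
    · refine orderOf_dvd_of_pow_eq_one ?_
      rw [← QuotientGroup.mk_pow, show g ^ 2 ^ j = 1 from congrArg Subtype.val hj]
      rfl
    · rw [Subgroup.index_eq_card]; exact orderOf_dvd_natCard _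
  have hp : IsPGroup 2 N := IsPGroup.of_card hNcard
  have hcore : Cfsg.pCore 2 (MulAut S) = N :=
    le_antisymm (sSup_le fun Q hQ => hle Q hQ.2) (le_sSup ⟨inferInstance, hp⟩)
  rw [hcore]
  refine ⟨⟨⟨⟨fun x y => ?_⟩⟩, ?_⟩, hNcard⟩
  · obtain ⟨_, L, rfl⟩ := x
    obtain ⟨_, L', rfl⟩ := y
    exact Subtype.ext (by simp only [Subgroup.coe_mul, ← map_mul, mul_comm])
  · rintro _ ⟨L, rfl⟩
    rw [← map_pow, show L ^ 2 = 1 from ?_, map_one]
    refine Multiplicative.toAdd.injective (AddMonoidHom.ext fun a => ?_)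
    simp [toAdd_pow, two_nsmul]
    grind

end Cfsg.Agent.Suzuki.SylowAut
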