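import Cfsg.Agent.Lib.Suzuki.Parts
import Cfsg.Agent.Lib.Suzuki.Borel

/-!
# Transitive actions of fixity two

`zSub_pair_eq_top`, `eq_top_of_zSub_le`, `fixity_two`.
-/

set_option autoImplicit false
set_option linter.style.haveILetI false

namespace Cfsg.Agent.Suzuki

open Cfsg
open scoped Matrix

variable {F : Type*} [Field F] {m : ℕ} [Fintype F]
variable (hm : 1 ≤ m) (hF : Fintype.card F = 2 ^ (2 * m + 1))

include hm hF in
/-- Two opposite root centres generate. -/
theorem zSub_pair_eq_top {M : Subgroup (Sz F m)} (hZ : zSub hF ≤ M)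
    (hw : ∀ z ∈ zSub hF, wSz hF * z * wSz hF ∈ M) : M = ⊤ := by
  haveI := charTwo hF
  have hinj : Function.Injective (fun b : F => b / th m b) := by
    intro b c h
    simp only at h
    rcases eq_or_ne c 0 with rfl | hc
    · simpa [th_eq_zero] using h
    rcases eq_or_ne b 0 with rfl | hb
    · simp only [zero_div] at h
      exact ((div_eq_zero_iff.mp h.symm).elim id th_eq_zero.mp).symm
    have ht : th m (b / c) = b / c := by
      rw [th_div]
      field_simp [th_ne_zero hb, th_ne_zero hc] at h ⊢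
      linear_combination -h
    have h2 := th_th hF (b / c)
    rw [ht, ht, sq] at h2
    exact div_eq_one_iff_eq hc |>.mp (mul_eq_right₀ (div_ne_zero hb hc) |>.mp h2.symm)
  have key : ∀ p ∈ suzukiOvoid F m, ∃ n : Sz F m, n • suzukiPointInfinity F = p ∧
      ∀ z ∈ zSub hF, n * z * n⁻¹ ∈ M := by
    intro p hp
    rcases mem_ovoid_iff.mp hp with rfl | ⟨x, y, rfl⟩
    · exact ⟨1, one_smul _ _, fun z hz => by simpa using hZ hz⟩
    have hy : tSz hF 0 y ∈ M := hZ ⟨y, rfl⟩
    rcases eq_or_ne x 0 with rfl | hx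
    · refine ⟨tSz hF 0 y * wSz hF,
        by rw [mul_smul, wSz_smul_infinity, tSz_smul_zero], fun z hz => ?_⟩
      rw [mul_inv_rev, wSz_inv, show tSz hF 0 y * wSz hF * z * (wSz hF * (tSz hF 0 y)⁻¹) =
        tSz hF 0 y * (wSz hF * z * wSz hF) * (tSz hF 0 y)⁻¹ by group]
      exact mul_mem (mul_mem hy (hw z hz)) (inv_mem hy)
    · obtain ⟨b, hb⟩ := Finite.injective_iff_surjective.mp hinj x
      simp only at hb
      have hb0 : b ≠ 0 := fun h => hx (by rw [← hb, h, zero_div])
      refine ⟨tSz hF 0 y * (wSz hF * tSz hF 0 b * wSz hF), ?_, fun z hz => ?_⟩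
      · have hfz : fz m (0 : F) b = th m b := by simp [fz]
        have hW : wSz hF • pt m 0 b = pt m x 0 := by
          show wSL F • pt m 0 b = _
          rw [wSL_smul_pt hF 0 b (by rw [hfz]; exact th_ne_zero hb0), hfz, hb, zero_div]
        rw [mul_smul, mul_smul, mul_smul, wSz_smul_infinity, tSz_smul_zero, hW, tSz_smul_pt]
        congr 1 <;> simp
      · have hn : tSz hF 0 y * (wSz hF * tSz hF 0 b * wSz hF) ∈ M :=
          mul_mem hy (hw _ ⟨b, rfl⟩)
        exact mul_mem (mul_mem hn (hZ hz)) (inv_mem hn)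
  haveI := isSimpleGroup_sz hm hF
  have hN : Subgroup.normalClosure (zSub hF : Set (Sz F m)) = ⊤ := by
    refine (Subgroup.normalClosure_normal.eq_bot_or_eq_top).resolve_left fun h => ?_
    have h1 : tSz hF 0 1 ∈ (⊥ : Subgroup (Sz F m)) :=
      h ▸ Subgroup.subset_normalClosure ⟨1, rfl⟩
    exact one_ne_zero ((tSz_eq_one_iff hF).mp (Subgroup.mem_bot.mp h1)).2
  rw [eq_top_iff, ← hN, Subgroup.normalClosure, Subgroup.closure_le]
  intro u hu
  obtain ⟨z, ⟨b, rfl⟩, hcj⟩ := Group.mem_conjugatesOfSet_iff.mp hu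
  obtain ⟨s, rfl⟩ := isConj_iff.mp hcj
  obtain ⟨n, hn, hnM⟩ := key _ (smul_mem_ovoid s (infinity_mem (m := m)))
  obtain ⟨μ, hμ⟩ := zSub_conj_stab hm hF (s := n⁻¹ * s) (by rw [mul_smul, ← hn, inv_smul_smul])
  rw [show s * tSz hF 0 b * s⁻¹ = n * (n⁻¹ * s * tSz hF 0 b * (n⁻¹ * s)⁻¹) * n⁻¹ by group, hμ]
  exact hnM _ ⟨_, rfl⟩

include hm hF in
/-- A subgroup containing a root centre and moving its point is everything. -/
theorem eq_top_of_zSub_le {H : Subgroup (Sz F m)} (hZ : zSub hF ≤ H) {g : Sz F m} (hg : g ∈ H)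
    (hne : g • suzukiPointInfinity F ≠ suzukiPointInfinity F) : H = ⊤ := by
  obtain ⟨x, y, hxy⟩ :=
    (mem_ovoid_iff.mp (smul_mem_ovoid g (infinity_mem (m := m)))).resolve_left hne
  set t := tSz hF x y
  set H' := H.comap (MulAut.conj t).toMonoidHom with hH'
  have hmem : ∀ u, u ∈ H' ↔ t * u * t⁻¹ ∈ H := fun u => Iff.rfl
  have ht : t • suzukiPointInfinity F = suzukiPointInfinity F := tSz_smul_infinity hF x y
  obtain ⟨μ, hμ⟩ := zSub_conj_stab hm hF (s := t) ht
  have hZ' : zSub hF ≤ H' := by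
    rintro _ ⟨b, rfl⟩
    rw [hmem, hμ]
    exact hZ ⟨_, rfl⟩
  set g' := t⁻¹ * g * t with hg'
  have hg'H : g' ∈ H' := by
    rw [hmem, show t * (t⁻¹ * g * t) * t⁻¹ = g by group]; exact hg
  have hs : (wSz hF * g') • suzukiPointInfinity F = suzukiPointInfinity F := by
    rw [hg', mul_smul, mul_smul, mul_smul, ht, hxy,
      show t⁻¹ • pt m x y = suzukiPointZero F from inv_smul_eq_iff.mpr (tSz_smul_zero hF x y).symm,
      wSz_smul_zero]
  obtain ⟨ν, hν⟩ := zSub_conj_stab hm hF (s := (wSz hF * g')⁻¹)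
    (inv_smul_eq_iff.mpr hs.symm)
  have htop : H' = ⊤ := by
    refine zSub_pair_eq_top hm hF hZ' ?_
    rintro _ ⟨b, rfl⟩
    have e : wSz hF * tSz hF 0 b * wSz hF = g' * tSz hF 0 (ν * b) * g'⁻¹ := by
      rw [← hν, inv_inv, mul_inv_rev, wSz_inv]; group
    rw [e]
    exact mul_mem (mul_mem hg'H (hZ' ⟨_, rfl⟩)) (inv_mem hg'H)
  rw [eq_top_iff]
  intro u _
  have hu : t⁻¹ * u * t ∈ H' := htop ▸ Subgroup.mem_top _
  rw [hmem, show t * (t⁻¹ * u * t) * t⁻¹ = u by group] at hu
  exact hu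

lemma exists_sq_units (k : Fˣ) (hF : Fintype.card F = 2 ^ (2 * m + 1)) : ∃ l : Fˣ, l ^ 2 = k := by
  refine ⟨k ^ (2 ^ (2 * m)), ?_⟩
  rw [← pow_mul, ← pow_succ, ← hF]
  exact Units.ext (by rw [Units.val_pow_eq_pow_val, FiniteField.pow_card])

include hm in
/-- Outside the unipotent group, elements of the point stabiliser are squares there. -/
lemma exists_sqrt_stab {g : Sz F m} (hg : g • suzukiPointInfinity F = suzukiPointInfinity F)
    (hgu : g ∉ uSub hF) :
    ∃ r : Sz F m, r • suzukiPointInfinity F = suzukiPointInfinity F ∧ r ^ 2 = g := by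
  have hg1 : g ≠ 1 := fun h => hgu (h ▸ one_mem _)
  rcases fixer_cases hm hF hg1 infinity_mem hg with ⟨s, a, b, -, hs, rfl⟩ | ⟨s, k, hk, rfl⟩
  · refine absurd ?_ hgu
    have hsn : s ∈ Subgroup.normalizer (uSub hF : Set (Sz F m)) := by
      rw [normalizer_uSub hm hF]; exact hs
    exact (Subgroup.mem_normalizer_iff.mp hsn _).mp (tSz_mem_uSub hF a b)
  · obtain ⟨l, hl⟩ := exists_sq_units k hF
    refine ⟨s * dSz hF l * s⁻¹, ?_, ?_⟩
    · rw [mul_smul, mul_smul, ← eq_inv_smul_iff] at hg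
      rw [mul_smul, mul_smul, ← eq_inv_smul_iff]
      rcases mem_ovoid_iff.mp (smul_mem_ovoid s⁻¹ (infinity_mem (m := m))) with h | ⟨x, y, h⟩
      · rw [h, dSz_smul_infinity]
      · rw [h] at hg ⊢
        by_cases hxy : x = 0 ∧ y = 0
        · rw [hxy.1, hxy.2, pt_zero_zero, dSz_smul_zero]
        · exact absurd (eq_one_of_dSz_fix hF hxy hg) hk
    · rw [sq, show s * dSz hF l * s⁻¹ * (s * dSz hF l * s⁻¹) =
        s * (dSz hF l * dSz hF l) * s⁻¹ by group, dSz_mul, ← sq, hl]

/-- In an action with at most two fixed points, a centralising element squared fixes. -/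
lemma sq_smul_of_fix_le_two {G Ω : Type*} [Group G] [MulAction G Ω] [Finite Ω] {z : G}
    (hz : Nat.card (MulAction.fixedBy Ω z) ≤ 2) {g : G} {α : Ω} (h0 : z • α = α)
    (h1 : z • g • α = g • α) (h2 : z • (g ^ 2) • α = (g ^ 2) • α) : (g ^ 2) • α = α := by
  classical
  by_contra hne
  have hne1 : g • α ≠ α := fun e => hne (by rw [sq, mul_smul, e, e])
  have hsub : ({α, g • α, (g ^ 2) • α} : Set Ω) ⊆ MulAction.fixedBy Ω z := by
    rintro x (rfl | rfl | rfl)
    · exact h0
    · exact h1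
    · exact h2
  have h3 : ({α, g • α, (g ^ 2) • α} : Set Ω).ncard = 3 := by
    rw [Set.ncard_eq_three]
    exact ⟨α, g • α, (g ^ 2) • α, hne1.symm, fun e => hne e.symm,
      fun e => hne1 (smul_left_cancel g (by rw [← mul_smul g g α, ← sq]; exact e.symm)), rfl⟩
  have := Set.ncard_le_ncard hsub (Set.toFinite _)
  rw [h3, ← Nat.card_coe_set_eq] at this
  omega

variable {Ω : Type*} [MulAction (Sz F m) Ω] [Finite Ω]

include hm hF in
/-- Even point stabiliser: a Borel subgroup. -/
theorem fixity_even (hfix : ∀ g : Sz F m, g ≠ 1 → Nat.card (MulAction.fixedBy Ω g) ≤ 2)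
    {α : Ω} (hH : MulAction.stabilizer (Sz F m) α ≠ ⊤) {b : F} (hb : b ≠ 0)
    (hz : tSz hF 0 b • α = α) :
    MulAction.stabilizer (Sz F m) α =
      MulAction.stabilizer (Sz F m) (suzukiPointInfinity F) := by
  haveI := charTwo hF
  have hz1 : tSz hF 0 b ≠ 1 := fun h => hb ((tSz_eq_one_iff hF).mp h).2
  have htwo := hfix _ hz1
  have hsqU : ∀ u ∈ uSub hF, (u ^ 2) • α = α := by
    intro u hu
    obtain ⟨a, c, rfl⟩ := hu
    have comm : ∀ v ∈ uSub hF, tSz hF 0 b • v • α = v • α := by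
      rintro _ ⟨a', c', rfl⟩
      have e : tSz hF 0 b * tSz hF a' c' = tSz hF a' c' * tSz hF 0 b := by
        rw [tSz_mul, tSz_mul]; congr 1 <;> simp <;> ring
      rw [← mul_smul, e, mul_smul, hz]
    exact sq_smul_of_fix_le_two htwo hz (comm _ (tSz_mem_uSub hF a c))
      (comm _ (pow_mem (tSz_mem_uSub hF a c) 2))
  have hZ : zSub hF ≤ MulAction.stabilizer (Sz F m) α := by
    rintro _ ⟨c, rfl⟩
    obtain ⟨k, hk⟩ := (thSucc_bijective hF).2 c
    simp only at hk
    have := hsqU _ (tSz_mem_uSub hF k 0)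
    rw [sq, tSz_mul, show k + k = 0 by grind, add_zero, zero_add, hk] at this
    exact this
  have hle : MulAction.stabilizer (Sz F m) α ≤
      MulAction.stabilizer (Sz F m) (suzukiPointInfinity F) := by
    intro g hg
    by_contra h
    exact hH (eq_top_of_zSub_le hm hF hZ hg h)
  refine le_antisymm hle fun g hg => ?_
  have hsq : ∀ r : Sz F m, r • suzukiPointInfinity F = suzukiPointInfinity F →
      (r ^ 2) • α = α := by
    intro r hr
    have fixr : ∀ s : Sz F m, s • suzukiPointInfinity F = suzukiPointInfinity F →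
        tSz hF 0 b • s • α = s • α := by
      intro s hs
      obtain ⟨μ, hμ⟩ := zSub_conj_stab hm hF (s := s⁻¹) (inv_smul_eq_iff.mpr hs.symm)
      have h1 : (s⁻¹ * tSz hF 0 b * s⁻¹⁻¹) • α = α := by rw [hμ]; exact hZ ⟨_, rfl⟩
      rw [inv_inv, mul_smul, mul_smul, inv_smul_eq_iff] at h1
      exact h1
    exact sq_smul_of_fix_le_two htwo hz (fixr r hr) (fixr _ (by rw [sq, mul_smul, hr, hr]))
  have hout : ∀ r : Sz F m, r • suzukiPointInfinity F = suzukiPointInfinity F → r ∉ uSub hF →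
      r • α = α := by
    intro r hr hru
    obtain ⟨s, hs, rfl⟩ := exists_sqrt_stab hm hF hr hru
    exact hsq s hs
  by_cases hgu : g ∈ uSub hF
  · obtain ⟨k, hk0, hk1⟩ := exists_ne_zero_one hm hF
    set d := dSz hF (Units.mk0 k hk0)
    have hdu : d ∉ uSub hF := by
      rintro ⟨a, c, h⟩
      have := congrArg (fun g : Sz F m => g • suzukiPointZero F) h
      simp only [tSz_smul_zero, d, dSz_smul_zero] at this
      rw [← pt_zero_zero (F := F) (m := m)] at this
      obtain ⟨rfl, rfl⟩ := pt_inj this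
      rw [tSz_zero] at h
      exact hk1 (congrArg Units.val (dSz_inj hF (h.trans (dSz_one hF).symm)))
    have h1 := hout (g * d) (by rw [mul_smul, dSz_smul_infinity]; exact hg)
      (fun h => hdu (by simpa using mul_mem (inv_mem hgu) h))
    rw [mul_smul, hout d (dSz_smul_infinity hF _) hdu] at h1
    exact h1
  · exact hout g hg hgu

include hm hF in
/-- Odd point stabiliser: a torus of order `q - 1`. -/
theorem fixity_odd [MulAction.IsPretransitive (Sz F m) Ω]
    (hfix : ∀ g : Sz F m, g ≠ 1 → Nat.card (MulAction.fixedBy Ω g) ≤ 2) {α : Ω}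
    (hodd : ∀ g ∈ MulAction.stabilizer (Sz F m) α, g ≠ 1 → g ∉ conjSet (uSub hF))
    {h : Sz F m} (hh : h • α = α) (h1 : h ≠ 1) :
    Nat.card (MulAction.stabilizer (Sz F m) α) = 2 ^ (2 * m + 1) - 1 := by
  classical
  set H := MulAction.stabilizer (Sz F m) α with hHdef
  have hcent : ∀ g ∈ H, g ≠ 1 → Subgroup.centralizer {g} ≤ H := by
    intro g hg hg1 c hc
    have hgc : ∀ n : ℕ, g • (c ^ n) • α = (c ^ n) • α := fun n => by
      have e : g * c ^ n = c ^ n * g :=
        (Commute.pow_right (show Commute g c from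
          (Subgroup.mem_centralizer_singleton_iff.mp hc).symm) n).eq
      rw [← mul_smul, e, mul_smul]
      exact congrArg _ hg
    have hc2 : (c ^ 2) • α = α :=
      sq_smul_of_fix_le_two (hfix g hg1) hg (by simpa using hgc 1) (hgc 2)
    obtain ⟨j, hj⟩ := odd_card_torusElt hm hF hg1 (hodd g hg hg1)
    have hord : c ^ Nat.card (Subgroup.centralizer {g}) = 1 :=
      congrArg Subtype.val (pow_card_eq_one' (x := (⟨c, hc⟩ : Subgroup.centralizer {g})))
    rw [hj, pow_succ, pow_mul, mul_eq_one_iff_inv_eq] at hord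
    rw [← hord]
    exact inv_mem (pow_mem (show c ^ 2 ∈ H from hc2) j)
  obtain ⟨hcyc, hTI, hN⟩ := torusElt_centralizer hm hF h1 (hodd h hh h1)
  set T := Subgroup.centralizer {h} with hT
  have hTH : T ≤ H := hcent h hh h1
  -- the conjugates of a torus inside `H`
  have count : ∀ g ∈ H, g ≠ 1 → ∃ S : Set H,
      S.ncard * Nat.card (Subgroup.centralizer {g}) =
        Nat.card H * (Nat.card (Subgroup.centralizer {g}) - 1) ∧
      (∀ x : H, x ∈ S ↔ ∃ y : H, ∃ c ∈ Subgroup.centralizer {g}, c ≠ 1 ∧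
        (x : Sz F m) = y * c * (y : Sz F m)⁻¹) := by
    intro g hg hg1
    obtain ⟨-, hTIg, hNg⟩ := torusElt_centralizer hm hF hg1 (hodd g hg hg1)
    set C := Subgroup.centralizer {g} with hC
    have hCH : C ≤ H := hcent g hg hg1
    have hti : ∀ x : H, ∀ c ∈ C.subgroupOf H, c ≠ 1 → x * c * x⁻¹ ∈ C.subgroupOf H →
        x ∈ Subgroup.normalizer ((C.subgroupOf H : Subgroup H) : Set H) := by
      intro x c hc hc1 hxc
      have hc1' : (c : Sz F m) ≠ 1 := fun e => hc1 (Subtype.ext e)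
      have e2 := hTIg _ hxc (fun e => hc1 (conj_eq_one_iff.mp (Subtype.ext e)))
      rw [Subgroup.mem_normalizer_iff]
      intro y
      rw [Subgroup.mem_subgroupOf, Subgroup.mem_subgroupOf]
      conv_lhs => rw [← hTIg _ hc hc1']
      conv_rhs => rw [← e2]
      exact centralizer_conj hm hF
    have hnorm : Subgroup.normalizer ((C.subgroupOf H : Subgroup H) : Set H) = C.subgroupOf H := by
      refine le_antisymm (fun x hx => ?_) Subgroup.le_normalizer
      rw [Subgroup.mem_subgroupOf]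
      have hxN : (x : Sz F m) ∈ Subgroup.normalizer (C : Set (Sz F m)) := by
        rw [Subgroup.mem_normalizer_iff]
        intro y
        constructor
        · intro hy
          exact (Subgroup.mem_normalizer_iff.mp hx ⟨y, hCH hy⟩).mp hy
        · intro hy
          have hyH : y ∈ H := by
            have := mul_mem (mul_mem (inv_mem x.2) (hCH hy)) x.2
            rwa [show (x : Sz F m)⁻¹ * ((x : Sz F m) * y * (x : Sz F m)⁻¹) * x = y by group] at this
          exact (Subgroup.mem_normalizer_iff.mp hx ⟨y, hyH⟩).mpr hy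
      rcases eq_or_ne x 1 with rfl | hx1
      · exact one_mem _
      have hx1' : (x : Sz F m) ≠ 1 := fun e => hx1 (Subtype.ext e)
      -- `x` has odd order and its image in the normaliser quotient has 2-power order
      have hoddx : Odd (orderOf (x : Sz F m)) :=
        (odd_card_torusElt hm hF hx1' (hodd x x.2 hx1')).of_dvd_nat
          (Subgroup.orderOf_dvd_natCard _ (Subgroup.mem_centralizer_singleton_iff.mpr rfl))
      obtain ⟨i, hi⟩ : ∃ i, Nat.card (Subgroup.normalizer (C : Set (Sz F m))) =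
          2 ^ i * Nat.card C := by
        rcases hNg with ⟨-, e⟩ | ⟨-, e⟩
        · exact ⟨1, e⟩
        · exact ⟨2, e⟩
      have hidx : (C.subgroupOf (Subgroup.normalizer (C : Set (Sz F m)))).index = 2 ^ i := by
        have := Subgroup.card_mul_index (C.subgroupOf (Subgroup.normalizer (C : Set (Sz F m))))
        rw [Nat.card_congr (Subgroup.subgroupOfEquivOfLe Subgroup.le_normalizer).toEquiv, hi,
          mul_comm (2 ^ i)] at this
        exact Nat.eq_of_mul_eq_mul_left Nat.card_pos this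
      set N := Subgroup.normalizer (C : Set (Sz F m))
      haveI : (C.subgroupOf N).Normal := Subgroup.normal_in_normalizer
      have hq : orderOf (QuotientGroup.mk' (C.subgroupOf N) ⟨(x : Sz F m), hxN⟩) = 1 := by
        refine Nat.eq_one_of_dvd_coprimes (a := 2 ^ i) (b := orderOf (x : Sz F m)) ?_ ?_ ?_
        · exact Nat.Coprime.pow_left _ (Nat.coprime_two_left.mpr hoddx)
        · rw [← hidx, Subgroup.index]; exact orderOf_dvd_natCard _
        · exact (orderOf_map_dvd _ _).trans (Subgroup.orderOf_mk _ hxN).dvd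
      rw [orderOf_eq_one_iff, ← MonoidHom.mem_ker, QuotientGroup.ker_mk'] at hq
      exact hq
    refine ⟨conjSet (C.subgroupOf H), ?_, fun x => ?_⟩
    · have := card_conjSet (C.subgroupOf H) hti
      rwa [hnorm, Nat.card_congr (Subgroup.subgroupOfEquivOfLe hCH).toEquiv] at this
    · constructor
      · rintro ⟨y, c, hc, hc1, rfl⟩
        exact ⟨y, c, hc, fun e => hc1 (Subtype.ext e), rfl⟩
      · rintro ⟨y, c, hc, hc1, hx⟩
        exact ⟨y, ⟨c, hCH hc⟩, hc, fun e => hc1 (congrArg Subtype.val e), Subtype.ext hx⟩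
  have hHT : H = T := by
    by_contra hne
    obtain ⟨S, hScard, hS⟩ := count h hh h1
    rw [← hT] at hScard hS
    have hTlt : Nat.card T < Nat.card H :=
      lt_of_le_of_ne (Subgroup.card_le_of_le hTH)
        fun e => hne (Subgroup.eq_of_le_of_card_ge hTH e.ge).symm
    have hT3 : 3 ≤ Nat.card T := by
      obtain ⟨j, hj⟩ := odd_card_torusElt hm hF h1 (hodd h hh h1)
      have : 1 < Nat.card T := (Subgroup.one_lt_card_iff_ne_bot T).mpr fun e =>
        h1 (Subgroup.mem_bot.mp (e ▸ Subgroup.mem_centralizer_singleton_iff.mpr rfl))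
      rw [← hT] at hj
      omega
    obtain ⟨x, hxS, hx1⟩ : ∃ x : H, x ∉ S ∧ x ≠ 1 := by
      by_contra hall
      push Not at hall
      have hsub : (Set.univ : Set H) ⊆ insert 1 S := fun x _ => by
        by_cases hx : x ∈ S
        · exact Set.mem_insert_of_mem _ hx
        · exact Set.mem_insert_iff.mpr (Or.inl (hall x hx))
      have := (Set.ncard_le_ncard hsub (Set.toFinite _)).trans (Set.ncard_insert_le _ _)
      rw [Set.ncard_univ] at this
      obtain ⟨t, ht⟩ : ∃ t, Nat.card T = t + 1 := ⟨Nat.card T - 1, by omega⟩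
      rw [ht, Nat.add_sub_cancel] at hScard
      rw [ht] at hTlt
      nlinarith
    have hx1' : (x : Sz F m) ≠ 1 := fun e => hx1 (Subtype.ext e)
    obtain ⟨S2, hS2card, hS2⟩ := count x x.2 hx1'
    obtain ⟨-, hTIx, -⟩ := torusElt_centralizer hm hF hx1' (hodd x x.2 hx1')
    have hdisj : Disjoint S S2 := by
      rw [Set.disjoint_left]
      intro z hz hz2
      obtain ⟨y, c, hc, hc1, hzc⟩ := (hS z).mp hz
      obtain ⟨y', c', hc', hc1', hzc'⟩ := (hS2 z).mp hz2
      refine hxS ((hS x).mpr ⟨y'⁻¹ * y, (y⁻¹ * y' : Sz F m) * x * (y⁻¹ * y' : Sz F m)⁻¹,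
        ?_, ?_, by simp only [Subgroup.coe_mul, Subgroup.coe_inv]; group⟩)
      · rw [← hTI c hc hc1, show c = (y⁻¹ * y' : Sz F m) * c' * (y⁻¹ * y' : Sz F m)⁻¹ by
            calc c = (y : Sz F m)⁻¹ * (y * c * (y : Sz F m)⁻¹) * y := by group
              _ = _ := by rw [← hzc, hzc', Subgroup.coe_inv]; group,
          ← centralizer_conj hm hF, hTIx c' hc' hc1']
        exact Subgroup.mem_centralizer_singleton_iff.mpr rfl
      · exact fun e => hx1' (conj_eq_one_iff.mp e)
    have hle := Set.ncard_le_ncard (Set.subset_univ (S ∪ S2)) (Set.toFinite _)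
    rw [Set.ncard_union_eq hdisj (Set.toFinite _) (Set.toFinite _), Set.ncard_univ] at hle
    have hT3' : 3 ≤ Nat.card (Subgroup.centralizer {(x : Sz F m)}) := by
      obtain ⟨j, hj⟩ := odd_card_torusElt hm hF hx1' (hodd x x.2 hx1')
      have : 1 < Nat.card (Subgroup.centralizer {(x : Sz F m)}) :=
        (Subgroup.one_lt_card_iff_ne_bot _).mpr fun e =>
          hx1' (Subgroup.mem_bot.mp (e ▸ Subgroup.mem_centralizer_singleton_iff.mpr rfl))
      omega
    have hR : 0 < Nat.card H := Nat.card_pos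
    obtain ⟨t, ht⟩ : ∃ t, Nat.card T = t + 1 := ⟨Nat.card T - 1, by omega⟩
    obtain ⟨u, hu⟩ : ∃ u, Nat.card (Subgroup.centralizer {(x : Sz F m)}) = u + 1 :=
      ⟨Nat.card (Subgroup.centralizer {(x : Sz F m)}) - 1, by omega⟩
    rw [ht, Nat.add_sub_cancel] at hScard
    rw [hu, Nat.add_sub_cancel] at hS2card
    nlinarith
  -- the normaliser of the torus permutes the fixed points
  set N := Subgroup.normalizer (T : Set (Sz F m))
  have hnfix : ∀ n ∈ N, h • n • α = n • α := by
    intro n hn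
    have hm' : n⁻¹ * h * n ∈ T := (Subgroup.mem_normalizer_iff''.mp hn h).mp
      (Subgroup.mem_centralizer_singleton_iff.mpr rfl)
    have h2 : (n⁻¹ * h * n) • α = α := hTH hm'
    rw [mul_smul, mul_smul, inv_smul_eq_iff] at h2
    exact h2
  have hle : (T.subgroupOf N).index ≤ 2 := by
    refine le_trans ?_ (hfix h h1)
    refine Nat.card_le_card_of_injective
      (fun x : N ⧸ T.subgroupOf N =>
        (⟨((x.out : N) : Sz F m) • α, hnfix _ x.out.2⟩ : MulAction.fixedBy Ω h))
      (fun x y e => ?_)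
    have e' : ((x.out : N) : Sz F m) • α = ((y.out : N) : Sz F m) • α := congrArg Subtype.val e
    rw [← QuotientGroup.out_eq' x, ← QuotientGroup.out_eq' y, QuotientGroup.eq,
      Subgroup.mem_subgroupOf]
    show ((x.out : N) : Sz F m)⁻¹ * ((y.out : N) : Sz F m) ∈ T
    refine (SetLike.ext_iff.mp hHT _).mp ?_
    rw [hHdef, MulAction.mem_stabilizer_iff, mul_smul, ← e', inv_smul_smul]
  have hidx := Subgroup.card_mul_index (T.subgroupOf N)
  rw [Nat.card_congr (Subgroup.subgroupOfEquivOfLe Subgroup.le_normalizer).toEquiv] at hidx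
  rw [hHT]
  rcases hN with ⟨e, -⟩ | ⟨-, e⟩
  · exact e
  · exfalso
    rw [e] at hidx
    have := Nat.card_pos (α := T)
    nlinarith

include hm hF in
/-- Transitive faithful actions of fixity two. -/
theorem fixity_two [MulAction.IsPretransitive (Sz F m) Ω]
    (hfix : ∀ g : Sz F m, g ≠ 1 → Nat.card (MulAction.fixedBy Ω g) ≤ 2)
    (hex : ∃ g : Sz F m, g ≠ 1 ∧ Nat.card (MulAction.fixedBy Ω g) = 2) :
    (Nat.card Ω = (2 ^ (2 * m + 1)) ^ 2 + 1 ∧
      MulAction.IsMultiplyPretransitive (Sz F m) Ω 2) ∨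
    (Nat.card Ω = (2 ^ (2 * m + 1)) ^ 2 * ((2 ^ (2 * m + 1)) ^ 2 + 1) ∧
      ∀ α : Ω, Nat.card (MulAction.stabilizer (Sz F m) α) = 2 ^ (2 * m + 1) - 1) := by
  obtain ⟨g, hg1, hg2⟩ := hex
  obtain ⟨α, hα⟩ : (MulAction.fixedBy Ω g).Nonempty := by
    rw [← Set.nonempty_coe_sort]
    exact (Nat.card_pos_iff.mp (by omega)).1
  have hproper : ∀ β : Ω, MulAction.stabilizer (Sz F m) β ≠ ⊤ := by
    intro β htop
    have hall : ∀ γ : Ω, γ = β := fun γ => by
      obtain ⟨x, rfl⟩ := MulAction.exists_smul_eq (Sz F m) β γ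
      exact MulAction.mem_stabilizer_iff.mp (htop ▸ Subgroup.mem_top x)
    haveI : Subsingleton (MulAction.fixedBy Ω g) :=
      ⟨fun a b => Subtype.ext ((hall a).trans (hall b).symm)⟩
    have := Finite.card_le_one_iff_subsingleton.mpr this
    omega
  have hindex : ∀ β : Ω, Nat.card Ω * Nat.card (MulAction.stabilizer (Sz F m) β) =
      Nat.card (Sz F m) := fun β => by
    rw [← MulAction.index_stabilizer_of_transitive (Sz F m) β, Subgroup.index_mul_card]
  have hq2 : 2 ≤ 2 ^ (2 * m + 1) := le_self_pow₀ (by norm_num : 1 ≤ 2) (by omega)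
  by_cases heven : ∃ u ∈ MulAction.stabilizer (Sz F m) α, u ≠ 1 ∧ u ∈ conjSet (uSub hF)
  · left
    haveI := charTwo hF
    -- an involution fixing a point
    obtain ⟨β, b, hb, hbβ⟩ : ∃ (β : Ω) (b : F), b ≠ 0 ∧ tSz hF 0 b • β = β := by
      obtain ⟨u, hu, hu1, s, c, ⟨a, b, rfl⟩, hc1, rfl⟩ := heven
      have hfix' : tSz hF a b • (s⁻¹ • α) = s⁻¹ • α := by
        rw [MulAction.mem_stabilizer_iff, mul_smul, mul_smul] at hu
        rw [eq_inv_smul_iff]; exact hu
      rcases eq_or_ne a 0 with rfl | ha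
      · exact ⟨_, b, fun e => hc1 (by rw [e, tSz_zero]), hfix'⟩
      · refine ⟨s⁻¹ • α, th m a * a, mul_ne_zero (th_ne_zero ha) ha, ?_⟩
        have h2 : (tSz hF a b * tSz hF a b) • s⁻¹ • α = s⁻¹ • α := by
          rw [mul_smul, hfix', hfix']
        rwa [tSz_mul, show a + a = 0 by grind, show b + b + th m a * a = th m a * a by grind] at h2
    have hst := fixity_even hm hF hfix (hproper β) hb hbβ
    have hcard : Nat.card Ω = (2 ^ (2 * m + 1)) ^ 2 + 1 := by
      rw [← MulAction.index_stabilizer_of_transitive (Sz F m) β, hst, index_stabilizer hF]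
    refine ⟨hcard, ?_⟩
    rw [MulAction.is_two_pretransitive_iff]
    intro a b c d hab hcd
    obtain ⟨a, rfl⟩ := MulAction.exists_smul_eq (Sz F m) β a
    obtain ⟨b, rfl⟩ := MulAction.exists_smul_eq (Sz F m) β b
    obtain ⟨c, rfl⟩ := MulAction.exists_smul_eq (Sz F m) β c
    obtain ⟨d, rfl⟩ := MulAction.exists_smul_eq (Sz F m) β d
    have hiff : ∀ x y : Sz F m, x • β = y • β ↔
        x • suzukiPointInfinity F = y • suzukiPointInfinity F := by
      intro x y
      rw [← inv_smul_eq_iff, ← mul_smul, ← MulAction.mem_stabilizer_iff, hst,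
        MulAction.mem_stabilizer_iff, mul_smul, inv_smul_eq_iff]
    rw [ne_eq, hiff] at hab hcd
    obtain ⟨g1, p1, q1⟩ := exists_move hF (smul_mem_ovoid a infinity_mem)
      (smul_mem_ovoid b (infinity_mem (m := m))) hab
    obtain ⟨g2, p2, q2⟩ := exists_move hF (smul_mem_ovoid c infinity_mem)
      (smul_mem_ovoid d (infinity_mem (m := m))) hcd
    refine ⟨g2 * g1⁻¹, ?_, ?_⟩
    · rw [← mul_smul, hiff, mul_smul, mul_smul, ← p1, inv_smul_smul, p2]
    · rw [← mul_smul, hiff, mul_smul, mul_smul, ← q1, inv_smul_smul, q2]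
  · right
    push Not at heven
    have key := fixity_odd hm hF hfix heven hα hg1
    have hcard : Nat.card Ω = (2 ^ (2 * m + 1)) ^ 2 * ((2 ^ (2 * m + 1)) ^ 2 + 1) := by
      have := hindex α
      rw [key, card_sz hm hF] at this
      exact Nat.eq_of_mul_eq_mul_right (by omega) this
    refine ⟨hcard, fun β => ?_⟩
    have := (hindex β).trans (hindex α).symm
    rw [key] at this
    exact Nat.eq_of_mul_eq_mul_left (by rw [hcard]; positivity) this

end Cfsg.Agent.Suzuki
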