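import Cfsg.Agent.Lib.Suzuki.Aut
import Cfsg.Agent.Lib.Suzuki.Fixity
import Mathlib.FieldTheory.Finite.GaloisField

/-!
# Subfield subgroups

`th_comm_of_hom`, `embedding_standard` (every embedding of `Sz K k` in `Sz F m` is conjugate to a
field-induced one), `range_szMap_eq`, `subfield_subgroups`.
-/

set_option autoImplicit false
set_option linter.style.haveILetI false

namespace Cfsg.Agent.Suzuki

open Cfsg
open scoped Matrix

variable {F : Type*} [Field F] {m : ℕ} [Fintype F]
variable {K : Type*} [Field K] {k : ℕ} [Fintype K]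
variable (hm : 1 ≤ m) (hF : Fintype.card F = 2 ^ (2 * m + 1))
variable (hk : 1 ≤ k) (hK : Fintype.card K = 2 ^ (2 * k + 1))

include hK in
omit [Fintype F] in
/-- Field homomorphisms commute with `th` when the degrees divide. -/
lemma th_comm_of_hom (hdiv : 2 * k + 1 ∣ 2 * m + 1) (φ : K →+* F) (x : K) :
    φ (th k x) = th m (φ x) := by
  obtain ⟨r, hr⟩ := hdiv
  have hodd : r % 2 = 1 := by
    rcases Nat.mod_two_eq_zero_or_one r with h | h
    · exfalso
      have he : (2 * k + 1) * r % 2 = 0 := by rw [Nat.mul_mod, h]; simp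
      omega
    · exact h
  obtain ⟨j, rfl⟩ : ∃ j, r = 2 * j + 1 := ⟨r / 2, by omega⟩
  have hmk : m + 1 = (2 * k + 1) * j + (k + 1) := by linarith
  rw [th, th, ← map_pow]
  congr 1
  conv_rhs => rw [hmk, pow_add, pow_mul, pow_mul (2 : ℕ), ← hK, FiniteField.pow_card_pow]

include hm hF in
/-- A torus-type element fixing infinity is conjugate to a torus element inside the stabiliser. -/
lemma exists_conj_stab {g : Sz F m} (hg : g • suzukiPointInfinity F = suzukiPointInfinity F)
    (hgu : g ∉ uSub hF) :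
    ∃ (s : Sz F m) (u : Fˣ), s • suzukiPointInfinity F = suzukiPointInfinity F ∧
      s⁻¹ * g * s = dSz hF u := by
  have hg1 : g ≠ 1 := fun h => hgu (h ▸ one_mem _)
  rcases fixer_cases hm hF hg1 infinity_mem hg with ⟨s, a, b, -, hs, rfl⟩ | ⟨s, u, hu, rfl⟩
  · refine absurd ?_ hgu
    rw [← MulAction.mem_stabilizer_iff, ← normalizer_uSub hm hF] at hs
    exact (Subgroup.mem_normalizer_iff.mp hs _).mp (tSz_mem_uSub hF a b)
  · rw [mul_smul, mul_smul, ← eq_inv_smul_iff] at hg
    rcases fixed_points_dSz hm hF hu (smul_mem_ovoid s⁻¹ infinity_mem) hg with h | h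
    · exact ⟨s, u, (inv_smul_eq_iff.mp h).symm, by group⟩
    · refine ⟨s * wSz hF, u⁻¹, by rw [mul_smul, wSz_smul_infinity]; exact (inv_smul_eq_iff.mp h).symm,
        ?_⟩
      rw [mul_inv_rev, wSz_inv,
        show wSz hF * s⁻¹ * (s * dSz hF u * s⁻¹) * (s * wSz hF) =
          wSz hF * dSz hF u * wSz hF by group,
        wSz_conj_dSz, mul_assoc, wSz_mul_self, mul_one]

include hm hF hk hK in
/-- After conjugation an embedding carries `U` into `U` and the torus into the torus. -/
lemma embedding_normal_form (f : Sz K k →* Sz F m) (hf : Function.Injective f) :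
    ∃ s : Sz F m,
      (∀ a b, (MulAut.conj s).toMonoidHom.comp f (tSz hK a b) ∈ uSub hF) ∧
      (∀ u, ∃ v, (MulAut.conj s).toMonoidHom.comp f (dSz hK u) = dSz hF v) ∧
      (∀ x, x • suzukiPointInfinity K = suzukiPointInfinity K →
        (MulAut.conj s).toMonoidHom.comp f x • suzukiPointInfinity F = suzukiPointInfinity F) := by
  classical
  haveI : Fact (Nat.Prime 2) := ⟨Nat.prime_two⟩
  obtain ⟨P, hP⟩ := ((isPGroup_uSub hK).map f).exists_le_sylow
  obtain ⟨s0, hs0⟩ := MulAction.exists_smul_eq (Sz F m) P (uSylow hm hF)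
  set f1 := (MulAut.conj s0).toMonoidHom.comp f with hf1
  have hU : ∀ a b, f1 (tSz hK a b) ∈ uSub hF := fun a b => by
    have h : f1 (tSz hK a b) ∈ ((s0 • P : Sylow 2 (Sz F m)) : Subgroup (Sz F m)) := by
      rw [Sylow.coe_subgroup_smul]
      exact ⟨_, hP ⟨_, tSz_mem_uSub hK a b, rfl⟩, rfl⟩
    rw [hs0] at h
    exact h
  have hf1i : Function.Injective f1 := (MulAut.conj s0).injective.comp hf
  have hne1 : tSz hK (1 : K) 0 ≠ 1 := fun h => one_ne_zero ((tSz_eq_one_iff hK).mp h).1
  have hstab : ∀ x, x • suzukiPointInfinity K = suzukiPointInfinity K →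
      f1 x • suzukiPointInfinity F = suzukiPointInfinity F := by
    intro x hx
    rw [← MulAction.mem_stabilizer_iff, ← normalizer_uSub hk hK] at hx
    obtain ⟨a, b, hab⟩ := hU 1 0
    have hab0 : ¬(a = 0 ∧ b = 0) := fun h =>
      hne1 (hf1i (by rw [hab, (tSz_eq_one_iff hF).mpr h, map_one]))
    obtain ⟨c, d, hcd⟩ := (Subgroup.mem_normalizer_iff''.mp hx (tSz hK 1 0)).mp
      (tSz_mem_uSub hK 1 0)
    obtain ⟨c', d', hcd'⟩ := hU c d
    refine uSub_fix_eq hF hab0 (smul_mem_ovoid _ infinity_mem) ?_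
    have : f1 (tSz hK 1 0) = f1 x * f1 (x⁻¹ * tSz hK 1 0 * x) * (f1 x)⁻¹ := by
      rw [map_mul, map_mul, map_inv]; group
    rw [← hab, this, hcd, hcd', mul_smul, mul_smul, inv_smul_smul, tSz_smul_infinity]
  obtain ⟨κ, hκ⟩ := IsCyclic.exists_generator (α := Kˣ)
  have hκ1 : κ ≠ 1 := by
    intro h
    obtain ⟨x, hx0, hx1⟩ := exists_ne_zero_one hk hK
    obtain ⟨n, hn⟩ := hκ (Units.mk0 x hx0)
    simp only [h, one_zpow] at hn
    exact hx1 (congrArg Units.val hn).symm
  have hgu : f1 (dSz hK κ) ∉ uSub hF := by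
    intro h
    have h1 : orderOf (f1 (dSz hK κ)) ∣ (2 ^ (2 * m + 1)) ^ 2 := by
      rw [← card_uSub hF]; exact Subgroup.orderOf_dvd_natCard _ h
    have h2 : orderOf (f1 (dSz hK κ)) ∣ 2 ^ (2 * k + 1) - 1 := by
      rw [orderOf_injective f1 hf1i, ← card_dSub hK]
      exact Subgroup.orderOf_dvd_natCard _ ((mem_dSub hK).mpr ⟨κ, rfl⟩)
    have hc : Nat.Coprime ((2 ^ (2 * m + 1)) ^ 2) (2 ^ (2 * k + 1) - 1) := by
      apply Nat.Coprime.pow_left
      apply Nat.Coprime.pow_left
      rw [Nat.coprime_two_left, Nat.odd_iff]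
      have : 1 ≤ 2 ^ (2 * k + 1) := Nat.one_le_pow _ _ (by norm_num)
      have := two_dvd_q (m := k)
      omega
    have h3 := orderOf_eq_one_iff.mp (Nat.eq_one_of_dvd_coprimes hc h1 h2)
    exact hκ1 (dSz_inj hK ((hf1i (h3.trans (map_one f1).symm)).trans (dSz_one hK).symm))
  obtain ⟨s, u, hs, hsu⟩ := exists_conj_stab hm hF
    (hstab _ (dSz_smul_infinity hK κ)) hgu
  have hcomp : ∀ x, (MulAut.conj (s⁻¹ * s0)).toMonoidHom.comp f x = s⁻¹ * f1 x * s := fun x => by
    simp only [hf1, MonoidHom.comp_apply, MulEquiv.coe_toMonoidHom, MulAut.conj_apply]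
    group
  refine ⟨s⁻¹ * s0, fun a b => ?_, fun v => ?_, fun x hx => ?_⟩
  · rw [hcomp]
    rw [← MulAction.mem_stabilizer_iff, ← normalizer_uSub hm hF] at hs
    exact (Subgroup.mem_normalizer_iff''.mp hs _).mp (hU a b)
  · obtain ⟨n, rfl⟩ := hκ v
    refine ⟨u ^ n, ?_⟩
    rw [hcomp]
    show s⁻¹ * f1 (dHom hK (κ ^ n)) * s = dHom hF (u ^ n)
    rw [map_zpow, map_zpow, map_zpow]
    show s⁻¹ * (f1 (dSz hK κ)) ^ n * s = (dSz hF u) ^ n
    rw [← hsu]
    simpa using (conj_zpow (i := n) (a := s⁻¹) (b := f1 (dSz hK κ))).symm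
  · rw [hcomp, mul_smul, mul_smul, hs, hstab x hx, inv_smul_eq_iff, hs]

include hm hF hk hK in
/-- Every embedding is conjugate to a field-induced one. -/
theorem embedding_standard (hdiv : 2 * k + 1 ∣ 2 * m + 1) (f : Sz K k →* Sz F m)
    (hf : Function.Injective f) :
    ∃ (s : Sz F m) (φ : K →+* F), (MulAut.conj s).toMonoidHom.comp f =
      szMap hF hk hK φ (th_comm_of_hom hK hdiv φ) := by
  classical
  haveI := charTwo hF
  haveI := charTwo hK
  obtain ⟨s0, hU, hD, hstab⟩ := embedding_normal_form hm hF hk hK f hf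
  set f0 := (MulAut.conj s0).toMonoidHom.comp f with hf0
  have hf0i : Function.Injective f0 := (MulAut.conj s0).injective.comp hf
  choose σ hσ using hD
  have hex : ∀ a, ∃ p : F × F, f0 (tSz hK a 0) = tSz hF p.1 p.2 := fun a => by
    obtain ⟨c, d, h⟩ := hU a 0
    exact ⟨(c, d), h⟩
  choose P hP using hex
  have hzz : ∀ z, ∃ z', f0 (tSz hK 0 z) = tSz hF 0 z' := fun z => by
    obtain ⟨c, d, h⟩ := hU 0 z
    refine ⟨d, ?_⟩
    have h2 : f0 (tSz hK 0 z) * f0 (tSz hK 0 z) = 1 := by
      rw [← map_mul, tSz_mul, show tSz hK (0 + 0) (z + z + th k 0 * 0) = 1 from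
        (tSz_eq_one_iff hK).mpr ⟨by simp, by simp; grind⟩, map_one]
    rw [h, tSz_mul, tSz_eq_one_iff] at h2
    have hc : th m c * c = 0 := by grind
    rcases mul_eq_zero.mp hc with h' | h'
    · rw [h, th_eq_zero.mp h']
    · rw [h, h']
  have hadd : ∀ a a', (P (a + a')).1 = (P a).1 + (P a').1 := by
    intro a a'
    obtain ⟨z', hz'⟩ := hzz (th k a * a')
    have h := map_mul f0 (tSz hK a 0) (tSz hK a' 0)
    rw [tSz_mul, show tSz hK (a + a') (0 + 0 + th k a * a') =
      tSz hK (a + a') 0 * tSz hK 0 (th k a * a') by rw [tSz_mul]; congr 1 <;> simp,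
      map_mul, hP, hP, hP, hz', tSz_mul, tSz_mul] at h
    simpa using (tSz_inj hF h).1
  have hmul : ∀ (u : Kˣ) a, (P ((u : K) * a)).1 = (σ u : F) * (P a).1 := by
    intro u a
    have h := congrArg f0 (dSz_conj_tSz hK u a 0)
    rw [mul_zero, map_mul, map_mul, hσ, hP, hP, dSz_conj_tSz] at h
    exact ((tSz_inj hF (mul_right_cancel h)).1).symm
  have hP0 : ∀ a, (P a).1 = 0 → a = 0 := by
    intro a ha
    have h := map_mul f0 (tSz hK a 0) (tSz hK a 0)
    rw [hP, ha, show tSz hF (0 : F) (P a).2 * tSz hF 0 (P a).2 = 1 from by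
      rw [tSz_mul, tSz_eq_one_iff]; constructor <;> simp <;> grind,
      map_eq_one_iff f0 hf0i, tSz_mul, tSz_eq_one_iff] at h
    have hc : th k a * a = 0 := by simpa using h.2
    rcases mul_eq_zero.mp hc with h' | h'
    · exact th_eq_zero.mp h'
    · exact h'
  have h1 : (P 1).1 ≠ 0 := fun h => one_ne_zero (hP0 1 h)
  set c := (P 1).1 with hc
  have hσP : ∀ u : Kˣ, (σ u : F) = (P (u : K)).1 / c := fun u => by
    rw [eq_div_iff h1, hc, ← hmul, mul_one]
  let φ : K →+* F :=
    { toFun := fun a => (P a).1 / c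
      map_one' := div_self h1
      map_zero' := by
        have := hadd 0 0
        rw [add_zero] at this
        rw [show (P 0).1 = 0 by grind, zero_div]
      map_add' := fun a b => by rw [hadd, add_div]
      map_mul' := fun a b => by
        rcases eq_or_ne a 0 with rfl | ha
        · have := hadd 0 0
          rw [add_zero] at this
          rw [zero_mul, show (P 0).1 = 0 by grind, zero_div, zero_mul]
        · have := hmul (Units.mk0 a ha) b
          rw [Units.val_mk0] at this
          rw [this, hσP, Units.val_mk0, mul_div_assoc] }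
  have hφ := th_comm_of_hom hK hdiv φ
  set d := dSz hF (Units.mk0 c h1) with hd
  set f1 := (MulAut.conj d⁻¹).toMonoidHom.comp f0 with hf1
  have hf1app : ∀ x, f1 x = d⁻¹ * f0 x * d := fun x => by
    simp [hf1, MulAut.conj_apply]
  have hfd : ∀ u, f1 (dSz hK u) = dSz hF (Units.map φ.toMonoidHom u) := fun u => by
    rw [hf1app, hσ, hd, dSz_inv, dSz_mul, dSz_mul, mul_right_comm, inv_mul_cancel, one_mul]
    congr 1
    exact Units.ext (hσP u)
  have hfst : ∀ a, ∃ e, f1 (tSz hK a 0) = tSz hF (φ a) e := fun a => by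
    refine ⟨th m c⁻¹ * c⁻¹ * (P a).2, ?_⟩
    rw [hf1app, hP, hd, dSz_inv, dSz_conj_tSz, mul_assoc, dSz_mul, inv_mul_cancel, dSz_one,
      mul_one]
    congr 1
    show _ = (P a).1 / c
    rw [Units.val_inv_eq_inv_val, Units.val_mk0]; ring
  choose e he using hfst
  have hz : ∀ z, f1 (tSz hK 0 z) = tSz hF 0 (φ z) := fun z => by
    obtain ⟨a, ha⟩ := (thSucc_bijective hK).2 z
    simp only at ha
    have h := map_mul f1 (tSz hK a 0) (tSz hK a 0)
    rw [he, tSz_mul, tSz_mul, show a + a = 0 by grind, show φ a + φ a = 0 by grind,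
      show (0 : K) + 0 + th k a * a = z by rw [ha]; simp,
      show e a + e a + th m (φ a) * φ a = φ z by rw [← ha, map_mul, hφ]; grind] at h
    exact h
  have hec : ∀ a, e a = φ (th k a * a) * e 1 := by
    intro a
    rcases eq_or_ne a 0 with rfl | ha
    · have := he 0
      rw [hz, map_zero] at this
      simpa using (tSz_inj hF this).2.symm
    · have h := congrArg f1 (dSz_conj_tSz hK (Units.mk0 a ha) 1 0)
      rw [Units.val_mk0, mul_one, mul_zero, map_mul, map_mul, hfd, he, he, dSz_conj_tSz] at h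
      have := (tSz_inj hF (mul_right_cancel h)).2
      simp only [Units.coe_map, RingHom.toMonoidHom_eq_coe, MonoidHom.coe_coe, Units.val_mk0] at this
      rw [map_mul, hφ]
      exact this.symm
  have he1 : e 1 = 0 := by
    obtain ⟨x, hx⟩ := exists_th_ne hk hK
    have h := map_mul f1 (tSz hK 1 0) (tSz hK x 0)
    have hsplit : tSz hK (1 + x) (0 + 0 + th k 1 * x) = tSz hK (1 + x) 0 * tSz hK 0 x := by
      rw [tSz_mul]; congr 1 <;> simp
    rw [tSz_mul, hsplit, map_mul, he, he, he, hz, tSz_mul, tSz_mul] at h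
    have h2 := (tSz_inj hF h).2
    rw [hec (1 + x), hec x] at h2
    simp [th_add] at h2
    have : (φ (th k x) + φ x) * e 1 = 0 := by grind
    refine (mul_eq_zero.mp this).resolve_left fun h => hx ?_
    rw [← map_add, map_eq_zero] at h
    grind
  have ht : ∀ a b, f1 (tSz hK a b) = tSz hF (φ a) (φ b) := fun a b => by
    have hsplit : tSz hK a b = tSz hK a 0 * tSz hK 0 b := by
      rw [tSz_mul]; congr 1 <;> simp
    rw [hsplit, map_mul, he, hz, hec, he1, mul_zero, tSz_mul]
    congr 1 <;> simp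
  have hstab1 : ∀ x, x • suzukiPointInfinity K = suzukiPointInfinity K →
      f1 x • suzukiPointInfinity F = suzukiPointInfinity F := fun x hx => by
    rw [hf1app, mul_smul, mul_smul, hd, dSz_smul_infinity, hstab x hx, inv_smul_eq_iff,
      dSz_smul_infinity]
  -- the inversion
  obtain ⟨x0, hx0, hx1⟩ := exists_ne_zero_one hk hK
  set v := Units.map φ.toMonoidHom (Units.mk0 x0 hx0) with hv
  have hv1 : v ≠ 1 := fun h => hx1 (φ.injective (by
    rw [map_one]; exact congrArg Units.val h))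
  have hv2 : v⁻¹ ≠ 1 := fun h => hv1 (inv_eq_one.mp h)
  set W := f1 (wSz hK) with hW
  have hWd : W * dSz hF v = dSz hF v⁻¹ * W := by
    have := congrArg f1 (wSz_conj_dSz hK (Units.mk0 x0 hx0))
    rw [map_mul, map_mul, hfd, hfd, map_inv, ← hv] at this
    exact this
  have hmoves : W • suzukiPointInfinity F ≠ suzukiPointInfinity F := by
    intro hWfix
    obtain ⟨a, b, l, hl⟩ := exists_tSz_dSz_of_fix hm hF hWfix
    rw [hl, mul_assoc, dSz_mul, ← mul_assoc, dSz_conj_tSz, mul_assoc, dSz_mul] at hWd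
    have h' := congrArg (fun g : Sz F m => g • suzukiPointZero F) hWd
    simp only [mul_smul, dSz_smul_zero, tSz_smul_zero] at h'
    obtain ⟨e1, e2⟩ := pt_inj h'
    rw [← e1, ← e2, mul_left_cancel_iff] at hWd
    have h3 : v = v⁻¹ := by
      have := dSz_inj hF hWd
      rw [mul_comm v⁻¹ l] at this
      exact mul_left_cancel this
    apply hv1
    have h4 : (v : F) * (v : F) = 1 := by
      rw [← Units.val_mul, mul_eq_one_iff_eq_inv.mpr h3, Units.val_one]
    rcases mul_self_eq_one_iff.mp h4 with h' | h'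
    · exact Units.ext h'
    · exact Units.ext (by rw [h', CharTwo.neg_eq, Units.val_one])
  have hWi : W • suzukiPointInfinity F = suzukiPointZero F := by
    refine (fixed_points_dSz hm hF hv2 (smul_mem_ovoid W infinity_mem) ?_).resolve_left hmoves
    rw [← mul_smul, ← hWd, mul_smul, dSz_smul_infinity]
  have hWz : W • suzukiPointZero F = suzukiPointInfinity F := by
    refine (fixed_points_dSz hm hF hv2 (smul_mem_ovoid W pointZero_mem) ?_).resolve_right
      fun h => pointZero_ne_infinity (smul_left_cancel W (h.trans hWi.symm))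
    rw [← mul_smul, ← hWd, mul_smul, dSz_smul_zero]
  obtain ⟨j, hj⟩ := exists_dSz_of_fix hm hF (g := wSz hF * W)
    (by rw [mul_smul, hWi, wSz_smul_zero]) (by rw [mul_smul, hWz, wSz_smul_infinity])
  have hWj : W = wSz hF * dSz hF j := by rw [← hj, ← mul_assoc, wSz_mul_self, one_mul]
  set r := (tSz hK 1 0 * wSz hK)⁻¹ * (wSz hK * tSz hK 0 1 * wSz hK) with hr
  have hrfix : r • suzukiPointInfinity K = suzukiPointInfinity K := by
    rw [hr, mul_smul, inv_smul_eq_iff, mul_smul, mul_smul, mul_smul, wSz_smul_infinity,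
      tSz_smul_zero, tSz_smul_zero]
    have hz' : fz k (0 : K) 1 = 1 := by simp [fz]
    show wSL K • pt k (0 : K) 1 = _
    rw [wSL_smul_pt hK 0 1 (by rw [hz']; exact one_ne_zero), hz', zero_div, div_one]
  have hrel : W * tSz hF 0 1 * W = tSz hF 1 0 * W * f1 r := by
    rw [hr, map_mul, map_inv, map_mul, map_mul, map_mul, ht, ht, ← hW, map_zero, map_one]
    group
  have hJ := congrArg (fun g : Sz F m => g • suzukiPointInfinity F) hrel
  simp only [mul_smul, hWi, hstab1 r hrfix] at hJ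
  rw [tSz_smul_zero, tSz_smul_zero, hWj, mul_smul, dSz_smul_pt] at hJ
  set J : F := th m (j : F) * (j : F) with hJdef
  have hJ0 : J ≠ 0 := mul_ne_zero (th_ne_zero j.ne_zero) j.ne_zero
  have hzJ : fz m (0 : F) J = th m J := by simp [fz]
  rw [mul_zero, mul_one] at hJ
  change wSL F • pt m 0 J = _ at hJ
  rw [wSL_smul_pt hF 0 J (by rw [hzJ]; exact th_ne_zero hJ0), hzJ, zero_div] at hJ
  have hJ1 := (pt_inj hJ).1
  rw [div_eq_one_iff_eq (th_ne_zero hJ0)] at hJ1
  have hJJ := th_th hF J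
  rw [← hJ1, ← hJ1, sq] at hJJ
  have hj1 : j = 1 := Units.ext (thSucc_eq_one hF ((mul_eq_right₀ hJ0).mp hJJ.symm))
  refine ⟨d⁻¹ * s0, φ, ?_⟩
  have hmain : f1 = szMap hF hk hK φ hφ := by
    refine hom_ext_gens hk hK (fun a b => ?_) (fun u => ?_) ?_
    · rw [ht, szMap_tSz]
    · rw [hfd, szMap_dSz]
    · rw [szMap_wSz, ← hW, hWj, hj1, dSz_one, mul_one]
  rw [← hmain, hf1, hf0, ← MonoidHom.comp_assoc, map_mul]
  rfl

include hm hF hk hK in
/-- The image of a field-induced map does not depend on the field map. -/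
theorem range_szMap_eq (hdiv : 2 * k + 1 ∣ 2 * m + 1) (φ ψ : K →+* F) :
    (szMap hF hk hK φ (th_comm_of_hom hK hdiv φ)).range =
      (szMap hF hk hK ψ (th_comm_of_hom hK hdiv ψ)).range := by
  classical
  have hroot : ∀ (χ : K →+* F) (x : K), χ x ^ Fintype.card K = χ x := fun χ x => by
    rw [← map_pow, FiniteField.pow_card]
  have hrange : ∀ x : K, ∃ y : K, φ y = ψ x := by
    intro x
    let P : Polynomial F := Polynomial.X ^ Fintype.card K - Polynomial.X
    have hP : P ≠ 0 := FiniteField.X_pow_card_sub_X_ne_zero F Fintype.one_lt_card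
    have hsub : Finset.univ.image φ ⊆ P.roots.toFinset := by
      intro z hz
      obtain ⟨y, -, rfl⟩ := Finset.mem_image.mp hz
      simp [P, Polynomial.mem_roots hP, hroot, sub_eq_zero]
    have hcard : P.roots.toFinset.card ≤ (Finset.univ.image φ).card := by
      rw [Finset.card_image_of_injective _ φ.injective, Finset.card_univ]
      refine (P.roots.toFinset_card_le.trans (Polynomial.card_roots' P)).trans ?_
      rw [FiniteField.X_pow_card_sub_X_natDegree_eq F Fintype.one_lt_card]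
    have heq := Finset.eq_of_subset_of_card_le hsub hcard
    have hmem : ψ x ∈ P.roots.toFinset := by
      simp [P, Polynomial.mem_roots hP, hroot, sub_eq_zero]
    rw [← heq] at hmem
    obtain ⟨y, -, hy⟩ := Finset.mem_image.mp hmem
    exact ⟨y, hy⟩
  choose y hy using hrange
  let t : K →+* K :=
    { toFun := y
      map_one' := φ.injective (by rw [hy, map_one, map_one])
      map_zero' := φ.injective (by rw [hy, map_zero, map_zero])
      map_add' := fun a b => φ.injective (by rw [hy, map_add, map_add, hy, hy])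
      map_mul' := fun a b => φ.injective (by rw [hy, map_mul, map_mul, hy, hy]) }
  let τ : RingAut K := RingEquiv.ofBijective t (Finite.injective_iff_bijective.mp t.injective)
  have hcomp : szMap hF hk hK ψ (th_comm_of_hom hK hdiv ψ) =
      (szMap hF hk hK φ (th_comm_of_hom hK hdiv φ)).comp (fieldAut hk hK τ).toMonoidHom := by
    refine hom_ext_gens hk hK (fun a b => ?_) (fun u => ?_) ?_
    · rw [MonoidHom.comp_apply, MulEquiv.coe_toMonoidHom, fieldAut_tSz, szMap_tSz, szMap_tSz]
      show _ = tSz hF (φ (y a)) (φ (y b))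
      rw [hy, hy]
    · rw [MonoidHom.comp_apply, MulEquiv.coe_toMonoidHom, fieldAut_dSz, szMap_dSz, szMap_dSz]
      congr 1
      exact Units.ext (hy u).symm
    · rw [MonoidHom.comp_apply, MulEquiv.coe_toMonoidHom, fieldAut_wSz, szMap_wSz, szMap_wSz]
  have htop : ((fieldAut hk hK τ).toMonoidHom).range = ⊤ :=
    MonoidHom.range_eq_top.mpr (fieldAut hk hK τ).surjective
  rw [hcomp, MonoidHom.range_comp, htop, ← MonoidHom.range_eq_map]

omit [Fintype F] [Fintype K] in
/-- The degree over the prime field. -/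
lemma finrank_two (L : Type*) [Field L] [Fintype L] [Algebra (ZMod 2) L] (n : ℕ)
    (hL : Fintype.card L = 2 ^ n) : Module.finrank (ZMod 2) L = n := by
  haveI := Fact.mk Nat.prime_two
  have := Module.card_eq_pow_finrank (K := ZMod 2) (V := L)
  rw [hL, ZMod.card] at this
  exact (Nat.pow_right_injective le_rfl this).symm

include hm hF hk hK in
/-- Existence and conjugacy of subfield subgroups. -/
theorem subfield_subgroups (hdiv : 2 * k + 1 ∣ 2 * m + 1) :
    (∃ S : Subgroup (Sz F m), Nonempty (S ≃* Sz K k)) ∧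
    ∀ S₁ S₂ : Subgroup (Sz F m), Nonempty (S₁ ≃* Sz K k) → Nonempty (S₂ ≃* Sz K k) →
      ∃ g : Sz F m, S₂ = S₁.map (MulAut.conj g).toMonoidHom := by
  haveI := charTwo hF
  haveI := charTwo hK
  haveI := Fact.mk Nat.prime_two
  letI := ZMod.algebra F 2
  letI := ZMod.algebra K 2
  obtain ⟨φ⟩ := FiniteField.nonempty_algHom_of_finrank_dvd (F := ZMod 2) (K := K) (L := F) (by
    rw [finrank_two K _ hK, finrank_two F _ hF]; exact hdiv)
  refine ⟨⟨(szMap hF hk hK φ.toRingHom (th_comm_of_hom hK hdiv _)).range,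
    ⟨(MonoidHom.ofInjective (szMap_injective hF hk hK _ _)).symm⟩⟩, ?_⟩
  have std : ∀ S : Subgroup (Sz F m), Nonempty (S ≃* Sz K k) → ∃ s : Sz F m,
      S.map (MulAut.conj s).toMonoidHom =
        (szMap hF hk hK φ.toRingHom (th_comm_of_hom hK hdiv _)).range := by
    rintro S ⟨e⟩
    have hinj : Function.Injective (S.subtype.comp e.symm.toMonoidHom) :=
      Subtype.val_injective.comp e.symm.injective
    obtain ⟨s, ψ, hs⟩ := embedding_standard hm hF hk hK hdiv _ hinj
    refine ⟨s, ?_⟩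
    rw [range_szMap_eq hm hF hk hK hdiv φ.toRingHom ψ, ← hs, MonoidHom.range_comp,
      MonoidHom.range_comp, MonoidHom.range_eq_top.mpr e.symm.surjective,
      ← MonoidHom.range_eq_map, Subgroup.range_subtype]
  intro S₁ S₂ h₁ h₂
  obtain ⟨s₁, e₁⟩ := std S₁ h₁
  obtain ⟨s₂, e₂⟩ := std S₂ h₂
  refine ⟨s₂⁻¹ * s₁, ?_⟩
  ext x
  have := SetLike.ext_iff.mp (e₂.trans e₁.symm) (s₂ * x * s₂⁻¹)
  simp only [Subgroup.mem_map_equiv, MulAut.conj_symm_apply] at this ⊢
  rw [show s₂⁻¹ * (s₂ * x * s₂⁻¹) * s₂ = x by group] at this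
  rw [this]
  rw [show s₁⁻¹ * (s₂ * x * s₂⁻¹) * s₁ = (s₂⁻¹ * s₁)⁻¹ * x * (s₂⁻¹ * s₁) by group]

end Cfsg.Agent.Suzuki
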