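import Cfsg.Agent.Lib.Suzuki.Solubilizer
import Cfsg.Agent.Lib.Suzuki.Subfield

/-!
# Non-solvable proper subgroups of Suzuki groups

`isSolvable_of_borel_unipotent`, `BigSub` (an involution at infinity, a mover, a torus part),
`BigSub.transitive` and `big_le_subfield` (such a subgroup lies in a subfield subgroup).
-/

set_option autoImplicit false
set_option linter.style.haveILetI false

namespace Cfsg.Agent.Suzuki

open Cfsg
open scoped Matrix

variable {F : Type*} [Field F] {m : ℕ} [Fintype F]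
variable (hm : 1 ≤ m) (hF : Fintype.card F = 2 ^ (2 * m + 1))

include hm hF

/-- If the point stabiliser in `M` is unipotent and `M` moves the point, `M` is solvable. -/
theorem isSolvable_of_borel_unipotent {M : Subgroup (Sz F m)} {b : F} (hb0 : b ≠ 0)
    (hb : tSz hF 0 b ∈ M) {g : Sz F m} (hg : g ∈ M) (hgB : g ∉ borelSub F m)
    (hU : ∀ h ∈ M, h ∈ borelSub F m → h ∈ uSub hF) : Group.IsSolvable M := by
  classical
  haveI : Fact (Nat.Prime 2) := ⟨Nat.prime_two⟩
  set Q : Subgroup M := (borelSub F m).subgroupOf M with hQdef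
  have hQ : Cfsg.IsFrobeniusComplement Q := by
    refine ⟨?_, ?_, fun x hx => ?_⟩
    · intro h
      have hmem : (⟨tSz hF 0 b, hb⟩ : M) ∈ (⊥ : Subgroup M) :=
        h ▸ (Subgroup.mem_subgroupOf.mpr (tSz_smul_infinity hF 0 b))
      exact hb0 ((tSz_eq_one_iff hF).mp (congrArg Subtype.val (Subgroup.mem_bot.mp hmem))).2
    · intro h
      exact hgB (Subgroup.mem_subgroupOf.mp (h ▸ Subgroup.mem_top (⟨g, hg⟩ : M)))
    · rw [eq_bot_iff]
      rintro y ⟨hy1, hy2⟩
      rw [Subgroup.mem_bot]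
      by_contra hy
      replace hy2 := Frobenius.mem_conj_smul.mp hy2
      rw [Subgroup.mem_subgroupOf] at hy2
      obtain ⟨a, c, hac⟩ := hU _ y.2 (Subgroup.mem_subgroupOf.mp hy1)
      have hfix : (y : Sz F m) • ((x : Sz F m) • suzukiPointInfinity F) =
          (x : Sz F m) • suzukiPointInfinity F := by
        have := MulAction.mem_stabilizer_iff.mp hy2
        simp only [Subgroup.coe_mul, Subgroup.coe_inv, mul_smul] at this
        rwa [inv_smul_eq_iff] at this
      refine hx (Subgroup.mem_subgroupOf.mpr (MulAction.mem_stabilizer_iff.mpr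
        (uSub_fix_eq hF (a := a) (b := c) ?_ (smul_mem_ovoid _ infinity_mem) (hac ▸ hfix))))
      rintro ⟨rfl, rfl⟩
      rw [tSz_zero] at hac
      exact hy (Subtype.ext hac)
  set N := Frobenius.frobKernel hQ with hNdef
  haveI hNn : N.Normal := Frobenius.frobKernel_normal hQ
  have hcomp := Frobenius.frobKernel_isComplement hQ
  have hQ2 : IsPGroup 2 Q := by
    refine (isPGroup_uSub hF).of_injective
      ((M.subtype.comp Q.subtype).codRestrict (uSub hF)
        (fun y => hU _ y.1.2 (Subgroup.mem_subgroupOf.mp y.2))) ?_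
    exact fun a c h => Subtype.ext (Subtype.ext (congrArg (fun z : uSub hF => (z : Sz F m)) h))
  haveI : Group.IsNilpotent Q := hQ2.isNilpotent
  have hNodd : Odd (Nat.card N) := by
    obtain ⟨n, hn⟩ := hQ2.exists_card_eq
    have hn0 : n ≠ 0 := fun h => hQ.1 (Subgroup.card_eq_one.mp (by rw [hn, h, pow_zero]))
    have hcop := Frobenius.coprime_card_index hQ
    rw [← Frobenius.card_frobKernel hQ, hn, Nat.coprime_pow_left_iff (Nat.pos_of_ne_zero hn0),
      Nat.coprime_two_left] at hcop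
    exact hcop
  haveI : Group.IsSolvable (N.map M.subtype) := isSolvable_of_odd hm hF (by
    rwa [← Nat.card_congr (N.equivMapOfInjective M.subtype M.subtype_injective).toEquiv])
  haveI : Group.IsSolvable N := Group.isSolvable_of_isSolvable_injective
    (f := (N.equivMapOfInjective M.subtype M.subtype_injective).toMonoidHom)
    (N.equivMapOfInjective M.subtype M.subtype_injective).injective
  haveI : Group.IsSolvable (M ⧸ N) := Group.isSolvable_of_surjective
    (f := ((QuotientGroup.mk' N).comp Q.subtype)) (fun y => by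
      obtain ⟨y, rfl⟩ := QuotientGroup.mk'_surjective N y
      obtain ⟨⟨n, k⟩, hnk⟩ := hcomp.2 y
      refine ⟨k, ?_⟩
      have hn : QuotientGroup.mk' N (n : M) = 1 := (QuotientGroup.eq_one_iff _).mpr n.2
      rw [← hnk]
      simp only [map_mul, hn, one_mul]
      rfl)
  exact Group.isSolvable_of_ker_le_range N.subtype (QuotientGroup.mk' N)
    (by rw [Subgroup.range_subtype, QuotientGroup.ker_mk'])

/-- An involution at infinity is central in the root group. -/
lemma invol_at_infinity {y : Sz F m} (hy : orderOf y = 2)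
    (hfix : y • suzukiPointInfinity F = suzukiPointInfinity F) :
    ∃ b : F, b ≠ 0 ∧ y = tSz hF 0 b := by
  obtain ⟨a, b, k, rfl⟩ := exists_tSz_dSz_of_fix hm hF hfix
  have hk : k = 1 := by
    set u : borelSub F m := ⟨tSz hF a b * dSz hF k, hfix⟩ with hu
    have h2 : borelHom hm hF u ^ 2 = 1 := by
      rw [← map_pow, show u ^ 2 = 1 from Subtype.ext (show (tSz hF a b * dSz hF k) ^ 2 = 1 by
        rw [← hy, pow_orderOf_eq_one]), map_one]
    obtain ⟨a', b', e⟩ := borelHom_eq hm hF u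
    rw [(tSz_dSz_uniq hF e).2.2]
    haveI := charTwo hF
    refine Units.ext ?_
    have h4 : ((borelHom hm hF u : Fˣ) : F) * ((borelHom hm hF u : Fˣ) : F) = 1 := by
      rw [← sq, ← Units.val_pow_eq_pow_val, h2, Units.val_one]
    rcases mul_self_eq_one_iff.mp h4 with h' | h'
    · exact h'
    · rw [h', CharTwo.neg_eq, Units.val_one]
  subst hk
  rw [dSz_one, mul_one] at hy ⊢
  obtain ⟨rfl, hb⟩ := orderOf_tSz_two hm hF hy
  exact ⟨b, hb, rfl⟩

lemma invol_fixed {y : Sz F m} (hy : orderOf y = 2) :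
    ∃ p ∈ suzukiOvoid F m, y • p = p ∧ ∀ p' ∈ suzukiOvoid F m, y • p' = p' → p' = p := by
  obtain ⟨s, a, b, rfl⟩ := exists_conj_tSz hm hF (j := 1) (by rw [hy]; norm_num)
  have hab : ¬(a = 0 ∧ b = 0) := by
    rintro ⟨rfl, rfl⟩
    rw [tSz_zero, mul_one, mul_inv_cancel, orderOf_one] at hy
    omega
  refine ⟨s • suzukiPointInfinity F, smul_mem_ovoid s infinity_mem, ?_, fun p' hp' h => ?_⟩
  · rw [mul_smul, mul_smul, inv_smul_smul, tSz_smul_infinity]
  · rw [mul_smul, mul_smul] at h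
    have h' : tSz hF a b • (s⁻¹ • p') = s⁻¹ • p' := eq_inv_smul_iff.mpr h
    exact inv_smul_eq_iff.mp (uSub_fix_eq hF hab (smul_mem_ovoid _ hp') h')

/-- Two involutions with different fixed points are conjugate by an element they generate. -/
lemma invol_conj_of_moves {M : Subgroup (Sz F m)} {z y : Sz F m} (hz : z ∈ M) (hy : y ∈ M)
    (hz2 : orderOf z = 2) (hy2 : orderOf y = 2)
    (hzi : z • suzukiPointInfinity F = suzukiPointInfinity F)
    (hyi : y • suzukiPointInfinity F ≠ suzukiPointInfinity F) : ∃ n ∈ M, n * z * n⁻¹ = y := by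
  have hzz : z * z = 1 := by rw [← sq, ← hz2, pow_orderOf_eq_one]
  have hyy : y * y = 1 := by rw [← sq, ← hy2, pow_orderOf_eq_one]
  set t := z * y with ht
  have hzt : z * t * z⁻¹ = t⁻¹ := by
    rw [ht, inv_eq_of_mul_eq_one_right hzz, mul_inv_rev, inv_eq_of_mul_eq_one_right hzz,
      inv_eq_of_mul_eq_one_right hyy, ← mul_assoc, hzz, one_mul]
  rcases Nat.even_or_odd' (orderOf t) with ⟨j, hj | hj⟩
  · exfalso
    have hpos := orderOf_pos t
    set u := t ^ j with hu
    have hu2 : orderOf u = 2 := by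
      rw [hu, orderOf_pow, hj, Nat.gcd_mul_left_left, Nat.mul_div_cancel _ (by omega)]
    have huu : u⁻¹ = u := inv_eq_of_mul_eq_one_right (by rw [← sq, ← hu2, pow_orderOf_eq_one])
    have hzu : z * u = u * z := by
      have e : z * u * z⁻¹ = u := by rw [hu, ← conj_pow, hzt, inv_pow, ← hu, huu]
      calc z * u = z * u * z⁻¹ * z := by group
        _ = u * z := by rw [e]
    have hyu : y * u = u * y := by
      have e : y = z⁻¹ * t := by rw [ht]; group
      rw [e]
      calc z⁻¹ * t * u = z⁻¹ * u * t := by rw [hu]; group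
        _ = z⁻¹ * (u * z) * z⁻¹ * t := by group
        _ = u * (z⁻¹ * t) := by rw [← hzu]; group
    obtain ⟨p, hp, hup, huniq⟩ := invol_fixed hm hF hu2
    obtain ⟨p0, -, -, hzuniq⟩ := invol_fixed hm hF hz2
    have hzp : z • p = p := huniq _ (smul_mem_ovoid z hp) (by rw [← mul_smul, ← hzu, mul_smul, hup])
    have hyp : y • p = p := huniq _ (smul_mem_ovoid y hp) (by rw [← mul_smul, ← hyu, mul_smul, hup])
    rw [(hzuniq p hp hzp).trans (hzuniq _ infinity_mem hzi).symm] at hyp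
    exact hyi hyp
  · refine ⟨t ^ j, pow_mem (mul_mem hz hy) j, ?_⟩
    have e : z * t ^ j * z⁻¹ = (t ^ j)⁻¹ := by rw [← conj_pow, hzt, inv_pow]
    have e2 : t ^ j * z = z * (t ^ j)⁻¹ := by
      calc t ^ j * z = z⁻¹ * (z * t ^ j * z⁻¹) * (z * z) := by group
        _ = z⁻¹ * (t ^ j)⁻¹ := by rw [e, hzz, mul_one]
        _ = z * (t ^ j)⁻¹ := by rw [inv_eq_of_mul_eq_one_right hzz]
    have e3 : (t ^ j)⁻¹ * (t ^ j)⁻¹ = t := by
      rw [← mul_inv_rev, ← pow_add]
      refine inv_eq_of_mul_eq_one_right ?_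
      rw [← pow_succ, show j + j + 1 = 2 * j + 1 by omega, ← hj, pow_orderOf_eq_one]
    rw [e2, mul_assoc, e3, ht, ← mul_assoc, hzz, one_mul]

/-- A proper subgroup with an involution at infinity, a mover and a torus part. -/
structure BigSub (M : Subgroup (Sz F m)) : Prop where
  ne_top : M ≠ ⊤
  invol : ∃ b : F, b ≠ 0 ∧ tSz hF 0 b ∈ M
  mover : ∃ g ∈ M, g • suzukiPointInfinity F ≠ suzukiPointInfinity F
  torus : ∃ h ∈ M, h • suzukiPointInfinity F = suzukiPointInfinity F ∧ h ∉ uSub hF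

omit hm hF

/-- The torus parameters occurring in the point stabiliser of `M`. -/
noncomputable def torusPart (M : Subgroup (Sz F m)) : Subgroup Fˣ :=
  (M.subgroupOf (borelSub F m)).map (borelHom hm hF)

include hm hF

lemma mem_torusPart {M : Subgroup (Sz F m)} {k : Fˣ} :
    k ∈ torusPart hm hF M ↔
      ∃ h : borelSub F m, (h : Sz F m) ∈ M ∧ borelHom hm hF h = k := by
  simp [torusPart, Subgroup.mem_map, Subgroup.mem_subgroupOf]

lemma conj_tSz_zero (h : borelSub F m) (b : F) :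
    (h : Sz F m) * tSz hF 0 b * (h : Sz F m)⁻¹ =
      tSz hF 0 (th m (borelHom hm hF h : F) * (borelHom hm hF h : F) * b) := by
  haveI := charTwo hF
  obtain ⟨a, c, e⟩ := borelHom_eq hm hF h
  rw [e]
  calc tSz hF a c * dSz hF (borelHom hm hF h) * tSz hF 0 b *
        (tSz hF a c * dSz hF (borelHom hm hF h))⁻¹
      = tSz hF a c * (dSz hF (borelHom hm hF h) * tSz hF 0 b * (dSz hF (borelHom hm hF h))⁻¹) *
          (tSz hF a c)⁻¹ := by group
    _ = _ := by
      rw [zSub_conj_dSz, tSz_inv, tSz_mul, tSz_mul]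
      congr 1 <;> simp <;> grind

lemma scale_mem {M : Subgroup (Sz F m)} {k : Fˣ} (hk : k ∈ torusPart hm hF M) {b : F}
    (hb : tSz hF 0 b ∈ M) : tSz hF 0 (th m (k : F) * (k : F) * b) ∈ M := by
  obtain ⟨h, hh, rfl⟩ := (mem_torusPart hm hF).mp hk
  rw [← conj_tSz_zero hm hF h b]
  exact mul_mem (mul_mem hh hb) (inv_mem hh)

lemma orderOf_tSz_zero {b : F} (hb : b ≠ 0) : orderOf (tSz hF 0 b) = 2 := by
  haveI : Fact (Nat.Prime 2) := ⟨Nat.prime_two⟩
  haveI := charTwo hF
  refine orderOf_eq_prime ?_ fun e => hb ((tSz_eq_one_iff hF).mp e).2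
  rw [sq, tSz_mul, tSz_eq_one_iff]
  constructor <;> simp <;> grind

namespace BigSub

variable {M : Subgroup (Sz F m)} (hM : BigSub hF M)

include hM

lemma scale_trans {b b' : F} (hb0 : b ≠ 0) (hb0' : b' ≠ 0) (hb : tSz hF 0 b ∈ M)
    (hb' : tSz hF 0 b' ∈ M) :
    ∃ k ∈ torusPart hm hF M, th m (k : F) * (k : F) * b = b' := by
  obtain ⟨g, hg, hgi⟩ := hM.mover
  have hz2 := orderOf_tSz_zero hm hF hb0
  have hz2' := orderOf_tSz_zero hm hF hb0'
  set y := g * tSz hF 0 b * g⁻¹ with hy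
  have hy2 : orderOf y = 2 := (MulEquiv.orderOf_eq (MulAut.conj g) (tSz hF 0 b)).trans hz2
  have hyi : y • suzukiPointInfinity F ≠ suzukiPointInfinity F := by
    intro h
    obtain ⟨p, -, -, huniq⟩ := invol_fixed hm hF hy2
    have h1 : y • (g • suzukiPointInfinity F) = g • suzukiPointInfinity F := by
      rw [hy, mul_smul, mul_smul, inv_smul_smul, tSz_smul_infinity]
    exact hgi ((huniq _ (smul_mem_ovoid g infinity_mem) h1).trans (huniq _ infinity_mem h).symm)
  have hyM : y ∈ M := mul_mem (mul_mem hg hb) (inv_mem hg)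
  obtain ⟨n1, hn1, e1⟩ := invol_conj_of_moves hm hF hb hyM hz2 hy2 (tSz_smul_infinity hF 0 b) hyi
  obtain ⟨n2, hn2, e2⟩ :=
    invol_conj_of_moves hm hF hb' hyM hz2' hy2 (tSz_smul_infinity hF 0 b') hyi
  set n := n2⁻¹ * n1 with hn
  have e : n * tSz hF 0 b * n⁻¹ = tSz hF 0 b' := by
    calc n * tSz hF 0 b * n⁻¹ = n2⁻¹ * (n1 * tSz hF 0 b * n1⁻¹) * n2 := by rw [hn]; group
      _ = n2⁻¹ * (n2 * tSz hF 0 b' * n2⁻¹) * n2 := by rw [e1, e2]
      _ = tSz hF 0 b' := by group
  have hnB : n ∈ borelSub F m := by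
    refine MulAction.mem_stabilizer_iff.mpr (uSub_fix_eq hF (a := 0) (b := b')
      (fun h => hb0' h.2) (smul_mem_ovoid n infinity_mem) ?_)
    rw [← e, mul_smul, mul_smul, inv_smul_smul, tSz_smul_infinity]
  refine ⟨borelHom hm hF ⟨n, hnB⟩, (mem_torusPart hm hF).mpr ⟨⟨n, hnB⟩,
    mul_mem (inv_mem hn2) hn1, rfl⟩, ?_⟩
  have h := conj_tSz_zero hm hF ⟨n, hnB⟩ b
  exact (tSz_inj hF (h.symm.trans e)).2

lemma exists_ne_one : ∃ k ∈ torusPart hm hF M, k ≠ 1 := by
  obtain ⟨h, hh, hhi, hhu⟩ := hM.torus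
  exact ⟨_, (mem_torusPart hm hF).mpr ⟨⟨h, hhi⟩, hh, rfl⟩,
    fun e => hhu ((borelHom_eq_one_iff hm hF ⟨h, hhi⟩).mp e)⟩

lemma card_invol_le :
    Nat.card {b : F // b ≠ 0 ∧ tSz hF 0 b ∈ M} = Nat.card (torusPart hm hF M) := by
  obtain ⟨b0, hb0, hb0M⟩ := hM.invol
  symm
  refine Nat.card_congr (Equiv.ofBijective (fun k => ⟨th m ((k : Fˣ) : F) * ((k : Fˣ) : F) * b0,
    mul_ne_zero (mul_ne_zero (th_ne_zero (k : Fˣ).ne_zero) (k : Fˣ).ne_zero) hb0,
    scale_mem hm hF k.2 hb0M⟩) ⟨?_, ?_⟩)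
  · intro k l h
    have h' := mul_right_cancel₀ hb0 (congrArg Subtype.val h)
    exact Subtype.ext (Units.ext (thSucc_injective hF h'))
  · rintro ⟨b, hb, hbM⟩
    obtain ⟨k, hk, e⟩ := hM.scale_trans hm hF hb0 hb hb0M hbM
    exact ⟨⟨k, hk⟩, Subtype.ext e⟩

/-- Every pair (infinity, orbit point) is swapped by an involution and has the full torus part. -/
theorem pair (p : Projectivization F (Fin 4 → F)) (n : Sz F m) (hn : n ∈ M)
    (hnp : n • suzukiPointInfinity F = p) (hp : p ≠ suzukiPointInfinity F) :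
    (∃ y ∈ M, orderOf y = 2 ∧ y • suzukiPointInfinity F = p ∧ y • p = suzukiPointInfinity F) ∧
      ∀ k ∈ torusPart hm hF M, ∃ x : borelSub F m, (x : Sz F m) ∈ M ∧ (x : Sz F m) • p = p ∧
        borelHom hm hF x = k := by
  classical
  haveI : Fintype (Sz F m) := Fintype.ofFinite _
  haveI : Fintype Fˣ := Fintype.ofFinite _
  set c := Nat.card (torusPart hm hF M) with hc
  set O : Finset (Projectivization F (Fin 4 → F)) :=
    (Finset.univ.filter fun g : Sz F m => g ∈ M ∧
      g • suzukiPointInfinity F ≠ suzukiPointInfinity F).image (fun g => g • suzukiPointInfinity F)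
  set I : Finset (Sz F m) := Finset.univ.filter fun y => y ∈ M ∧ orderOf y = 2 ∧
      y • suzukiPointInfinity F ≠ suzukiPointInfinity F with hI
  have hO : ∀ q, q ∈ O ↔ q ≠ suzukiPointInfinity F ∧ ∃ g ∈ M, g • suzukiPointInfinity F = q := by
    intro q
    simp only [O, Finset.mem_image, Finset.mem_filter, Finset.mem_univ, true_and]
    constructor
    · rintro ⟨g, ⟨h1, h2⟩, rfl⟩; exact ⟨h2, g, h1, rfl⟩
    · rintro ⟨h2, g, h1, rfl⟩; exact ⟨g, ⟨h1, h2⟩, rfl⟩
  have hswap : ∀ y ∈ I, y • (y • suzukiPointInfinity F) = suzukiPointInfinity F := by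
    intro y hy
    obtain ⟨-, -, hy2, -⟩ := Finset.mem_filter.mp hy
    rw [← mul_smul, ← sq, ← hy2, pow_orderOf_eq_one, one_smul]
  let P : Projectivization F (Fin 4 → F) → Finset (Sz F m) := fun q => Finset.univ.filter fun x =>
    x ∈ M ∧ x • suzukiPointInfinity F = suzukiPointInfinity F ∧ x • q = q
  have hPinj : ∀ q ∈ O, ∀ x ∈ P q, ∀ x' ∈ P q,
      ∀ (hx : x ∈ borelSub F m) (hx' : x' ∈ borelSub F m),
      borelHom hm hF ⟨x, hx⟩ = borelHom hm hF ⟨x', hx'⟩ → x = x' := by
    intro q hq x hx x' hx' h1 h2 he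
    obtain ⟨-, hxM, hxi, hxq⟩ := Finset.mem_filter.mp hx
    obtain ⟨-, hx'M, hx'i, hx'q⟩ := Finset.mem_filter.mp hx'
    set u : borelSub F m := ⟨x, h1⟩⁻¹ * ⟨x', h2⟩ with hu
    obtain ⟨a, b, hab⟩ := (borelHom_eq_one_iff hm hF u).mp
      (by rw [hu, map_mul, map_inv, he, inv_mul_cancel])
    have hue : (u : Sz F m) = x⁻¹ * x' := rfl
    by_contra hne
    obtain ⟨hq1, g, hg, hgq⟩ := (hO q).mp hq
    refine hq1 (uSub_fix_eq hF (a := a) (b := b) ?_ (hgq ▸ smul_mem_ovoid g infinity_mem) ?_)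
    · rintro ⟨rfl, rfl⟩
      rw [tSz_zero, hue] at hab
      exact hne (inv_mul_eq_one.mp hab)
    · rw [← hab, hue, mul_smul, hx'q, inv_smul_eq_iff, hxq]
  have hPle : ∀ q ∈ O, (P q).card ≤ c := by
    intro q hq
    rw [hc, Nat.card_eq_fintype_card, ← Finset.card_univ]
    refine Finset.card_le_card_of_injOn (fun x => if hx : x ∈ borelSub F m ∧ x ∈ M then
      (⟨borelHom hm hF ⟨x, hx.1⟩, (mem_torusPart hm hF).mpr ⟨⟨x, hx.1⟩, hx.2, rfl⟩⟩ :
        torusPart hm hF M) else 1) (fun x _ => Finset.mem_univ _) ?_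
    intro x hx x' hx' he
    obtain ⟨-, hxM, hxi, -⟩ := Finset.mem_filter.mp hx
    obtain ⟨-, hx'M, hx'i, -⟩ := Finset.mem_filter.mp hx'
    simp only [MulAction.mem_stabilizer_iff.mpr hxi, MulAction.mem_stabilizer_iff.mpr hx'i, hxM,
      hx'M, and_self, dite_true] at he
    exact hPinj q hq x hx x' hx' _ _ (congrArg Subtype.val he)
  have hfib : ∀ q ∈ O, (I.filter fun y => y • suzukiPointInfinity F = q).card ≤ (P q).card := by
    intro q hq
    rcases (I.filter fun y => y • suzukiPointInfinity F = q).eq_empty_or_nonempty with e | ⟨y0, h0⟩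
    · rw [e]; exact Nat.zero_le _
    obtain ⟨h0I, h0q⟩ := Finset.mem_filter.mp h0
    refine Finset.card_le_card_of_injOn (fun y => y0 * y) ?_ (fun y _ y' _ h => mul_left_cancel h)
    intro y hy
    obtain ⟨hyI, hyq⟩ := Finset.mem_filter.mp hy
    refine Finset.mem_coe.mpr (Finset.mem_filter.mpr ⟨Finset.mem_univ _,
      mul_mem (Finset.mem_filter.mp h0I).2.1 (Finset.mem_filter.mp hyI).2.1, ?_, ?_⟩)
    · rw [mul_smul, hyq, ← h0q, hswap y0 h0I]
    · rw [mul_smul, ← hyq, hswap y hyI, hyq, h0q]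
  choose! rep hrep hrepq using fun q (hq : q ∈ O) => ((hO q).mp hq).2
  have hge : O.card * c ≤ I.card := by
    rw [hc, ← hM.card_invol_le hm hF, Nat.card_eq_fintype_card, ← Finset.card_univ,
      ← Finset.card_product]
    refine Finset.card_le_card_of_injOn
      (fun qb => rep qb.1 * tSz hF 0 (qb.2 : F) * (rep qb.1)⁻¹) ?_ ?_
    · rintro ⟨q, ⟨b, hb, hbM⟩⟩ hqb
      have hq := (Finset.mem_product.mp hqb).1
      have ho : orderOf (rep q * tSz hF 0 b * (rep q)⁻¹) = 2 :=
        (MulEquiv.orderOf_eq (MulAut.conj (rep q)) (tSz hF 0 b)).trans (orderOf_tSz_zero hm hF hb)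
      refine Finset.mem_coe.mpr (Finset.mem_filter.mpr ⟨Finset.mem_univ _,
        mul_mem (mul_mem (hrep q hq) hbM) (inv_mem (hrep q hq)), ho, fun h => ?_⟩)
      obtain ⟨p', -, -, huniq⟩ := invol_fixed hm hF ho
      have hfix : (rep q * tSz hF 0 b * (rep q)⁻¹) • q = q := by
        conv_lhs => arg 2; rw [← hrepq q hq]
        rw [mul_smul, mul_smul, inv_smul_smul, tSz_smul_infinity, hrepq q hq]
      exact ((hO q).mp hq).1 ((huniq q (hrepq q hq ▸ smul_mem_ovoid _ infinity_mem) hfix).trans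
        (huniq _ infinity_mem h).symm)
    · rintro ⟨q, ⟨b, hb, hbM⟩⟩ hqb ⟨q', ⟨b', hb', hbM'⟩⟩ hqb' he
      have hq := (Finset.mem_product.mp (Finset.mem_coe.mp hqb)).1
      have hq' := (Finset.mem_product.mp (Finset.mem_coe.mp hqb')).1
      simp only at he
      have ho : orderOf (rep q * tSz hF 0 b * (rep q)⁻¹) = 2 :=
        (MulEquiv.orderOf_eq (MulAut.conj (rep q)) (tSz hF 0 b)).trans (orderOf_tSz_zero hm hF hb)
      obtain ⟨p', -, -, huniq⟩ := invol_fixed hm hF ho
      have h1 : (rep q * tSz hF 0 b * (rep q)⁻¹) • q = q := by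
        conv_lhs => arg 2; rw [← hrepq q hq]
        rw [mul_smul, mul_smul, inv_smul_smul, tSz_smul_infinity, hrepq q hq]
      have h2 : (rep q * tSz hF 0 b * (rep q)⁻¹) • q' = q' := by
        rw [he]
        conv_lhs => arg 2; rw [← hrepq q' hq']
        rw [mul_smul, mul_smul, inv_smul_smul, tSz_smul_infinity, hrepq q' hq']
      have hqq : q = q' := (huniq q (hrepq q hq ▸ smul_mem_ovoid _ infinity_mem) h1).trans
        (huniq q' (hrepq q' hq' ▸ smul_mem_ovoid _ infinity_mem) h2).symm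
      subst hqq
      have := (tSz_inj hF (mul_left_cancel (mul_right_cancel he))).2
      subst this
      rfl
  have hI' : I.card = ∑ q ∈ O, (I.filter fun y => y • suzukiPointInfinity F = q).card := by
    refine Finset.card_eq_sum_card_fiberwise fun y hy => ?_
    obtain ⟨-, hyM, -, hyi⟩ := Finset.mem_filter.mp hy
    exact (hO _).mpr ⟨hyi, y, hyM, rfl⟩
  have hall := (Finset.sum_eq_sum_iff_of_le fun q hq => (hfib q hq).trans (hPle q hq)).mp
    (le_antisymm (Finset.sum_le_sum fun q hq => (hfib q hq).trans (hPle q hq))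
      (by rw [Finset.sum_const, smul_eq_mul, ← hI']; exact hge))
  have hpO : p ∈ O := (hO p).mpr ⟨hp, n, hn, hnp⟩
  have hcf := hall p hpO
  constructor
  · obtain ⟨y, hy⟩ : (I.filter fun y => y • suzukiPointInfinity F = p).Nonempty := by
      rw [← Finset.card_pos, hcf]
      exact Nat.card_pos
    obtain ⟨hyI, hyp⟩ := Finset.mem_filter.mp hy
    obtain ⟨-, hyM, hy2, -⟩ := Finset.mem_filter.mp hyI
    exact ⟨y, hyM, hy2, hyp, hyp ▸ hswap y hyI⟩
  · intro k hk
    have hcP : (Finset.univ : Finset (torusPart hm hF M)).card ≤ (P p).card := by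
      rw [Finset.card_univ, ← Nat.card_eq_fintype_card, ← hc, ← hcf]
      exact hfib p hpO
    let f : Sz F m → torusPart hm hF M := fun x => if hx : x ∈ borelSub F m ∧ x ∈ M then
      ⟨borelHom hm hF ⟨x, hx.1⟩, (mem_torusPart hm hF).mpr ⟨⟨x, hx.1⟩, hx.2, rfl⟩⟩ else 1
    have hinj : Set.InjOn f (P p : Set (Sz F m)) := by
      intro x hx x' hx' he
      obtain ⟨-, hxM, hxi, -⟩ := Finset.mem_filter.mp hx
      obtain ⟨-, hx'M, hx'i, -⟩ := Finset.mem_filter.mp hx'
      simp only [f, MulAction.mem_stabilizer_iff.mpr hxi, MulAction.mem_stabilizer_iff.mpr hx'i,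
        hxM, hx'M, and_self, dite_true] at he
      exact hPinj p hpO x hx x' hx' _ _ (congrArg Subtype.val he)
    obtain ⟨x, hx, hxe⟩ := Finset.surjOn_of_injOn_of_card_le f (fun _ _ => Finset.mem_univ _)
      hinj hcP (Finset.mem_univ (⟨k, hk⟩ : torusPart hm hF M))
    obtain ⟨-, hxM, hxi, hxp⟩ := Finset.mem_filter.mp hx
    refine ⟨⟨x, hxi⟩, hxM, hxp, ?_⟩
    simp only [f, MulAction.mem_stabilizer_iff.mpr hxi, hxM, and_self, dite_true] at hxe
    exact congrArg Subtype.val hxe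

/-- The unipotent part is transitive on the other orbit points. -/
theorem transitive (p p' : Projectivization F (Fin 4 → F)) (n n' : Sz F m) (hn : n ∈ M)
    (hn' : n' ∈ M) (hnp : n • suzukiPointInfinity F = p) (hnp' : n' • suzukiPointInfinity F = p')
    (hp : p ≠ suzukiPointInfinity F) (hp' : p' ≠ suzukiPointInfinity F) :
    ∃ a b : F, tSz hF a b ∈ M ∧ tSz hF a b • p = p' := by
  classical
  obtain ⟨k, hk, hk1⟩ := hM.exists_ne_one hm hF
  obtain ⟨x, hxM, hxp, hxk⟩ := (hM.pair hm hF p n hn hnp hp).2 k hk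
  obtain ⟨x', hx'M, hx'p, hx'k⟩ := (hM.pair hm hF p' n' hn' hnp' hp').2 k hk
  let Q : Subgroup (borelSub F m) := M.subgroupOf (borelSub F m) ⊓ (borelHom hm hF).ker
  have hmem : ∀ u : Q, (u : borelSub F m) * x * (u : borelSub F m)⁻¹ * x⁻¹ ∈ Q := by
    rintro ⟨u, huM, huk⟩
    refine Subgroup.mem_inf.mpr ⟨?_, ?_⟩
    · exact Subgroup.mem_subgroupOf.mpr
        (mul_mem (mul_mem (mul_mem huM hxM) (inv_mem huM)) (inv_mem hxM))
    · show borelHom hm hF _ = 1
      rw [map_mul, map_mul, map_mul, map_inv, map_inv,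
        show borelHom hm hF u = 1 from huk, one_mul, inv_one, mul_one, mul_inv_cancel]
  let f : Q → Q := fun u => ⟨_, hmem u⟩
  have hf : Function.Injective f := by
    intro u v h
    have h' : (u : borelSub F m) * x * (u : borelSub F m)⁻¹ =
        (v : borelSub F m) * x * (v : borelSub F m)⁻¹ := mul_right_cancel (congrArg Subtype.val h)
    by_contra hne
    set w := (u : borelSub F m)⁻¹ * v with hw
    have hwc : w * x = x * w := by
      calc w * x = (u : borelSub F m)⁻¹ * ((v : borelSub F m) * x * (v : borelSub F m)⁻¹) * v := by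
            rw [hw]; group
        _ = x * w := by rw [← h', hw]; group
    obtain ⟨a, b, hab⟩ := (borelHom_eq_one_iff hm hF w).mp
      (show borelHom hm hF w = 1 by
        rw [hw, map_mul, map_inv, show borelHom hm hF (u : borelSub F m) = 1 from u.2.2,
          show borelHom hm hF (v : borelSub F m) = 1 from v.2.2, inv_one, mul_one])
    have hab0 : ¬(a = 0 ∧ b = 0) := by
      rintro ⟨rfl, rfl⟩
      rw [tSz_zero] at hab
      exact hne (Subtype.ext (inv_mul_eq_one.mp (Subtype.ext hab : w = 1)))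
    have hxc : (x : Sz F m) ∈ Subgroup.centralizer {(w : Sz F m)} :=
      Subgroup.mem_centralizer_singleton_iff.mpr (congrArg Subtype.val hwc).symm
    rw [hab] at hxc
    exact hk1 (hxk ▸ (borelHom_eq_one_iff hm hF x).mpr (centralizer_tSz_le hm hF hab0 hxc))
  obtain ⟨u, hu⟩ := Finite.surjective_of_injective hf
    ⟨x' * x⁻¹, Subgroup.mem_inf.mpr ⟨Subgroup.mem_subgroupOf.mpr (mul_mem hx'M (inv_mem hxM)),
      show borelHom hm hF _ = 1 by rw [map_mul, map_inv, hxk, hx'k, mul_inv_cancel]⟩⟩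
  have hux : (u : borelSub F m) * x * (u : borelSub F m)⁻¹ = x' :=
    mul_right_cancel (congrArg Subtype.val hu)
  obtain ⟨a, b, hab⟩ := (borelHom_eq_one_iff hm hF (u : borelSub F m)).mp u.2.2
  refine ⟨a, b, hab ▸ u.2.1, ?_⟩
  rw [← hab]
  by_contra hne
  have hmemp : p ∈ suzukiOvoid F m := hnp ▸ smul_mem_ovoid n infinity_mem
  have hfix : (x' : Sz F m) • ((u : borelSub F m) : Sz F m) • p =
      ((u : borelSub F m) : Sz F m) • p := by
    rw [← hux]
    simp only [Subgroup.coe_mul, Subgroup.coe_inv, mul_smul, inv_smul_smul, hxp]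
  have hui : ((u : borelSub F m) : Sz F m) • p ≠ suzukiPointInfinity F := fun e =>
    hp (smul_left_cancel _ (e.trans (MulAction.mem_stabilizer_iff.mp (u : borelSub F m).2).symm))
  have h1 := eq_one_of_fix_three hm hF infinity_mem (hnp' ▸ smul_mem_ovoid n' infinity_mem)
    (smul_mem_ovoid _ hmemp) hp'.symm hui.symm (Ne.symm hne)
    (MulAction.mem_stabilizer_iff.mp x'.2) hx'p hfix
  exact hk1 (hx'k ▸ by rw [show x' = 1 from Subtype.ext h1, map_one])

end BigSub

end Cfsg.Agent.Suzuki
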