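import Cfsg.Agent.Lib.Suzuki.Parts
import Cfsg.Agent.Lib.Char.ClassMult
import Cfsg.Agent.Lib.Char.Linear
import Cfsg.Agent.Lib.Char.Integral
import Cfsg.Agent.Lib.Char.Induced
import Cfsg.Agent.Lib.CharApp.PermLemma

/-!
# Characters of the Borel subgroup of `Sz(q)`

`bor` = the stabiliser of infinity, coordinates `bEquiv`, the sum formula `sum_bor`, the
linear characters `linB`, the character `exists_lambda` of degree `q - 1` and the pair
`exists_theta` of degree `k (q - 1)`, with `k = 2^m`, `q = 2 k^2`.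
-/

set_option autoImplicit false
set_option linter.style.haveILetI false
set_option linter.unusedSectionVars false

namespace Cfsg.Agent.Suzuki.CharTable

open Cfsg Cfsg.Agent.Suzuki
open scoped ComplexConjugate

variable {F : Type*} [Field F] {m : ℕ} [Fintype F]
variable (hm : 1 ≤ m) (hF : Fintype.card F = 2 ^ (2 * m + 1))

/-- `2^m` as a complex number. -/
noncomputable def kC (m : ℕ) : ℂ := 2 ^ m

/-- `q = 2^(2m+1)` as a complex number. -/
noncomputable def qC (m : ℕ) : ℂ := 2 * kC m ^ 2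

lemma qC_eq (m : ℕ) : qC m = ((2 ^ (2 * m + 1) : ℕ) : ℂ) := by
  rw [qC, kC, ← pow_mul, pow_succ, mul_comm m 2]
  push_cast
  ring

lemma kC_ne_zero (m : ℕ) : kC m ≠ 0 := pow_ne_zero _ two_ne_zero

lemma qC_ne_zero (m : ℕ) : qC m ≠ 0 := mul_ne_zero two_ne_zero (pow_ne_zero _ (kC_ne_zero m))

include hm in
lemma qC_sub_one_ne_zero : qC m - 1 ≠ 0 := by
  rw [qC_eq, sub_ne_zero]
  intro h
  have h' : 2 ^ (2 * m + 1) = 1 := by exact_mod_cast h
  have : 2 ≤ 2 ^ (2 * m + 1) := Nat.le_self_pow (by omega) 2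
  omega

include hF in
lemma card_eq_qC : (Fintype.card F : ℂ) = qC m := by rw [qC_eq, hF]

/-- The stabiliser of infinity. -/
abbrev bor (F : Type*) [Field F] (m : ℕ) : Subgroup (Sz F m) :=
  MulAction.stabilizer (Sz F m) (suzukiPointInfinity F)

/-- A unipotent element of the Borel subgroup. -/
def bt (a b : F) : bor F m := ⟨tSz hF a b, tSz_smul_infinity hF a b⟩

/-- A torus element of the Borel subgroup. -/
def bd (k : Fˣ) : bor F m := ⟨dSz hF k, dSz_smul_infinity hF k⟩

include hF in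
lemma tSz_dSz_inj {a b c d : F} {k l : Fˣ}
    (h : tSz hF a b * dSz hF k = tSz hF c d * dSz hF l) : a = c ∧ b = d ∧ k = l := by
  have h0 := congrArg (fun g : Sz F m => g • suzukiPointZero F) h
  simp only [mul_smul, dSz_smul_zero, tSz_smul_zero] at h0
  obtain ⟨rfl, rfl⟩ := pt_inj h0
  exact ⟨rfl, rfl, dSz_inj hF (mul_left_cancel h)⟩

/-- Coordinates on the Borel subgroup. -/
noncomputable def bEquiv : (F × F) × Fˣ ≃ bor F m :=
  Equiv.ofBijective (fun p => bt hF p.1.1 p.1.2 * bd hF p.2)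
    ⟨fun p p' h => by
      obtain ⟨h1, h2, h3⟩ := tSz_dSz_inj hF (congrArg Subtype.val h)
      exact Prod.ext (Prod.ext h1 h2) h3,
    fun g => by
      obtain ⟨a, b, k, h⟩ := exists_tSz_dSz_of_fix hm hF g.2
      exact ⟨((a, b), k), Subtype.ext h.symm⟩⟩

lemma bEquiv_apply (a b : F) (k : Fˣ) : bEquiv hm hF ((a, b), k) = bt hF a b * bd hF k := rfl

lemma bt_zero : bt hF (0 : F) 0 = 1 := Subtype.ext (tSz_zero hF)

lemma bd_one : bd hF (1 : Fˣ) = 1 := Subtype.ext (dSz_one hF)

lemma bd_inv (k : Fˣ) : (bd hF k)⁻¹ = bd hF k⁻¹ := Subtype.ext (dSz_inv hF k)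

include hm in
lemma conj_torus {k : Fˣ} (hk : k ≠ 1) (a b : F) :
    ∃ c d : F, tSz hF c d * dSz hF k * (tSz hF c d)⁻¹ = tSz hF a b * dSz hF k := by
  let f : F × F → uSub hF := fun p =>
    ⟨tSz hF p.1 p.2 * dSz hF k * (tSz hF p.1 p.2)⁻¹ * (dSz hF k)⁻¹, by
      rw [tSz_inv, mul_assoc (tSz hF p.1 p.2), dSz_conj_tSz, mul_assoc (tSz hF p.1 p.2),
        mul_inv_cancel_right]
      exact mul_mem (tSz_mem_uSub hF _ _) (tSz_mem_uSub hF _ _)⟩
  have hinj : Function.Injective f := by
    intro p p' h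
    have h' : tSz hF p.1 p.2 * dSz hF k * (tSz hF p.1 p.2)⁻¹ =
        tSz hF p'.1 p'.2 * dSz hF k * (tSz hF p'.1 p'.2)⁻¹ :=
      mul_right_cancel (congrArg Subtype.val h)
    have hc : (tSz hF p'.1 p'.2)⁻¹ * tSz hF p.1 p.2 ∈ Subgroup.centralizer {dSz hF k} := by
      rw [Subgroup.mem_centralizer_singleton_iff]
      calc (tSz hF p'.1 p'.2)⁻¹ * tSz hF p.1 p.2 * dSz hF k
          = (tSz hF p'.1 p'.2)⁻¹ * (tSz hF p.1 p.2 * dSz hF k * (tSz hF p.1 p.2)⁻¹) *
              tSz hF p.1 p.2 := by group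
        _ = dSz hF k * ((tSz hF p'.1 p'.2)⁻¹ * tSz hF p.1 p.2) := by rw [h']; group
    rw [centralizer_dSz hm hF hk, mem_dSub] at hc
    obtain ⟨l, hl⟩ := hc
    have h0 := congrArg (fun g : Sz F m => g • suzukiPointZero F)
      ((inv_mul_eq_iff_eq_mul).mp hl)
    simp only [mul_smul, dSz_smul_zero, tSz_smul_zero] at h0
    exact Prod.ext (pt_inj h0).1 (pt_inj h0).2
  have hbij : Function.Bijective f := hinj.bijective_of_nat_card_le (by
    rw [card_uSub, Nat.card_prod, Nat.card_eq_fintype_card, hF, sq])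
  obtain ⟨⟨c, d⟩, hcd⟩ := hbij.2 ⟨_, tSz_mem_uSub hF a b⟩
  exact ⟨c, d, mul_inv_eq_iff_eq_mul.mp (congrArg Subtype.val hcd)⟩

lemma dSz_conj (k : Fˣ) (a b : F) :
    dSz hF k * tSz hF a b * (dSz hF k)⁻¹ =
      tSz hF ((k : F) * a) (th m (k : F) * (k : F) * b) := by
  rw [dSz_conj_tSz, mul_inv_cancel_right]

lemma tSz_conj (c e a b : F) :
    tSz hF c e * tSz hF a b * (tSz hF c e)⁻¹ = tSz hF a (b + th m c * a + th m a * c) := by
  haveI := charTwo hF
  rw [mul_inv_eq_iff_eq_mul, tSz_mul, tSz_mul, add_comm c a]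
  congr 1
  grind

section sums

variable {φ : bor F m → ℂ}

include hm in
/-- A sum over `U`, for functions invariant under the Borel subgroup. -/
theorem sum_uPart (hφ : IsClassFunction (bor F m) φ) :
    ∑ p : F × F, φ (bt hF p.1 p.2) = φ 1 + (qC m - 1) * φ (bt hF 0 1) +
      (qC m - 1) * kC m ^ 2 * (φ (bt hF 1 0) + φ (bt hF 1 1)) := by
  classical
  haveI := charTwo hF
  have hd : ∀ (k : Fˣ) (a b : F),
      φ (bt hF ((k : F) * a) (th m (k : F) * (k : F) * b)) = φ (bt hF a b) := fun k a b => by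
    rw [← hφ (bt hF a b) (bd hF k)]
    congr 1
    exact Subtype.ext (dSz_conj hF k a b).symm
  have ht : ∀ c a b : F, φ (bt hF a (b + th m c * a + th m a * c)) = φ (bt hF a b) := fun c a b => by
    rw [← hφ (bt hF a b) (bt hF c 0)]
    congr 1
    exact Subtype.ext (tSz_conj hF c 0 a b).symm
  -- the fibre over `a = 1`
  obtain ⟨ℓ, hℓ⟩ : ∃ ℓ : F →+ F, ∀ c, ℓ c = th m c + c :=
    ⟨AddMonoidHom.mk' (fun c => th m c + c) (fun a b => by rw [th_add]; ring), fun c => rfl⟩
  have hker : Nat.card ℓ.ker = 2 := by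
    have e : (ℓ.ker : Set F) = {0, 1} := by
      ext c
      simp only [SetLike.mem_coe, AddMonoidHom.mem_ker, hℓ, Set.mem_insert_iff, Set.mem_singleton_iff]
      constructor
      · intro h
        have h1 : th m c = c := by grind
        have h2 := th_th hF c
        rw [h1, h1] at h2
        have : c * (c - 1) = 0 := by linear_combination -h2
        rcases mul_eq_zero.mp this with h | h
        · exact Or.inl h
        · exact Or.inr (sub_eq_zero.mp h)
      · rintro (rfl | rfl) <;> simp [CharTwo.add_self_eq_zero]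
    show Nat.card (ℓ.ker : Set F) = 2
    rw [e, Nat.card_coe_set_eq, Set.ncard_pair zero_ne_one]
  have hidx : ℓ.range.index = 2 := by
    have h := AddSubgroup.card_mul_index ℓ.range
    have h' := AddSubgroup.card_mul_index ℓ.ker
    rw [AddSubgroup.index_ker] at h'
    rw [← h', hker, mul_comm] at h
    exact Nat.eq_of_mul_eq_mul_right (Nat.card_pos (α := ℓ.range)) h
  have hout : (1 : F) ∉ ℓ.range := by
    rintro ⟨c, hc⟩
    rw [hℓ] at hc
    exact th_eq_add_one hF (t := c) (by grind)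
  have hcard : ((Finset.univ.filter fun b : F => b ∈ ℓ.range).card : ℂ) = kC m ^ 2 ∧
      ((Finset.univ.filter fun b : F => b ∉ ℓ.range).card : ℂ) = kC m ^ 2 := by
    have h1 : 2 * (Finset.univ.filter fun b : F => b ∈ ℓ.range).card = Fintype.card F := by
      have := AddSubgroup.card_mul_index ℓ.range
      rw [hidx, Nat.card_eq_fintype_card, Nat.card_eq_fintype_card, Fintype.card_subtype] at this
      rw [mul_comm]; exact this
    have h2 := Finset.card_filter_add_card_filter_not (s := (Finset.univ : Finset F))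
      (fun b : F => b ∈ ℓ.range)
    rw [Finset.card_univ] at h2
    have c1 : 2 * ((Finset.univ.filter fun b : F => b ∈ ℓ.range).card : ℂ) = qC m := by
      rw [← card_eq_qC hF, ← h1]; push_cast; ring
    have c2 : 2 * ((Finset.univ.filter fun b : F => b ∉ ℓ.range).card : ℂ) = qC m := by
      rw [← card_eq_qC hF]
      have : 2 * (Finset.univ.filter fun b : F => b ∉ ℓ.range).card = Fintype.card F := by omega
      rw [← this]; push_cast; ring
    rw [qC] at c1 c2
    exact ⟨by linear_combination c1 / 2, by linear_combination c2 / 2⟩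
  have hfib : ∑ b : F, φ (bt hF 1 b) = kC m ^ 2 * (φ (bt hF 1 0) + φ (bt hF 1 1)) := by
    have e0 : ∀ b ∈ ℓ.range, φ (bt hF 1 b) = φ (bt hF 1 0) := by
      rintro _ ⟨c, rfl⟩
      rw [← ht c 1 0, hℓ, th_one]; simp
    have e1 : ∀ b ∉ ℓ.range, φ (bt hF 1 b) = φ (bt hF 1 1) := by
      intro b hb
      obtain ⟨c, hc⟩ : b + 1 ∈ ℓ.range := by
        rw [AddSubgroup.add_mem_iff_of_index_two hidx]
        exact iff_of_false hb hout
      rw [← ht c 1 1, th_one, mul_one, one_mul]
      rw [hℓ] at hc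
      congr 2
      grind
    rw [← Finset.sum_filter_add_sum_filter_not Finset.univ (fun b : F => b ∈ ℓ.range),
      Finset.sum_congr rfl (fun b hb => e0 b (Finset.mem_filter.mp hb).2),
      Finset.sum_congr rfl (fun b hb => e1 b (Finset.mem_filter.mp hb).2)]
    simp only [Finset.sum_const, nsmul_eq_mul, hcard.1, hcard.2]
    ring
  have hz : ∀ b : F, b ≠ 0 → φ (bt hF 0 b) = φ (bt hF 0 1) := by
    intro b hb
    obtain ⟨x, hx⟩ := (thSucc_bijective hF).2 b
    have hx0 : x ≠ 0 := fun h => hb (by rw [← hx]; simp [h])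
    rw [← hd (Units.mk0 x hx0) 0 1]
    simp [← hx]
  have ha : ∀ a : F, a ≠ 0 → ∑ b : F, φ (bt hF a b) = ∑ b : F, φ (bt hF 1 b) := by
    intro a ha
    refine (Fintype.sum_equiv (Equiv.mulLeft₀ (th m a * a) (mul_ne_zero (th_ne_zero ha) ha))
      _ _ fun b => ?_).symm
    rw [← hd (Units.mk0 a ha) 1 b]
    simp
  have hq : ((Finset.univ.erase (0 : F)).card : ℂ) = qC m - 1 := by
    rw [Finset.card_erase_of_mem (Finset.mem_univ _), Finset.card_univ,
      Nat.cast_sub (Fintype.card_pos), card_eq_qC hF, Nat.cast_one]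
  rw [Fintype.sum_prod_type, ← Finset.add_sum_erase _ _ (Finset.mem_univ (0 : F)),
    Finset.sum_congr rfl (fun a h => (ha a (Finset.ne_of_mem_erase h)).trans hfib),
    ← Finset.add_sum_erase _ _ (Finset.mem_univ (0 : F)),
    Finset.sum_congr rfl (fun b h => hz b (Finset.ne_of_mem_erase h)), bt_zero]
  simp only [Finset.sum_const, nsmul_eq_mul, hq]
  ring

include hm in
/-- A sum over the Borel subgroup of a class function. -/
theorem sum_bor [Fintype (bor F m)] [DecidableEq F] (hφ : IsClassFunction (bor F m) φ) :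
    ∑ x, φ x = φ 1 + (qC m - 1) * φ (bt hF 0 1) +
      (qC m - 1) * kC m ^ 2 * (φ (bt hF 1 0) + φ (bt hF 1 1)) +
      qC m ^ 2 * ∑ k ∈ Finset.univ.erase (1 : Fˣ), φ (bd hF k) := by
  rw [← (bEquiv hm hF).sum_comp, Fintype.sum_prod_type_right,
    ← Finset.add_sum_erase _ _ (Finset.mem_univ (1 : Fˣ))]
  simp only [show ∀ (p : F × F) (k : Fˣ), bEquiv hm hF (p, k) = bt hF p.1 p.2 * bd hF k from
    fun _ _ => rfl]
  rw [Finset.mul_sum]
  congr 1
  · rw [← sum_uPart hm hF hφ]
    simp [bd_one]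
  · refine Finset.sum_congr rfl fun k hk => ?_
    rw [Finset.sum_congr rfl (g := fun _ => φ (bd hF k)) fun p _ => ?_, Finset.sum_const,
      nsmul_eq_mul, Finset.card_univ, Fintype.card_prod]
    · push_cast; rw [card_eq_qC hF]; ring
    · obtain ⟨c, d, h⟩ := conj_torus hm hF (Finset.ne_of_mem_erase hk) p.1 p.2
      rw [← hφ (bd hF k) (bt hF c d)]
      congr 1
      exact Subtype.ext h.symm

end sums

include hm hF in
lemma card_bor : (Nat.card (bor F m) : ℂ) = qC m ^ 2 * (qC m - 1) := by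
  rw [card_stabilizer hm hF, qC_eq, Nat.cast_mul, Nat.cast_pow, Nat.cast_sub Nat.one_le_two_pow]
  simp

include hm in
/-- The centraliser of `f = tSz 1 0`. -/
theorem card_centralizer_f :
    Nat.card (Subgroup.centralizer ({tSz hF 1 0} : Set (Sz F m))) = 2 * 2 ^ (2 * m + 1) := by
  classical
  haveI := charTwo hF
  let S : Finset F := {0, 1}
  have hS : Nat.card S = 2 := by
    rw [Nat.card_eq_finsetCard]; exact Finset.card_pair zero_ne_one
  rw [← hF, ← Nat.card_eq_fintype_card (α := F)]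
  conv_rhs => rw [← hS, ← Nat.card_prod]
  refine (Nat.card_congr (Equiv.ofBijective (fun p : S × F =>
    (⟨tSz hF p.1.1 p.2, ?_⟩ : Subgroup.centralizer ({tSz hF 1 0} : Set (Sz F m)))) ⟨?_, ?_⟩)).symm
  · rw [Subgroup.mem_centralizer_singleton_iff, tSz_mul, tSz_mul]
    have := p.1.2
    simp only [S, Finset.mem_insert, Finset.mem_singleton] at this
    rcases this with e | e <;> simp [e, add_comm]
  · intro p p' h
    obtain ⟨h1, h2⟩ := tSz_inj hF (congrArg Subtype.val h)
    exact Prod.ext (Subtype.ext h1) h2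
  · rintro ⟨x, hx⟩
    obtain ⟨a, b, rfl⟩ := centralizer_tSz_le hm hF (a := (1 : F)) (b := 0) (by simp) hx
    rw [Subgroup.mem_centralizer_singleton_iff, tSz_mul, tSz_mul] at hx
    obtain ⟨-, h2⟩ := tSz_inj hF hx
    have h3 : th m a = a := by rw [th_one] at h2; grind
    have h4 : a * (a - 1) = 0 := by
      have := th_th hF a
      rw [h3, h3] at this
      linear_combination -this
    refine ⟨(⟨a, ?_⟩, b), rfl⟩
    rcases mul_eq_zero.mp h4 with h | h
    · simp [S, h]
    · simp [S, sub_eq_zero.mp h]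

include hm in
/-- The centraliser of the involution `tSz 0 1`. -/
theorem card_centralizer_z :
    Nat.card (Subgroup.centralizer ({tSz hF 0 1} : Set (Sz F m))) = (2 ^ (2 * m + 1)) ^ 2 := by
  haveI := charTwo hF
  rw [← card_uSub hF]
  congr 2
  refine le_antisymm (centralizer_tSz_le hm hF (by simp)) ?_
  rintro _ ⟨a, b, rfl⟩
  rw [Subgroup.mem_centralizer_singleton_iff, tSz_mul, tSz_mul]
  congr 1 <;> simp <;> grind

include hm in
theorem card_centralizer_d {k : Fˣ} (hk : k ≠ 1) :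
    Nat.card (Subgroup.centralizer ({dSz hF k} : Set (Sz F m))) = 2 ^ (2 * m + 1) - 1 := by
  rw [centralizer_dSz hm hF hk, card_dSub]

lemma card_centralizer_subtype {G : Type*} [Group G] (H : Subgroup G) (x : H)
    (hle : Subgroup.centralizer ({(x : G)} : Set G) ≤ H) :
    Nat.card (Subgroup.centralizer ({x} : Set H)) =
      Nat.card (Subgroup.centralizer ({(x : G)} : Set G)) := by
  have e : Subgroup.centralizer ({x} : Set H) =
      (Subgroup.centralizer ({(x : G)} : Set G)).subgroupOf H := by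
    ext y
    simp [Subgroup.mem_subgroupOf, Subgroup.mem_centralizer_singleton_iff, Subtype.ext_iff]
  rw [e]
  exact Nat.card_congr (Subgroup.subgroupOfEquivOfLe hle).toEquiv

lemma uSub_le_bor : uSub hF ≤ bor F m := by
  rintro _ ⟨a, b, rfl⟩; exact tSz_smul_infinity hF a b

include hm in
lemma card_centralizer_bf :
    (Nat.card (Subgroup.centralizer ({bt hF 1 0} : Set (bor F m))) : ℂ) = 2 * qC m := by
  rw [card_centralizer_subtype (bor F m) (bt hF 1 0)
    ((centralizer_tSz_le hm hF (by simp)).trans (uSub_le_bor hF)),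
    show ((bt hF 1 0 : bor F m) : Sz F m) = tSz hF 1 0 from rfl, card_centralizer_f hm hF, qC_eq]
  push_cast; rfl

include hm in
lemma card_centralizer_bd {k : Fˣ} (hk : k ≠ 1) :
    (Nat.card (Subgroup.centralizer ({bd hF k} : Set (bor F m))) : ℂ) = qC m - 1 := by
  have hle : Subgroup.centralizer ({(bd hF k : Sz F m)} : Set (Sz F m)) ≤ bor F m := by
    show Subgroup.centralizer ({dSz hF k} : Set (Sz F m)) ≤ _
    rw [centralizer_dSz hm hF hk]
    rintro _ ⟨l, rfl⟩; exact dSz_smul_infinity hF l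
  rw [card_centralizer_subtype (bor F m) (bd hF k) hle,
    show ((bd hF k : bor F m) : Sz F m) = dSz hF k from rfl, card_centralizer_d hm hF hk, qC_eq,
    Nat.cast_sub Nat.one_le_two_pow]
  simp

lemma tSz_one_inv : (tSz hF (1 : F) 0)⁻¹ = tSz hF 1 1 := by rw [tSz_inv]; simp

lemma bt_one_inv : (bt hF (1 : F) 0)⁻¹ = bt hF 1 1 := Subtype.ext (tSz_one_inv hF)

include hm in
lemma not_isConj_f : ¬ IsConj (tSz hF (1 : F) 0) (tSz hF 1 1) := by
  haveI := charTwo hF
  intro h
  rw [← tSz_one_inv hF] at h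
  have := real_uSub hm hF (tSz_mem_uSub hF 1 0) h
  rw [sq, tSz_mul] at this
  simpa using ((tSz_eq_one_iff hF).mp this).2

include hm in
lemma not_isConj_bf : ¬ IsConj (bt hF (1 : F) 0) (bt hF 1 1) := fun h =>
  not_isConj_f hm hF ((bor F m).subtype.map_isConj h)

/-! ### linear characters -/

/-- The torus coordinate as a homomorphism. -/
noncomputable def borChi : bor F m →* Fˣ :=
  MonoidHom.mk' (fun g => ((bEquiv hm hF).symm g).2) fun g g' => by
    obtain ⟨⟨⟨a, b⟩, k⟩, rfl⟩ := (bEquiv hm hF).surjective g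
    obtain ⟨⟨⟨a', b'⟩, k'⟩, rfl⟩ := (bEquiv hm hF).surjective g'
    have e : bEquiv hm hF ((a, b), k) * bEquiv hm hF ((a', b'), k') = bEquiv hm hF
        ((a + (k : F) * a', b + th m (k : F) * (k : F) * b' + th m a * ((k : F) * a')), k * k') :=
      Subtype.ext (tSz_dSz_mul hF a b a' b' k k')
    simp only [e, Equiv.symm_apply_apply]

lemma borChi_bt (a b : F) : borChi hm hF (bt hF a b) = 1 := by
  show ((bEquiv hm hF).symm _).2 = 1
  rw [show bt hF a b = bEquiv hm hF ((a, b), 1) by rw [bEquiv_apply, bd_one, mul_one],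
    Equiv.symm_apply_apply]

lemma borChi_bd (k : Fˣ) : borChi hm hF (bd hF k) = k := by
  show ((bEquiv hm hF).symm _).2 = k
  rw [show bd hF k = bEquiv hm hF ((0, 0), k) by rw [bEquiv_apply, bt_zero, one_mul],
    Equiv.symm_apply_apply]

lemma borChi_surjective : Function.Surjective (borChi hm hF) :=
  fun k => ⟨bd hF k, borChi_bd hm hF k⟩

/-- The linear character of the Borel subgroup attached to a character of the torus. -/
noncomputable def linB (θ : IrrCharacter Fˣ) : IrrCharacter (bor F m) :=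
  ⟨fun g => (θ : Fˣ → ℂ) (borChi hm hF g),
    Char.IsIrrCharacter.comp_surjective θ.2 (borChi hm hF) (borChi_surjective hm hF)⟩

lemma theta_one (θ : IrrCharacter Fˣ) : (θ : Fˣ → ℂ) 1 = 1 :=
  Char.apply_one_eq_one_of_comm (fun a b => mul_comm a b) θ

lemma linB_bt (θ : IrrCharacter Fˣ) (a b : F) : (linB hm hF θ : bor F m → ℂ) (bt hF a b) = 1 := by
  show (θ : Fˣ → ℂ) _ = 1
  rw [borChi_bt, theta_one]

lemma linB_bd (θ : IrrCharacter Fˣ) (k : Fˣ) :
    (linB hm hF θ : bor F m → ℂ) (bd hF k) = (θ : Fˣ → ℂ) k := by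
  show (θ : Fˣ → ℂ) _ = _
  rw [borChi_bd]

lemma linB_one (θ : IrrCharacter Fˣ) : (linB hm hF θ : bor F m → ℂ) 1 = 1 := by
  rw [← bt_zero hF]; exact linB_bt hm hF θ 0 0

lemma linB_injective : Function.Injective (linB hm hF) := fun θ θ' h =>
  Subtype.ext (funext fun k => by
    rw [← linB_bd hm hF θ k, ← linB_bd hm hF θ' k, h])

include hF in
lemma theta_orth [Fintype (IrrCharacter Fˣ)] [DecidableEq F] (a b : Fˣ) :
    ∑ θ : IrrCharacter Fˣ, (θ : Fˣ → ℂ) a * conj ((θ : Fˣ → ℂ) b) =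
      if a = b then qC m - 1 else 0 := by
  classical
  rw [Char.column_orth]
  by_cases h : a = b
  · subst h
    rw [if_pos (IsConj.refl a), if_pos rfl, show Subgroup.centralizer ({a} : Set Fˣ) = ⊤ from
        top_unique fun x _ => Subgroup.mem_centralizer_singleton_iff.mpr (mul_comm x a),
      Subgroup.card_top, Nat.card_eq_fintype_card, Fintype.card_units,
      Nat.cast_sub Fintype.card_pos, card_eq_qC hF]
    simp
  · rw [if_neg (fun hc => h (isConj_iff_eq.mp hc)), if_neg h]

include hF in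
lemma card_theta [Fintype (IrrCharacter Fˣ)] :
    (Fintype.card (IrrCharacter Fˣ) : ℂ) = qC m - 1 := by
  classical
  have h := theta_orth hF (1 : Fˣ) 1
  simpa [theta_one] using h

end Cfsg.Agent.Suzuki.CharTable
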