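import Cfsg.Agent.Lib.Suzuki.CharBorelIrr
import Cfsg.Agent.Lib.Coherence.Virtual

/-!
# The principal series of `Sz(q)` and the remaining characters

`Xf θ`, `Stf`; `sum_split` (a sum over all irreducible characters), `InR` (the remaining
characters, vanishing on the torus) and `r_params` (their values at `1, z, f, f⁻¹`).
-/

set_option autoImplicit false
set_option linter.style.haveILetI false
set_option linter.unusedSectionVars false

namespace Cfsg.Agent.Suzuki.CharTable

open Cfsg Cfsg.Agent.Suzuki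
open scoped ComplexConjugate

variable {F : Type*} [Field F] {m : ℕ} [Fintype F]
variable (hm : 1 ≤ m) (hF : Fintype.card F = 2 ^ (2 * m + 1))

include hm in
/-- The classes of non-identity elements. -/
theorem class_cases {g : Sz F m} (hg : g ≠ 1) :
    IsConj g (tSz hF 0 1) ∨ IsConj g (tSz hF 1 0) ∨ IsConj g (tSz hF 1 1) ∨
      (∃ k : Fˣ, k ≠ 1 ∧ IsConj g (dSz hF k)) ∨ FPF g := by
  classical
  haveI := charTwo hF
  rcases mem_cases hm hF hg with ⟨⟨x, c, hc, hc1, rfl⟩, -, -⟩ | ⟨-, ⟨x, c, hc, hc1, rfl⟩, -⟩ |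
    ⟨-, -, h⟩
  · have key : ∀ y, IsConj c y → IsConj (x * c * x⁻¹) y := fun y h =>
      (isConj_iff.mpr ⟨x, rfl⟩ : IsConj c (x * c * x⁻¹)).symm.trans h
    obtain ⟨a, b, rfl⟩ := hc
    rcases eq_or_ne a 0 with rfl | ha
    · left
      refine key _ ?_
      have hb : b ≠ 0 := fun h => hc1 (by rw [h, tSz_zero])
      obtain ⟨y, hy⟩ := (thSucc_bijective hF).2 b
      have hy0 : y ≠ 0 := fun h => hb (by rw [← hy]; simp [h])
      refine (isConj_iff.mpr ⟨dSz hF (Units.mk0 y hy0), ?_⟩).symm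
      rw [dSz_conj]
      simp [← hy]
    · -- bring `a` to `1`
      obtain ⟨b', hb'⟩ : ∃ b', IsConj (tSz hF a b) (tSz hF 1 b') := by
        refine ⟨b / (th m a * a), (isConj_iff.mpr ⟨dSz hF (Units.mk0 a ha), ?_⟩).symm⟩
        rw [dSz_conj]
        have := th_ne_zero (m := m) ha
        simp [mul_div_cancel₀, this, ha]
      obtain ⟨ℓ, hℓ⟩ : ∃ ℓ : F →+ F, ∀ c, ℓ c = th m c + c :=
        ⟨AddMonoidHom.mk' (fun c => th m c + c) (fun a b => by rw [th_add]; ring), fun c => rfl⟩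
      have hker : (ℓ.ker : Set F) = {0, 1} := by
        ext c
        simp only [SetLike.mem_coe, AddMonoidHom.mem_ker, hℓ, Set.mem_insert_iff,
          Set.mem_singleton_iff]
        constructor
        · intro h
          have h1 : th m c = c := by grind
          have h2 := th_th hF c
          rw [h1, h1] at h2
          have : c * (c - 1) = 0 := by linear_combination -h2
          rcases mul_eq_zero.mp this with h | h
          · exact Or.inl h
          · exact Or.inr (sub_eq_zero.mp h)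
        · rintro (rfl | rfl) <;> simp [CharTwo.add_self_eq_zero]
      have hidx : ℓ.range.index = 2 := by
        have h := AddSubgroup.card_mul_index ℓ.range
        have h' := AddSubgroup.card_mul_index ℓ.ker
        rw [AddSubgroup.index_ker] at h'
        rw [← h', show Nat.card ℓ.ker = 2 by
          show Nat.card (ℓ.ker : Set F) = 2
          rw [hker, Nat.card_coe_set_eq, Set.ncard_pair zero_ne_one], mul_comm] at h
        exact Nat.eq_of_mul_eq_mul_right (Nat.card_pos (α := ℓ.range)) h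
      have hout : (1 : F) ∉ ℓ.range := by
        rintro ⟨c, hc⟩
        rw [hℓ] at hc
        exact th_eq_add_one hF (t := c) (by grind)
      by_cases hb : b' ∈ ℓ.range
      · obtain ⟨c, hc⟩ := hb
        refine Or.inr (Or.inl (key _ (hb'.trans (isConj_iff.mpr ⟨tSz hF c 0, ?_⟩).symm)))
        rw [tSz_conj, th_one]
        rw [hℓ] at hc
        congr 1
        grind
      · obtain ⟨c, hc⟩ : b' + 1 ∈ ℓ.range := by
          rw [AddSubgroup.add_mem_iff_of_index_two hidx]
          exact iff_of_false hb hout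
        refine Or.inr (Or.inr (Or.inl (key _ (hb'.trans (isConj_iff.mpr ⟨tSz hF c 0, ?_⟩).symm))))
        rw [tSz_conj, th_one]
        rw [hℓ] at hc
        congr 1
        grind
  · obtain ⟨k, rfl⟩ := (mem_dSub hF).mp hc
    exact Or.inr (Or.inr (Or.inr (Or.inl ⟨k, fun h => hc1 (by rw [h, dSz_one]),
      (isConj_iff.mpr ⟨x, rfl⟩ : IsConj (dSz hF k) _).symm⟩)))
  · exact Or.inr (Or.inr (Or.inr (Or.inr h)))

variable [Fintype (Sz F m)]

lemma index_bor_cast : ((bor F m).index : ℂ) = qC m ^ 2 + 1 ↔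
    (bor F m).index = (2 ^ (2 * m + 1)) ^ 2 + 1 := by
  rw [qC_eq]
  exact_mod_cast Iff.rfl

include hm in
/-- An induced function at an element of `U`. -/
theorem indFun_bor_u {α : bor F m → ℂ} (hα : IsClassFunction (bor F m) α) {a b : F}
    (hab : ¬(a = 0 ∧ b = 0)) :
    indFun (bor F m) α (tSz hF a b) = α (bt hF a b) := by
  classical
  have hin : ∀ x : Sz F m, x⁻¹ * tSz hF a b * x ∈ bor F m → x ∈ bor F m := fun x hx => by
    rw [MulAction.mem_stabilizer_iff, mul_smul, mul_smul, inv_smul_eq_iff] at hx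
    exact uSub_fix_eq hF hab (smul_mem_ovoid x infinity_mem) hx
  rw [indFun, ← Finset.sum_filter_add_sum_filter_not Finset.univ (· ∈ bor F m),
    Finset.sum_eq_zero (s := Finset.univ.filter fun x => ¬ x ∈ bor F m) (fun x hx =>
      Char.extendByZero_not_mem _ _ fun h => (Finset.mem_filter.mp hx).2 (hin x h)), add_zero,
    Finset.sum_subtype (p := (· ∈ bor F m)) _ (fun x => by simp)
      (fun x => extendByZero (bor F m) α (x⁻¹ * tSz hF a b * x)),
    Finset.sum_congr rfl (g := fun _ => α (bt hF a b)) fun x _ => ?_, Finset.sum_const,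
    Finset.card_univ, nsmul_eq_mul, ← Nat.card_eq_fintype_card,
    inv_mul_cancel_left₀ (Nat.cast_ne_zero.mpr Nat.card_pos.ne')]
  rw [show (x : Sz F m)⁻¹ * tSz hF a b * x = ((x⁻¹ * bt hF a b * x : bor F m) : Sz F m) from rfl,
    Char.extendByZero_coe]
  simpa using hα (bt hF a b) x⁻¹

include hm in
/-- An induced function at a torus element. -/
theorem indFun_bor_d {α : bor F m → ℂ} (hα : IsClassFunction (bor F m) α) {k : Fˣ} (hk : k ≠ 1) :
    indFun (bor F m) α (dSz hF k) = α (bd hF k) + α (bd hF k⁻¹) := by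
  classical
  have hin : ∀ x : Sz F m, x⁻¹ * dSz hF k * x ∈ bor F m →
      x ∈ bor F m ∨ wSz hF * x ∈ bor F m := fun x hx => by
    rw [MulAction.mem_stabilizer_iff, mul_smul, mul_smul, inv_smul_eq_iff] at hx
    rcases mem_ovoid_iff.mp (smul_mem_ovoid x (infinity_mem (m := m))) with h | ⟨u, v, h⟩
    · exact Or.inl h
    · right
      rw [MulAction.mem_stabilizer_iff, mul_smul, h]
      rw [h] at hx
      by_contra hne
      refine hk (eq_one_of_dSz_fix hF (fun huv => hne ?_) hx)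
      rw [huv.1, huv.2, pt_zero_zero, wSz_smul_zero]
  have hdisj : ∀ x : Sz F m, x ∈ bor F m → wSz hF * x ∉ bor F m := fun x h h' => by
    rw [MulAction.mem_stabilizer_iff] at h h'
    rw [mul_smul, h, wSz_smul_infinity] at h'
    exact pointZero_ne_infinity h'
  have hsum : ∀ x : Sz F m, extendByZero (bor F m) α (x⁻¹ * dSz hF k * x) =
      (if x ∈ bor F m then α (bd hF k) else 0) +
        (if wSz hF * x ∈ bor F m then α (bd hF k⁻¹) else 0) := by
    intro x
    by_cases h1 : x ∈ bor F m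
    · rw [if_pos h1, if_neg (hdisj x h1), add_zero,
        show x⁻¹ * dSz hF k * x =
          (((⟨x, h1⟩ : bor F m)⁻¹ * bd hF k * ⟨x, h1⟩ : bor F m) : Sz F m) from rfl,
        Char.extendByZero_coe]
      simpa using hα (bd hF k) (⟨x, h1⟩ : bor F m)⁻¹
    · by_cases h2 : wSz hF * x ∈ bor F m
      · rw [if_neg h1, if_pos h2, zero_add,
          show x⁻¹ * dSz hF k * x = (((⟨_, h2⟩ : bor F m)⁻¹ * bd hF k⁻¹ * ⟨_, h2⟩ : bor F m) :
              Sz F m) by
            show _ = (wSz hF * x)⁻¹ * dSz hF k⁻¹ * (wSz hF * x)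
            rw [mul_assoc (wSz hF * x)⁻¹, ← mul_assoc (dSz hF k⁻¹), ← wSz_conj_dSz]
            group,
          Char.extendByZero_coe]
        simpa using hα (bd hF k⁻¹) (⟨_, h2⟩ : bor F m)⁻¹
      · rw [if_neg h1, if_neg h2, add_zero, Char.extendByZero_not_mem]
        exact fun h => (hin x h).elim h1 h2
  rw [indFun, Finset.sum_congr rfl fun x _ => hsum x, Finset.sum_add_distrib,
    Fintype.sum_equiv (Equiv.mulLeft (wSz hF))
      (fun x => if wSz hF * x ∈ bor F m then α (bd hF k⁻¹) else 0)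
      (fun x => if x ∈ bor F m then α (bd hF k⁻¹) else 0) (fun x => rfl)]
  simp only [← Finset.sum_filter, Finset.sum_const, nsmul_eq_mul]
  rw [← Fintype.card_subtype (fun x => x ∈ bor F m), ← Nat.card_eq_fintype_card, ← mul_add,
    inv_mul_cancel_left₀ (Nat.cast_ne_zero.mpr (Nat.card_pos (α := bor F m)).ne')]

include hm hF in
/-- An induced function vanishes at fixed-point-free elements. -/
theorem indFun_bor_fpf {α : bor F m → ℂ} {g : Sz F m} (hg : FPF g) :
    indFun (bor F m) α g = 0 := by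
  classical
  rw [indFun, Finset.sum_eq_zero, mul_zero]
  intro x _
  refine Char.extendByZero_not_mem _ _ fun h => ?_
  rw [MulAction.mem_stabilizer_iff, mul_smul, mul_smul, inv_smul_eq_iff] at h
  exact hg _ (smul_mem_ovoid x infinity_mem) h

/-- The principal series attached to a character of the torus. -/
noncomputable def Xf (θ : IrrCharacter Fˣ) : Sz F m → ℂ :=
  indFun (bor F m) (linB hm hF θ : bor F m → ℂ)

/-- The trivial character of the torus. -/
def theta0 (F : Type*) [Field F] : IrrCharacter Fˣ := ⟨1, Char.isIrrCharacter_one⟩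

/-- The Steinberg character. -/
noncomputable def Stf : Sz F m → ℂ := Xf hm hF (theta0 F) - 1

lemma Xf_isChar (θ : IrrCharacter Fˣ) : IsCharacter (Sz F m) (Xf hm hF θ) :=
  Char.IsCharacter.indFun (H := bor F m) (Char.IsIrrCharacter.isCharacter (linB hm hF θ).2)

lemma Xf_cf (θ : IrrCharacter Fˣ) : IsClassFunction (Sz F m) (Xf hm hF θ) :=
  Char.indFun_isClassFunction _ _

lemma Xf_one (θ : IrrCharacter Fˣ) : Xf hm hF θ 1 = qC m ^ 2 + 1 := by
  rw [Xf, Char.indFun_one_apply, linB_one, mul_one, index_bor_cast, index_stabilizer hF]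

lemma Xf_u (θ : IrrCharacter Fˣ) {a b : F} (hab : ¬(a = 0 ∧ b = 0)) :
    Xf hm hF θ (tSz hF a b) = 1 := by
  rw [Xf, indFun_bor_u hm hF (Char.IsIrrCharacter.isClassFunction (linB hm hF θ).2) hab, linB_bt]

lemma Xf_d (θ : IrrCharacter Fˣ) {k : Fˣ} (hk : k ≠ 1) :
    Xf hm hF θ (dSz hF k) = (θ : Fˣ → ℂ) k + (θ : Fˣ → ℂ) k⁻¹ := by
  rw [Xf, indFun_bor_d hm hF (Char.IsIrrCharacter.isClassFunction (linB hm hF θ).2) hk, linB_bd,
    linB_bd]

lemma Xf_fpf (θ : IrrCharacter Fˣ) {g : Sz F m} (hg : FPF g) : Xf hm hF θ g = 0 :=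
  indFun_bor_fpf hm hF hg

lemma Stf_one : Stf hm hF 1 = qC m ^ 2 := by simp [Stf, Xf_one]

lemma Stf_u {a b : F} (hab : ¬(a = 0 ∧ b = 0)) : Stf hm hF (tSz hF a b) = 0 := by
  simp [Stf, Xf_u hm hF _ hab]

lemma Stf_d {k : Fˣ} (hk : k ≠ 1) : Stf hm hF (dSz hF k) = 1 := by
  simp [Stf, Xf_d hm hF _ hk, theta0]

lemma Stf_fpf {g : Sz F m} (hg : FPF g) : Stf hm hF g = -1 := by
  simp [Stf, Xf_fpf hm hF _ hg]

include hF in
lemma theta_inv (θ : IrrCharacter Fˣ) (k : Fˣ) :
    (θ : Fˣ → ℂ) k⁻¹ = conj ((θ : Fˣ → ℂ) k) := by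
  haveI := Fintype.ofFinite Fˣ
  exact Char.IsCharacter.apply_inv (Char.IsIrrCharacter.isCharacter θ.2) k

/-- The conjugate character of the torus. -/
noncomputable def conjT (θ : IrrCharacter Fˣ) : IrrCharacter Fˣ :=
  haveI := Fintype.ofFinite Fˣ
  ⟨fun k => conj ((θ : Fˣ → ℂ) k), Char.IsIrrCharacter.conj θ.2⟩

lemma conjT_conjT (θ : IrrCharacter Fˣ) : conjT (conjT θ) = θ :=
  Subtype.ext (funext fun k => Complex.conj_conj _)

include hF in
lemma conjT_eq_self {θ : IrrCharacter Fˣ} (h : conjT θ = θ) : θ = theta0 F := by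
  haveI := Fintype.ofFinite Fˣ
  refine Subtype.ext ?_
  refine (CharApp.real_irr_of_odd ?_ θ.2 fun k => ?_).trans rfl
  · rw [Nat.card_units, Nat.card_eq_fintype_card, hF]
    have h2 : 2 ∣ 2 ^ (2 * m + 1) := two_dvd_q
    have := Nat.one_le_two_pow (n := 2 * m + 1)
    rw [Nat.odd_iff]; omega
  · exact Complex.conj_eq_iff_im.mp (congrFun (congrArg Subtype.val h) k)

lemma Xf_conjT (θ : IrrCharacter Fˣ) : Xf hm hF (conjT θ) = Xf hm hF θ := by
  funext g
  rcases eq_or_ne g 1 with rfl | hg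
  · rw [Xf_one, Xf_one]
  have hc : ∀ (φ : IrrCharacter Fˣ) (x : Sz F m), IsConj g x → Xf hm hF φ g = Xf hm hF φ x := by
    intro φ x hx
    obtain ⟨c, rfl⟩ := isConj_iff.mp hx
    exact (Xf_cf hm hF φ g c).symm
  rcases class_cases hm hF hg with h | h | h | ⟨k, hk, h⟩ | h
  · rw [hc _ _ h, hc _ _ h, Xf_u hm hF _ (by simp), Xf_u hm hF _ (by simp)]
  · rw [hc _ _ h, hc _ _ h, Xf_u hm hF _ (by simp), Xf_u hm hF _ (by simp)]
  · rw [hc _ _ h, hc _ _ h, Xf_u hm hF _ (by simp), Xf_u hm hF _ (by simp)]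
  · rw [hc _ _ h, hc _ _ h, Xf_d hm hF _ hk, Xf_d hm hF _ hk, theta_inv hF, theta_inv hF θ]
    show conj _ + conj (conj _) = _
    rw [Complex.conj_conj, add_comm]
  · rw [Xf_fpf hm hF _ h, Xf_fpf hm hF _ h]

include hm hF in
theorem inner_Xf [DecidableEq (IrrCharacter Fˣ)] (θ θ' : IrrCharacter Fˣ) :
    classInner (Xf hm hF θ) (Xf hm hF θ') =
      (if θ = θ' then 1 else 0) + (if θ = conjT θ' then 1 else 0) := by
  classical
  haveI := Fintype.ofFinite (bor F m)
  rw [Xf, Char.frobenius_reciprocity _ _ (Xf_cf hm hF θ')]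
  have hcf : IsClassFunction (bor F m) (fun h : bor F m => Xf hm hF θ' (h : Sz F m)) :=
    fun g h => Xf_cf hm hF θ' g h
  apply mul_left_cancel₀ (b := classInner _ _)
    (mul_ne_zero (pow_ne_zero 2 (qC_ne_zero m)) (qC_sub_one_ne_zero hm))
  rw [classInner, ← card_bor hm hF, mul_inv_cancel_left₀ (Nat.cast_ne_zero.mpr Nat.card_pos.ne'),
    sum_bor hm hF (isClassFunction_mul_conj
      (Char.IsIrrCharacter.isClassFunction (linB hm hF θ).2) hcf), linB_one, linB_bt, linB_bt,
    linB_bt, show ((bt hF (0 : F) 1 : bor F m) : Sz F m) = tSz hF 0 1 from rfl,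
    show ((bt hF (1 : F) 0 : bor F m) : Sz F m) = tSz hF 1 0 from rfl,
    show ((bt hF (1 : F) 1 : bor F m) : Sz F m) = tSz hF 1 1 from rfl,
    Xf_u hm hF _ (by simp), Xf_u hm hF _ (by simp), Xf_u hm hF _ (by simp),
    show ((1 : bor F m) : Sz F m) = 1 from rfl, Xf_one, card_bor hm hF]
  have hq : conj (qC m ^ 2 + 1) = qC m ^ 2 + 1 := by
    rw [qC_eq, map_add, map_pow, map_natCast, map_one]
  rw [hq, map_one]
  have h1 : ∀ φ : IrrCharacter Fˣ, ∑ k : Fˣ, (θ : Fˣ → ℂ) k * conj ((φ : Fˣ → ℂ) k) =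
      (qC m - 1) * if θ = φ then 1 else 0 := by
    intro φ
    rw [← Char.card_mul_classInner, Nat.card_eq_fintype_card, Fintype.card_units,
      Nat.cast_sub Fintype.card_pos, card_eq_qC hF, Nat.cast_one]
    congr 1
    split_ifs with e
    · rw [e, Char.classInner_irr_self φ.2]
    · exact Char.classInner_irr_of_ne θ.2 φ.2 fun h => e (Subtype.ext h)
  rw [Finset.sum_congr rfl (g := fun k => (θ : Fˣ → ℂ) k * conj ((θ' : Fˣ → ℂ) k) +
    (θ : Fˣ → ℂ) k * conj ((conjT θ' : IrrCharacter Fˣ).1 k)) fun k hk => by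
      rw [linB_bd, show ((bd hF k : bor F m) : Sz F m) = dSz hF k from rfl,
        Xf_d hm hF _ (Finset.ne_of_mem_erase hk), map_add, theta_inv hF, mul_add]
      rfl,
    Finset.sum_erase_eq_sub (Finset.mem_univ _), Finset.sum_add_distrib, h1, h1, theta_one,
    theta_one, theta_one]
  simp only [map_one, qC]
  ring

include hm hF in
lemma Xf_irr {θ : IrrCharacter Fˣ} (hθ : θ ≠ theta0 F) : IsIrrCharacter (Sz F m) (Xf hm hF θ) := by
  classical
  rw [Char.isIrrCharacter_iff_norm_one (Xf_isChar hm hF θ), inner_Xf, if_pos rfl, if_neg, add_zero]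
  exact fun h => hθ (conjT_eq_self hF h.symm)

include hm hF in
lemma Stf_irr : IsIrrCharacter (Sz F m) (Stf hm hF) := by
  classical
  haveI := Fintype.ofFinite (bor F m)
  have hgc : IsGeneralizedCharacter (Sz F m) (Stf hm hF) :=
    Coherence.isGC_sub (Coherence.isGC_of_isCharacter (Xf_isChar hm hF _))
      (Coherence.isGC_of_irr Char.isIrrCharacter_one)
  have hc : conjT (theta0 F) = theta0 F := Subtype.ext (funext fun k => by simp [conjT, theta0])
  have h1 : classInner (Xf hm hF (theta0 F)) 1 = 1 := by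
    rw [Xf, Char.frobenius_reciprocity _ _ (fun g h => rfl),
      show ((linB hm hF (theta0 F) : IrrCharacter (bor F m)) : bor F m → ℂ) = 1 from
        funext fun g => by simp [linB, theta0]]
    exact Char.classInner_irr_self Char.isIrrCharacter_one
  have h11 : classInner (1 : Sz F m → ℂ) 1 = 1 := Char.classInner_irr_self Char.isIrrCharacter_one
  have h2 : classInner (1 : Sz F m → ℂ) (Xf hm hF (theta0 F)) = 1 := by
    rw [← Char.classInner_conj_symm, h1, map_one]
  have hn : classInner (Stf hm hF) (Stf hm hF) = 1 := by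
    simp only [Stf, Char.classInner_sub_left, Char.classInner_sub_right, inner_Xf, hc, h1, h11, h2,
      if_true]
    ring
  rcases Coherence.gc_norm_one hgc hn with h | h
  · exact h
  · exfalso
    have := Coherence.re_degree_pos h
    rw [Pi.neg_apply, Stf_one, qC_eq] at this
    simp only [Complex.neg_re] at this
    norm_cast at this
    have h0 : (0 : ℕ) < (2 ^ (2 * m + 1)) ^ 2 := pow_pos (pow_pos two_pos _) 2
    linarith [(by exact_mod_cast h0 : (0 : ℝ) < ((2 ^ (2 * m + 1)) ^ 2 : ℕ))]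

/-- The irreducible characters outside the principal series. -/
def InR (χ : IrrCharacter (Sz F m)) : Prop :=
  (χ : Sz F m → ℂ) ≠ 1 ∧ (χ : Sz F m → ℂ) ≠ Stf hm hF ∧
    ∀ θ : IrrCharacter Fˣ, (χ : Sz F m → ℂ) ≠ Xf hm hF θ

open Classical in
/-- The finset of characters outside the principal series. -/
noncomputable def rSet [Fintype (IrrCharacter (Sz F m))] : Finset (IrrCharacter (Sz F m)) :=
  Finset.univ.filter (InR hm hF)

lemma mem_rSet [Fintype (IrrCharacter (Sz F m))] {χ : IrrCharacter (Sz F m)} :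
    χ ∈ rSet hm hF ↔ InR hm hF χ := by simp [rSet]

include hm hF in
/-- A sum over all irreducible characters. -/
theorem sum_split [Fintype (IrrCharacter (Sz F m))] [Fintype (IrrCharacter Fˣ)]
    [DecidableEq (IrrCharacter Fˣ)] (f : (Sz F m → ℂ) → ℂ) :
    ∑ χ : IrrCharacter (Sz F m), f χ = f 1 + f (Stf hm hF) +
      (∑ θ ∈ Finset.univ.erase (theta0 F), f (Xf hm hF θ)) / 2 + ∑ χ ∈ rSet hm hF, f χ := by
  classical
  let e1 : IrrCharacter (Sz F m) := ⟨1, Char.isIrrCharacter_one⟩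
  let eS : IrrCharacter (Sz F m) := ⟨_, Stf_irr hm hF⟩
  let g : {θ : IrrCharacter Fˣ // θ ≠ theta0 F} → IrrCharacter (Sz F m) :=
    fun θ => ⟨_, Xf_irr hm hF θ.2⟩
  obtain ⟨I, hI⟩ : ∃ I, I = Finset.univ.image g := ⟨_, rfl⟩
  have hXne : ∀ θ, Xf hm hF θ ≠ (1 : Sz F m → ℂ) ∧ Xf hm hF θ ≠ Stf hm hF := fun θ => by
    constructor <;> intro h <;> have := congrFun h 1 <;> rw [Xf_one] at this
    · rw [Pi.one_apply, add_eq_right] at this
      exact pow_ne_zero 2 (qC_ne_zero m) this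
    · rw [Stf_one, add_eq_left] at this
      exact one_ne_zero this
  have h1S : e1 ≠ eS := fun h => by
    have := congrFun (congrArg Subtype.val h) (tSz hF 1 0)
    simp [e1, eS, Stf_u hm hF] at this
  have hI1 : e1 ∉ I ∧ eS ∉ I := by
    subst hI
    simp only [Finset.mem_image, Finset.mem_univ, true_and, not_exists]
    exact ⟨fun θ h => (hXne θ.1).1 (congrArg Subtype.val h),
      fun θ h => (hXne θ.1).2 (congrArg Subtype.val h)⟩
  have hsplit : (Finset.univ : Finset (IrrCharacter (Sz F m))) =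
      insert e1 (insert eS I) ∪ rSet hm hF := by
    refine (Finset.eq_univ_iff_forall.mpr fun χ => ?_).symm
    simp only [Finset.mem_union, Finset.mem_insert, mem_rSet, InR]
    by_cases a : (χ : Sz F m → ℂ) = 1
    · exact Or.inl (Or.inl (Subtype.ext a))
    by_cases b : (χ : Sz F m → ℂ) = Stf hm hF
    · exact Or.inl (Or.inr (Or.inl (Subtype.ext b)))
    by_cases c : ∃ θ, (χ : Sz F m → ℂ) = Xf hm hF θ
    · obtain ⟨θ, hθ⟩ := c
      have hθ0 : θ ≠ theta0 F := fun h => by
        have h' := Char.classInner_irr_self χ.2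
        rw [hθ, inner_Xf, if_pos rfl, if_pos, add_eq_right] at h'
        · exact one_ne_zero h'
        · subst h; exact Subtype.ext (funext fun k => by simp [conjT, theta0])
      exact Or.inl (Or.inr (Or.inr (hI ▸ Finset.mem_image.mpr
        ⟨⟨θ, hθ0⟩, Finset.mem_univ _, Subtype.ext hθ.symm⟩)))
    · exact Or.inr ⟨a, b, fun θ h => c ⟨θ, h⟩⟩
  have hdisj : Disjoint (insert e1 (insert eS I)) (rSet hm hF) := by
    rw [Finset.disjoint_left]
    intro χ hχ hR
    rw [mem_rSet] at hR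
    simp only [Finset.mem_insert, hI, Finset.mem_image] at hχ
    rcases hχ with rfl | rfl | ⟨θ, -, rfl⟩
    · exact hR.1 rfl
    · exact hR.2.1 rfl
    · exact hR.2.2 θ.1 rfl
  rw [hsplit, Finset.sum_union hdisj, Finset.sum_insert (by simp [h1S, hI1.1]),
    Finset.sum_insert hI1.2]
  have hfib : ∀ χ ∈ I, (Finset.univ.filter fun θ => g θ = χ).card = 2 := by
    intro χ hχ
    rw [hI, Finset.mem_image] at hχ
    obtain ⟨θ, -, rfl⟩ := hχ
    have hc : conjT θ.1 ≠ theta0 F := fun h => θ.2 (by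
      rw [← conjT_conjT θ.1, h]
      exact Subtype.ext (funext fun k => by simp [conjT, theta0]))
    rw [show (Finset.univ.filter fun θ' => g θ' = g θ) = {θ, ⟨conjT θ.1, hc⟩} from ?_,
      Finset.card_pair]
    · exact fun h => θ.2 (conjT_eq_self hF (congrArg Subtype.val h).symm)
    · ext θ'
      simp only [Finset.mem_filter, Finset.mem_univ, true_and, Finset.mem_insert,
        Finset.mem_singleton]
      constructor
      · intro h
        have h' : classInner (Xf hm hF θ'.1) (Xf hm hF θ.1) = 1 := by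
          rw [show Xf hm hF θ'.1 = Xf hm hF θ.1 from congrArg Subtype.val h]
          exact Char.classInner_irr_self (Xf_irr hm hF θ.2)
        rw [inner_Xf] at h'
        by_cases a : θ'.1 = θ.1
        · exact Or.inl (Subtype.ext a)
        by_cases b : θ'.1 = conjT θ.1
        · exact Or.inr (Subtype.ext b)
        rw [if_neg a, if_neg b, add_zero] at h'
        exact absurd h' zero_ne_one
      · rintro (rfl | rfl)
        · rfl
        · exact Subtype.ext (Xf_conjT hm hF θ.1)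
  have hsum : ∑ θ ∈ Finset.univ.erase (theta0 F), f (Xf hm hF θ) =
      2 * ∑ χ ∈ I, f (χ : Sz F m → ℂ) := by
    rw [Finset.sum_subtype (p := fun θ => θ ≠ theta0 F) _ (fun θ => by simp) (fun θ => f (Xf hm hF θ))]
    show ∑ θ, (fun χ : IrrCharacter (Sz F m) => f χ) (g θ) = _
    rw [Finset.sum_comp (fun χ : IrrCharacter (Sz F m) => f χ) g, ← hI, Finset.mul_sum]
    exact Finset.sum_congr rfl fun χ hχ => by rw [hfib χ hχ, nsmul_eq_mul, Nat.cast_two]
  rw [hsum]
  ring

include hm hF in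
/-- The remaining characters vanish on the torus. -/
theorem r_vanish [Fintype (IrrCharacter (Sz F m))] {χ : IrrCharacter (Sz F m)}
    (hχ : χ ∈ rSet hm hF) {k : Fˣ} (hk : k ≠ 1) : (χ : Sz F m → ℂ) (dSz hF k) = 0 := by
  classical
  haveI := Fintype.ofFinite (IrrCharacter Fˣ)
  have h := Char.column_orth (dSz hF k) (dSz hF k)
  rw [if_pos (IsConj.refl _), sum_split hm hF (fun φ => φ (dSz hF k) * conj (φ (dSz hF k))),
    card_centralizer_d hm hF hk, Stf_d hm hF hk, Pi.one_apply, map_one, one_mul,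
    Nat.cast_sub Nat.one_le_two_pow, ← qC_eq, Nat.cast_one] at h
  have hk2 : k ≠ k⁻¹ := by
    intro e
    haveI := charTwo hF
    have h3 : (k : F) * (k : F) = 1 := by
      rw [← Units.val_mul, mul_eq_one_iff_eq_inv.mpr e, Units.val_one]
    rcases mul_self_eq_one_iff.mp h3 with h' | h'
    · exact hk (Units.ext h')
    · exact hk (Units.ext (by rw [h', CharTwo.neg_eq, Units.val_one]))
  have hsum : ∑ θ ∈ Finset.univ.erase (theta0 F),
      Xf hm hF θ (dSz hF k) * conj (Xf hm hF θ (dSz hF k)) = 2 * (qC m - 1) - 4 := by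
    simp only [Xf_d hm hF _ hk, map_add, mul_add, add_mul]
    rw [Finset.sum_erase_eq_sub (Finset.mem_univ _)]
    simp only [Finset.sum_add_distrib, theta_orth hF, if_pos rfl, if_neg hk2, if_neg hk2.symm]
    simp [theta0]
    ring
  rw [hsum] at h
  refine sum_mul_conj_eq_zero (f := fun φ : IrrCharacter (Sz F m) => (φ : Sz F m → ℂ) (dSz hF k))
    ?_ χ hχ
  linear_combination h

/-- `s` is the value at `f` of a character of degree `k (q - 1)` of the Borel subgroup. -/
def IsThetaVal (s : ℂ) : Prop :=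
  ∃ Θ : IrrCharacter (bor F m), (Θ : bor F m → ℂ) 1 = kC m * (qC m - 1) ∧
    (Θ : bor F m → ℂ) (bt hF 0 1) = -kC m ∧ (Θ : bor F m → ℂ) (bt hF 1 0) = s ∧
    (Θ : bor F m → ℂ) (bt hF 1 1) = -s ∧ s ^ 2 = -kC m ^ 2 ∧ conj s = -s ∧
    ∀ k : Fˣ, k ≠ 1 → (Θ : bor F m → ℂ) (bd hF k) = 0

include hm hF in
/-- The values of a remaining character at `1, z, f, f⁻¹`. -/
theorem r_params [Fintype (IrrCharacter (Sz F m))] {s : ℂ} (hs : IsThetaVal hF (m := m) s)
    {χ : IrrCharacter (Sz F m)} (hχ : χ ∈ rSet hm hF) :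
    ∃ b e δ : ℤ, 0 ≤ b ∧ 2 ∣ e - δ ∧
      (χ : Sz F m → ℂ) 1 = (qC m - 1) * (b * (qC m + 1) + kC m * e) ∧
      (χ : Sz F m → ℂ) (tSz hF 0 1) = -b - kC m * e ∧
      (χ : Sz F m → ℂ) (tSz hF 1 0) = -b + δ * s ∧
      (χ : Sz F m → ℂ) (tSz hF 1 1) = -b - δ * s := by
  classical
  haveI := Fintype.ofFinite (bor F m)
  obtain ⟨Λ, l1, lz, lf, lf', ld⟩ := exists_lambda hm hF
  obtain ⟨Θ, t1, tz, tf, tf', hs2, hsc, td⟩ := hs
  have hv : ∀ k : Fˣ, k ≠ 1 → (χ : Sz F m → ℂ) (dSz hF k) = 0 := fun k hk => r_vanish hm hF hχ hk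
  obtain ⟨φ, hφ⟩ : ∃ φ : bor F m → ℂ, φ = fun h : bor F m => (χ : Sz F m → ℂ) (h : Sz F m) :=
    ⟨_, rfl⟩
  have hφc : IsCharacter (bor F m) φ :=
    hφ ▸ Char.IsCharacter.restrict (Char.IsIrrCharacter.isCharacter χ.2) _
  have hφ0 : ∀ k : Fˣ, k ≠ 1 → φ (bd hF k) = 0 := fun k hk => by rw [hφ]; exact hv k hk
  -- orthogonality to the trivial character of the Borel subgroup
  have horth : classInner φ (linB hm hF (theta0 F) : bor F m → ℂ) = 0 := by
    rw [hφ, ← Char.frobenius_reciprocity' _ _ (Char.IsIrrCharacter.isClassFunction χ.2),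
      show indFun (bor F m) (linB hm hF (theta0 F) : bor F m → ℂ) = Stf hm hF + 1 from
        (sub_add_cancel _ _).symm, Char.classInner_add_right,
      Char.classInner_irr_of_ne χ.2 (Stf_irr hm hF) ((mem_rSet hm hF).mp hχ).2.1,
      Char.classInner_irr_of_ne χ.2 Char.isIrrCharacter_one ((mem_rSet hm hF).mp hχ).1, add_zero]
  obtain ⟨nb, hb⟩ := Char.IsCharacter.classInner_nat hφc (Char.IsIrrCharacter.isCharacter Λ.2)
  obtain ⟨n1, hn1⟩ := Char.IsCharacter.classInner_nat hφc (Char.IsIrrCharacter.isCharacter Θ.2)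
  obtain ⟨n2, hn2⟩ := Char.IsCharacter.classInner_nat hφc
    (Char.IsIrrCharacter.isCharacter (Char.IsIrrCharacter.conj Θ.2))
  have hcφ := Char.IsCharacter.isClassFunction hφc
  have i0 := inner_bor hm hF hcφ (Char.IsIrrCharacter.isClassFunction (linB hm hF (theta0 F)).2)
    (fun k hk => by rw [hφ0 k hk, zero_mul])
  have ib := inner_bor hm hF hcφ (Char.IsIrrCharacter.isClassFunction Λ.2)
    (fun k hk => by rw [hφ0 k hk, zero_mul])
  have i1 := inner_bor hm hF hcφ (Char.IsIrrCharacter.isClassFunction Θ.2)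
    (fun k hk => by rw [hφ0 k hk, zero_mul])
  have i2 := inner_bor hm hF hcφ (Char.IsIrrCharacter.isClassFunction
    (Char.IsIrrCharacter.conj Θ.2)) (fun k hk => by rw [hφ0 k hk, zero_mul])
  have c1 : conj (qC m - 1) = qC m - 1 := by rw [qC_eq, map_sub, map_natCast, map_one]
  have c2 : conj (kC m) = kC m := by rw [kC, map_pow, map_ofNat]
  simp only [horth, hb, hn1, hn2, linB_one, linB_bt, l1, lz, lf, lf', t1, tz, tf, tf', map_one,
    map_neg, map_mul, c1, c2, hsc, neg_neg] at i0 ib i1 i2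
  have e1 : φ 1 = (χ : Sz F m → ℂ) 1 := by rw [hφ]; rfl
  have e2 : φ (bt hF 0 1) = (χ : Sz F m → ℂ) (tSz hF 0 1) := by rw [hφ]; rfl
  have e3 : φ (bt hF 1 0) = (χ : Sz F m → ℂ) (tSz hF 1 0) := by rw [hφ]; rfl
  have e4 : φ (bt hF 1 1) = (χ : Sz F m → ℂ) (tSz hF 1 1) := by rw [hφ]; rfl
  rw [e1, e2, e3, e4] at i0 ib i1 i2
  generalize (χ : Sz F m → ℂ) 1 = A, (χ : Sz F m → ℂ) (tSz hF 0 1) = Z,
    (χ : Sz F m → ℂ) (tSz hF 1 0) = P, (χ : Sz F m → ℂ) (tSz hF 1 1) = P' at i0 ib i1 i2 ⊢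
  have hq := qC_ne_zero m
  have hq1 := qC_sub_one_ne_zero hm
  have hk := kC_ne_zero m
  have a1 : A + (qC m - 1) * Z = qC m * (qC m - 1) * nb := by
    apply mul_left_cancel₀ hq
    linear_combination -i0 - ib
  have a2 : A - Z = kC m * qC m * ((n1 : ℂ) + n2) := by
    apply mul_left_cancel₀ (mul_ne_zero (mul_ne_zero (two_ne_zero (α := ℂ)) hk) hq1)
    simp only [qC] at i1 i2 ⊢
    linear_combination -i1 - i2
  have hZ : Z = (qC m - 1) * nb - kC m * ((n1 : ℂ) + n2) := by
    apply mul_left_cancel₀ hq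
    linear_combination a1 - a2
  have hA : A = (qC m - 1) * nb + kC m * (qC m - 1) * ((n1 : ℂ) + n2) := by
    linear_combination a2 + hZ
  have hP : P + P' = -2 * (nb : ℂ) := by
    apply mul_left_cancel₀ (mul_ne_zero hq1 (pow_ne_zero 2 hk))
    simp only [qC] at i0 a1 ⊢
    linear_combination -i0 - a1
  have hD : P - P' = 2 * ((n1 : ℂ) - n2) * s := by
    apply mul_left_cancel₀ (mul_ne_zero hq1 (pow_ne_zero 2 (pow_ne_zero 2 hk)))
    have h := congrArg (fun x => x * s) (show qC m ^ 2 * (qC m - 1) * ((n1 : ℂ) - n2) =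
      -2 * ((qC m - 1) * kC m ^ 2) * (s * (P - P')) by linear_combination i1 - i2)
    simp only [qC] at h ⊢
    linear_combination (-(1 : ℂ) / 2) * h + (2 * kC m ^ 2 - 1) * kC m ^ 2 * (P - P') * hs2
  refine ⟨nb, (n1 : ℤ) + n2 - 2 * (2 ^ m : ℕ) * nb, (n1 : ℤ) - n2, Int.natCast_nonneg nb,
    ⟨(n2 : ℤ) - (2 ^ m : ℕ) * nb, by ring⟩, ?_, ?_, ?_, ?_⟩
  · rw [hA]; simp only [qC, kC]; push_cast; ring
  · rw [hZ]; simp only [qC, kC]; push_cast; ring
  · push_cast; linear_combination (hP + hD) / 2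
  · push_cast; linear_combination (hP - hD) / 2

end Cfsg.Agent.Suzuki.CharTable
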