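import Cfsg.Agent.Lib.Suzuki.MinimalSimple
import Cfsg.Agent.Lib.Suzuki.Parts
import Cfsg.Agent.Lib.Suzuki.CharBorel
import Cfsg.Agent.Lib.Suzuki.CharSeries

/-!
# Binary actions of `Sz(q)`: the even cases

`Binary`, the witness `not_binary_of_coset`, `binary_of_bot`, `binary_of_zSub`,
`not_binary_of_involution`, `comm_of_odd`.
-/

set_option autoImplicit false
set_option linter.style.haveILetI false
set_option linter.unusedSectionVars false

namespace Cfsg.Agent.Suzuki.BinaryAct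

open Cfsg Cfsg.Agent.Suzuki
open scoped Matrix

/-- Pairwise equivalent tuples are equivalent. -/
def Binary (G : Type*) [Group G] (Ω : Type*) [MulAction G Ω] : Prop :=
  ∀ (n : ℕ) (I J : Fin n → Ω), 2 ≤ n →
    (∀ i j : Fin n, i ≠ j → ∃ g : G, g • I i = J i ∧ g • I j = J j) →
      ∃ g : G, ∀ i, g • I i = J i

section general

variable {G : Type*} [Group G] {Ω : Type*} [MulAction G Ω]

/-- If no element mapping `c` to `g₀ • c` fixes every point fixed by some such element, the action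
is not binary. -/
theorem not_binary_of_coset [Finite Ω] {c c' : Ω}
    (hS : ∃ (a : Ω) (g : G), g • c = c' ∧ g • a = a)
    (hX : ∀ u : G, u • c = c' → ∃ (a : Ω) (g : G), g • c = c' ∧ g • a = a ∧ u • a ≠ a) :
    ¬ Binary G Ω := by
  classical
  intro hB
  let S := {a : Ω // ∃ g : G, g • c = c' ∧ g • a = a}
  haveI : Fintype S := Fintype.ofFinite S
  obtain ⟨a0, g0, h0, h0'⟩ := hS
  haveI : Nonempty S := ⟨⟨a0, g0, h0, h0'⟩⟩
  let e := Fintype.equivFin (Option S)
  let I : Option S → Ω := fun o => o.elim c Subtype.val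
  let J : Option S → Ω := fun o => o.elim c' Subtype.val
  have hn : 2 ≤ Fintype.card (Option S) := by
    rw [Fintype.card_option]
    have := Fintype.card_pos (α := S)
    omega
  obtain ⟨u, hu⟩ := hB _ (I ∘ e.symm) (J ∘ e.symm) hn (fun i j hij => by
    have hij' : e.symm i ≠ e.symm j := e.symm.injective.ne hij
    simp only [Function.comp_apply]
    generalize e.symm i = o at hij' ⊢
    generalize e.symm j = o' at hij' ⊢
    rcases o with _ | ⟨a, g, hg, ha⟩ <;> rcases o' with _ | ⟨a', g', hg', ha'⟩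
    · exact absurd rfl hij'
    · exact ⟨g', hg', ha'⟩
    · exact ⟨g, ha, hg⟩
    · exact ⟨1, one_smul _ _, one_smul _ _⟩)
  have hc : u • c = c' := by simpa [I, J] using hu (e none)
  obtain ⟨a, g, hg, ha, hne⟩ := hX u hc
  exact hne (by simpa [I, J] using hu (e (some ⟨a, g, hg, ha⟩)))

/-- A free action is binary. -/
theorem binary_of_free (h : ∀ (g : G) (a : Ω), g • a = a → g = 1) : Binary G Ω := by
  intro n I J hn hp
  have huniq : ∀ (g g' : G) (a : Ω), g • a = g' • a → g = g' := fun g g' a he =>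
    (inv_mul_eq_one.mp (h _ a (by rw [mul_smul, he, inv_smul_smul]))).symm
  obtain ⟨g, hg, -⟩ := hp ⟨0, by omega⟩ ⟨1, by omega⟩ (by simp [Fin.ext_iff])
  refine ⟨g, fun i => ?_⟩
  rcases eq_or_ne i ⟨0, by omega⟩ with rfl | hi
  · exact hg
  · obtain ⟨g', h1, h2⟩ := hp _ i hi.symm
    rwa [huniq g g' _ (hg.trans h1.symm)]

end general

variable {F : Type*} [Field F] {m : ℕ} [Fintype F]
variable (hm : 1 ≤ m) (hF : Fintype.card F = 2 ^ (2 * m + 1))
variable {Ω : Type*} [MulAction (Sz F m) Ω]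

local notation "∞'" => suzukiPointInfinity F

include hm hF in
lemma decompose_conj_zSub {g : Sz F m} (hg : g ^ 2 = 1) (hg1 : g ≠ 1) :
    ∃ (s : Sz F m), s * g * s⁻¹ = tSz hF 0 1 := by
  haveI := charTwo hF
  have hnot : ∀ x : F, ¬ IsConj g (tSz hF 1 x) := by
    intro x h
    obtain ⟨c, hc⟩ := isConj_iff.mp h
    have e2 : (tSz hF (1 : F) x) ^ 2 = 1 := by
      rw [← hc, conj_pow, hg, mul_one, mul_inv_cancel]
    rw [sq, tSz_mul, tSz_eq_one_iff] at e2
    simp [CharTwo.add_self_eq_zero] at e2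
  haveI : Fact (Nat.Prime 2) := ⟨Nat.prime_two⟩
  have ho : orderOf g = 2 := orderOf_eq_prime hg hg1
  rcases CharTable.class_cases hm hF hg1 with h | h | h | ⟨k, hk, h⟩ | h
  · exact isConj_iff.mp h
  · exact absurd h (hnot 0)
  · exact absurd h (hnot 1)
  · exfalso
    obtain ⟨c, hc⟩ := isConj_iff.mp h
    have e2 : dSz hF k ^ 2 = 1 := by rw [← hc, conj_pow, hg, mul_one, mul_inv_cancel]
    rw [sq, dSz_mul, ← dSz_one hF] at e2
    have e3 : (k : F) * k = 1 := by simpa using congrArg Units.val (dSz_inj hF e2)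
    exact hk (Units.ext (by
      rw [Units.val_one]
      have : ((k : F) + 1) * ((k : F) + 1) = 0 := by grind
      rcases mul_eq_zero.mp this with h' | h' <;> grind))
  · exfalso
    have h1 := odd_card_torusElt hm hF hg1 (g := g) (fun hu => by
      obtain ⟨s, d, hd, hd1, rfl⟩ := hu
      obtain ⟨a, b, rfl⟩ := hd
      exact h (s • suzukiPointInfinity F) (smul_mem_ovoid s infinity_mem)
        (by rw [← mul_smul, inv_mul_cancel_right, mul_smul, tSz_smul_infinity]))
    have h2 := Subgroup.orderOf_dvd_natCard _ (self_mem_torus g)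
    rw [ho] at h2
    exact (Nat.not_even_iff_odd.mpr h1) (even_iff_two_dvd.mpr h2)

include hm hF in
/-- An odd element fixing infinity is conjugate into the torus by a unipotent element. -/
lemma exists_conj_dSz {h : Sz F m} (hfix : h • ∞' = ∞') (hu : h ∉ uSub hF) :
    ∃ (c d : F) (k : Fˣ), k ≠ 1 ∧ tSz hF c d * dSz hF k * (tSz hF c d)⁻¹ = h := by
  obtain ⟨a, b, k, rfl⟩ := exists_tSz_dSz_of_fix hm hF hfix
  have hk : k ≠ 1 := fun e => hu (by rw [e, dSz_one, mul_one]; exact tSz_mem_uSub hF a b)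
  obtain ⟨c, d, hcd⟩ := CharTable.conj_torus hm hF hk a b
  exact ⟨c, d, k, hk, hcd⟩

include hm hF in
/-- A subgroup of odd order is abelian. -/
theorem comm_of_odd {H : Subgroup (Sz F m)} (hH : Odd (Nat.card H)) :
    ∀ a ∈ H, ∀ b ∈ H, a * b = b * a := by
  classical
  haveI := isSolvable_of_odd hm hF hH
  have hodd : ∀ a ∈ H, Odd (orderOf a) := fun a ha =>
    hH.of_dvd_nat (Subgroup.orderOf_dvd_natCard H ha)
  rcases container_cases hm hF (H := H) with ⟨p, hp, hfix⟩ | ⟨t, ht, htu, hle⟩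
  · obtain ⟨s, rfl⟩ := exists_smul_infinity hF hp
    intro a ha b hb
    have hB : ∀ x ∈ H, s⁻¹ * x * s ∈ borelSub F m := fun x hx => by
      rw [MulAction.mem_stabilizer_iff, mul_smul, mul_smul, hfix x hx, inv_smul_smul]
    have hinj : ∀ x ∈ H, ∀ hx : s⁻¹ * x * s ∈ borelSub F m,
        borelHom hm hF ⟨_, hx⟩ = 1 → x = 1 := by
      intro x hxH hx h1
      have hu := (borelHom_eq_one_iff hm hF _).mp h1
      have h2 : orderOf (s⁻¹ * x * s) ∣ Nat.card (uSub hF) := Subgroup.orderOf_dvd_natCard _ hu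
      rw [card_uSub, show s⁻¹ * x * s = MulAut.conj s⁻¹ x by simp, MulEquiv.orderOf_eq,
        ← pow_mul] at h2
      obtain ⟨j, -, hj⟩ := (Nat.dvd_prime_pow Nat.prime_two).mp h2
      have h3 := hodd x hxH
      rw [hj] at h3
      rcases eq_or_ne j 0 with h4 | h4
      · rw [h4, pow_zero] at hj
        exact orderOf_eq_one_iff.mp hj
      · exact absurd (Nat.even_pow.mpr ⟨even_two, h4⟩) (Nat.not_even_iff_odd.mpr h3)
    have hc := hinj (a * b * a⁻¹ * b⁻¹)
      (mul_mem (mul_mem (mul_mem ha hb) (inv_mem ha)) (inv_mem hb))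
      (hB _ (mul_mem (mul_mem (mul_mem ha hb) (inv_mem ha)) (inv_mem hb))) (by
        have e : (⟨s⁻¹ * (a * b * a⁻¹ * b⁻¹) * s,
            hB _ (mul_mem (mul_mem (mul_mem ha hb) (inv_mem ha)) (inv_mem hb))⟩ : borelSub F m) =
            ⟨_, hB a ha⟩ * ⟨_, hB b hb⟩ * (⟨_, hB a ha⟩ : borelSub F m)⁻¹ *
              (⟨_, hB b hb⟩ : borelSub F m)⁻¹ := Subtype.ext (by
          simp only [Subgroup.coe_mul, Subgroup.coe_inv]; group)
        rw [e, map_mul, map_mul, map_mul, map_inv, map_inv, mul_comm (borelHom hm hF _) _]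
        group)
    calc a * b = (a * b * a⁻¹ * b⁻¹) * (b * a) := by group
      _ = b * a := by rw [hc, one_mul]
  · set C : Subgroup (Sz F m) := Subgroup.centralizer {t}
    obtain ⟨hcyc, -, hN⟩ := torusElt_centralizer hm hF ht htu
    have hHC : ∀ a ∈ H, a ∈ C := by
      intro a ha
      set N := Subgroup.normalizer (C : Set (Sz F m)) with hNdef
      have hidx : (C.subgroupOf N).index = 2 ∨ (C.subgroupOf N).index = 4 := by
        have h := Subgroup.card_mul_index (C.subgroupOf N)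
        rw [Nat.card_congr (Subgroup.subgroupOfEquivOfLe Subgroup.le_normalizer).toEquiv] at h
        have hpos : 0 < Nat.card C := Nat.card_pos
        rcases hN with ⟨-, h'⟩ | ⟨-, h'⟩ <;> rw [h', mul_comm] at h
        · exact Or.inl (Nat.eq_of_mul_eq_mul_right hpos h)
        · exact Or.inr (Nat.eq_of_mul_eq_mul_right hpos h)
      have hp := Subgroup.pow_index_mem (C.subgroupOf N) ⟨a, hle ha⟩
      rw [Subgroup.mem_subgroupOf] at hp
      have hcop : Nat.Coprime (C.subgroupOf N).index (orderOf a) := by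
        have := Nat.coprime_two_left.mpr (hodd a ha)
        rcases hidx with h | h <;> rw [h]
        · exact this
        · exact this.pow_left 2
      obtain ⟨j, hj⟩ := exists_pow_eq_self_of_coprime hcop
      rw [← hj]
      exact Subgroup.pow_mem _ hp _
    letI := hcyc.commGroup (α := C)
    intro a ha b hb
    exact congrArg Subtype.val (mul_comm (⟨a, hHC a ha⟩ : C) ⟨b, hHC b hb⟩)

/-- `u` fixes every point that `x` fixes. -/
def Dom (Ω : Type*) [MulAction (Sz F m) Ω] (x u : Sz F m) : Prop := ∀ a : Ω, x • a = a → u • a = a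

/-- The elements fixing every fixed point of `x`. -/
def fixer (Ω : Type*) [MulAction (Sz F m) Ω] (x : Sz F m) : Subgroup (Sz F m) where
  carrier := {u | Dom Ω x u}
  one_mem' := fun a _ => one_smul _ a
  mul_mem' := fun hu hv a ha => by rw [mul_smul, hv a ha, hu a ha]
  inv_mem' := fun {u} hu a ha => by rw [inv_smul_eq_iff, hu a ha]

lemma mem_fixer {x u : Sz F m} : u ∈ fixer Ω x ↔ Dom Ω x u := Iff.rfl

lemma self_mem_fixer (x : Sz F m) : x ∈ fixer Ω x := fun _ h => h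

lemma fixer_le {x : Sz F m} {a : Ω} (h : x • a = a) :
    fixer Ω x ≤ MulAction.stabilizer (Sz F m) a := fun _ hu => hu a h

lemma fixer_mono {x u : Sz F m} (h : u ∈ fixer Ω x) : fixer Ω u ≤ fixer Ω x :=
  fun _ hv a ha => hv a (h a ha)

lemma fixer_conj (s x : Sz F m) :
    fixer Ω (s * x * s⁻¹) = (fixer Ω x).map (MulAut.conj s).toMonoidHom := by
  ext u
  rw [map_conj_iff]
  constructor
  · intro hu a ha
    have := hu (s • a) (by rw [← mul_smul, inv_mul_cancel_right, mul_smul, ha])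
    rw [mul_smul, mul_smul, this, inv_smul_smul]
  · intro hu a ha
    have := hu (s⁻¹ • a) (by
      conv_rhs => rw [← ha]
      rw [← mul_smul, ← mul_smul]; group)
    rw [mul_smul, mul_smul, smul_inv_smul] at this
    exact smul_left_cancel _ this

lemma conj_mem_fixer {x s u : Sz F m} (hs : s * x * s⁻¹ = x) (hu : u ∈ fixer Ω x) :
    s * u * s⁻¹ ∈ fixer Ω x := by
  have h : s * u * s⁻¹ ∈ fixer Ω (s * x * s⁻¹) := by
    rw [fixer_conj]; exact ⟨u, hu, rfl⟩
  rwa [hs] at h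

variable (Ω) in
include hm hF in
lemma card_fixer_involution {x : Sz F m} (hx : x ^ 2 = 1) (hx1 : x ≠ 1) :
    Nat.card (fixer Ω x) = Nat.card (fixer Ω (tSz hF 0 1)) := by
  obtain ⟨s, hs⟩ := decompose_conj_zSub hm hF hx hx1
  rw [← hs, fixer_conj, card_map_conj]

variable (Ω) in
include hm hF in
lemma fixer_eq_of_mem {x u : Sz F m} (hx : x ^ 2 = 1) (hx1 : x ≠ 1) (hu : u ^ 2 = 1) (hu1 : u ≠ 1)
    (h : u ∈ fixer Ω x) : fixer Ω u = fixer Ω x :=
  Subgroup.eq_of_le_of_card_ge (fixer_mono h)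
    ((card_fixer_involution (Ω := Ω) hm hF hu hu1).trans (card_fixer_involution (Ω := Ω) hm hF hx hx1).symm).ge

variable [MulAction.IsPretransitive (Sz F m) Ω]

include hm hF in
/-- A proper transitive action has no element fixing everything. -/
lemma eq_one_of_forall_fix {c : Ω} (hne : MulAction.stabilizer (Sz F m) c ≠ ⊤) {g : Sz F m}
    (h : ∀ a : Ω, g • a = a) : g = 1 := by
  haveI := isSimpleGroup_sz hm hF
  by_contra hg
  let K : Subgroup (Sz F m) := (MulAction.toPermHom (Sz F m) Ω).ker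
  have hgK : g ∈ K := MonoidHom.mem_ker.mpr (Equiv.ext fun a => h a)
  haveI hKn : K.Normal := MonoidHom.normal_ker _
  rcases hKn.eq_bot_or_eq_top with hK | hK
  · exact hg (Subgroup.mem_bot.mp (hK ▸ hgK))
  · apply hne
    rw [eq_top_iff]
    intro u _
    exact congrFun (congrArg DFunLike.coe (MonoidHom.mem_ker.mp
      (show u ∈ K from hK ▸ Subgroup.mem_top u))) c

include hm hF in
/-- The fixer of an involution of the root group fixes infinity. -/
lemma fixer_tSz_le_borel {c : Ω} (hne : MulAction.stabilizer (Sz F m) c ≠ ⊤) {b : F} (hb : b ≠ 0)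
    (hfix : ∃ a : Ω, tSz hF 0 b • a = a) : ∀ u ∈ fixer Ω (tSz hF 0 b), u • ∞' = ∞' := by
  classical
  intro u hu
  by_contra hcon
  haveI := isSimpleGroup_sz hm hF
  have hN : Subgroup.normalizer (fixer Ω (tSz hF 0 b) : Set (Sz F m)) = ⊤ := by
    refine eq_top_of_zSub_le_root hm hF ?_ (Subgroup.le_normalizer hu) hcon
    rintro _ ⟨e, rfl⟩
    have hc : tSz hF 0 e * tSz hF 0 b * (tSz hF 0 e)⁻¹ = tSz hF 0 b := by
      haveI := charTwo hF
      rw [CharTable.tSz_conj]; simp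
    refine Subgroup.mem_normalizer_iff.mpr fun v => ⟨conj_mem_fixer hc, fun hv => ?_⟩
    have h2 := conj_mem_fixer (s := (tSz hF 0 e)⁻¹) (x := tSz hF 0 b)
      (by rw [inv_inv]; conv_lhs => rw [← hc]
          group) hv
    simpa [mul_assoc] using h2
  have hnorm : (fixer Ω (tSz hF 0 b)).Normal := Subgroup.normalizer_eq_top_iff.mp hN
  rcases hnorm.eq_bot_or_eq_top with h | h
  · exact hb ((tSz_eq_one_iff hF).mp (Subgroup.mem_bot.mp (h ▸ self_mem_fixer _))).2
  · obtain ⟨a, ha⟩ := hfix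
    obtain ⟨s, rfl⟩ := MulAction.exists_smul_eq (Sz F m) c a
    apply hne
    rw [eq_top_iff]
    intro g _
    have := fixer_le ha (h ▸ Subgroup.mem_top (s * g * s⁻¹))
    rw [MulAction.mem_stabilizer_iff, mul_smul, mul_smul, inv_smul_smul] at this
    exact MulAction.mem_stabilizer_iff.mpr (smul_left_cancel s this)

include hm hF in
/-- A non-unipotent element of the fixer of a root involution forces the whole root centre. -/
lemma zSub_le_fixer {b : F} {u : Sz F m} (hu : u ∈ fixer Ω (tSz hF 0 b)) (hfix : u • ∞' = ∞')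
    (hnu : u ∉ uSub hF) : zSub hF ≤ fixer Ω (tSz hF 0 b) := by
  haveI := charTwo hF
  obtain ⟨a, c, k, rfl⟩ := exists_tSz_dSz_of_fix hm hF hfix
  have hk : k ≠ 1 := fun e => hnu (by rw [e, dSz_one, mul_one]; exact tSz_mem_uSub hF a c)
  rintro _ ⟨e, rfl⟩
  have hk' : 1 + th m (k : F) * (k : F) ≠ 0 := fun e' =>
    hk (Units.ext (thSucc_eq_one hF (by grind)))
  obtain ⟨e', rfl⟩ : ∃ e', e = (1 + th m (k : F) * (k : F)) * e' :=
    ⟨e / (1 + th m (k : F) * (k : F)), (mul_div_cancel₀ e hk').symm⟩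
  have hc : tSz hF 0 e' * tSz hF 0 b * (tSz hF 0 e')⁻¹ = tSz hF 0 b := by
    rw [CharTable.tSz_conj]; simp
  have h1 := mul_mem (conj_mem_fixer hc hu) (inv_mem hu)
  have e1 : tSz hF 0 e' * (tSz hF a c * dSz hF k) * (tSz hF 0 e')⁻¹ *
      (tSz hF a c * dSz hF k)⁻¹ = tSz hF 0 ((1 + th m (k : F) * (k : F)) * e') := by
    calc _ = tSz hF 0 e' * (tSz hF a c * (dSz hF k * (tSz hF 0 e')⁻¹ * (dSz hF k)⁻¹) *
          (tSz hF a c)⁻¹) := by group
      _ = _ := by
        rw [tSz_inv, CharTable.dSz_conj, CharTable.tSz_conj, tSz_mul]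
        congr 1 <;> simp <;> ring
  rwa [e1] at h1

include hm hF in
/-- Case 1: an involution of the stabiliser whose root centre is not contained. -/
theorem not_binary_of_partial [Finite Ω] {c : Ω} (hne : MulAction.stabilizer (Sz F m) c ≠ ⊤)
    {b e : F} (hb : b ≠ 0) (hv : tSz hF 0 b • c = c) (hx : tSz hF 0 e • c ≠ c) :
    ¬ Binary (Sz F m) Ω := by
  classical
  haveI := charTwo hF
  have hinv : ∀ y : F, y ≠ 0 → tSz hF 0 y ^ 2 = 1 ∧ tSz hF 0 y ≠ 1 := fun y hy =>
    ⟨by rw [sq, tSz_mul]; simp [CharTwo.add_self_eq_zero, tSz_zero],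
      fun h => hy ((tSz_eq_one_iff hF).mp h).2⟩
  have he : e ≠ 0 := fun h => hx (by rw [h, tSz_zero, one_smul])
  have heb : e + b ≠ 0 := fun h => hx (by rw [show e = b by grind]; exact hv)
  have hfixed : ∀ y : F, y ≠ 0 → ∃ a : Ω, tSz hF 0 y • a = a := by
    intro y hy
    obtain ⟨s, hs⟩ := decompose_conj_zSub hm hF (hinv b hb).1 (hinv b hb).2
    obtain ⟨r, hr⟩ := decompose_conj_zSub hm hF (hinv y hy).1 (hinv y hy).2
    refine ⟨(r⁻¹ * s) • c, ?_⟩
    have e1 : tSz hF 0 y = r⁻¹ * (s * tSz hF 0 b * s⁻¹) * r := by rw [hs, ← hr]; group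
    conv_rhs => rw [← hv]
    rw [e1, ← mul_smul, ← mul_smul]
    group
  have hmul : tSz hF 0 (e + b) = tSz hF 0 e * tSz hF 0 b := by rw [tSz_mul]; simp
  have hmove : tSz hF 0 (e + b) • c = tSz hF 0 e • c := by rw [hmul, mul_smul, hv]
  obtain ⟨a1, ha1⟩ := hfixed e he
  obtain ⟨a2, ha2⟩ := hfixed _ heb
  refine not_binary_of_coset (c := c) (c' := tSz hF 0 e • c) ⟨a1, _, rfl, ha1⟩ fun u hu => ?_
  by_contra hcon
  push Not at hcon
  have hu1 : u ∈ fixer Ω (tSz hF 0 e) := fun a ha => hcon a _ rfl ha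
  have hu2 : u ∈ fixer Ω (tSz hF 0 (e + b)) := fun a ha => hcon a _ hmove ha
  have hne1 : u ≠ 1 := fun h => hx (by rw [← hu, h, one_smul])
  have hB := fixer_tSz_le_borel hm hF hne he ⟨a1, ha1⟩ u hu1
  -- every fixer of an involution at infinity is inside the stabiliser or avoids it
  have hfin : ∀ v : Sz F m, v ^ 2 = 1 → v ≠ 1 → v ∈ fixer Ω (tSz hF 0 e) →
      v ∈ fixer Ω (tSz hF 0 (e + b)) → False := by
    intro v hv2 hv1 h1 h2
    have e1 := fixer_eq_of_mem (Ω := Ω) hm hF (hinv e he).1 (hinv e he).2 hv2 hv1 h1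
    have e2 := fixer_eq_of_mem (Ω := Ω) hm hF (hinv _ heb).1 (hinv _ heb).2 hv2 hv1 h2
    have hb' : tSz hF 0 b ∈ fixer Ω v := by
      have h3 : (tSz hF 0 e)⁻¹ * tSz hF 0 (e + b) ∈ fixer Ω v :=
        mul_mem (inv_mem (e1 ▸ self_mem_fixer _)) (e2 ▸ self_mem_fixer _)
      rwa [hmul, inv_mul_cancel_left] at h3
    have e3 := fixer_eq_of_mem (Ω := Ω) hm hF hv2 hv1 (hinv b hb).1 (hinv b hb).2 hb'
    exact hx (fixer_le hv (show tSz hF 0 e ∈ fixer Ω (tSz hF 0 b) from
      e3 ▸ e1 ▸ self_mem_fixer _))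
  by_cases huU : u ∈ uSub hF
  · obtain ⟨p, q, rfl⟩ := huU
    rcases eq_or_ne p 0 with rfl | hp
    · exact hfin _ (hinv q (fun h => hne1 (by rw [h, tSz_zero]))).1 hne1 hu1 hu2
    · have hsq : tSz hF p q * tSz hF p q = tSz hF 0 (th m p * p) := by
        rw [tSz_mul, CharTwo.add_self_eq_zero, CharTwo.add_self_eq_zero, zero_add]
      have hne0 : th m p * p ≠ 0 := mul_ne_zero (th_ne_zero hp) hp
      exact hfin _ (hinv _ hne0).1 (hinv _ hne0).2 (hsq ▸ mul_mem hu1 hu1) (hsq ▸ mul_mem hu2 hu2)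
  · have hZ := zSub_le_fixer hm hF hu1 hB huU
    obtain ⟨k, hk⟩ : ∃ k : Fˣ, th m (k : F) * (k : F) * e = b := by
      obtain ⟨k, hk⟩ := (thSucc_bijective hF).2 (b / e)
      simp only at hk
      have hk0 : k ≠ 0 := fun h => by
        rw [h, mul_zero, eq_comm, div_eq_zero_iff] at hk
        exact hk.elim hb he
      exact ⟨Units.mk0 k hk0, by rw [Units.val_mk0, hk, div_mul_cancel₀ _ he]⟩
    have hcj : fixer Ω (tSz hF 0 b) = (fixer Ω (tSz hF 0 e)).map
        (MulAut.conj (dSz hF k)).toMonoidHom := by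
      rw [← fixer_conj, zSub_conj_dSz, hk]
    refine hx (fixer_le hv ?_)
    rw [hcj, map_conj_iff]
    have : (dSz hF k)⁻¹ * tSz hF 0 e * dSz hF k ∈ zSub hF := by
      refine ⟨th m ((k⁻¹ : Fˣ) : F) * ((k⁻¹ : Fˣ) : F) * e, ?_⟩
      rw [dSz_inv, ← zSub_conj_dSz hF k⁻¹, dSz_inv, inv_inv]
    exact hZ this

include hm hF in
/-- Case 2: the stabiliser contains a torus element and lies in the Borel subgroup. -/
theorem not_binary_of_torus [Finite Ω] {c : Ω} (hne : MulAction.stabilizer (Sz F m) c ≠ ⊤)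
    (hB : ∀ g : Sz F m, g • c = c → g • ∞' = ∞') (hv : tSz hF 0 1 • c = c) {k : Fˣ} (hk : k ≠ 1)
    (hd : dSz hF k • c = c) : ¬ Binary (Sz F m) Ω := by
  classical
  haveI := charTwo hF
  have hinv : ∀ l : Fˣ, (wSz hF * dSz hF l) ^ 2 = 1 ∧ wSz hF * dSz hF l ≠ 1 := by
    intro l
    refine ⟨?_, fun h => ?_⟩
    · rw [sq]
      calc wSz hF * dSz hF l * (wSz hF * dSz hF l)
          = wSz hF * dSz hF l * (dSz hF l⁻¹ * wSz hF) := by rw [← wSz_conj_dSz hF l]
        _ = 1 := by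
          rw [mul_assoc, ← mul_assoc (dSz hF l), dSz_mul, mul_inv_cancel, dSz_one, one_mul,
            wSz_mul_self]
    · have := congrArg (fun g : Sz F m => g • ∞') h
      simp only [mul_smul, dSz_smul_infinity, wSz_smul_infinity, one_smul] at this
      exact pointZero_ne_infinity this
  choose s hs using fun l => decompose_conj_zSub hm hF (hinv l).1 (hinv l).2
  have hfix : ∀ l, (wSz hF * dSz hF l) • ((s l)⁻¹ • ∞') = (s l)⁻¹ • ∞' := fun l => by
    rw [← mul_smul,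
      show wSz hF * dSz hF l * (s l)⁻¹ = (s l)⁻¹ * tSz hF 0 1 by rw [← hs l]; group,
      mul_smul, tSz_smul_infinity]
  have hfixΩ : ∀ l, (wSz hF * dSz hF l) • ((s l)⁻¹ • c) = (s l)⁻¹ • c := fun l => by
    rw [← mul_smul,
      show wSz hF * dSz hF l * (s l)⁻¹ = (s l)⁻¹ * tSz hF 0 1 by rw [← hs l]; group,
      mul_smul, hv]
  have hmove : ∀ l : Fˣ, dSz hF l • c = c → (wSz hF * dSz hF l) • c = wSz hF • c := fun l h => by
    rw [mul_smul, h]
  have hk2 : dSz hF (k * k) • c = c := by rw [← dSz_mul, mul_smul, hd, hd]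
  have h1c : dSz hF (1 : Fˣ) • c = c := by rw [dSz_one, one_smul]
  have hwc : wSz hF • c ≠ c := fun h => pointZero_ne_infinity (by rw [← wSz_smul_infinity hF, hB _ h])
  refine not_binary_of_coset (c := c) (c' := wSz hF • c)
    ⟨_, _, hmove 1 h1c, hfixΩ 1⟩ fun u hu => ?_
  by_contra hcon
  push Not at hcon
  have hu' : ∀ l : Fˣ, dSz hF l • c = c → u • ((s l)⁻¹ • ∞') = (s l)⁻¹ • ∞' := by
    intro l hl
    have h1 : u ∈ fixer Ω (wSz hF * dSz hF l) := fun a ha => hcon a _ (hmove l hl) ha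
    have e : wSz hF * dSz hF l = (s l)⁻¹ * tSz hF 0 1 * (s l)⁻¹⁻¹ := by rw [← hs l]; group
    rw [e, fixer_conj, map_conj_iff, inv_inv] at h1
    have h2 := fixer_tSz_le_borel hm hF hne one_ne_zero ⟨c, hv⟩ _ h1
    rw [mul_smul, mul_smul] at h2
    rwa [← eq_inv_smul_iff] at h2
  have hdist : ∀ l l' : Fˣ, l ≠ l' → (s l)⁻¹ • ∞' ≠ (s l')⁻¹ • ∞' := by
    intro l l' hll h
    have e : dSz hF (l⁻¹ * l') = (wSz hF * dSz hF l) * (wSz hF * dSz hF l') := by
      rw [← dSz_mul]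
      calc dSz hF l⁻¹ * dSz hF l'
          = dSz hF l⁻¹ * wSz hF * (wSz hF * dSz hF l') := by
            rw [mul_assoc, ← mul_assoc (wSz hF), wSz_mul_self, one_mul]
        _ = _ := by rw [← wSz_conj_dSz]
    have hfx : dSz hF (l⁻¹ * l') • ((s l)⁻¹ • ∞') = (s l)⁻¹ • ∞' := by
      rw [e, mul_smul, h, hfix l', ← h, hfix l]
    rcases mem_ovoid_iff.mp (smul_mem_ovoid (s l)⁻¹ (infinity_mem (m := m))) with h' | ⟨x, y, h'⟩
    · have := hfix l
      rw [h', mul_smul, dSz_smul_infinity, wSz_smul_infinity] at this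
      exact pointZero_ne_infinity this
    · rw [h'] at hfx
      by_cases hxy : x = 0 ∧ y = 0
      · obtain ⟨rfl, rfl⟩ := hxy
        have := hfix l
        rw [h', pt_zero_zero, mul_smul, dSz_smul_zero, wSz_smul_zero] at this
        exact pointZero_ne_infinity this.symm
      · exact hll (inv_mul_eq_one.mp (eq_one_of_dSz_fix hF hxy hfx))
  have hkk : k * k ≠ 1 := fun h => hk (Units.ext (by
    rw [Units.val_one]
    have h' : (k : F) * k = 1 := by simpa using congrArg Units.val h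
    have : ((k : F) + 1) * ((k : F) + 1) = 0 := by grind
    rcases mul_eq_zero.mp this with h2 | h2 <;> grind))
  have := eq_one_of_fix_three hm hF (smul_mem_ovoid _ infinity_mem) (smul_mem_ovoid _ infinity_mem)
    (smul_mem_ovoid _ infinity_mem) (hdist 1 k (Ne.symm hk)) (hdist 1 (k * k) (Ne.symm hkk))
    (hdist k (k * k) (fun h => hk (mul_eq_left.mp h.symm))) (hu' 1 h1c) (hu' k hd) (hu' _ hk2)
  exact hwc (by rw [← hu, this, one_smul])

include hF in
/-- The identity inside `Sz(2)`. -/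
lemma sz_two_identity :
    (wSz hF * tSz hF 1 0) * (tSz hF 1 0 * (wSz hF * tSz hF 0 1 * wSz hF)) * (tSz hF 1 1 * wSz hF) =
      tSz hF 1 1 := by
  haveI := charTwo hF
  apply Subtype.ext
  apply Subtype.ext
  show suzukiForm F * tMat m 1 0 * (tMat m 1 0 * (suzukiForm F * tMat m 0 1 * suzukiForm F)) *
    (tMat m 1 1 * suzukiForm F) = tMat m 1 1
  ext i j
  fin_cases i <;> fin_cases j <;>
    simp [tMat, suzukiForm, Matrix.mul_apply, Fin.sum_univ_four, fz, th_one, th_zero] <;> grind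

include hm hF in
/-- Case 3: the stabiliser is unipotent, contains the root centre and more. -/
theorem not_binary_of_unipotent [Finite Ω] {c : Ω} (hU : ∀ g : Sz F m, g • c = c → g ∈ uSub hF)
    (hZ : ∀ e, tSz hF 0 e • c = c) {a b : F} (ha : a ≠ 0) (hf : tSz hF a b • c = c) :
    ¬ Binary (Sz F m) Ω := by
  classical
  haveI := charTwo hF
  -- every element of order four of the root group fixes a translate of `c` by the torus
  have hex : ∀ a' b' : F, a' ≠ 0 → ∃ k : Fˣ, tSz hF a' b' • (dSz hF k • c) = dSz hF k • c := by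
    intro a' b' ha'
    refine ⟨Units.mk0 (a' / a) (div_ne_zero ha' ha), ?_⟩
    have hfz : ∀ e : F, tSz hF a e • c = c := fun e => by
      have : tSz hF a e = tSz hF a b * tSz hF 0 (b + e) := by
        rw [tSz_mul]; congr 1 <;> simp; grind
      rw [this, mul_smul, hZ, hf]
    have hk0 : th m (a' / a) * (a' / a) ≠ 0 :=
      mul_ne_zero (th_ne_zero (div_ne_zero ha' ha)) (div_ne_zero ha' ha)
    have e : tSz hF a' b' * dSz hF (Units.mk0 (a' / a) (div_ne_zero ha' ha)) =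
        dSz hF (Units.mk0 (a' / a) (div_ne_zero ha' ha)) *
          tSz hF a (b' / (th m (a' / a) * (a' / a))) := by
      rw [dSz_conj_tSz, Units.val_mk0, mul_div_cancel₀ _ hk0, div_mul_cancel₀ _ ha]
    rw [← mul_smul, e, mul_smul, hfz]
  obtain ⟨z, hz⟩ : ∃ z, z = wSz hF * tSz hF 0 1 * wSz hF := ⟨_, rfl⟩
  obtain ⟨y, hy⟩ : ∃ y, y = tSz hF (1 : F) 0 := ⟨_, rfl⟩
  obtain ⟨x, hx⟩ : ∃ x, x = y * z := ⟨_, rfl⟩
  obtain ⟨s, hs⟩ : ∃ s, s = tSz hF (1 : F) 1 * wSz hF := ⟨_, rfl⟩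
  have hsi : s⁻¹ = wSz hF * tSz hF 1 0 := by
    rw [hs, mul_inv_rev, wSz_inv, tSz_inv]; simp [CharTwo.add_self_eq_zero]
  have hkey : s⁻¹ * x * s = tSz hF 1 1 := by
    rw [hsi, hx, hy, hz, hs]; exact sz_two_identity hF
  obtain ⟨k1, hk1⟩ := hex 1 0 one_ne_zero
  obtain ⟨k2, hk2⟩ := hex 1 1 one_ne_zero
  set P : Ω := s • (dSz hF k2 • c) with hPdef
  set Q : Ω := dSz hF k1 • c with hQdef
  set R : Ω := wSz hF • c with hRdef
  have hxP : x • P = P := by
    rw [hPdef, ← mul_smul x, show x * s = s * tSz hF 1 1 by rw [← hkey]; group, mul_smul, hk2]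
  have hyQ : y • Q = Q := by rw [hy]; exact hk1
  have hzR : z • R = R := by
    rw [hRdef, hz, ← mul_smul, mul_assoc, wSz_mul_self, mul_one, mul_smul, hZ]
  have hUd : ∀ (k : Fˣ) (g : Sz F m), g • (dSz hF k • c) = dSz hF k • c → g ∈ uSub hF := by
    intro k g h
    have h1 : ((dSz hF k)⁻¹ * g * dSz hF k) • c = c := by
      rw [mul_smul, mul_smul, h, inv_smul_smul]
    obtain ⟨p, q, hpq⟩ := hU _ h1
    refine ⟨(k : F) * p, th m (k : F) * (k : F) * q, ?_⟩
    rw [← CharTable.dSz_conj hF, ← hpq]; group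
  intro hB
  obtain ⟨g, hg⟩ := hB 3 ![P, Q, R] ![P, Q, x • R] (by norm_num) (fun i j hij => by
    fin_cases i <;> fin_cases j <;> first
      | exact absurd rfl hij
      | exact ⟨1, one_smul _ _, one_smul _ _⟩
      | exact ⟨x, hxP, rfl⟩
      | exact ⟨x, rfl, hxP⟩
      | exact ⟨y, hyQ, by show y • R = x • R; rw [hx, mul_smul, hzR]⟩
      | exact ⟨y, by show y • R = x • R; rw [hx, mul_smul, hzR], hyQ⟩)
  have g0 : g • P = P := hg 0
  have g1 : g • Q = Q := hg 1
  have g2 : g • R = x • R := hg 2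
  have hgU := hUd k1 g g1
  have hgP : g • (s • ∞') = s • ∞' := by
    have h1 : (s⁻¹ * g * s) • (dSz hF k2 • c) = dSz hF k2 • c := by
      rw [mul_smul, mul_smul, g0, inv_smul_smul]
    obtain ⟨p, q, hpq⟩ := hUd k2 _ h1
    rw [← mul_smul, show g * s = s * (s⁻¹ * g * s) by group, hpq, mul_smul, tSz_smul_infinity]
  have hs' : s • ∞' = pt m 1 1 := by rw [hs, mul_smul, wSz_smul_infinity, tSz_smul_zero]
  have hg1 : g = 1 := by
    obtain ⟨p, q, rfl⟩ := hgU
    by_contra hne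
    rw [hs'] at hgP
    exact pt_ne_infinity 1 1 (uSub_fix_eq hF (fun h => hne ((tSz_eq_one_iff hF).mpr h))
      (pt_mem 1 1) hgP)
  rw [hg1, one_smul] at g2
  have hxw : (wSz hF * x * wSz hF) • c = c := by
    rw [mul_smul, mul_smul, ← g2, ← mul_smul, wSz_mul_self, one_smul]
  obtain ⟨p, q, hpq⟩ := hU _ hxw
  have hzero : x • suzukiPointZero F = suzukiPointZero F := by
    have h1 : (wSz hF * x * wSz hF) • ∞' = ∞' := by rw [hpq]; exact tSz_smul_infinity hF p q
    rw [mul_smul, mul_smul, wSz_smul_infinity] at h1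
    exact smul_left_cancel (wSz hF) (h1.trans (wSz_smul_zero hF).symm)
  rw [hx, mul_smul, hz, mul_smul, mul_smul, wSz_smul_zero, tSz_smul_infinity, wSz_smul_infinity,
    hy, tSz_smul_zero, ← pt_zero_zero (m := m)] at hzero
  exact one_ne_zero (pt_inj hzero).1

include hm hF in
/-- The action is binary when the stabiliser is the centre of a root group. -/
theorem binary_of_zSub {c : Ω} (hH : MulAction.stabilizer (Sz F m) c = zSub hF) :
    Binary (Sz F m) Ω := by
  classical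
  haveI := charTwo hF
  have hst : ∀ (s g : Sz F m), g • (s • c) = s • c ↔ s⁻¹ * g * s ∈ zSub hF := by
    intro s g
    rw [← hH, MulAction.mem_stabilizer_iff, mul_smul, mul_smul, inv_smul_eq_iff]
  have hinfz : ∀ (s g : Sz F m), g • (s • c) = s • c → g • (s • ∞') = s • ∞' := by
    intro s g h
    obtain ⟨e, he⟩ := (hst s g).mp h
    rw [← mul_smul, show g * s = s * (s⁻¹ * g * s) by group, he, mul_smul, tSz_smul_infinity]
  have hcomm : ∀ (s g g' : Sz F m), g • (s • c) = s • c → g' • (s • c) = s • c → g * g' = g' * g := by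
    intro s g g' h h'
    obtain ⟨e, he⟩ := (hst s g).mp h
    obtain ⟨e', he'⟩ := (hst s g').mp h'
    calc g * g' = s * ((s⁻¹ * g * s) * (s⁻¹ * g' * s)) * s⁻¹ := by group
      _ = s * ((s⁻¹ * g' * s) * (s⁻¹ * g * s)) * s⁻¹ := by
        rw [he, he', tSz_mul, tSz_mul]; simp [add_comm]
      _ = g' * g := by group
  have hsq : ∀ (s g : Sz F m), g • (s • c) = s • c → g * g = 1 := by
    intro s g h
    obtain ⟨e, he⟩ := (hst s g).mp h
    calc g * g = s * ((s⁻¹ * g * s) * (s⁻¹ * g * s)) * s⁻¹ := by group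
      _ = 1 := by rw [he, tSz_mul]; simp [CharTwo.add_self_eq_zero, tSz_zero]
  -- all the conjugates at one point coincide
  have hsame : ∀ (s s' g : Sz F m), s • ∞' = s' • ∞' → g • (s • c) = s • c →
      g • (s' • c) = s' • c := by
    intro s s' g hp h
    obtain ⟨e, he⟩ := (hst s g).mp h
    obtain ⟨μ, hμ⟩ := zSub_conj_stab hm hF (s := s'⁻¹ * s)
      (by rw [mul_smul, hp, inv_smul_smul])
    rw [hst]
    refine ⟨μ * e, ?_⟩
    rw [← hμ e, ← he]; group
  have hkey : ∀ (s1 s2 : Sz F m) (g g' : Sz F m), s1 • ∞' ≠ s2 • ∞' → g • (s1 • c) = s1 • c →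
      g' • (s2 • c) = s2 • c → g * g' = g' * g → g' ≠ 1 → g = 1 := by
    intro s1 s2 g g' hne h h' hc hg'
    obtain ⟨e, he⟩ := (hst s1 g).mp h
    by_contra hg
    have he0 : e ≠ 0 := fun h0 => hg (by
      rw [h0, tSz_zero] at he
      calc g = s1 * (s1⁻¹ * g * s1) * s1⁻¹ := by group
        _ = 1 := by rw [he, mul_one, mul_inv_cancel])
    have hmem : s1⁻¹ * g' * s1 ∈ Subgroup.centralizer {tSz hF 0 e} := by
      rw [Subgroup.mem_centralizer_singleton_iff, ← he]
      calc s1⁻¹ * g' * s1 * (s1⁻¹ * g * s1) = s1⁻¹ * (g' * g) * s1 := by group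
        _ = s1⁻¹ * (g * g') * s1 := by rw [hc]
        _ = _ := by group
    obtain ⟨p, q, hpq⟩ := centralizer_tSz_le hm hF (a := 0) (b := e) (fun hh => he0 hh.2) hmem
    have hpq0 : ¬ (p = 0 ∧ q = 0) := fun hh => hg' (by
      rw [hh.1, hh.2, tSz_zero] at hpq
      calc g' = s1 * (s1⁻¹ * g' * s1) * s1⁻¹ := by group
        _ = 1 := by rw [hpq, mul_one, mul_inv_cancel])
    have hfx := hinfz s2 g' h'
    have := uSub_fix_eq hF hpq0 (p := (s1⁻¹ * s2) • ∞') (smul_mem_ovoid _ infinity_mem) (by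
      rw [← hpq, ← mul_smul,
        show s1⁻¹ * g' * s1 * (s1⁻¹ * s2) = s1⁻¹ * (g' * s2) by group, mul_smul, mul_smul g',
        hfx, ← mul_smul])
    rw [mul_smul, inv_smul_eq_iff] at this
    exact hne this.symm
  intro n I J hn hp
  choose t ht using fun i => MulAction.exists_smul_eq (Sz F m) c (I i)
  obtain ⟨i0, hi0⟩ : ∃ i : Fin n, i = ⟨0, by omega⟩ := ⟨_, rfl⟩
  obtain ⟨g0, hg0, -⟩ := hp i0 ⟨1, by omega⟩ (by rw [hi0]; simp [Fin.ext_iff])
  -- normalise to a tuple fixing the first entry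
  have hp' : ∀ i j : Fin n, i ≠ j → ∃ g : Sz F m, g • I i = g0⁻¹ • J i ∧ g • I j = g0⁻¹ • J j :=
    fun i j hij => by
      obtain ⟨g, h1, h2⟩ := hp i j hij
      exact ⟨g0⁻¹ * g, by rw [mul_smul, h1], by rw [mul_smul, h2]⟩
  have h00 : g0⁻¹ • J i0 = I i0 := by rw [← hg0, inv_smul_smul]
  suffices ∃ g : Sz F m, ∀ i, g • I i = g0⁻¹ • J i by
    obtain ⟨g, hg⟩ := this
    exact ⟨g0 * g, fun i => by rw [mul_smul, hg, smul_inv_smul]⟩
  generalize hK : (fun i => g0⁻¹ • J i) = K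
  have hK' : ∀ i, g0⁻¹ • J i = K i := fun i => congrFun hK i
  simp only [hK'] at hp' h00 ⊢
  by_cases hall : ∀ i, t i • ∞' = t i0 • ∞'
  · refine ⟨1, fun i => ?_⟩
    rw [one_smul]
    rcases eq_or_ne i i0 with rfl | hi
    · exact h00.symm
    · obtain ⟨g, h1, h2⟩ := hp' i0 i (Ne.symm hi)
      rw [← h2, ← ht i]
      rw [h00, ← ht i0] at h1
      exact (hsame (t i0) (t i) g (hall i).symm h1).symm
  push Not at hall
  obtain ⟨i1, hi1⟩ := hall
  have hi01 : i0 ≠ i1 := fun h => hi1 (by rw [h])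
  obtain ⟨h, hh0, hh1⟩ := hp' i0 i1 hi01
  refine ⟨h, fun k => ?_⟩
  rcases eq_or_ne k i0 with rfl | hk0
  · exact hh0
  rcases eq_or_ne k i1 with rfl | hk1
  · exact hh1
  obtain ⟨a, ha0, hak⟩ := hp' i0 k hk0.symm
  obtain ⟨b, hb1, hbk⟩ := hp' i1 k hk1.symm
  -- `h⁻¹ a` and `h⁻¹ b` fix the two base points
  have hA : (h⁻¹ * a) • (t i0 • c) = t i0 • c := by
    rw [ht, mul_smul, inv_smul_eq_iff, hh0, ← ha0]
  have hBb : (h⁻¹ * b) • (t i1 • c) = t i1 • c := by
    rw [ht, mul_smul, inv_smul_eq_iff, hh1, ← hb1]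
  obtain ⟨α, hα⟩ : ∃ α, α = h⁻¹ * a := ⟨_, rfl⟩
  obtain ⟨β, hβ⟩ : ∃ β, β = h⁻¹ * b := ⟨_, rfl⟩
  rw [← hα] at hA
  rw [← hβ] at hBb
  have hfk : α • I k = I k → h • I k = K k := fun e => by
    rw [hα, mul_smul, inv_smul_eq_iff] at e
    rw [← e, hak]
  apply hfk
  have hab : (β⁻¹ * α) • (t k • c) = t k • c := by
    rw [ht, hα, hβ, mul_inv_rev, inv_inv, mul_assoc, mul_inv_cancel_left, mul_smul, hak,
      inv_smul_eq_iff, hbk]
  rw [← ht k]
  by_cases hk0' : t i0 • ∞' = t k • ∞'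
  · exact hsame _ _ _ hk0' hA
  by_cases hk1' : t i1 • ∞' = t k • ∞'
  · have hb' := hsame _ _ _ hk1' hBb
    calc α • t k • c = β • ((β⁻¹ * α) • (t k • c)) := by rw [smul_smul β, mul_inv_cancel_left]
      _ = t k • c := by rw [hab, hb']
  rcases eq_or_ne α 1 with h1 | hα1
  · rw [h1, one_smul]
  -- two involutions with an involution as product commute
  have hβi : β⁻¹ = β := inv_eq_of_mul_eq_one_right (hsq _ _ hBb)
  have hαi : α⁻¹ = α := inv_eq_of_mul_eq_one_right (hsq _ _ hA)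
  have h4 := hsq _ _ hab
  rw [hβi] at h4
  have hcom : α * β = β * α := by
    have h5 : β * α = (β * α)⁻¹ := (inv_eq_of_mul_eq_one_right h4).symm
    rw [h5, mul_inv_rev, hαi, hβi]
  exfalso
  rcases eq_or_ne β 1 with h1 | hβ1
  · rw [h1, inv_one, one_mul] at hab
    refine hα1 (hkey (t i0) (t k) α α hk0' hA hab rfl hα1)
  · exact hα1 (hkey (t i0) (t i1) α β (Ne.symm hi1) hA hBb hcom hβ1)

end Cfsg.Agent.Suzuki.BinaryAct
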