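import Cfsg.Agent.Lib.Suzuki.CharBorel

/-!
# The non-linear irreducible characters of the Borel subgroup of `Sz(q)`

`exists_lambda` (degree `q - 1`) and `exists_theta` (degree `k (q - 1)`, purely imaginary at
elements of order four).
-/

set_option autoImplicit false
set_option linter.style.haveILetI false
set_option linter.unusedSectionVars false

namespace Cfsg.Agent.Suzuki.CharTable

open Cfsg Cfsg.Agent.Suzuki
open scoped ComplexConjugate

variable {F : Type*} [Field F] {m : ℕ} [Fintype F]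
variable (hm : 1 ≤ m) (hF : Fintype.card F = 2 ^ (2 * m + 1))

lemma isClassFunction_mul_conj {G : Type*} [Group G] {φ ψ : G → ℂ} (hφ : IsClassFunction G φ)
    (hψ : IsClassFunction G ψ) : IsClassFunction G fun x => φ x * conj (ψ x) := fun g h => by
  show φ (h * g * h⁻¹) * conj (ψ (h * g * h⁻¹)) = _
  rw [hφ g h, hψ g h]

include hm hF in
/-- The inner product of class functions, one of them vanishing on the torus. -/
theorem inner_bor [Fintype (bor F m)] {φ ψ : bor F m → ℂ} (hφ : IsClassFunction (bor F m) φ)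
    (hψ : IsClassFunction (bor F m) ψ)
    (h0 : ∀ k : Fˣ, k ≠ 1 → φ (bd hF k) * conj (ψ (bd hF k)) = 0) :
    qC m ^ 2 * (qC m - 1) * classInner φ ψ =
      φ 1 * conj (ψ 1) + (qC m - 1) * (φ (bt hF 0 1) * conj (ψ (bt hF 0 1))) +
      (qC m - 1) * kC m ^ 2 * (φ (bt hF 1 0) * conj (ψ (bt hF 1 0)) +
        φ (bt hF 1 1) * conj (ψ (bt hF 1 1))) := by
  classical
  rw [classInner, ← card_bor hm hF, mul_inv_cancel_left₀ (Nat.cast_ne_zero.mpr Nat.card_pos.ne'),
    sum_bor hm hF (isClassFunction_mul_conj hφ hψ),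
    Finset.sum_eq_zero (fun k hk => h0 k (Finset.ne_of_mem_erase hk)), mul_zero, add_zero]

include hm hF in
/-- The character of degree `q - 1`. -/
theorem exists_lambda [Fintype (bor F m)] :
    ∃ Λ : IrrCharacter (bor F m), (Λ : bor F m → ℂ) 1 = qC m - 1 ∧
      (Λ : bor F m → ℂ) (bt hF 0 1) = qC m - 1 ∧ (Λ : bor F m → ℂ) (bt hF 1 0) = -1 ∧
      (Λ : bor F m → ℂ) (bt hF 1 1) = -1 ∧
      ∀ k : Fˣ, k ≠ 1 → (Λ : bor F m → ℂ) (bd hF k) = 0 := by
  classical
  haveI := charTwo hF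
  obtain ⟨U, hU⟩ : ∃ U : Subgroup (bor F m), U = (borChi hm hF).ker := ⟨_, rfl⟩
  haveI : Fintype U := Fintype.ofFinite U
  have hbE : ∀ x ∈ U, x = bt hF ((bEquiv hm hF).symm x).1.1 ((bEquiv hm hF).symm x).1.2 := by
    intro x hx
    obtain ⟨⟨⟨a, b⟩, k⟩, rfl⟩ := (bEquiv hm hF).surjective x
    rw [hU, MonoidHom.mem_ker] at hx
    change ((bEquiv hm hF).symm _).2 = 1 at hx
    rw [Equiv.symm_apply_apply] at hx ⊢
    simp only at hx
    rw [bEquiv_apply, hx, bd_one, mul_one]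
  let aU : U →* Multiplicative F :=
    MonoidHom.mk' (fun x => Multiplicative.ofAdd ((bEquiv hm hF).symm x.1).1.1) fun x y => by
      obtain ⟨⟨a, b⟩, hx⟩ : ∃ p : F × F, x.1 = bt hF p.1 p.2 := ⟨_, hbE _ x.2⟩
      obtain ⟨⟨c, d⟩, hy⟩ : ∃ p : F × F, y.1 = bt hF p.1 p.2 := ⟨_, hbE _ y.2⟩
      have e : ∀ u v : F, bt hF u v = bEquiv hm hF ((u, v), 1) := fun u v => by
        rw [bEquiv_apply, bd_one, mul_one]
      have hxy : (x * y).1 = bt hF (a + c) (b + d + th m a * c) := by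
        rw [Subgroup.coe_mul, hx, hy]
        exact Subtype.ext (tSz_mul hF a b c d)
      simp only [hxy, hx, hy, e, Equiv.symm_apply_apply, ← ofAdd_add]
  obtain ⟨ψ, hψ⟩ := AddChar.exists_apply_ne_zero.mpr (one_ne_zero (α := F))
  let l : U →* ℂ := ψ.toMonoidHom.comp aU
  obtain ⟨Λ, hΛ⟩ : ∃ Λ, Λ = indFun U (l : U → ℂ) := ⟨_, rfl⟩
  have hchar : IsCharacter (bor F m) Λ :=
    hΛ ▸ Char.IsCharacter.indFun (H := U) (Char.isCharacter_of_hom l)
  have hcardU : (Nat.card U : ℂ) = qC m ^ 2 := by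
    have h := Subgroup.card_mul_index U
    have hrange : Nat.card (borChi hm hF).range = Fintype.card Fˣ := by
      rw [MonoidHom.range_eq_top.mpr (borChi_surjective hm hF), Subgroup.card_top,
        Nat.card_eq_fintype_card]
    rw [hU, Subgroup.index_ker, hrange, Fintype.card_units, ← hU] at h
    have h' : (Nat.card U : ℂ) * (qC m - 1) = qC m ^ 2 * (qC m - 1) := by
      rw [← card_bor hm hF, ← h, Nat.cast_mul, Nat.cast_sub Fintype.card_pos, card_eq_qC hF,
        Nat.cast_one]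
    exact mul_right_cancel₀ (qC_sub_one_ne_zero hm) h'
  have hne : ψ ≠ 0 := fun h => hψ (by rw [h, AddChar.zero_apply])
  have hval : ∀ a b : F, Λ (bt hF a b) = if a = 0 then qC m - 1 else -1 := by
    intro a b
    have hterm : ∀ (p : F × F) (k : Fˣ),
        extendByZero U (l : U → ℂ) ((bEquiv hm hF (p, k))⁻¹ * bt hF a b * bEquiv hm hF (p, k)) =
          ψ (((k⁻¹ : Fˣ) : F) * a) := by
      rintro ⟨c, e⟩ k
      obtain ⟨b', hb'⟩ : ∃ b', (bEquiv hm hF ((c, e), k))⁻¹ * bt hF a b * bEquiv hm hF ((c, e), k) =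
          bt hF (((k⁻¹ : Fˣ) : F) * a) b' := by
        refine ⟨th m ((k⁻¹ : Fˣ) : F) * ((k⁻¹ : Fˣ) : F) *
          ((e + th m c * c) + b + th m c * a + e + th m (c + a) * c), Subtype.ext ?_⟩
        show (tSz hF c e * dSz hF k)⁻¹ * tSz hF a b * (tSz hF c e * dSz hF k) = _
        rw [mul_inv_rev, dSz_inv, ← inv_inv (dSz hF k), dSz_inv, tSz_inv]
        calc dSz hF k⁻¹ * tSz hF c (e + th m c * c) * tSz hF a b *
              (tSz hF c e * (dSz hF k⁻¹)⁻¹)
            = dSz hF k⁻¹ * (tSz hF c (e + th m c * c) * tSz hF a b * tSz hF c e) *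
                (dSz hF k⁻¹)⁻¹ := by group
          _ = tSz hF (((k⁻¹ : Fˣ) : F) * a)
              (th m ((k⁻¹ : Fˣ) : F) * ((k⁻¹ : Fˣ) : F) *
                ((e + th m c * c) + b + th m c * a + e + th m (c + a) * c)) := by
            rw [tSz_mul, tSz_mul, show c + a + c = a by grind, dSz_conj]
      rw [hb']
      have hmem : bt hF (((k⁻¹ : Fˣ) : F) * a) b' ∈ U := by
        rw [hU, MonoidHom.mem_ker, borChi_bt]
      rw [Char.extendByZero_mem U _ hmem]
      have e' : bt hF (((k⁻¹ : Fˣ) : F) * a) b' =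
          bEquiv hm hF ((((k⁻¹ : Fˣ) : F) * a, b'), 1) := by rw [bEquiv_apply, bd_one, mul_one]
      show ψ ((bEquiv hm hF).symm (bt hF (((k⁻¹ : Fˣ) : F) * a) b')).1.1 = _
      rw [e', Equiv.symm_apply_apply]
    rw [hΛ, indFun, ← (bEquiv hm hF).sum_comp, Fintype.sum_prod_type]
    simp only [hterm, Finset.sum_const, Finset.card_univ, Fintype.card_prod, hcardU, nsmul_eq_mul,
      Nat.cast_mul, card_eq_qC hF]
    rw [← sq, inv_mul_cancel_left₀ (pow_ne_zero 2 (qC_ne_zero m))]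
    split_ifs with ha
    · simp [ha, Fintype.card_units, Nat.cast_sub (Fintype.card_pos (α := F)), card_eq_qC hF]
    · have hs := AddChar.sum_eq_zero_iff_ne_zero.mpr hne
      rw [← Finset.add_sum_erase _ _ (Finset.mem_univ (0 : F)), AddChar.map_zero_eq_one] at hs
      rw [eq_neg_iff_add_eq_zero, add_comm]
      refine Eq.trans ?_ hs
      congr 1
      refine Finset.sum_bij (fun k _ => ((k⁻¹ : Fˣ) : F) * a)
        (fun k _ => Finset.mem_erase.mpr ⟨mul_ne_zero (Units.ne_zero _) ha, Finset.mem_univ _⟩)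
        (fun k _ k' _ h => inv_injective (Units.ext (mul_right_cancel₀ ha h)))
        (fun x hx => ⟨(Units.mk0 (x / a) (div_ne_zero (Finset.ne_of_mem_erase hx) ha))⁻¹,
          Finset.mem_univ _, by simp [ha]⟩) (fun k _ => rfl)
  have hd : ∀ k : Fˣ, k ≠ 1 → Λ (bd hF k) = 0 := by
    intro k hk
    rw [hΛ, indFun, Finset.sum_eq_zero, mul_zero]
    intro x _
    refine Char.extendByZero_not_mem U _ fun h => hk ?_
    rw [hU, MonoidHom.mem_ker, map_mul, map_mul, map_inv, borChi_bd,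
      mul_comm (borChi hm hF x)⁻¹ k, inv_mul_cancel_right] at h
    exact h
  have h1 : Λ 1 = qC m - 1 := by rw [← bt_zero hF, hval, if_pos rfl]
  have hz : Λ (bt hF 0 1) = qC m - 1 := by rw [hval, if_pos rfl]
  have hf : ∀ b, Λ (bt hF 1 b) = -1 := fun b => by rw [hval, if_neg one_ne_zero]
  refine ⟨⟨Λ, (Char.isIrrCharacter_iff_norm_one hchar).mpr ?_⟩, h1, hz, hf 0, hf 1, hd⟩
  have hi := inner_bor hm hF (Char.IsCharacter.isClassFunction hchar)
    (Char.IsCharacter.isClassFunction hchar) (fun k hk => by rw [hd k hk, zero_mul])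
  rw [h1, hz, hf 0, hf 1] at hi
  have hc : conj (qC m - 1) = qC m - 1 := by rw [qC_eq, map_sub, map_natCast, map_one]
  rw [hc, map_neg, map_one] at hi
  refine mul_left_cancel₀
    (mul_ne_zero (pow_ne_zero 2 (qC_ne_zero m)) (qC_sub_one_ne_zero hm)) (hi.trans ?_)
  rw [qC]; ring

lemma sum_mul_conj_eq_zero {ι : Type*} {s : Finset ι} {f : ι → ℂ}
    (h : ∑ i ∈ s, f i * conj (f i) = 0) : ∀ i ∈ s, f i = 0 := by
  simp only [Complex.mul_conj] at h
  rw [← Complex.ofReal_sum, Complex.ofReal_eq_zero] at h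
  exact fun i hi => Complex.normSq_eq_zero.mp
    ((Finset.sum_eq_zero_iff_of_nonneg fun j _ => Complex.normSq_nonneg _).mp h i hi)

include hm hF in
/-- A pair of conjugate characters of degree `k (q - 1)`. -/
theorem exists_theta [Fintype (bor F m)] :
    ∃ (Θ : IrrCharacter (bor F m)) (s : ℂ), (Θ : bor F m → ℂ) 1 = kC m * (qC m - 1) ∧
      (Θ : bor F m → ℂ) (bt hF 0 1) = -kC m ∧ (Θ : bor F m → ℂ) (bt hF 1 0) = s ∧
      (Θ : bor F m → ℂ) (bt hF 1 1) = -s ∧ s ^ 2 = -kC m ^ 2 ∧ conj s = -s ∧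
      ∀ k : Fˣ, k ≠ 1 → (Θ : bor F m → ℂ) (bd hF k) = 0 := by
  classical
  haveI := Fintype.ofFinite (IrrCharacter (bor F m))
  haveI := Fintype.ofFinite (IrrCharacter Fˣ)
  obtain ⟨Λ, l1, lz, lf, lf', ld⟩ := exists_lambda hm hF
  set L := Finset.univ.image (linB hm hF) with hL
  set T := Finset.univ \ insert Λ L with hT
  have hΛL : Λ ∉ L := by
    intro h
    obtain ⟨θ, -, h'⟩ := Finset.mem_image.mp h
    have := congrArg (fun χ : IrrCharacter (bor F m) => (χ : bor F m → ℂ) (bt hF 1 0)) h'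
    simp only [linB_bt, lf] at this
    norm_num at this
  have hsub : insert Λ L ⊆ Finset.univ := Finset.subset_univ _
  have hLsum : ∀ f : IrrCharacter (bor F m) → ℂ,
      ∑ χ ∈ L, f χ = ∑ θ, f (linB hm hF θ) := fun f =>
    Finset.sum_image fun a _ b _ h => linB_injective hm hF h
  have hsum : ∀ f : IrrCharacter (bor F m) → ℂ,
      ∑ χ, f χ = ∑ χ ∈ T, f χ + (f Λ + ∑ θ, f (linB hm hF θ)) := fun f => by
    rw [← Finset.sum_sdiff hsub, Finset.sum_insert hΛL, hLsum]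
  -- vanishing on the torus
  have hvan : ∀ χ ∈ T, ∀ k : Fˣ, k ≠ 1 → (χ : bor F m → ℂ) (bd hF k) = 0 := by
    intro χ hχ k hk
    have h := Char.column_orth (bd hF k) (bd hF k)
    rw [if_pos (IsConj.refl _), card_centralizer_bd hm hF hk, hsum, ld k hk, zero_mul, zero_add]
      at h
    simp only [linB_bd] at h
    rw [theta_orth hF, if_pos rfl, add_eq_right] at h
    exact sum_mul_conj_eq_zero h χ hχ
  have hinv : ∀ χ : IrrCharacter (bor F m),
      (χ : bor F m → ℂ) (bt hF 1 1) = conj ((χ : bor F m → ℂ) (bt hF 1 0)) := fun χ => by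
    rw [← bt_one_inv, Char.IsCharacter.apply_inv (Char.IsIrrCharacter.isCharacter χ.2)]
  -- the two linear relations
  obtain ⟨θ₀, hθ₀⟩ : ∃ θ₀ : IrrCharacter Fˣ, (θ₀ : Fˣ → ℂ) = 1 :=
    ⟨⟨1, Char.isIrrCharacter_one⟩, rfl⟩
  have hrel : ∀ χ ∈ T, (χ : bor F m → ℂ) 1 + (qC m - 1) * (χ : bor F m → ℂ) (bt hF 0 1) = 0 ∧
      (χ : bor F m → ℂ) (bt hF 1 1) = -(χ : bor F m → ℂ) (bt hF 1 0) := by
    intro χ hχ
    have hv := hvan χ hχ
    simp only [hT, Finset.mem_sdiff, Finset.mem_univ, true_and, Finset.mem_insert, not_or] at hχ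
    have hne : χ ≠ linB hm hF θ₀ := fun h =>
      hχ.2 (h ▸ Finset.mem_image_of_mem _ (Finset.mem_univ _))
    have e1 := inner_bor hm hF (Char.IsIrrCharacter.isClassFunction χ.2)
      (Char.IsIrrCharacter.isClassFunction (linB hm hF θ₀).2) (fun k hk => by rw [hv k hk, zero_mul])
    rw [Char.classInner_irr_of_ne χ.2 (linB hm hF θ₀).2 (fun h => hne (Subtype.ext h)),
      linB_one, linB_bt, linB_bt, linB_bt, map_one] at e1
    have e2 := inner_bor hm hF (Char.IsIrrCharacter.isClassFunction χ.2)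
      (Char.IsIrrCharacter.isClassFunction Λ.2) (fun k hk => by rw [hv k hk, zero_mul])
    rw [Char.classInner_irr_of_ne χ.2 Λ.2 (fun h => hχ.1 (Subtype.ext h)), l1, lz, lf, lf'] at e2
    have hc : conj (qC m - 1) = qC m - 1 := by rw [qC_eq, map_sub, map_natCast, map_one]
    rw [hc, map_neg, map_one] at e2
    have hq := qC_ne_zero m
    have hq1 := qC_sub_one_ne_zero hm
    have hk := pow_ne_zero 2 (kC_ne_zero m)
    have a1 : qC m * ((χ : bor F m → ℂ) 1 + (qC m - 1) * (χ : bor F m → ℂ) (bt hF 0 1)) = 0 := by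
      linear_combination (-1 : ℂ) * e1 - e2
    have a2 := (mul_eq_zero.mp a1).resolve_left hq
    refine ⟨a2, ?_⟩
    have a3 : (qC m - 1) * kC m ^ 2 *
        ((χ : bor F m → ℂ) (bt hF 1 0) + (χ : bor F m → ℂ) (bt hF 1 1)) = 0 := by
      linear_combination (-1 : ℂ) * e1 - a2
    have a4 := (mul_eq_zero.mp a3).resolve_left (mul_ne_zero hq1 hk)
    linear_combination a4
  -- the column of `f`
  have hcol : ∑ χ ∈ T, (χ : bor F m → ℂ) (bt hF 1 0) * conj ((χ : bor F m → ℂ) (bt hF 1 0)) =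
      qC m := by
    have h := Char.column_orth (bt hF 1 0) (bt hF 1 0)
    rw [if_pos (IsConj.refl _), card_centralizer_bf hm hF, hsum, lf] at h
    simp only [linB_bt, map_one, mul_one, map_neg, neg_mul, neg_neg, Finset.sum_const,
      Finset.card_univ, nsmul_eq_mul, card_theta hF] at h
    linear_combination h
  obtain ⟨σ, hσT, hσ0⟩ : ∃ σ ∈ T, (σ : bor F m → ℂ) (bt hF 1 0) ≠ 0 := by
    by_contra! h
    rw [Finset.sum_eq_zero (fun χ hχ => by rw [h χ hχ, zero_mul])] at hcol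
    exact qC_ne_zero m hcol.symm
  obtain ⟨σ', hσ'⟩ : ∃ σ' : IrrCharacter (bor F m), ∀ g, (σ' : bor F m → ℂ) g =
      conj ((σ : bor F m → ℂ) g) :=
    ⟨⟨_, Char.IsIrrCharacter.conj σ.2⟩, fun g => rfl⟩
  have hcs : conj ((σ : bor F m → ℂ) (bt hF 1 0)) = -(σ : bor F m → ℂ) (bt hF 1 0) := by
    rw [← hinv]; exact (hrel σ hσT).2
  have hre : ((σ : bor F m → ℂ) (bt hF 1 0)).re = 0 := by
    have := congrArg Complex.re hcs
    simp at this; linarith
  have hσ'T : σ' ∈ T := by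
    simp only [hT, Finset.mem_sdiff, Finset.mem_univ, true_and, Finset.mem_insert, not_or]
    constructor
    · intro h
      have := congrArg Complex.re ((hσ' (bt hF 1 0)).symm.trans (by rw [h, lf]))
      simp [hre] at this
    · intro h
      obtain ⟨θ, -, h'⟩ := Finset.mem_image.mp h
      have := congrArg Complex.re ((hσ' (bt hF 1 0)).symm.trans (by rw [← h', linB_bt]))
      simp [hre] at this
  have hne : σ' ≠ σ := fun h => by
    have := hσ' (bt hF 1 0)
    rw [h, hcs] at this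
    exact hσ0 (CharZero.eq_neg_self_iff.mp this)
  -- orthogonality inside `T`
  have hnorm : ∀ χ ∈ T, ∀ χ' ∈ T, qC m ^ 2 * (qC m - 1) * (if χ = χ' then 1 else 0) =
      (χ : bor F m → ℂ) 1 * (χ' : bor F m → ℂ) 1 * qC m / (qC m - 1) +
      qC m * (qC m - 1) *
        ((χ : bor F m → ℂ) (bt hF 1 0) * conj ((χ' : bor F m → ℂ) (bt hF 1 0))) := by
    intro χ hχ χ' hχ'
    have h := inner_bor hm hF (Char.IsIrrCharacter.isClassFunction χ.2)
      (Char.IsIrrCharacter.isClassFunction χ'.2) (fun k hk => by rw [hvan χ hχ k hk, zero_mul])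
    have hi : classInner (χ : bor F m → ℂ) (χ' : bor F m → ℂ) = if χ = χ' then 1 else 0 := by
      split_ifs with e
      · rw [e]; exact Char.classInner_irr_self χ'.2
      · exact Char.classInner_irr_of_ne χ.2 χ'.2 fun h => e (Subtype.ext h)
    rw [hi, (hrel χ hχ).2, (hrel χ' hχ').2, map_neg, neg_mul_neg] at h
    have hq1 := qC_sub_one_ne_zero hm
    have z1 : ∀ ρ ∈ T, (ρ : bor F m → ℂ) (bt hF 0 1) = -((ρ : bor F m → ℂ) 1) / (qC m - 1) :=
      fun ρ hρ => by
        rw [eq_div_iff hq1]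
        linear_combination (hrel ρ hρ).1
    rw [h, z1 χ hχ, z1 χ' hχ', map_div₀, map_neg,
      Char.IsCharacter.conj_apply_one (Char.IsIrrCharacter.isCharacter χ'.2),
      show conj (qC m - 1) = qC m - 1 by rw [qC_eq, map_sub, map_natCast, map_one]]
    field_simp
    simp only [qC]
    ring
  have hTeq : ∀ χ ∈ T, χ = σ ∨ χ = σ' := by
    intro χ hχ
    by_contra! hc
    obtain ⟨n1, p1, hn1⟩ := Char.IsIrrCharacter.exists_degree σ.2
    obtain ⟨n2, p2, hn2⟩ := Char.IsIrrCharacter.exists_degree σ'.2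
    obtain ⟨n3, p3, hn3⟩ := Char.IsIrrCharacter.exists_degree χ.2
    have key : ∀ (ρ ρ' : IrrCharacter (bor F m)) (a b : ℕ), ρ ∈ T → ρ' ∈ T → ρ ≠ ρ' →
        (ρ : bor F m → ℂ) 1 = a → (ρ' : bor F m → ℂ) 1 = b →
        (ρ : bor F m → ℂ) (bt hF 1 0) * conj ((ρ' : bor F m → ℂ) (bt hF 1 0)) =
          ((-((a : ℝ) * b) / ((2 ^ (2 * m + 1) : ℕ) - 1 : ℝ) ^ 2 : ℝ) : ℂ) := by
      intro ρ ρ' a b h1 h2 h3 ha hb
      have h := hnorm ρ h1 ρ' h2
      rw [if_neg h3, mul_zero, ha, hb] at h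
      have hq := qC_ne_zero m
      have hq1 := qC_sub_one_ne_zero hm
      push_cast
      have e : ((2 : ℂ) ^ (2 * m + 1)) = qC m := by rw [qC_eq]; push_cast; rfl
      rw [e, eq_div_iff (pow_ne_zero 2 hq1)]
      apply mul_left_cancel₀ hq
      have h' := congrArg (· * (qC m - 1)) h
      simp only [add_mul, div_mul_cancel₀ _ hq1, zero_mul] at h'
      linear_combination -h'
    have k12 := key σ σ' n1 n2 hσT hσ'T hne.symm hn1 hn2
    have k13 := key σ χ n1 n3 hσT hχ (Ne.symm hc.1) hn1 hn3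
    have k23 := key σ' χ n2 n3 hσ'T hχ (Ne.symm hc.2) hn2 hn3
    have hmul : (σ : bor F m → ℂ) (bt hF 1 0) * conj ((σ' : bor F m → ℂ) (bt hF 1 0)) *
        ((σ' : bor F m → ℂ) (bt hF 1 0) * conj ((χ : bor F m → ℂ) (bt hF 1 0))) =
        (Complex.normSq ((σ' : bor F m → ℂ) (bt hF 1 0)) : ℂ) *
          ((σ : bor F m → ℂ) (bt hF 1 0) * conj ((χ : bor F m → ℂ) (bt hF 1 0))) := by
      rw [Complex.normSq_eq_conj_mul_self]; ring
    rw [k12, k23, k13, ← Complex.ofReal_mul, ← Complex.ofReal_mul, Complex.ofReal_inj] at hmul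
    have hq : (1 : ℝ) < (2 ^ (2 * m + 1) : ℕ) := by
      exact_mod_cast Nat.one_lt_two_pow (by omega)
    have hD : 0 < ((2 ^ (2 * m + 1) : ℕ) - 1 : ℝ) ^ 2 := pow_pos (by linarith) 2
    have r1 : (0 : ℝ) < n1 := by exact_mod_cast p1
    have r2 : (0 : ℝ) < n2 := by exact_mod_cast p2
    have r3 : (0 : ℝ) < n3 := by exact_mod_cast p3
    have pos : 0 < -((n1 : ℝ) * n2) / ((2 ^ (2 * m + 1) : ℕ) - 1 : ℝ) ^ 2 *
        (-((n2 : ℝ) * n3) / ((2 ^ (2 * m + 1) : ℕ) - 1 : ℝ) ^ 2) :=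
      mul_pos_of_neg_of_neg (div_neg_of_neg_of_pos (by nlinarith) hD)
        (div_neg_of_neg_of_pos (by nlinarith) hD)
    have neg : Complex.normSq ((σ' : bor F m → ℂ) (bt hF 1 0)) *
        (-((n1 : ℝ) * n3) / ((2 ^ (2 * m + 1) : ℕ) - 1 : ℝ) ^ 2) ≤ 0 :=
      mul_nonpos_of_nonneg_of_nonpos (Complex.normSq_nonneg _)
        (div_nonpos_of_nonpos_of_nonneg (by nlinarith) hD.le)
    linarith
  obtain ⟨s, hs⟩ : ∃ s, s = (σ : bor F m → ℂ) (bt hF 1 0) := ⟨_, rfl⟩
  rw [← hs] at hcs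
  have hs2 : s ^ 2 = -kC m ^ 2 := by
    rw [show T = {σ, σ'} from (Finset.Subset.antisymm (fun χ hχ => by simpa using hTeq χ hχ)
      (by simp [Finset.insert_subset_iff, hσT, hσ'T])), Finset.sum_pair hne.symm, hσ', ← hs,
      Complex.conj_conj, hcs] at hcol
    rw [qC] at hcol
    linear_combination -hcol / 2
  have hdeg : (σ : bor F m → ℂ) 1 = kC m * (qC m - 1) := by
    have h := hnorm σ hσT σ hσT
    rw [if_pos rfl, ← hs, hcs] at h
    have hq := qC_ne_zero m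
    have hq1 := qC_sub_one_ne_zero hm
    have h2 : (σ : bor F m → ℂ) 1 ^ 2 = (kC m * (qC m - 1)) ^ 2 := by
      apply mul_left_cancel₀ hq
      have hh := congrArg (· * (qC m - 1)) h
      simp only [add_mul, div_mul_cancel₀ _ hq1] at hh
      simp only [qC] at hh ⊢
      linear_combination -hh + (2 * kC m ^ 2) * (2 * kC m ^ 2 - 1) ^ 2 * hs2
    obtain ⟨n, hn, hne1⟩ := Char.IsIrrCharacter.exists_degree σ.2
    rw [hne1] at h2 ⊢
    rw [qC_eq, kC, show ((2 : ℂ) ^ m) = ((2 ^ m : ℕ) : ℂ) by push_cast; rfl,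
      show (((2 ^ (2 * m + 1) : ℕ) : ℂ) - 1) = ((2 ^ (2 * m + 1) - 1 : ℕ) : ℂ) by
        rw [Nat.cast_sub Nat.one_le_two_pow, Nat.cast_one], ← Nat.cast_mul] at h2 ⊢
    rw [← Nat.cast_pow, ← Nat.cast_pow, Nat.cast_inj] at h2
    rw [Nat.pow_left_injective two_ne_zero h2]
  refine ⟨σ, s, hdeg, ?_, hs.symm, hs ▸ (hrel σ hσT).2, hs2, hcs, hvan σ hσT⟩
  have h := (hrel σ hσT).1
  rw [hdeg] at h
  exact mul_left_cancel₀ (qC_sub_one_ne_zero hm) (by linear_combination h)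

end Cfsg.Agent.Suzuki.CharTable
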