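import Cfsg.Agent.Lib.Suzuki.CharMain

/-!
# The character degrees of `Sz(q)`

`charDegrees_sz` and `degree_graph`.
-/

set_option autoImplicit false
set_option linter.style.haveILetI false
set_option linter.unusedSectionVars false

namespace Cfsg.Agent.Suzuki.CharTable

open Cfsg Cfsg.Agent.Suzuki

lemma charDegrees_congr {G H : Type*} [Group G] [Group H] (e : G ≃* H) :
    charDegrees G = charDegrees H := by
  ext d
  constructor <;> rintro ⟨χ, rfl⟩
  · exact ⟨⟨fun h => (χ : G → ℂ) (e.symm h), Char.IsIrrCharacter.comp_equiv χ.2 e.symm⟩,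
      by simp [charDegree]⟩
  · exact ⟨⟨fun g => (χ : H → ℂ) (e g), Char.IsIrrCharacter.comp_equiv χ.2 e⟩,
      by simp [charDegree]⟩

lemma charDegree_of_eq {G : Type*} [Group G] {χ : G → ℂ} {n : ℕ} (h : χ 1 = (n : ℂ)) :
    charDegree χ = n := by rw [charDegree, h, Complex.natCast_re, Nat.floor_natCast]

variable {F : Type*} [Field F] {m : ℕ} [Fintype F]
variable (hm : 1 ≤ m) (hF : Fintype.card F = 2 ^ (2 * m + 1))

lemma torusA_C (m : ℕ) : (torusA m : ℂ) = qC m + 1 + 2 * kC m := by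
  rw [qC_eq, kC, torusA]; push_cast; ring

lemma torusB_C (m : ℕ) : (torusB m : ℂ) = qC m + 1 - 2 * kC m := by
  have h := congrArg (fun n : ℕ => (n : ℂ)) (torusA_add_torusB m)
  simp only [Nat.cast_add, Nat.cast_mul, Nat.cast_ofNat, Nat.cast_one] at h
  rw [torusA_C, ← qC_eq] at h
  linear_combination h

include hm in
lemma theta_ne [Fintype (IrrCharacter Fˣ)] (hF : Fintype.card F = 2 ^ (2 * m + 1)) :
    ∃ θ : IrrCharacter Fˣ, θ ≠ theta0 F := by
  by_contra! h
  have h1 : Fintype.card (IrrCharacter Fˣ) = 1 := Fintype.card_eq_one_iff.mpr ⟨_, h⟩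
  have h2 := card_theta hF
  rw [h1, qC_eq, Nat.cast_one] at h2
  have h3 : ((2 ^ (2 * m + 1) : ℕ) : ℂ) = ((2 : ℕ) : ℂ) := by
    push_cast at h2 ⊢; linear_combination -h2
  have h4 : 2 ^ (2 * m + 1) = 2 ^ 1 := by exact_mod_cast h3
  have := Nat.pow_right_injective le_rfl h4
  omega

include hm hF in
/-- The character degrees of `Sz(q)`. -/
theorem charDegrees_sz : charDegrees (Sz F m) =
    {1, (2 ^ (2 * m + 1)) ^ 2, (2 ^ (2 * m + 1)) ^ 2 + 1, (2 ^ (2 * m + 1) - 1) * torusA m,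
      (2 ^ (2 * m + 1) - 1) * torusB m, 2 ^ m * (2 ^ (2 * m + 1) - 1)} := by
  classical
  haveI := Fintype.ofFinite (Sz F m)
  haveI := Fintype.ofFinite (IrrCharacter (Sz F m))
  haveI := Fintype.ofFinite (IrrCharacter Fˣ)
  obtain ⟨s, gA, gB, P, M, W, W', T⟩ := exists_table hm hF
  have hq1 : ((2 ^ (2 * m + 1) - 1 : ℕ) : ℂ) = qC m - 1 := by
    rw [Nat.cast_sub Nat.one_le_two_pow, ← qC_eq, Nat.cast_one]
  have hk : ((2 ^ m : ℕ) : ℂ) = kC m := by rw [kC]; push_cast; rfl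
  have dP : ∀ χ ∈ P, charDegree (χ : Sz F m → ℂ) = (2 ^ (2 * m + 1) - 1) * torusB m := fun χ h =>
    charDegree_of_eq (by rw [(T.valP χ h).1, Nat.cast_mul, hq1, torusB_C])
  have dM : ∀ χ ∈ M, charDegree (χ : Sz F m → ℂ) = (2 ^ (2 * m + 1) - 1) * torusA m := fun χ h =>
    charDegree_of_eq (by rw [(T.valM χ h).1, Nat.cast_mul, hq1, torusA_C])
  have dW : ∀ χ, χ = W ∨ χ = W' →
      charDegree (χ : Sz F m → ℂ) = 2 ^ m * (2 ^ (2 * m + 1) - 1) := fun χ h =>
    charDegree_of_eq (by rw [(T.valW χ h).1, Nat.cast_mul, hq1, hk])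
  ext d
  simp only [Set.mem_insert_iff, Set.mem_singleton_iff]
  constructor
  · rintro ⟨χ, rfl⟩
    by_cases hR : χ ∈ rSet hm hF
    · rcases (T.mem_iff χ).mp hR with h | h | h | h
      · simp [dP χ h]
      · simp [dM χ h]
      · simp [dW χ (Or.inl h)]
      · simp [dW χ (Or.inr h)]
    · rw [mem_rSet, InR, not_and_or, not_and_or] at hR
      simp only [not_not, not_forall] at hR
      rcases hR with h | h | ⟨θ, h⟩
      · exact Or.inl (charDegree_of_eq (by rw [h]; simp))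
      · exact Or.inr (Or.inl (charDegree_of_eq (by rw [h, Stf_one, qC_eq]; push_cast; rfl)))
      · exact Or.inr (Or.inr (Or.inl (charDegree_of_eq (by rw [h, Xf_one, qC_eq]; push_cast; rfl))))
  · rintro (rfl | rfl | rfl | rfl | rfl | rfl)
    · exact ⟨⟨1, Char.isIrrCharacter_one⟩, charDegree_of_eq (by simp)⟩
    · exact ⟨⟨_, Stf_irr hm hF⟩, charDegree_of_eq (by
        show Stf hm hF 1 = _
        rw [Stf_one, qC_eq]; push_cast; rfl)⟩
    · obtain ⟨θ, hθ⟩ := theta_ne hm hF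
      exact ⟨⟨_, Xf_irr hm hF hθ⟩, charDegree_of_eq (by
        show Xf hm hF θ 1 = _
        rw [Xf_one, qC_eq]; push_cast; rfl)⟩
    · obtain ⟨χ, h⟩ : M.Nonempty := Finset.card_pos.mp (by
        have h := T.cardM
        have h5 := five_le_card_torus hm hF T.fB
        rw [T.cB] at h5
        omega)
      exact ⟨χ, dM χ h⟩
    · obtain ⟨χ, h⟩ : P.Nonempty := Finset.card_pos.mp (by
        have h := T.cardP
        have h5 := five_le_card_torus hm hF T.fA
        rw [T.cA] at h5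
        omega)
      exact ⟨χ, dP χ h⟩
    · exact ⟨W, dW W (Or.inl rfl)⟩

include hm hF in
/-- The degree graph of `Sz(q)`. -/
theorem degree_graph {q : ℕ} (hq : q = 2 ^ (2 * m + 1)) :
    degreePrimes (Sz F m) = {r : ℕ | r.Prime ∧ (r = 2 ∨ r ∣ (q - 1) * (q ^ 2 + 1))} ∧
    ∀ r s : ℕ, (degreeGraph (Sz F m)).Adj r s ↔ (r ≠ s ∧ r.Prime ∧ s.Prime ∧
      ((r ∣ (q - 1) * (q ^ 2 + 1) ∧ s ∣ (q - 1) * (q ^ 2 + 1)) ∨
        (r = 2 ∧ s ∣ q - 1) ∨ (s = 2 ∧ r ∣ q - 1))) := by
  have hd := charDegrees_sz hm hF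
  rw [← hq] at hd
  have hab : torusA m * torusB m = q ^ 2 + 1 := hq ▸ torusA_mul_torusB m
  have h2q : 2 ∣ q := hq ▸ two_dvd_q
  have hk2 : 2 ∣ 2 ^ m := dvd_pow_self 2 (by omega)
  have two : ∀ p k : ℕ, p.Prime → p ∣ 2 ^ k → p = 2 := fun p k hp h =>
    (Nat.prime_dvd_prime_iff_eq hp Nat.prime_two).mp (hp.dvd_of_dvd_pow h)
  have mem : ∀ x ∈ ({1, q ^ 2, q ^ 2 + 1, (q - 1) * torusA m, (q - 1) * torusB m,
      2 ^ m * (q - 1)} : Set ℕ), x ∈ charDegrees (Sz F m) := fun x hx => hd ▸ hx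
  constructor
  · ext r
    simp only [degreePrimes, Set.mem_setOf_eq]
    refine and_congr_right fun hr => ⟨?_, ?_⟩
    · rintro ⟨d, hmem, hrd⟩
      rw [hd] at hmem
      simp only [Set.mem_insert_iff, Set.mem_singleton_iff] at hmem
      rcases hmem with rfl | rfl | rfl | rfl | rfl | rfl
      · exact absurd (Nat.dvd_one.mp hrd) hr.ne_one
      · left; rw [hq] at hrd; exact two r _ hr (hr.dvd_of_dvd_pow hrd)
      · exact Or.inr (hrd.trans (dvd_mul_left _ _))
      · exact Or.inr (hrd.trans (hab ▸ mul_dvd_mul_left _ (dvd_mul_right _ _)))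
      · exact Or.inr (hrd.trans (hab ▸ mul_dvd_mul_left _ (dvd_mul_left _ _)))
      · rcases hr.dvd_mul.mp hrd with h | h
        · exact Or.inl (two r _ hr h)
        · exact Or.inr (h.trans (dvd_mul_right _ _))
    · rintro (rfl | h)
      · exact ⟨_, mem (q ^ 2) (by simp), dvd_pow h2q two_ne_zero⟩
      · rcases hr.dvd_mul.mp h with h | h
        · exact ⟨_, mem ((q - 1) * torusA m) (by simp), h.trans (dvd_mul_right _ _)⟩
        · exact ⟨_, mem (q ^ 2 + 1) (by simp), h⟩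
  · intro r s
    show (r ≠ s ∧ r.Prime ∧ s.Prime ∧ ∃ d ∈ charDegrees (Sz F m), r * s ∣ d) ↔ _
    refine and_congr_right fun hne => and_congr_right fun hr => and_congr_right fun hs => ⟨?_, ?_⟩
    · rintro ⟨d, hmem, hdvd⟩
      have hrd := (dvd_mul_right r s).trans hdvd
      have hsd := (dvd_mul_left s r).trans hdvd
      rw [hd] at hmem
      simp only [Set.mem_insert_iff, Set.mem_singleton_iff] at hmem
      rcases hmem with rfl | rfl | rfl | rfl | rfl | rfl
      · exact absurd (Nat.dvd_one.mp hrd) hr.ne_one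
      · rw [hq] at hrd hsd
        exact absurd ((two r _ hr (hr.dvd_of_dvd_pow hrd)).trans
          (two s _ hs (hs.dvd_of_dvd_pow hsd)).symm) hne
      · exact Or.inl ⟨hrd.trans (dvd_mul_left _ _), hsd.trans (dvd_mul_left _ _)⟩
      · exact Or.inl ⟨hrd.trans (hab ▸ mul_dvd_mul_left _ (dvd_mul_right _ _)),
          hsd.trans (hab ▸ mul_dvd_mul_left _ (dvd_mul_right _ _))⟩
      · exact Or.inl ⟨hrd.trans (hab ▸ mul_dvd_mul_left _ (dvd_mul_left _ _)),
          hsd.trans (hab ▸ mul_dvd_mul_left _ (dvd_mul_left _ _))⟩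
      · rcases hr.dvd_mul.mp hrd with h | h <;> rcases hs.dvd_mul.mp hsd with h' | h'
        · exact absurd ((two r _ hr h).trans (two s _ hs h').symm) hne
        · exact Or.inr (Or.inl ⟨two r _ hr h, h'⟩)
        · exact Or.inr (Or.inr ⟨two s _ hs h', h⟩)
        · exact Or.inl ⟨h.trans (dvd_mul_right _ _), h'.trans (dvd_mul_right _ _)⟩
    · have hco : Nat.Coprime r s := (Nat.coprime_primes hr hs).mpr hne
      have key : ∀ d, r ∣ d → s ∣ d → r * s ∣ d := fun d h h' => hco.mul_dvd_of_dvd_of_dvd h h'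
      rintro (⟨h, h'⟩ | ⟨rfl, h'⟩ | ⟨rfl, h⟩)
      · rw [← hab] at h h'
        rcases hr.dvd_mul.mp h with a | a <;> rcases hs.dvd_mul.mp h' with a' | a'
        · exact ⟨_, mem ((q - 1) * torusA m) (by simp),
            key _ (a.trans (dvd_mul_right _ _)) (a'.trans (dvd_mul_right _ _))⟩
        · rcases hs.dvd_mul.mp a' with c | c
          · exact ⟨_, mem ((q - 1) * torusA m) (by simp),
              key _ (a.trans (dvd_mul_right _ _)) (c.trans (dvd_mul_left _ _))⟩
          · exact ⟨_, mem ((q - 1) * torusB m) (by simp),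
              key _ (a.trans (dvd_mul_right _ _)) (c.trans (dvd_mul_left _ _))⟩
        · rcases hr.dvd_mul.mp a with c | c
          · exact ⟨_, mem ((q - 1) * torusA m) (by simp),
              key _ (c.trans (dvd_mul_left _ _)) (a'.trans (dvd_mul_right _ _))⟩
          · exact ⟨_, mem ((q - 1) * torusB m) (by simp),
              key _ (c.trans (dvd_mul_left _ _)) (a'.trans (dvd_mul_right _ _))⟩
        · exact ⟨_, mem (q ^ 2 + 1) (by simp), key _ (hab ▸ a) (hab ▸ a')⟩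
      · exact ⟨_, mem (2 ^ m * (q - 1)) (by simp), mul_dvd_mul hk2 h'⟩
      · exact ⟨_, mem (2 ^ m * (q - 1)) (by simp), key _ (h.trans (dvd_mul_left _ _))
          (hk2.trans (dvd_mul_right _ _))⟩

end Cfsg.Agent.Suzuki.CharTable
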