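import Cfsg.Agent.Lib.Suzuki.CharTorus

/-!
# The character table of `Sz(q)`

`IsTable`, `exists_table`: apart from `1`, the Steinberg character and the principal series there
are `(q + r) / 4` characters of degree `(q-1)(q-r+1)`, `(q - r) / 4` of degree `(q-1)(q+r+1)` and two
of degree `r (q-1) / 2`, with their values on the classes of `1, z, f` and on the tori.
-/

set_option autoImplicit false
set_option linter.style.haveILetI false
set_option linter.unusedSectionVars false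

namespace Cfsg.Agent.Suzuki.CharTable

open Cfsg Cfsg.Agent.Suzuki
open scoped ComplexConjugate

variable {F : Type*} [Field F] {m : ℕ} [Fintype F]
variable (hm : 1 ≤ m) (hF : Fintype.card F = 2 ^ (2 * m + 1))
variable [Fintype (Sz F m)] [Fintype (IrrCharacter (Sz F m))]

/-- The character table outside the principal series. -/
structure IsTable (s : ℂ) (gA gB : Sz F m) (P M : Finset (IrrCharacter (Sz F m)))
    (W W' : IrrCharacter (Sz F m)) : Prop where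
  fA : FPF gA
  fB : FPF gB
  cA : Nat.card (torus gA) = torusA m
  cB : Nat.card (torus gB) = torusB m
  cover : ∀ x : Sz F m, FPF x → x ∈ conjSet (torus gA) ∨ x ∈ conjSet (torus gB)
  sq_s : s ^ 2 = -kC m ^ 2
  conj_s : conj s = -s
  mem_iff : ∀ χ, χ ∈ rSet hm hF ↔ χ ∈ P ∨ χ ∈ M ∨ χ = W ∨ χ = W'
  disj : Disjoint P M
  notW : W ≠ W' ∧ W ∉ P ∧ W ∉ M ∧ W' ∉ P ∧ W' ∉ M
  cardP : 4 * P.card + 1 = torusA m
  cardM : 4 * M.card + 1 = torusB m
  valP : ∀ χ ∈ P, (χ : Sz F m → ℂ) 1 = (qC m - 1) * (qC m + 1 - 2 * kC m) ∧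
    (χ : Sz F m → ℂ) (tSz hF 0 1) = 2 * kC m - 1 ∧
    (χ : Sz F m → ℂ) (tSz hF 1 0) = -1 ∧ (χ : Sz F m → ℂ) (tSz hF 1 1) = -1
  valM : ∀ χ ∈ M, (χ : Sz F m → ℂ) 1 = (qC m - 1) * (qC m + 1 + 2 * kC m) ∧
    (χ : Sz F m → ℂ) (tSz hF 0 1) = -2 * kC m - 1 ∧
    (χ : Sz F m → ℂ) (tSz hF 1 0) = -1 ∧ (χ : Sz F m → ℂ) (tSz hF 1 1) = -1
  valW : ∀ χ, χ = W ∨ χ = W' → (χ : Sz F m → ℂ) 1 = kC m * (qC m - 1) ∧
    (χ : Sz F m → ℂ) (tSz hF 0 1) = -kC m ∧
    ∃ δ : ℂ, (δ = 1 ∨ δ = -1) ∧ (χ : Sz F m → ℂ) (tSz hF 1 0) = δ * s ∧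
      (χ : Sz F m → ℂ) (tSz hF 1 1) = -(δ * s)
  onA : ∀ x ∈ conjSet (torus gA), (∀ χ ∈ M, (χ : Sz F m → ℂ) x = 0) ∧
    (W : Sz F m → ℂ) x = 1 ∧ (W' : Sz F m → ℂ) x = 1
  onB : ∀ x ∈ conjSet (torus gB), (∀ χ ∈ P, (χ : Sz F m → ℂ) x = 0) ∧
    (W : Sz F m → ℂ) x = -1 ∧ (W' : Sz F m → ℂ) x = -1

include hm hF in
/-- Column orthogonality for two elements of `U`, restricted to the remaining characters. -/
theorem r_column {a b c d : F} (h : ¬(a = 0 ∧ b = 0)) (h' : ¬(c = 0 ∧ d = 0)) {C : ℂ}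
    (hC : ∀ [Decidable (IsConj (tSz hF a b) (tSz hF c d))], (if IsConj (tSz hF a b) (tSz hF c d)
      then (Nat.card (Subgroup.centralizer ({tSz hF a b} : Set (Sz F m))) : ℂ) else 0) = C) :
    ∑ χ ∈ rSet hm hF, (χ : Sz F m → ℂ) (tSz hF a b) * conj ((χ : Sz F m → ℂ) (tSz hF c d)) =
      C - kC m ^ 2 := by
  classical
  haveI := Fintype.ofFinite (IrrCharacter Fˣ)
  have e := Char.column_orth (tSz hF a b) (tSz hF c d)
  rw [hC, sum_split hm hF (fun φ => φ (tSz hF a b) * conj (φ (tSz hF c d))),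
    Finset.sum_congr rfl (g := fun _ => (1 : ℂ)) fun θ _ => by
      rw [Xf_u hm hF θ h, Xf_u hm hF θ h', map_one, mul_one],
    Stf_u hm hF h, Pi.one_apply, Pi.one_apply, map_one, zero_mul, Finset.sum_const,
    Finset.card_erase_of_mem (Finset.mem_univ _), Finset.card_univ, nsmul_eq_mul, mul_one,
    Nat.cast_sub (Fintype.card_pos_iff.mpr ⟨theta0 F⟩), card_theta hF, Nat.cast_one] at e
  rw [qC] at e
  linear_combination e

include hm hF in
/-- The relations between the parameters of the remaining characters. -/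
theorem r_sums {s : ℂ} (hs2 : s ^ 2 = -kC m ^ 2) (hsc : conj s = -s)
    (b e δ : IrrCharacter (Sz F m) → ℤ)
    (hz : ∀ χ ∈ rSet hm hF, (χ : Sz F m → ℂ) (tSz hF 0 1) = -b χ - kC m * e χ)
    (hf : ∀ χ ∈ rSet hm hF, (χ : Sz F m → ℂ) (tSz hF 1 0) = -b χ + δ χ * s ∧
      (χ : Sz F m → ℂ) (tSz hF 1 1) = -b χ - δ χ * s) :
    ∑ χ ∈ rSet hm hF, b χ ^ 2 = ((2 : ℤ) ^ m) ^ 2 ∧
    ∑ χ ∈ rSet hm hF, b χ * e χ = -2 * (2 : ℤ) ^ m ∧
    ∑ χ ∈ rSet hm hF, e χ ^ 2 = 4 * ((2 : ℤ) ^ m) ^ 2 + 2 ∧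
    ∑ χ ∈ rSet hm hF, δ χ ^ 2 = 2 ∧ ∑ χ ∈ rSet hm hF, b χ * δ χ = 0 := by
  classical
  haveI := charTwo hF
  have hz0 : ¬((0 : F) = 0 ∧ (1 : F) = 0) := by simp
  have hf0 : ¬((1 : F) = 0 ∧ (0 : F) = 0) := by simp
  have hf1 : ¬((1 : F) = 0 ∧ (1 : F) = 0) := by simp
  have nzf : ∀ x : F, ¬ IsConj (tSz hF 0 1) (tSz hF 1 x) := by
    intro x h
    obtain ⟨c, hc⟩ := isConj_iff.mp h
    have e1 : (tSz hF (0 : F) 1) ^ 2 = 1 := by
      rw [sq, tSz_mul, tSz_eq_one_iff]; simp [CharTwo.add_self_eq_zero]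
    have e2 : (tSz hF (1 : F) x) ^ 2 = 1 := by
      rw [← hc, conj_pow, e1, mul_one, mul_inv_cancel]
    rw [sq, tSz_mul, tSz_eq_one_iff] at e2
    simp [CharTwo.add_self_eq_zero] at e2
  have A1 := r_column hm hF hf0 hf0 (C := 2 * qC m) (by
    intro _; rw [if_pos (IsConj.refl _), card_centralizer_f hm hF, qC_eq]; push_cast; ring)
  have A2 := r_column hm hF hf0 hf1 (C := 0) (by intro _; rw [if_neg (not_isConj_f hm hF)])
  have A3 := r_column hm hF hf1 hf0 (C := 0) (by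
    intro _; rw [if_neg fun h => not_isConj_f hm hF h.symm])
  have A4 := r_column hm hF hz0 hf0 (C := 0) (by intro _; rw [if_neg (nzf 0)])
  have A5 := r_column hm hF hz0 hf1 (C := 0) (by intro _; rw [if_neg (nzf 1)])
  have A6 := r_column hm hF hz0 hz0 (C := qC m ^ 2) (by
    intro _; rw [if_pos (IsConj.refl _), card_centralizer_z hm hF, qC_eq]; push_cast; ring)
  have ck : conj (kC m) = kC m := by rw [kC, map_pow, map_ofNat]
  have ex1 : ∀ χ ∈ rSet hm hF,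
      (χ : Sz F m → ℂ) (tSz hF 1 0) * conj ((χ : Sz F m → ℂ) (tSz hF 1 0)) =
      (b χ : ℂ) ^ 2 + kC m ^ 2 * (δ χ : ℂ) ^ 2 := fun χ h => by
    simp only [(hf χ h).1, map_add, map_neg, map_mul, map_intCast, hsc]
    linear_combination -(δ χ : ℂ) ^ 2 * hs2
  have ex2 : ∀ χ ∈ rSet hm hF,
      (χ : Sz F m → ℂ) (tSz hF 1 0) * conj ((χ : Sz F m → ℂ) (tSz hF 1 1)) =
      (b χ : ℂ) ^ 2 - 2 * s * ((b χ : ℂ) * δ χ) - kC m ^ 2 * (δ χ : ℂ) ^ 2 := fun χ h => by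
    simp only [(hf χ h).1, (hf χ h).2, map_sub, map_neg, map_mul, map_intCast, hsc]
    linear_combination (δ χ : ℂ) ^ 2 * hs2
  have ex3 : ∀ χ ∈ rSet hm hF,
      (χ : Sz F m → ℂ) (tSz hF 1 1) * conj ((χ : Sz F m → ℂ) (tSz hF 1 0)) =
      (b χ : ℂ) ^ 2 + 2 * s * ((b χ : ℂ) * δ χ) - kC m ^ 2 * (δ χ : ℂ) ^ 2 := fun χ h => by
    simp only [(hf χ h).1, (hf χ h).2, map_add, map_neg, map_mul, map_intCast, hsc]
    linear_combination (δ χ : ℂ) ^ 2 * hs2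
  have ex4 : ∀ χ ∈ rSet hm hF,
      (χ : Sz F m → ℂ) (tSz hF 0 1) * conj ((χ : Sz F m → ℂ) (tSz hF 1 0)) +
        (χ : Sz F m → ℂ) (tSz hF 0 1) * conj ((χ : Sz F m → ℂ) (tSz hF 1 1)) =
      2 * ((b χ : ℂ) ^ 2 + kC m * ((b χ : ℂ) * e χ)) := fun χ h => by
    simp only [(hf χ h).1, (hf χ h).2, hz χ h, map_add, map_sub, map_neg, map_mul, map_intCast, hsc]
    ring
  have ex6 : ∀ χ ∈ rSet hm hF,
      (χ : Sz F m → ℂ) (tSz hF 0 1) * conj ((χ : Sz F m → ℂ) (tSz hF 0 1)) =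
      (b χ : ℂ) ^ 2 + 2 * kC m * ((b χ : ℂ) * e χ) + kC m ^ 2 * (e χ : ℂ) ^ 2 := fun χ h => by
    simp only [hz χ h, map_sub, map_neg, map_mul, map_intCast, ck]
    ring
  have S45 := congrArg₂ (· + ·) A4 A5
  simp only [← Finset.sum_add_distrib] at S45
  rw [Finset.sum_congr rfl ex4] at S45
  rw [Finset.sum_congr rfl ex1] at A1
  rw [Finset.sum_congr rfl ex2] at A2
  rw [Finset.sum_congr rfl ex3] at A3
  rw [Finset.sum_congr rfl ex6] at A6
  simp only [Finset.sum_add_distrib, Finset.sum_sub_distrib, ← Finset.mul_sum] at A1 A2 A3 A6 S45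
  obtain ⟨SB, hSB⟩ : ∃ z : ℂ, z = ∑ χ ∈ rSet hm hF, (b χ : ℂ) ^ 2 := ⟨_, rfl⟩
  obtain ⟨SE, hSE⟩ : ∃ z : ℂ, z = ∑ χ ∈ rSet hm hF, (e χ : ℂ) ^ 2 := ⟨_, rfl⟩
  obtain ⟨SD, hSD⟩ : ∃ z : ℂ, z = ∑ χ ∈ rSet hm hF, (δ χ : ℂ) ^ 2 := ⟨_, rfl⟩
  obtain ⟨BE, hBE⟩ : ∃ z : ℂ, z = ∑ χ ∈ rSet hm hF, (b χ : ℂ) * e χ := ⟨_, rfl⟩
  obtain ⟨BD, hBD⟩ : ∃ z : ℂ, z = ∑ χ ∈ rSet hm hF, (b χ : ℂ) * δ χ := ⟨_, rfl⟩
  rw [← hSB] at A1 A2 A3 A6 S45
  rw [← hSD] at A1 A2 A3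
  rw [← hBD] at A2 A3
  rw [← hBE] at A6 S45
  rw [← hSE] at A6
  have hk := kC_ne_zero m
  simp only [qC] at A1 A6
  have v1 : SB = kC m ^ 2 := by linear_combination A1 / 2 + (A2 + A3) / 4
  have v2 : SD = 2 := by
    apply mul_left_cancel₀ (pow_ne_zero 2 hk)
    linear_combination A1 - v1
  have v3 : BD = 0 := by
    have hs0 : s ≠ 0 := fun h => by
      rw [h, zero_pow two_ne_zero, zero_eq_neg] at hs2
      exact pow_ne_zero 2 hk hs2
    apply mul_left_cancel₀ (mul_ne_zero (two_ne_zero (α := ℂ)) hs0)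
    linear_combination (A3 - A2) / 2
  have v4 : BE = -2 * kC m := by
    apply mul_left_cancel₀ hk
    linear_combination S45 / 2 - v1
  have v5 : SE = 4 * kC m ^ 2 + 2 := by
    apply mul_left_cancel₀ (pow_ne_zero 2 hk)
    linear_combination A6 - v1 - 2 * kC m * v4
  subst hSB hSE hSD hBE hBD
  rw [kC] at v1 v4 v5
  exact ⟨by exact_mod_cast v1, by exact_mod_cast v4, by exact_mod_cast v5, by exact_mod_cast v2,
    by exact_mod_cast v3⟩

include hm hF in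
/-- The value of a character constant on a torus. -/
theorem const_value {g : Sz F m} (hg : FPF g) {χ : IrrCharacter (Sz F m)} {c c₀ D : ℤ}
    (hc : ∀ x ∈ torus g, x ≠ 1 → (χ : Sz F m → ℂ) x = c) (hD : (χ : Sz F m → ℂ) 1 = D)
    (hc₀ : c₀ = 0 ∨ c₀ = 1 ∨ c₀ = -1) (hdvd : (Nat.card (torus g) : ℤ) ∣ D - c₀) :
    ∀ x ∈ conjSet (torus g), (χ : Sz F m → ℂ) x = c₀ := by
  classical
  haveI := Fintype.ofFinite (torus g)
  obtain ⟨N, hN⟩ : ∃ N : ℕ, ∑ x : torus g, (χ : Sz F m → ℂ) x = (Nat.card (torus g) : ℂ) * N := by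
    obtain ⟨N, hN⟩ := Char.IsCharacter.classInner_nat
      (Char.IsCharacter.restrict (Char.IsIrrCharacter.isCharacter χ.2) (torus g)) Char.isCharacter_one
    refine ⟨N, ?_⟩
    rw [← hN, Char.card_mul_classInner]
    simp
  have h5 := five_le_card_torus hm hF hg
  rw [← Finset.add_sum_erase _ _ (Finset.mem_univ (1 : torus g)),
    Finset.sum_congr (s₁ := Finset.univ.erase (1 : torus g)) rfl (g := fun _ => (c : ℂ))
      fun (x : torus g) hx => hc x x.2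
      (fun e => Finset.ne_of_mem_erase hx (Subtype.ext e)),
    Finset.sum_const, Finset.card_erase_of_mem (Finset.mem_univ _), Finset.card_univ,
    ← Nat.card_eq_fintype_card, OneMemClass.coe_one, hD, nsmul_eq_mul,
    Nat.cast_sub (by omega), Nat.cast_one] at hN
  obtain ⟨a, ha⟩ : ∃ a : ℤ, a = Nat.card (torus g) := ⟨_, rfl⟩
  have hN' : D + (a - 1) * c = a * N := by
    rw [ha]; exact_mod_cast hN
  obtain ⟨y, hy, hy1⟩ : ∃ y ∈ torus g, y ≠ 1 := ⟨g, self_mem_torus g, ne_one_of_fpf hg⟩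
  have hle : c ^ 2 ≤ a := by
    have h := Char.column_orth y y
    rw [if_pos (IsConj.refl _),
      show Subgroup.centralizer ({y} : Set (Sz F m)) = torus g from
        centralizer_eq_of_mem hm hF hg hy hy1] at h
    simp only [Complex.mul_conj] at h
    rw [← Complex.ofReal_sum, ← Complex.ofReal_natCast, Complex.ofReal_inj] at h
    have h' := Finset.single_le_sum (f := fun φ : IrrCharacter (Sz F m) =>
      Complex.normSq ((φ : Sz F m → ℂ) y)) (fun φ _ => Complex.normSq_nonneg _) (Finset.mem_univ χ)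
    rw [h, hc y hy hy1, Complex.normSq_intCast] at h'
    rw [ha]
    have : ((c ^ 2 : ℤ) : ℝ) ≤ ((Nat.card (torus g) : ℤ) : ℝ) := by push_cast; rw [sq]; exact_mod_cast h'
    exact_mod_cast this
  rw [← ha] at hdvd
  have hdc : a ∣ c - c₀ := by
    have : c - c₀ = (D - c₀) + a * c - a * N := by linear_combination -hN'
    rw [this]
    exact dvd_sub (dvd_add hdvd (dvd_mul_right a c)) (dvd_mul_right a _)
  have ha5 : 5 ≤ a := by omega
  have hcc : c = c₀ := by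
    have hb : |c - c₀| < a := by
      have h1 : |c| < a - 1 := by
        by_contra hlt
        push Not at hlt
        nlinarith [sq_abs c]
      rcases hc₀ with rfl | rfl | rfl <;> rw [abs_lt] at h1 ⊢ <;> constructor <;> omega
    have := Int.eq_zero_of_abs_lt_dvd hdc hb
    omega
  rintro _ ⟨u, x, hx, hx1, rfl⟩
  rw [Char.IsIrrCharacter.isClassFunction χ.2 x u, hc x hx hx1, hcc]

lemma torusA_cast (m : ℕ) : (torusA m : ℤ) = 2 * ((2 : ℤ) ^ m) ^ 2 + 2 * 2 ^ m + 1 := by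
  rw [torusA]; push_cast; ring

lemma torusB_cast (m : ℕ) : (torusB m : ℤ) = 2 * ((2 : ℤ) ^ m) ^ 2 - 2 * 2 ^ m + 1 := by
  have h := torusA_add_torusB m
  have h' : (torusA m : ℤ) + torusB m = 2 * (2 ^ (2 * m + 1) + 1) := by exact_mod_cast h
  rw [torusA_cast] at h'
  linear_combination h'

lemma small_eq {x y z : ℤ} (h : 3 * x ^ 2 + y ^ 2 + z ^ 2 = 18) (hx : 4 ≤ x ^ 2) (hy : 1 ≤ y ^ 2)
    (hz : 1 ≤ z ^ 2) : False := by
  have hx1 : -3 < x ∧ x < 3 := by constructor <;> nlinarith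
  have hx2 : x = 2 ∨ x = -2 := by
    obtain ⟨l, r⟩ := hx1
    interval_cases x <;> simp_all
  have h6 : y ^ 2 + z ^ 2 = 6 := by rcases hx2 with rfl | rfl <;> linarith
  have hy1 : -3 < y ∧ y < 3 := by constructor <;> nlinarith
  have hz1 : -3 < z ∧ z < 3 := by constructor <;> nlinarith
  obtain ⟨a, b⟩ := hy1
  obtain ⟨c, d⟩ := hz1
  interval_cases y <;> interval_cases z <;> simp_all

lemma degree_arith {K NP NM w σ σP σM bP bM : ℤ} (hK : 2 ≤ K) (hNP : 2 * NP = K ^ 2 + K)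
    (hNM : 2 * NM = K ^ 2 - K) (hbP : 0 ≤ bP) (hbM : 0 ≤ bM) (hw : 0 ≤ w)
    (hP : σP = 1 ∨ σP = -1) (hM : σM = 1 ∨ σM = -1) (hσ : -1 ≤ σ ∧ σ ≤ 1)
    (h1 : NP * bP ^ 2 + NM * bM ^ 2 + 2 * w ^ 2 = K ^ 2)
    (h2 : NP * bP * σP + NM * bM * σM + w * σ = -K) (hne3 : K ≠ 3) :
    (bP = 1 ∧ bM = 1 ∧ w = 0 ∧ σP = -1 ∧ σM = 1) ∨
      (K = 2 ∧ bP = 0 ∧ bM = 2 ∧ σM = -1) := by
  have hwσ : w * σ ≤ w ∧ -w ≤ w * σ :=
    ⟨by nlinarith [mul_nonneg hw (sub_nonneg.mpr hσ.2)],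
      by nlinarith [mul_nonneg hw (show (0 : ℤ) ≤ 1 + σ by linarith [hσ.1])]⟩
  have hKK : 2 * K ≤ K ^ 2 := by nlinarith
  have hNM1 : 1 ≤ NM := by linarith
  have hbM2 : 0 ≤ NM * bM ^ 2 := mul_nonneg (by linarith) (sq_nonneg bM)
  have hwK : w < K ∨ K ^ 2 < 2 * w ^ 2 := by
    rcases lt_or_ge w K with h | h
    · exact Or.inl h
    · exact Or.inr (by nlinarith [mul_le_mul h h (by linarith) hw])
  rcases (show bP = 0 ∨ bP = 1 ∨ 2 ≤ bP by omega) with rfl | rfl | hb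
  · right
    have e1 : NM * bM ^ 2 + 2 * w ^ 2 = K ^ 2 := by linarith
    have e2 : NM * bM * σM + w * σ = -K := by linarith
    have hw2 : w < K := hwK.resolve_right (by linarith)
    have hbM1 : 1 ≤ bM := by
      by_contra hlt
      obtain rfl : bM = 0 := by omega
      linarith [hwσ.1, hwσ.2]
    have hlt : NM * bM < 2 * K := by
      have hpos : 0 ≤ NM * bM := mul_nonneg (by linarith) hbM
      rcases hM with h | h <;> subst h <;> linarith [hwσ.1, hwσ.2]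
    have hK5 : K < 5 := by
      by_contra hge
      push Not at hge
      nlinarith [mul_le_mul_of_nonneg_left hbM1 (show (0 : ℤ) ≤ NM by linarith),
        mul_le_mul_of_nonneg_left hge (show (0 : ℤ) ≤ K by linarith)]
    obtain rfl | rfl : K = 2 ∨ K = 4 := by omega
    · obtain rfl : NM = 1 := by linarith
      obtain rfl | rfl | rfl : bM = 1 ∨ bM = 2 ∨ bM = 3 := by omega
      · exfalso
        obtain rfl | rfl : w = 0 ∨ w = 1 := by omega
        all_goals omega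
      · obtain rfl : w = 0 := by
          obtain rfl | rfl : w = 0 ∨ w = 1 := by omega
          · rfl
          · omega
        exact ⟨rfl, rfl, rfl, by linarith⟩
      · exfalso; nlinarith
    · exfalso
      obtain rfl : NM = 6 := by linarith
      obtain rfl : bM = 1 := by omega
      obtain rfl | rfl | rfl | rfl : w = 0 ∨ w = 1 ∨ w = 2 ∨ w = 3 := by omega
      all_goals omega
  · left
    have e1 : NM * bM ^ 2 + 2 * w ^ 2 = NM := by linarith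
    rcases (show bM = 0 ∨ bM = 1 ∨ 2 ≤ bM by omega) with rfl | rfl | hb2
    · exfalso
      have hge : NM ≤ w := by
        rcases hP with h | h <;> subst h <;> linarith [hwσ.1, hwσ.2]
      nlinarith [mul_le_mul hge hge (by linarith) hw,
        mul_le_mul_of_nonneg_left hNM1 (show (0 : ℤ) ≤ NM by linarith)]
    · have hw2 : w ^ 2 = 0 := by linarith
      obtain rfl : w = 0 := eq_zero_of_pow_eq_zero hw2
      refine ⟨rfl, rfl, rfl, ?_⟩
      rcases hP with h | h <;> rcases hM with h' | h' <;> subst h <;> subst h' <;>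
        first | exact ⟨rfl, rfl⟩ | (exfalso; linarith)
    · exfalso
      have h4 : 4 ≤ bM ^ 2 := by nlinarith
      nlinarith [mul_le_mul_of_nonneg_left h4 (show (0 : ℤ) ≤ NM by linarith), sq_nonneg w]
  · exfalso
    have h4 : 4 ≤ bP ^ 2 := by nlinarith
    nlinarith [mul_le_mul_of_nonneg_left h4 (show (0 : ℤ) ≤ NP by linarith), sq_nonneg w]

include hm hF in
/-- The character table exists. -/
theorem exists_table :
    ∃ (s : ℂ) (gA gB : Sz F m) (P M : Finset (IrrCharacter (Sz F m)))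
      (W W' : IrrCharacter (Sz F m)), IsTable hm hF s gA gB P M W W' := by
  classical
  obtain ⟨Θ, s, t1, tz, tf, tf', hs2, hsc, td⟩ :=
    @exists_theta F _ m _ hm hF (Fintype.ofFinite _)
  have hs : IsThetaVal hF (m := m) s := ⟨Θ, t1, tz, tf, tf', hs2, hsc, td⟩
  -- parameters
  have hpar : ∀ χ : IrrCharacter (Sz F m), ∃ b e δ : ℤ, χ ∈ rSet hm hF → 0 ≤ b ∧ 2 ∣ e - δ ∧
      (χ : Sz F m → ℂ) 1 = (qC m - 1) * (b * (qC m + 1) + kC m * e) ∧
      (χ : Sz F m → ℂ) (tSz hF 0 1) = -b - kC m * e ∧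
      (χ : Sz F m → ℂ) (tSz hF 1 0) = -b + δ * s ∧
      (χ : Sz F m → ℂ) (tSz hF 1 1) = -b - δ * s := fun χ => by
    by_cases h : χ ∈ rSet hm hF
    · obtain ⟨b, e, δ, h'⟩ := r_params hm hF hs h
      exact ⟨b, e, δ, fun _ => h'⟩
    · exact ⟨0, 0, 0, fun h' => absurd h' h⟩
  choose b e δ hbe using hpar
  obtain ⟨sB, sBE, sE, sD, sBD⟩ := r_sums hm hF hs2 hsc b e δ (fun χ h => (hbe χ h).2.2.2.1)
    (fun χ h => (hbe χ h).2.2.2.2)
  have hs0 : s ≠ 0 := fun h => by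
    rw [h, zero_pow two_ne_zero, zero_eq_neg] at hs2
    exact pow_ne_zero 2 (kC_ne_zero m) hs2
  have heq : ∀ χ ∈ rSet hm hF, ∀ ψ ∈ rSet hm hF,
      (∀ x ∈ ({tSz hF 0 1, tSz hF 1 0, tSz hF 1 1} : Set (Sz F m)),
        (χ : Sz F m → ℂ) x = (ψ : Sz F m → ℂ) x) → b χ = b ψ ∧ e χ = e ψ ∧ δ χ = δ ψ := by
    intro χ hχ ψ hψ h
    have h1 := h (tSz hF 1 0) (by simp)
    have h2 := h (tSz hF 1 1) (by simp)
    have h3 := h (tSz hF 0 1) (by simp)
    rw [(hbe χ hχ).2.2.2.2.1, (hbe ψ hψ).2.2.2.2.1] at h1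
    rw [(hbe χ hχ).2.2.2.2.2, (hbe ψ hψ).2.2.2.2.2] at h2
    rw [(hbe χ hχ).2.2.2.1, (hbe ψ hψ).2.2.2.1] at h3
    have eb : (b χ : ℂ) = b ψ := by linear_combination -(h1 + h2) / 2
    have ed : (δ χ : ℂ) = δ ψ := mul_right_cancel₀ hs0 (by linear_combination (h1 - h2) / 2)
    have ee : (e χ : ℂ) = e ψ := mul_left_cancel₀ (kC_ne_zero m) (by linear_combination -h3 - eb)
    exact ⟨by exact_mod_cast eb, by exact_mod_cast ee, by exact_mod_cast ed⟩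
  obtain ⟨K, hK⟩ : ∃ K : ℤ, K = 2 ^ m := ⟨_, rfl⟩
  have hK2 : 2 ≤ K := hK ▸ (le_self_pow₀ (by norm_num : (1 : ℤ) ≤ 2) (by omega))
  have hkC : kC m = (K : ℂ) := by rw [hK, kC]; push_cast; rfl
  rw [← hK] at sB sBE sE
  -- no `e` vanishes
  have hdeg : ∀ χ ∈ rSet hm hF, ∃ n : ℕ, 0 < n ∧
      (n : ℤ) = (2 * K ^ 2 - 1) * (b χ * (2 * K ^ 2 + 1) + K * e χ) ∧
      (n : ℤ) ∣ (2 * K ^ 2) ^ 2 * ((2 * K ^ 2) ^ 2 + 1) * (2 * K ^ 2 - 1) := by
    intro χ hχ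
    obtain ⟨n, hn0, hn, hdvd⟩ := Char.IsIrrCharacter.degree_dvd_card χ.2
    refine ⟨n, hn0, ?_, ?_⟩
    · have := (hbe χ hχ).2.2.1
      rw [hn, qC, hkC] at this
      exact_mod_cast this
    · rw [card_sz hm hF] at hdvd
      have h := Int.natCast_dvd_natCast.mpr hdvd
      rw [Nat.cast_mul, Nat.cast_mul, Nat.cast_add, Nat.cast_sub Nat.one_le_two_pow] at h
      push_cast at h
      rwa [show (2 : ℤ) ^ (2 * m + 1) = 2 * K ^ 2 by rw [hK]; ring] at h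
  have he0 : ∀ χ ∈ rSet hm hF, e χ ≠ 0 := by
    intro χ hχ h
    obtain ⟨n, hn0, hn, hdvd⟩ := hdeg χ hχ
    rw [h, mul_zero, add_zero] at hn
    have h1 : (2 * K ^ 2 + 1) ∣ (2 * K ^ 2) ^ 2 * ((2 * K ^ 2) ^ 2 + 1) * (2 * K ^ 2 - 1) :=
      (dvd_mul_of_dvd_right (dvd_mul_left _ _) _).trans (hn ▸ hdvd)
    have h2 : (2 * K ^ 2 + 1) ∣ (4 : ℤ) := by
      have h3 := dvd_sub (dvd_mul_right (2 * K ^ 2 + 1)
        ((2 * K ^ 2 + 1) ^ 4 - 6 * (2 * K ^ 2 + 1) ^ 3 + 15 * (2 * K ^ 2 + 1) ^ 2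
          - 20 * (2 * K ^ 2 + 1) + 14)) h1
      have e4 : (4 : ℤ) = (2 * K ^ 2 + 1) * ((2 * K ^ 2 + 1) ^ 4 - 6 * (2 * K ^ 2 + 1) ^ 3 +
          15 * (2 * K ^ 2 + 1) ^ 2 - 20 * (2 * K ^ 2 + 1) + 14) -
          (2 * K ^ 2) ^ 2 * ((2 * K ^ 2) ^ 2 + 1) * (2 * K ^ 2 - 1) := by ring
      rw [e4]; exact h3
    have := Int.le_of_dvd (by norm_num) h2
    nlinarith
  -- the pair of characters not real on the elements of order four
  obtain ⟨D, hD⟩ : ∃ D, D = (rSet hm hF).filter (fun χ => δ χ ≠ 0) := ⟨_, rfl⟩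
  have hDsum : ∑ χ ∈ D, δ χ ^ 2 = 2 := by
    rw [hD, Finset.sum_filter, ← sD]
    exact Finset.sum_congr rfl fun χ _ => by split_ifs with h <;> simp_all
  have hDge : ∀ χ ∈ D, 1 ≤ δ χ ^ 2 := fun χ h => by
    rw [hD, Finset.mem_filter] at h
    have := sq_pos_of_ne_zero h.2
    omega
  have hDcard : D.card = 2 := by
    have h := Finset.card_nsmul_le_sum D (fun χ => δ χ ^ 2) 1 hDge
    rw [hDsum, nsmul_eq_mul, mul_one] at h
    have h' : D.card ≤ 2 := by exact_mod_cast h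
    interval_cases hc : D.card
    · rw [Finset.card_eq_zero.mp hc, Finset.sum_empty] at hDsum; norm_num at hDsum
    · obtain ⟨χ, hχ⟩ := Finset.card_eq_one.mp hc
      rw [hχ, Finset.sum_singleton] at hDsum
      have : -2 < δ χ ∧ δ χ < 2 := by constructor <;> nlinarith
      obtain ⟨l, r⟩ := this
      interval_cases δ χ <;> norm_num at hDsum
    · rfl
  obtain ⟨W, W', hWW, hWeq⟩ := Finset.card_eq_two.mp hDcard
  have hW : W ∈ D ∧ W' ∈ D := by simp [hWeq]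
  have hδ1 : ∀ χ ∈ D, δ χ ^ 2 = 1 := by
    intro χ hχ
    rw [hWeq, Finset.sum_pair hWW] at hDsum
    have := hDge W hW.1
    have := hDge W' hW.2
    simp only [hWeq, Finset.mem_insert, Finset.mem_singleton] at hχ
    rcases hχ with rfl | rfl <;> omega
  have hDR : ∀ χ ∈ D, χ ∈ rSet hm hF := fun χ h => by
    rw [hD, Finset.mem_filter] at h; exact h.1
  have hDiff : ∀ χ ∈ rSet hm hF, χ ∉ D → δ χ = 0 := fun χ hR h => by
    by_contra h'; exact h (hD ▸ Finset.mem_filter.mpr ⟨hR, h'⟩)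
  have hbW : b W = b W' := by
    have h : b W * δ W + b W' * δ W' = 0 := by
      rw [← sBD, ← Finset.sum_pair (f := fun χ => b χ * δ χ) hWW, ← hWeq]
      exact Finset.sum_subset (fun χ h => hDR χ h) fun χ hR h => by rw [hDiff χ hR h, mul_zero]
    have p1 := (hbe W (hDR W hW.1)).1
    have p2 := (hbe W' (hDR W' hW.2)).1
    rcases sq_eq_one_iff.mp (hδ1 W hW.1) with a | a <;>
      rcases sq_eq_one_iff.mp (hδ1 W' hW.2) with a' | a' <;> rw [a, a'] at h <;> omega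
  -- the two tori
  obtain ⟨gA, hgA, hcA⟩ := (exists_torus hm hF).1
  obtain ⟨gB, hgB, hcB⟩ := (exists_torus hm hF).2
  have hA := torusA_cast m
  have hB := torusB_cast m
  rw [← hK] at hA hB
  have hAB : gB ∉ conjSet (torus gA) := by
    intro h
    obtain ⟨x, hx⟩ := torus_of_mem_conjSet hm hF hgA h
    have := congrArg (fun H : Subgroup (Sz F m) => Nat.card H) hx
    simp only [card_map_conj, hcA, hcB] at this
    have : (torusA m : ℤ) = torusB m := by rw [this]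
    nlinarith
  have hAB' : gA ∉ conjSet (torus gB) := fun h => hAB (by
    have := conjSet_disjoint hm hF hgA hgB
    by_contra h'
    exact Set.disjoint_left.mp (this h') (mem_conjSet_torus hm hF hgA) h)
  have hA9 : 9 ≤ Nat.card (torus gA) := by
    rw [hcA]; have : (9 : ℤ) ≤ torusA m := by nlinarith
    exact_mod_cast this
  obtain ⟨P, hPc, hPR, hPoff, hPconst⟩ := torus_family hm hF hgA hA9
  rw [hcA] at hPc
  have hoff : ∀ g : Sz F m, FPF g → ∀ x ∈ ({tSz hF 0 1, tSz hF 1 0, tSz hF 1 1} : Set (Sz F m)),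
      x ∉ conjSet (torus g) := by
    intro g hg x hx hc
    refine conjSet_torus_subset hm hF hg hc _ infinity_mem ?_
    rcases hx with rfl | rfl | rfl <;> exact tSz_smul_infinity hF _ _
  have hPeq : ∀ χ ∈ P, ∀ ψ ∈ P, b χ = b ψ ∧ e χ = e ψ ∧ δ χ = δ ψ := fun χ h ψ h' =>
    heq χ (hPR h) ψ (hPR h') fun x hx => hPoff χ h ψ h' x (hoff gA hgA x hx)
  have hNP : 2 * (P.card : ℤ) = K ^ 2 + K := by
    have : 4 * (P.card : ℤ) + 1 = torusA m := by exact_mod_cast hPc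
    linarith
  have hP3 : 3 ≤ P.card := by
    have : (3 : ℤ) ≤ P.card := by nlinarith
    exact_mod_cast this
  have hPδ : ∀ χ ∈ P, δ χ = 0 := by
    intro χ hχ
    by_contra hne
    have hsub : P ⊆ D := fun ψ hψ =>
      hD ▸ Finset.mem_filter.mpr ⟨hPR hψ, (hPeq χ hχ ψ hψ).2.2 ▸ hne⟩
    have := Finset.card_le_card hsub
    omega
  have heven : ∀ χ ∈ rSet hm hF, χ ∉ D → 4 ≤ e χ ^ 2 := by
    intro χ hR h
    obtain ⟨c, hc⟩ := (hbe χ hR).2.1
    rw [hDiff χ hR h, sub_zero] at hc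
    have := sq_pos_of_ne_zero (fun h0 : c = 0 => he0 χ hR (by rw [hc, h0, mul_zero]))
    rw [hc]; nlinarith
  have hodd : ∀ χ ∈ D, 1 ≤ e χ ^ 2 := fun χ h => sq_pos_of_ne_zero (he0 χ (hDR χ h))
  have hPD : ∀ χ ∈ P, χ ∉ D := fun χ hχ h => by
    rw [hD, Finset.mem_filter] at h; exact h.2 (hPδ χ hχ)
  obtain ⟨M, hM⟩ : ∃ M, M = rSet hm hF \ (P ∪ D) := ⟨_, rfl⟩
  have hsplit : ∀ f : IrrCharacter (Sz F m) → ℤ,
      ∑ χ ∈ rSet hm hF, f χ = ∑ χ ∈ P, f χ + ∑ χ ∈ M, f χ + (f W + f W') := by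
    intro f
    have hsub : P ∪ D ⊆ rSet hm hF := Finset.union_subset hPR hDR
    rw [← Finset.sum_sdiff hsub, ← hM, Finset.sum_union (Finset.disjoint_left.mpr hPD), hWeq,
      Finset.sum_pair hWW]
    ring
  have hMmem : ∀ χ, χ ∈ M ↔ χ ∈ rSet hm hF ∧ χ ∉ P ∧ χ ∉ D := fun χ => by simp [hM]
  obtain ⟨NM, hNM⟩ : ∃ NM : ℕ, 4 * NM + 1 = torusB m := by
    obtain ⟨s', hs'⟩ : ∃ s' : ℕ, (s' : ℤ) = K ^ 2 - (P.card : ℤ) := by
      refine ⟨(K ^ 2 - (P.card : ℤ)).toNat, Int.toNat_of_nonneg ?_⟩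
      nlinarith
    exact ⟨s', by exact_mod_cast (show 4 * (s' : ℤ) + 1 = torusB m by linarith)⟩
  have hNMK : 2 * (NM : ℤ) = K ^ 2 - K := by
    have : 4 * (NM : ℤ) + 1 = torusB m := by exact_mod_cast hNM
    linarith
  have sE' := hsplit (fun χ => e χ ^ 2)
  rw [sE] at sE'
  have bP : (P.card : ℤ) * 4 ≤ ∑ χ ∈ P, e χ ^ 2 := by
    have := Finset.card_nsmul_le_sum P (fun χ => e χ ^ 2) 4
      (fun χ h => heven χ (hPR h) (hPD χ h))
    simpa [nsmul_eq_mul] using this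
  have bM : (M.card : ℤ) * 4 ≤ ∑ χ ∈ M, e χ ^ 2 := by
    have := Finset.card_nsmul_le_sum M (fun χ => e χ ^ 2) 4
      (fun χ h => heven χ ((hMmem χ).mp h).1 ((hMmem χ).mp h).2.2)
    simpa [nsmul_eq_mul] using this
  have bW1 := hodd W hW.1
  have bW2 := hodd W' hW.2
  have hMle : M.card ≤ NM := by
    have : (M.card : ℤ) ≤ NM := by linarith
    exact_mod_cast this
  -- `M` is the family of the second torus
  have hMfam : M.card = NM ∧ (∀ χ ∈ M, ∀ ψ ∈ M, b χ = b ψ ∧ e χ = e ψ) ∧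
      ∀ χ ∉ M, ∃ c : ℤ, ∀ x ∈ torus gB, x ≠ 1 → (χ : Sz F m → ℂ) x = c := by
    rcases (show m = 1 ∨ 2 ≤ m by omega) with h1 | h2
    · have hK1 : K = 2 := by rw [hK, h1]; norm_num
      subst hK1
      have hP : P.card = 3 := by omega
      have hN : NM = 1 := by omega
      have hM1 : M.card = 1 := by
        by_contra hne
        obtain hM0 : M = ∅ := Finset.card_eq_zero.mp (by omega)
        rw [hM0, Finset.sum_empty] at sE'
        obtain ⟨χ, hχ⟩ : P.Nonempty := Finset.card_pos.mp (by omega)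
        have hsum : ∑ ψ ∈ P, e ψ ^ 2 = 3 * e χ ^ 2 := by
          rw [Finset.sum_congr rfl (g := fun _ => e χ ^ 2) fun ψ hψ => by rw [(hPeq χ hχ ψ hψ).2.1],
            Finset.sum_const, hP]
          simp
        rw [hsum] at sE'
        exact small_eq (x := e χ) (y := e W) (z := e W') (by linarith)
          (heven χ (hPR hχ) (hPD χ hχ)) bW1 bW2
      refine ⟨hM1.trans hN.symm, fun χ h ψ h' => ?_, fun χ _ => const_of_five hm hF hgB ?_ χ⟩
      · obtain ⟨ρ, hρ⟩ := Finset.card_eq_one.mp hM1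
        rw [hρ, Finset.mem_singleton] at h h'
        subst h h'
        exact ⟨rfl, rfl⟩
      · rw [hcB, ← hNM, hN]
    · have hK4 : 4 ≤ K := hK ▸ (show (4 : ℤ) = 2 ^ 2 by norm_num) ▸ pow_le_pow_right₀ (by norm_num) h2
      have hB9 : 9 ≤ Nat.card (torus gB) := by
        rw [hcB]; have : (9 : ℤ) ≤ torusB m := by nlinarith
        exact_mod_cast this
      obtain ⟨fam, hfc, hfR, hfoff, hfconst⟩ := torus_family hm hF hgB hB9
      rw [hcB] at hfc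
      have hfeq : ∀ χ ∈ fam, ∀ ψ ∈ fam, b χ = b ψ ∧ e χ = e ψ ∧ δ χ = δ ψ := fun χ h ψ h' =>
        heq χ (hfR h) ψ (hfR h') fun x hx => hfoff χ h ψ h' x (hoff gB hgB x hx)
      have hf3 : 3 ≤ fam.card := by
        have : (3 : ℤ) ≤ fam.card := by
          have : 4 * (fam.card : ℤ) + 1 = torusB m := by exact_mod_cast hfc
          nlinarith
        exact_mod_cast this
      have hsub : fam ⊆ M := by
        intro χ hχ
        refine (hMmem χ).mpr ⟨hfR hχ, fun h => Finset.disjoint_left.mp (family_disjoint hm hF hgA hgB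
          hAB (by omega) (by omega) hPoff hfoff) h hχ, fun h => ?_⟩
        have hsubD : fam ⊆ D := fun ψ hψ => by
          rw [hD, Finset.mem_filter] at h ⊢
          exact ⟨hfR hψ, (hfeq χ hχ ψ hψ).2.2 ▸ h.2⟩
        have := Finset.card_le_card hsubD
        omega
      have hfeqM : fam = M := Finset.eq_of_subset_of_card_le hsub (by omega)
      subst hfeqM
      exact ⟨by omega, fun χ h ψ h' => ⟨(hfeq χ h ψ h').1, (hfeq χ h ψ h').2.1⟩, hfconst⟩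
  obtain ⟨hMc, hMeq, hMconst⟩ := hMfam
  have tight : (∀ χ ∈ P, e χ ^ 2 = 4) ∧ (∀ χ ∈ M, e χ ^ 2 = 4) ∧ e W ^ 2 = 1 ∧ e W' ^ 2 = 1 := by
    have hMc' : (M.card : ℤ) = NM := by exact_mod_cast hMc
    have t : ∀ (S : Finset (IrrCharacter (Sz F m))), (∀ χ ∈ S, 4 ≤ e χ ^ 2) →
        ∑ χ ∈ S, e χ ^ 2 = (S.card : ℤ) * 4 → ∀ χ ∈ S, e χ ^ 2 = 4 := by
      intro S h4 hsum χ hχ
      have h := (Finset.sum_eq_sum_iff_of_le h4).mp (by rw [hsum]; simp) χ hχ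
      exact h.symm
    exact ⟨t P (fun χ h => heven χ (hPR h) (hPD χ h)) (by linarith),
      t M (fun χ h => heven χ ((hMmem χ).mp h).1 ((hMmem χ).mp h).2.2) (by linarith),
      by linarith, by linarith⟩
  -- solve for `b` and `e`
  obtain ⟨χP, hχP⟩ : P.Nonempty := Finset.card_pos.mp (by omega)
  obtain ⟨χM, hχM⟩ : M.Nonempty := Finset.card_pos.mp (by
    have : (0 : ℤ) < M.card := by
      have hMc' : (M.card : ℤ) = NM := by exact_mod_cast hMc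
      nlinarith
    exact_mod_cast this)
  have cP : ∀ f : ℤ → ℤ → ℤ, ∑ χ ∈ P, f (b χ) (e χ) = P.card * f (b χP) (e χP) := fun f => by
    rw [Finset.sum_congr rfl (g := fun _ => f (b χP) (e χP)) fun χ h => by
      rw [(hPeq χ h χP hχP).1, (hPeq χ h χP hχP).2.1]]
    simp
  have cM : ∀ f : ℤ → ℤ → ℤ, ∑ χ ∈ M, f (b χ) (e χ) = NM * f (b χM) (e χM) := fun f => by
    rw [Finset.sum_congr rfl (g := fun _ => f (b χM) (e χM)) fun χ h => by
      rw [(hMeq χ h χM hχM).1, (hMeq χ h χM hχM).2]]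
    simp [hMc]
  have sB' := hsplit (fun χ => b χ ^ 2)
  have sBE' := hsplit (fun χ => b χ * e χ)
  rw [sB, cP (fun x _ => x ^ 2), cM (fun x _ => x ^ 2), ← hbW] at sB'
  rw [sBE, cP (fun x y => x * y), cM (fun x y => x * y), ← hbW] at sBE'
  have two : ∀ x : ℤ, x ^ 2 = 4 → x = 2 ∨ x = -2 := fun x h =>
    sq_eq_sq_iff_eq_or_eq_neg.mp (h.trans (by norm_num : (4 : ℤ) = 2 ^ 2))
  obtain ⟨σP, hσP, heP⟩ : ∃ σ : ℤ, (σ = 1 ∨ σ = -1) ∧ e χP = 2 * σ := by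
    rcases two _ (tight.1 χP hχP) with a | a
    · exact ⟨1, Or.inl rfl, by omega⟩
    · exact ⟨-1, Or.inr rfl, by omega⟩
  obtain ⟨σM, hσM, heM⟩ : ∃ σ : ℤ, (σ = 1 ∨ σ = -1) ∧ e χM = 2 * σ := by
    rcases two _ (tight.2.1 χM hχM) with a | a
    · exact ⟨1, Or.inl rfl, by omega⟩
    · exact ⟨-1, Or.inr rfl, by omega⟩
  obtain ⟨σ, hσ, heWW⟩ : ∃ σ : ℤ, (-1 ≤ σ ∧ σ ≤ 1) ∧ e W + e W' = 2 * σ := by
    rcases sq_eq_one_iff.mp tight.2.2.1 with a | a <;>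
      rcases sq_eq_one_iff.mp tight.2.2.2 with a' | a' <;> rw [a, a']
    · exact ⟨1, by norm_num⟩
    · exact ⟨0, by norm_num⟩
    · exact ⟨0, by norm_num⟩
    · exact ⟨-1, by norm_num⟩
  have hK3 : K ≠ 3 := by
    intro h
    have : (2 : ℤ) ∣ K := hK ▸ dvd_pow_self 2 (by omega)
    omega
  rw [heP, heM] at sBE'
  have sol := degree_arith (NP := (P.card : ℤ)) (NM := (NM : ℤ)) (σ := σ) hK2 hNP hNMK
    (hbe χP (hPR hχP)).1 (hbe χM ((hMmem χM).mp hχM).1).1 (hbe W (hDR W hW.1)).1 hσP hσM hσ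
    (by linarith) (mul_left_cancel₀ (two_ne_zero (α := ℤ))
      (by linear_combination -sBE' - b W * heWW)) hK3
  obtain ⟨bP1, bM1, w0, sP1, sM1⟩ : b χP = 1 ∧ b χM = 1 ∧ b W = 0 ∧ σP = -1 ∧ σM = 1 := by
    rcases sol with h | ⟨h1, h2, h3, h4⟩
    · exact h
    · exfalso
      obtain ⟨n, hn0, hn, hdvd⟩ := hdeg χM ((hMmem χM).mp hχM).1
      rw [heM, h1, h3, h4] at hn
      rw [hn, h1] at hdvd
      norm_num at hdvd
  -- degrees of the pair
  have hW1 : ∀ χ ∈ D, b χ = 0 ∧ e χ = 1 := by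
    intro χ hχ
    have hb0 : b χ = 0 := by
      simp only [hWeq, Finset.mem_insert, Finset.mem_singleton] at hχ
      rcases hχ with rfl | rfl
      · exact w0
      · exact hbW ▸ w0
    refine ⟨hb0, ?_⟩
    obtain ⟨n, hn0, hn, -⟩ := hdeg χ (hDR χ hχ)
    rw [hb0, zero_mul, zero_add] at hn
    have h1 : e χ = 1 ∨ e χ = -1 := by
      simp only [hWeq, Finset.mem_insert, Finset.mem_singleton] at hχ
      rcases hχ with rfl | rfl
      · exact sq_eq_one_iff.mp tight.2.2.1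
      · exact sq_eq_one_iff.mp tight.2.2.2
    rcases h1 with h | h
    · exact h
    · rw [h] at hn
      exfalso
      have : (0 : ℤ) < n := by exact_mod_cast hn0
      nlinarith
  have hvP : ∀ χ ∈ P, b χ = 1 ∧ e χ = -2 ∧ δ χ = 0 := fun χ h =>
    ⟨(hPeq χ h χP hχP).1.trans bP1, by rw [(hPeq χ h χP hχP).2.1, heP, sP1]; norm_num, hPδ χ h⟩
  have hvM : ∀ χ ∈ M, b χ = 1 ∧ e χ = 2 ∧ δ χ = 0 := fun χ h =>
    ⟨(hMeq χ h χM hχM).1.trans bM1, by rw [(hMeq χ h χM hχM).2, heM, sM1]; norm_num,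
      hDiff χ ((hMmem χ).mp h).1 ((hMmem χ).mp h).2.2⟩
  have hqC : qC m = ((2 * K ^ 2 : ℤ) : ℂ) := by rw [qC, hkC]; push_cast; rfl
  have hdegP : ∀ χ ∈ rSet hm hF, (χ : Sz F m → ℂ) 1 =
      (((2 * K ^ 2 - 1) * (b χ * (2 * K ^ 2 + 1) + K * e χ) : ℤ) : ℂ) := fun χ h => by
    rw [(hbe χ h).2.2.1, hqC, hkC]; push_cast; ring
  refine ⟨s, gA, gB, P, M, W, W', ⟨hgA, hgB, hcA, hcB, fun x hx => ?_, hs2, hsc, fun χ => ?_, ?_,
    ⟨hWW, fun h => hPD W h hW.1, fun h => ((hMmem W).mp h).2.2 hW.1, fun h => hPD W' h hW.2,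
      fun h => ((hMmem W').mp h).2.2 hW.2⟩, hPc, by rw [hMc, hNM], ?_, ?_, ?_, ?_, ?_⟩⟩
  · have := (two_classes hm hF hgA hgB hAB).2.2
    exact (Set.ext_iff.mp this x).mpr hx
  · constructor
    · intro h
      by_cases h1 : χ ∈ P
      · exact Or.inl h1
      by_cases h2 : χ ∈ D
      · rw [hWeq] at h2; simp at h2
        exact Or.inr (Or.inr h2)
      exact Or.inr (Or.inl ((hMmem χ).mpr ⟨h, h1, h2⟩))
    · rintro (h | h | rfl | rfl)
      · exact hPR h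
      · exact ((hMmem χ).mp h).1
      · exact hDR _ hW.1
      · exact hDR _ hW.2
  · exact Finset.disjoint_left.mpr fun χ h h' => ((hMmem χ).mp h').2.1 h
  · intro χ h
    obtain ⟨h1, h2, h3⟩ := hvP χ h
    obtain ⟨-, -, a, c, d, d'⟩ := hbe χ (hPR h)
    rw [a, c, d, d', h1, h2, h3]
    push_cast
    exact ⟨by ring, by ring, by ring, by ring⟩
  · intro χ h
    obtain ⟨h1, h2, h3⟩ := hvM χ h
    obtain ⟨-, -, a, c, d, d'⟩ := hbe χ ((hMmem χ).mp h).1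
    rw [a, c, d, d', h1, h2, h3]
    push_cast
    exact ⟨by ring, by ring, by ring, by ring⟩
  · intro χ h
    have hχ : χ ∈ D := by rcases h with rfl | rfl; exacts [hW.1, hW.2]
    obtain ⟨-, -, a, c, d, d'⟩ := hbe χ (hDR χ hχ)
    rw [a, c, (hW1 χ hχ).1, (hW1 χ hχ).2]
    refine ⟨by push_cast; ring, by push_cast; ring, δ χ, ?_, ?_, ?_⟩
    · rcases sq_eq_one_iff.mp (hδ1 χ hχ) with e1 | e1 <;> simp [e1]
    · rw [d, (hW1 χ hχ).1]; push_cast; ring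
    · rw [d', (hW1 χ hχ).1]; push_cast; ring
  · intro x hx
    have key : ∀ χ ∈ rSet hm hF, χ ∉ P → ∀ c₀ : ℤ, (c₀ = 0 ∨ c₀ = 1 ∨ c₀ = -1) →
        (torusA m : ℤ) ∣ (2 * K ^ 2 - 1) * (b χ * (2 * K ^ 2 + 1) + K * e χ) - c₀ →
        (χ : Sz F m → ℂ) x = c₀ := fun χ hR hn c₀ h0 hdvd => by
      obtain ⟨c, hc⟩ := hPconst χ hn
      exact const_value hm hF hgA hc (hdegP χ hR) h0 (by rwa [hcA]) x hx
    refine ⟨fun χ h => ?_, ?_, ?_⟩
    · have := key χ ((hMmem χ).mp h).1 ((hMmem χ).mp h).2.1 0 (by simp)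
        ⟨2 * K ^ 2 - 1, by rw [hA, (hvM χ h).1, (hvM χ h).2.1]; ring⟩
      simpa using this
    · have := key W (hDR W hW.1) (fun h => hPD W h hW.1) 1 (by simp)
        ⟨K - 1, by rw [hA, (hW1 W hW.1).1, (hW1 W hW.1).2]; ring⟩
      simpa using this
    · have := key W' (hDR W' hW.2) (fun h => hPD W' h hW.2) 1 (by simp)
        ⟨K - 1, by rw [hA, (hW1 W' hW.2).1, (hW1 W' hW.2).2]; ring⟩
      simpa using this
  · intro x hx
    have key : ∀ χ ∈ rSet hm hF, χ ∉ M → ∀ c₀ : ℤ, (c₀ = 0 ∨ c₀ = 1 ∨ c₀ = -1) →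
        (torusB m : ℤ) ∣ (2 * K ^ 2 - 1) * (b χ * (2 * K ^ 2 + 1) + K * e χ) - c₀ →
        (χ : Sz F m → ℂ) x = c₀ := fun χ hR hn c₀ h0 hdvd => by
      obtain ⟨c, hc⟩ := hMconst χ hn
      exact const_value hm hF hgB hc (hdegP χ hR) h0 (by rwa [hcB]) x hx
    refine ⟨fun χ h => ?_, ?_, ?_⟩
    · have := key χ (hPR h) (fun h' => ((hMmem χ).mp h').2.1 h) 0 (by simp)
        ⟨2 * K ^ 2 - 1, by rw [hB, (hvP χ h).1, (hvP χ h).2.1]; ring⟩
      simpa using this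
    · have := key W (hDR W hW.1) (fun h => ((hMmem W).mp h).2.2 hW.1) (-1) (by simp)
        ⟨K + 1, by rw [hB, (hW1 W hW.1).1, (hW1 W hW.1).2]; ring⟩
      simpa using this
    · have := key W' (hDR W' hW.2) (fun h => ((hMmem W').mp h).2.2 hW.2) (-1) (by simp)
        ⟨K + 1, by rw [hB, (hW1 W' hW.2).1, (hW1 W' hW.2).2]; ring⟩
      simpa using this

end Cfsg.Agent.Suzuki.CharTable
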