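import Cfsg.Agent.Lib.Suzuki.CharSeries
import Cfsg.Agent.Lib.Coherence.TIFN
import Cfsg.Agent.Lib.Coherence.Irr
import Cfsg.Agent.Lib.Coherence.FrobValues

/-!
# The exceptional characters at a maximal torus of `Sz(q)`

`torus_family`: the `(a - 1) / 4` exceptional characters of a torus of order `a ≥ 9`;
`const_of_five`: for `a = 5` every irreducible character is constant on the torus.
-/

set_option autoImplicit false
set_option linter.style.haveILetI false
set_option linter.unusedSectionVars false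

namespace Cfsg.Agent.Suzuki.CharTable

open Cfsg Cfsg.Agent.Suzuki Cfsg.Agent.Coherence
open scoped ComplexConjugate

variable {F : Type*} [Field F] {m : ℕ} [Fintype F]
variable (hm : 1 ≤ m) (hF : Fintype.card F = 2 ^ (2 * m + 1))

lemma indFun_eq_zero_off {G : Type*} [Group G] [Fintype G] (T : Subgroup G) (N : Subgroup G)
    {α : N → ℂ} (h0 : ∀ x : N, (x : G) ∉ T → α x = 0) (h1 : α 1 = 0) {y : G}
    (hy : y ∉ conjSet T) : indFun N α y = 0 := by
  classical
  rw [indFun, Finset.sum_eq_zero, mul_zero]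
  intro x _
  by_cases h : x⁻¹ * y * x ∈ N
  · rw [Char.extendByZero_mem N α h]
    by_cases hT : x⁻¹ * y * x ∈ T
    · by_cases he : x⁻¹ * y * x = 1
      · rw [show (⟨_, h⟩ : N) = 1 from Subtype.ext he, h1]
      · exact absurd ⟨x, x⁻¹ * y * x, hT, he, by group⟩ hy
    · exact h0 _ hT
  · exact Char.extendByZero_not_mem N α h

section setup

variable [Fintype (Sz F m)] {g : Sz F m}

include hm hF in
lemma torus_setup [Fintype ↥(Subgroup.normalizer (torus g : Set (Sz F m)))] (hg : FPF g) :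
    IsTISubset ((torus g : Subgroup (Sz F m)) : Set (Sz F m)) ∧
    FrobK ((torus g).subgroupOf (Subgroup.normalizer (torus g : Set (Sz F m)))) ∧
    ((torus g).subgroupOf (Subgroup.normalizer (torus g : Set (Sz F m)))).index = 4 ∧
    Nat.card ((torus g).subgroupOf (Subgroup.normalizer (torus g : Set (Sz F m)))) =
      Nat.card (torus g) ∧
    (torus g).subgroupOf (Subgroup.normalizer (torus g : Set (Sz F m))) ≠ ⊥ ∧
    (torus g).subgroupOf (Subgroup.normalizer (torus g : Set (Sz F m))) ≠ ⊤ ∧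
    IsMulCommutative ((torus g).subgroupOf (Subgroup.normalizer (torus g : Set (Sz F m)))) := by
  have hN := (torus_data hm hF hg).2
  have hcard := Nat.card_congr (Subgroup.subgroupOfEquivOfLe
    (Subgroup.le_normalizer (H := torus g))).toEquiv
  have hidx : ((torus g).subgroupOf (Subgroup.normalizer (torus g : Set (Sz F m)))).index = 4 := by
    have h := Subgroup.card_mul_index
      ((torus g).subgroupOf (Subgroup.normalizer (torus g : Set (Sz F m))))
    rw [hcard, hN, mul_comm 4] at h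
    exact Nat.eq_of_mul_eq_mul_left Nat.card_pos h
  refine ⟨fun x hx t ht htx => ?_, frobK_ti _ fun k hk h1 => (centralizer_eq_of_mem hm hF hg hk h1).le,
    hidx, hcard, ?_, ?_, ?_⟩
  · by_contra h1
    exact hx (ti_torus hm hF hg x t ht h1 htx)
  · intro h
    have h5 := five_le_card_torus hm hF hg
    rw [h, Subgroup.card_bot] at hcard
    omega
  · intro h
    rw [h, Subgroup.index_top] at hidx
    omega
  · haveI := cyclic_centralizer_of_fpf hm hF hg
    haveI : IsCyclic ((torus g).subgroupOf (Subgroup.normalizer (torus g : Set (Sz F m)))) :=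
      isCyclic_of_surjective (Subgroup.subgroupOfEquivOfLe
        (Subgroup.le_normalizer (H := torus g))).symm
        (Subgroup.subgroupOfEquivOfLe (Subgroup.le_normalizer (H := torus g))).symm.surjective
    infer_instance

include hm hF in
/-- The set of characters of the normaliser has `(a - 1) / 4` members, all of degree `4`. -/
lemma torus_set [Fintype ↥(Subgroup.normalizer (torus g : Set (Sz F m)))] (hg : FPF g)
    (s : Finset (↥(Subgroup.normalizer (torus g : Set (Sz F m))) → ℂ))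
    (hs : (↑s : Set _) = inducedIrrAbove
      ((torus g).subgroupOf (Subgroup.normalizer (torus g : Set (Sz F m)))) ⊥) :
    (4 * s.card + 1 = Nat.card (torus g)) ∧ ∀ φ ∈ s, φ 1 = 4 := by
  obtain ⟨-, hK, hidx, hcard, -, -, hab⟩ := torus_setup hm hF hg
  set H := (torus g).subgroupOf (Subgroup.normalizer (torus g : Set (Sz F m))) with hH
  have hc : ⁅H, H⁆ ≤ ⊥ := Subgroup.commutator_le.mpr fun a ha b hb => by
    rw [Subgroup.mem_bot, commutatorElement_eq_one_iff_mul_comm]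
    exact congrArg Subtype.val (hab.1.1 ⟨a, ha⟩ ⟨b, hb⟩)
  have hd : ∀ φ ∈ s, φ 1 = 4 := fun φ hφ => by
    have hφ' : φ ∈ inducedIrrAbove H ⊥ := hs ▸ Finset.mem_coe.mpr hφ
    rw [FrobK.degree_of_commutator_le hc hφ', hidx, Nat.cast_ofNat]
  refine ⟨?_, hd⟩
  have h := hK.sum_sq ⊥ bot_le s hs (fun _ => 1) fun φ hφ => by rw [hd φ hφ, hidx]; simp
  rw [Subgroup.relIndex_bot_left, hcard, hidx] at h
  simp only [one_pow, Finset.sum_const, nsmul_eq_mul, mul_one, Nat.cast_ofNat] at h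
  omega

include hm hF in
/-- A class function orthogonal to the induced differences is constant on the torus. -/
lemma const_on_torus [Fintype ↥(Subgroup.normalizer (torus g : Set (Sz F m)))] (hg : FPF g)
    (χ : IrrCharacter (Sz F m))
    (h : ∀ α ∈ zspanOn (inducedIrrAbove
      ((torus g).subgroupOf (Subgroup.normalizer (torus g : Set (Sz F m)))) ⊥) {1}ᶜ,
      classInner (χ : Sz F m → ℂ) (indFun (Subgroup.normalizer (torus g : Set (Sz F m))) α) = 0) :
    ∃ c : ℤ, ∀ x ∈ torus g, x ≠ 1 → (χ : Sz F m → ℂ) x = c := by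
  obtain ⟨-, hK, -, -, hb, ht, -⟩ := torus_setup hm hF hg
  have hgc := Char.IsGeneralizedCharacter.restrict (isGC_of_irr χ.2)
    (Subgroup.normalizer (torus g : Set (Sz F m)))
  obtain ⟨d, hd, hint⟩ := hK.const_of_orth hb ht (isGC_isClassFunction hgc) (fun α hα => by
    rw [tifn_inner _ (Char.IsIrrCharacter.isClassFunction χ.2)]; exact h α hα)
  obtain ⟨c, hc⟩ := hint hgc
  exact ⟨c, fun x hx h1 => (hd ⟨x, Subgroup.le_normalizer hx⟩ hx
    (fun e => h1 (congrArg Subtype.val e))).trans hc⟩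

end setup

variable [Fintype (Sz F m)]

include hm hF in
/-- For a torus of order five every irreducible character is constant on it. -/
theorem const_of_five {g : Sz F m} (hg : FPF g) (h5 : Nat.card (torus g) = 5)
    (χ : IrrCharacter (Sz F m)) : ∃ c : ℤ, ∀ x ∈ torus g, x ≠ 1 → (χ : Sz F m → ℂ) x = c := by
  classical
  haveI := Fintype.ofFinite ↥(Subgroup.normalizer (torus g : Set (Sz F m)))
  obtain ⟨hTI, hK, -⟩ := torus_setup hm hF hg
  obtain ⟨s, hs⟩ : ∃ s : Finset (↥(Subgroup.normalizer (torus g : Set (Sz F m))) → ℂ),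
      (↑s : Set (↥(Subgroup.normalizer (torus g : Set (Sz F m))) → ℂ)) = inducedIrrAbove
      ((torus g).subgroupOf (Subgroup.normalizer (torus g : Set (Sz F m)))) ⊥ := by
    have hfin := finite_induced (K := (torus g).subgroupOf (Subgroup.normalizer (torus g : Set (Sz F m))))
    exact ⟨hfin.toFinset, hfin.coe_toFinset⟩
  obtain ⟨hc, hd⟩ := torus_set hm hF hg s hs
  obtain ⟨φ, hφ⟩ := Finset.card_eq_one.mp (show s.card = 1 by omega)
  refine const_on_torus hm hF hg χ fun α hα => ?_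
  rw [← hs, hφ, Finset.coe_singleton] at hα
  obtain ⟨hα1, hα0⟩ := mem_zspanOn_one.1 hα
  obtain ⟨n, rfl⟩ : ∃ n : ℤ, α = n • φ := by
    obtain ⟨n, hn⟩ := Submodule.mem_span_singleton.mp hα1
    exact ⟨n, hn.symm⟩
  have hn : n = 0 := by
    rw [Pi.smul_apply, hd φ (by rw [hφ]; exact Finset.mem_singleton_self φ), zsmul_eq_mul] at hα0
    exact_mod_cast (mul_eq_zero.mp hα0).resolve_right (by norm_num)
  subst hn
  rw [zero_zsmul, Char.indFun_zero]
  simp [classInner]

include hm hF in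
/-- The exceptional characters of a torus of order at least nine. -/
theorem torus_family [Fintype (IrrCharacter (Sz F m))] {g : Sz F m} (hg : FPF g)
    (h9 : 9 ≤ Nat.card (torus g)) :
    ∃ fam : Finset (IrrCharacter (Sz F m)), 4 * fam.card + 1 = Nat.card (torus g) ∧
      fam ⊆ rSet hm hF ∧
      (∀ χ ∈ fam, ∀ ψ ∈ fam, ∀ x, x ∉ conjSet (torus g) →
        (χ : Sz F m → ℂ) x = (ψ : Sz F m → ℂ) x) ∧
      ∀ χ ∉ fam, ∃ c : ℤ, ∀ x ∈ torus g, x ≠ 1 → (χ : Sz F m → ℂ) x = c := by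
  classical
  haveI := Fintype.ofFinite ↥(Subgroup.normalizer (torus g : Set (Sz F m)))
  obtain ⟨hTI, hK, hidx, hcard, hb, ht, -⟩ := torus_setup hm hF hg
  set N := Subgroup.normalizer (torus g : Set (Sz F m)) with hN
  set H := (torus g).subgroupOf N with hH
  obtain ⟨s, hs⟩ : ∃ s : Finset (↥N → ℂ), (↑s : Set (↥N → ℂ)) = inducedIrrAbove H ⊥ := by
    have hfin := finite_induced (K := H)
    exact ⟨hfin.toFinset, hfin.coe_toFinset⟩
  obtain ⟨hsc, hsd⟩ := torus_set hm hF hg s hs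
  obtain ⟨hτ, hτ1⟩ := ti_isometry (torus g) hTI
  have hirr : ∀ φ ∈ inducedIrrAbove H ⊥, IsIrrCharacter N φ := fun φ => hK.irr_of_mem
  have h2 : 1 < s.card := by omega
  obtain ⟨φ0, hφ0, φ1, hφ1, hne01⟩ := Finset.one_lt_card.1 h2
  have hco := irr_uniform hirr hτ hτ1 s (le_of_eq hs) ⟨φ0, hφ0, φ1, hφ1, hne01⟩
    (fun φ hφ ψ hψ => by rw [hsd φ hφ, hsd ψ hψ])
  rw [hs] at hco
  obtain ⟨-, star, hstar, hext₀⟩ := hco
  have hext : ∀ α ∈ zspanOn (inducedIrrAbove H ⊥) {1}ᶜ, star α = indFun N α := hext₀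
  have hm' : ∀ φ ∈ s, φ ∈ inducedIrrAbove H ⊥ := fun φ h => hs ▸ Finset.mem_coe.mpr h
  have hdiff : ∀ φ ∈ s, ∀ ψ ∈ s, φ - ψ ∈ zspanOn (inducedIrrAbove H ⊥) {1}ᶜ := fun φ h ψ h' =>
    mem_zspanOn_one.2 ⟨zspan_sub (subset_zspan (hm' φ h)) (subset_zspan (hm' ψ h')),
      by simp [hsd φ h, hsd ψ h']⟩
  have hsub : ∀ φ ∈ s, ∀ ψ ∈ s, star φ - star ψ = indFun N (φ - ψ) := fun φ h ψ h' => by
    rw [← hext _ (hdiff φ h ψ h'), sub_eq_add_neg φ, ← neg_one_zsmul,
      hstar.1 _ (subset_zspan (hm' φ h)) _ (zspan_zsmul _ (subset_zspan (hm' ψ h'))),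
      hstar.2.1 _ (subset_zspan (hm' ψ h')), neg_one_zsmul, ← sub_eq_add_neg]
  have hsgn : ∀ φ ∈ s, IsSignedIrr (Sz F m) (star φ) := fun φ hφ =>
    gc_norm_one (hstar.2.2.2 _ (subset_zspan (hm' φ hφ))) (by
      rw [hstar.2.2.1 _ (subset_zspan (hm' φ hφ)) _ (subset_zspan (hm' φ hφ)),
        Char.classInner_irr_self (hirr φ (hm' φ hφ))])
  have hoff : ∀ φ ∈ s, ∀ ψ ∈ s, ∀ x, x ∉ conjSet (torus g) → star φ x = star ψ x := by
    intro φ h ψ h' x hx
    rw [← sub_eq_zero, ← Pi.sub_apply, hsub φ h ψ h']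
    refine indFun_eq_zero_off (torus g) N (fun y hy => ?_) (by simp [hsd φ h, hsd ψ h']) hx
    obtain ⟨θ, -, -, -, rfl⟩ := hm' φ h
    obtain ⟨θ', -, -, -, rfl⟩ := hm' ψ h'
    have hy' : y ∉ H := fun e => hy (Subgroup.mem_subgroupOf.mp e)
    simp [CliffordChar.indFun_not_mem H θ hy', CliffordChar.indFun_not_mem H θ' hy']
  -- one sign for all
  obtain ⟨ε, hε, hεirr⟩ : ∃ ε : ℤ, (ε = 1 ∨ ε = -1) ∧
      ∀ φ ∈ s, IsIrrCharacter (Sz F m) (ε • star φ) := by
    have h1 : ∀ φ ∈ s, star φ 1 = star φ0 1 := fun φ hφ =>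
      hoff φ hφ φ0 hφ0 1 (one_notMem_conjSet _)
    rcases hsgn φ0 hφ0 with h | h
    · refine ⟨1, Or.inl rfl, fun φ hφ => ?_⟩
      rcases signed_same_sign (hsgn φ hφ) (Or.inl h) (h1 φ hφ) with ⟨a, -⟩ | ⟨-, b⟩
      · rwa [one_zsmul]
      · have := re_degree_pos b
        have := re_degree_pos h
        simp at *; linarith
    · refine ⟨-1, Or.inr rfl, fun φ hφ => ?_⟩
      rcases signed_same_sign (hsgn φ hφ) (Or.inr h) (h1 φ hφ) with ⟨-, b⟩ | ⟨a, -⟩
      · have := re_degree_pos b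
        have := re_degree_pos h
        simp at *; linarith
      · rwa [neg_one_zsmul]
  obtain ⟨fam, hfam⟩ : ∃ fam : Finset (IrrCharacter (Sz F m)),
      fam = Finset.univ.filter fun χ : IrrCharacter (Sz F m) =>
        ∃ φ ∈ s, (χ : Sz F m → ℂ) = ε • star φ := ⟨_, rfl⟩
  have hmem : ∀ χ : IrrCharacter (Sz F m), χ ∈ fam ↔ ∃ φ ∈ s, (χ : Sz F m → ℂ) = ε • star φ :=
    fun χ => by simp [hfam]
  have hε2 : (ε : ℂ) * ε = 1 := by rcases hε with rfl | rfl <;> simp
  refine ⟨fam, ?_, ?_, ?_, ?_⟩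
  · rw [← hsc]
    congr 2
    symm
    refine Finset.card_bij (fun φ hφ => ⟨_, hεirr φ hφ⟩)
      (fun φ hφ => (hmem _).mpr ⟨φ, hφ, rfl⟩) (fun φ hφ ψ hψ h => ?_) (fun χ hχ => ?_)
    · by_contra hne
      have h' : star φ = star ψ := by
        funext x
        have := congrFun (congrArg Subtype.val h) x
        simp only [Pi.smul_apply, zsmul_eq_mul] at this
        exact mul_left_cancel₀ (left_ne_zero_of_mul (hε2.trans_ne one_ne_zero)) this
      have h1 := hstar.2.2.1 _ (subset_zspan (hm' φ hφ)) _ (subset_zspan (hm' ψ hψ))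
      rw [h', hstar.2.2.1 _ (subset_zspan (hm' ψ hψ)) _ (subset_zspan (hm' ψ hψ)),
        Char.classInner_irr_self (hirr ψ (hm' ψ hψ)),
        Char.classInner_irr_of_ne (hirr φ (hm' φ hφ)) (hirr ψ (hm' ψ hψ)) hne] at h1
      exact one_ne_zero h1
    · obtain ⟨φ, hφ, he⟩ := (hmem χ).mp hχ
      exact ⟨φ, hφ, Subtype.ext he.symm⟩
  · -- not in the principal series
    intro χ hχ
    obtain ⟨φ, hφ, he⟩ := (hmem χ).mp hχ
    obtain ⟨ψ, hψ, hne⟩ : ∃ ψ ∈ s, ψ ≠ φ := Finset.exists_mem_ne h2 φ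
    have key : ∀ c : ℂ, (∀ x ∈ torus g, x ≠ 1 → (χ : Sz F m → ℂ) x = c) → False := by
      intro c hc
      have h0 := FrobK.orth_of_const (H := H) (f := fun x : N => (χ : Sz F m → ℂ) x) (d := c)
        (fun x hx h1 => hc x (Subgroup.mem_subgroupOf.mp hx) fun e => h1 (Subtype.ext e))
        (hdiff φ hφ ψ hψ)
      rw [tifn_inner _ (Char.IsIrrCharacter.isClassFunction χ.2), ← hsub φ hφ ψ hψ, he,
        ← Int.cast_smul_eq_zsmul ℂ, Char.classInner_smul_left, Char.classInner_sub_right,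
        hstar.2.2.1 _ (subset_zspan (hm' φ hφ)) _ (subset_zspan (hm' φ hφ)),
        hstar.2.2.1 _ (subset_zspan (hm' φ hφ)) _ (subset_zspan (hm' ψ hψ)),
        Char.classInner_irr_self (hirr φ (hm' φ hφ)),
        Char.classInner_irr_of_ne (hirr φ (hm' φ hφ)) (hirr ψ (hm' ψ hψ)) hne.symm] at h0
      simp only [sub_zero, mul_one] at h0
      rw [h0, mul_zero] at hε2
      exact zero_ne_one hε2
    rw [mem_rSet]
    refine ⟨fun h => key 1 fun x _ _ => by rw [h]; rfl, fun h => key (-1) fun x hx h1 => ?_,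
      fun θ h => key 0 fun x hx h1 => ?_⟩
    · rw [h, Stf_fpf hm hF (fpf_of_mem_torus hm hF hg hx h1)]
    · rw [h, Xf_fpf hm hF θ (fpf_of_mem_torus hm hF hg hx h1)]
  · intro χ hχ ψ hψ x hx
    obtain ⟨φ, hφ, he⟩ := (hmem χ).mp hχ
    obtain ⟨φ', hφ', he'⟩ := (hmem ψ).mp hψ
    rw [he, he', Pi.smul_apply, Pi.smul_apply, hoff φ hφ φ' hφ' x hx]
  · intro χ hχ
    refine const_on_torus hm hF hg χ fun α hα => ?_
    rw [← hext α hα]
    refine zspan_induction (P := fun β => β ∈ zspan (inducedIrrAbove H ⊥) ∧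
      classInner (χ : Sz F m → ℂ) (star β) = 0) (fun φ hφ => ⟨subset_zspan hφ, ?_⟩)
      ⟨zspan_zero, ?_⟩ (fun a _ b _ h1 h2 => ⟨zspan_add h1.1 h2.1, ?_⟩)
      (fun n a _ h1 => ⟨zspan_zsmul n h1.1, ?_⟩) (mem_zspanOn_one.1 hα).1 |>.2
    · have hφs : φ ∈ s := Finset.mem_coe.mp (hs.symm ▸ hφ)
      have hne : (χ : Sz F m → ℂ) ≠ ε • star φ := fun e => hχ ((hmem χ).mpr ⟨φ, hφs, e⟩)
      have h0 := Char.classInner_irr_of_ne χ.2 (hεirr φ hφs) hne
      rw [← Int.cast_smul_eq_zsmul ℂ, Char.classInner_smul_right, map_intCast] at h0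
      exact (mul_eq_zero.mp h0).resolve_left (left_ne_zero_of_mul (hε2.trans_ne one_ne_zero))
    · rw [lin_zero hstar zspan_zero]; simp [classInner]
    · rw [hstar.1 _ h1.1 _ h2.1, Char.classInner_add_right, h1.2, h2.2, add_zero]
    · rw [hstar.2.1 _ h1.1, classInner_zsmul_right, h1.2, mul_zero]

include hm hF in
/-- Families of non-conjugate tori are disjoint. -/
theorem family_disjoint {g g' : Sz F m} (hg : FPF g) (hg' : FPF g') (h : g' ∉ conjSet (torus g))
    {fam fam' : Finset (IrrCharacter (Sz F m))} (h1 : 1 < fam.card) (h2 : 1 < fam'.card)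
    (he : ∀ χ ∈ fam, ∀ ψ ∈ fam, ∀ x, x ∉ conjSet (torus g) →
      (χ : Sz F m → ℂ) x = (ψ : Sz F m → ℂ) x)
    (he' : ∀ χ ∈ fam', ∀ ψ ∈ fam', ∀ x, x ∉ conjSet (torus g') →
      (χ : Sz F m → ℂ) x = (ψ : Sz F m → ℂ) x) :
    Disjoint fam fam' := by
  classical
  rw [Finset.disjoint_left]
  intro χ hχ hχ'
  obtain ⟨χ1, hχ1, hne1⟩ := Finset.exists_mem_ne h1 χ
  obtain ⟨ψ1, hψ1, hne2⟩ := Finset.exists_mem_ne h2 χ
  have hd := conjSet_disjoint hm hF hg hg' h
  have h0 : classInner ((χ : Sz F m → ℂ) - (χ1 : Sz F m → ℂ))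
      ((χ : Sz F m → ℂ) - (ψ1 : Sz F m → ℂ)) = 0 := by
    rw [classInner, Finset.sum_eq_zero, mul_zero]
    intro x _
    by_cases hx : x ∈ conjSet (torus g)
    · rw [Pi.sub_apply, Pi.sub_apply, he' χ hχ' ψ1 hψ1 x (Set.disjoint_left.mp hd hx)]
      simp
    · rw [Pi.sub_apply, Pi.sub_apply, he χ hχ χ1 hχ1 x hx]
      simp
  simp only [Char.classInner_sub_left, Char.classInner_sub_right, Char.classInner_irr_self χ.2,
    Char.classInner_irr χ.2 ψ1.2, Char.classInner_irr χ1.2 χ.2, Char.classInner_irr χ1.2 ψ1.2] at h0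
  rw [if_neg (fun e => hne2 (Subtype.ext e).symm), if_neg (fun e => hne1 (Subtype.ext e))] at h0
  split_ifs at h0 <;> norm_num at h0

end Cfsg.Agent.Suzuki.CharTable
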