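import Cfsg.Agent.Lib.Suzuki.Irreducible
import Cfsg.Agent.Lib.Suzuki.LieModel

/-!
# Counting elements by their fixed points

`conjSet`, `card_conjSet` (conjugates of a TI subgroup), `ti_uSub`, `ti_dSub`, `ti_torus`,
`card_normalizer_dSub`, `mem_cases`, `card_fpf`.
-/

set_option autoImplicit false
set_option linter.style.haveILetI false

namespace Cfsg.Agent.Suzuki

open Cfsg
open scoped Matrix

/-- Non-identity conjugates of elements of `C`. -/
def conjSet {G : Type*} [Group G] (C : Subgroup G) : Set G :=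
  {y | ∃ x : G, ∃ c ∈ C, c ≠ 1 ∧ y = x * c * x⁻¹}

/-- The conjugates of a trivial-intersection subgroup, counted. -/
theorem card_conjSet {G : Type*} [Group G] [Finite G] (C : Subgroup G)
    (hTI : ∀ x : G, ∀ c ∈ C, c ≠ 1 → x * c * x⁻¹ ∈ C → x ∈ Subgroup.normalizer (C : Set G)) :
    (conjSet C).ncard * Nat.card (Subgroup.normalizer (C : Set G)) =
      Nat.card G * (Nat.card C - 1) := by
  classical
  have hsub : Nat.card {c : C // c ≠ 1} = Nat.card C - 1 := by
    haveI := Fintype.ofFinite C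
    simp [Nat.card_eq_fintype_card, Fintype.card_subtype_compl]
  have hrep : ∀ y : conjSet C, ∃ x : G, ∃ c : {c : C // c ≠ 1}, (y : G) = x * (c.1 : G) * x⁻¹ :=
    fun ⟨y, x, c, hc, hc1, hy⟩ => ⟨x, ⟨⟨c, hc⟩, fun h => hc1 (congrArg Subtype.val h)⟩, hy⟩
  choose rx rc hr using hrep
  let f : G × {c : C // c ≠ 1} → conjSet C := fun p =>
    ⟨p.1 * (p.2.1 : G) * p.1⁻¹, p.1, p.2.1, p.2.1.2, fun h => p.2.2 (Subtype.ext h), rfl⟩
  have hmem : ∀ p, (rx (f p))⁻¹ * p.1 ∈ Subgroup.normalizer (C : Set G) := fun p => by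
    refine hTI _ (p.2.1 : G) p.2.1.2 (fun h => p.2.2 (Subtype.ext h)) ?_
    have h := hr (f p)
    change p.1 * (p.2.1 : G) * p.1⁻¹ = _ at h
    have e : (rx (f p))⁻¹ * p.1 * (p.2.1 : G) * ((rx (f p))⁻¹ * p.1)⁻¹ =
        ((rc (f p)).1 : G) := by
      calc _ = (rx (f p))⁻¹ * (p.1 * (p.2.1 : G) * p.1⁻¹) * rx (f p) := by group
        _ = _ := by rw [h]; group
    rw [e]
    exact (rc (f p)).1.2
  have hbij : Function.Bijective (fun p =>
      ((f p, ⟨(rx (f p))⁻¹ * p.1, hmem p⟩) :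
        conjSet C × Subgroup.normalizer (C : Set G))) := by
    constructor
    · rintro ⟨x, c⟩ ⟨x', c'⟩ h
      simp only [Prod.mk.injEq] at h
      obtain ⟨h1, h2⟩ := h
      have h2' : (rx (f (x, c)))⁻¹ * x = (rx (f (x', c')))⁻¹ * x' := congrArg Subtype.val h2
      rw [h1] at h2'
      obtain rfl : x = x' := mul_left_cancel h2'
      have h1' : x * (c.1 : G) * x⁻¹ = x * (c'.1 : G) * x⁻¹ := congrArg Subtype.val h1
      have : (c.1 : G) = (c'.1 : G) := mul_left_cancel (mul_right_cancel h1')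
      rw [show c = c' from Subtype.ext (Subtype.ext this)]
    · rintro ⟨y, ⟨n, hn⟩⟩
      have hc : n⁻¹ * ((rc y).1 : G) * n ∈ C :=
        (Subgroup.mem_normalizer_iff''.mp hn _).mp (rc y).1.2
      have hc1 : (⟨_, hc⟩ : C) ≠ 1 := fun h => (rc y).2 (Subtype.ext (by
        have h' : n⁻¹ * ((rc y).1 : G) * n = 1 := congrArg Subtype.val h
        calc ((rc y).1 : G) = n * (n⁻¹ * ((rc y).1 : G) * n) * n⁻¹ := by group
          _ = 1 := by rw [h', mul_one, mul_inv_cancel]))
      refine ⟨(rx y * n, ⟨⟨_, hc⟩, hc1⟩), ?_⟩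
      have hfy : f (rx y * n, ⟨⟨_, hc⟩, hc1⟩) = y := Subtype.ext (by
        rw [hr y]
        show rx y * n * (n⁻¹ * ((rc y).1 : G) * n) * (rx y * n)⁻¹ = _
        group)
      simp only [hfy, Prod.mk.injEq, true_and]
      apply Subtype.ext
      show (rx y)⁻¹ * (rx y * n) = n
      group
  have := Nat.card_congr (Equiv.ofBijective _ hbij)
  rw [Nat.card_prod, Nat.card_prod, hsub] at this
  rw [this, Nat.card_coe_set_eq]

variable {F : Type*} [Field F] {m : ℕ} [Fintype F]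
variable (hm : 1 ≤ m) (hF : Fintype.card F = 2 ^ (2 * m + 1))

include hm in
lemma ti_uSub (x c : Sz F m) (hc : c ∈ uSub hF) (h1 : c ≠ 1) (hx : x * c * x⁻¹ ∈ uSub hF) :
    x ∈ Subgroup.normalizer (uSub hF : Set (Sz F m)) := by
  rw [normalizer_uSub hm hF, MulAction.mem_stabilizer_iff]
  obtain ⟨a, b, rfl⟩ := hc
  obtain ⟨a', b', h⟩ := hx
  refine uSub_fix_eq hF (a := a') (b := b') ?_ (smul_mem_ovoid x infinity_mem) ?_
  · rintro ⟨rfl, rfl⟩
    rw [tSz_zero] at h
    exact h1 (conj_eq_one_iff.mp h)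
  · rw [← h, mul_smul, mul_smul, inv_smul_smul, tSz_smul_infinity]

include hm in
lemma ti_dSub (x c : Sz F m) (hc : c ∈ dSub hF) (h1 : c ≠ 1) (hx : x * c * x⁻¹ ∈ dSub hF) :
    x ∈ Subgroup.normalizer (dSub hF : Set (Sz F m)) := by
  obtain ⟨k, rfl⟩ := (mem_dSub hF).mp hc
  obtain ⟨l, hl⟩ := (mem_dSub hF).mp hx
  have hk : k ≠ 1 := fun h => h1 (by rw [h, dSz_one])
  have hl1 : l ≠ 1 := fun h => h1 (by rw [h, dSz_one] at hl; exact conj_eq_one_iff.mp hl)
  rw [Subgroup.mem_normalizer_iff]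
  intro y
  rw [← centralizer_dSz hm hF hk, Subgroup.mem_centralizer_singleton_iff]
  constructor
  · intro h
    rw [centralizer_dSz hm hF hk, ← centralizer_dSz hm hF hl1,
      Subgroup.mem_centralizer_singleton_iff, ← hl]
    calc x * y * x⁻¹ * (x * dSz hF k * x⁻¹) = x * (y * dSz hF k) * x⁻¹ := by group
      _ = x * dSz hF k * x⁻¹ * (x * y * x⁻¹) := by rw [h]; group
  · intro h
    rw [centralizer_dSz hm hF hk, ← centralizer_dSz hm hF hl1,
      Subgroup.mem_centralizer_singleton_iff, ← hl] at h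
    calc y * dSz hF k = x⁻¹ * (x * y * x⁻¹ * (x * dSz hF k * x⁻¹)) * x := by group
      _ = dSz hF k * y := by rw [h]; group

include hm hF in
lemma centralizer_conj {g x y : Sz F m} :
    y ∈ Subgroup.centralizer {g} ↔ x * y * x⁻¹ ∈ Subgroup.centralizer {x * g * x⁻¹} := by
  rw [Subgroup.mem_centralizer_singleton_iff, Subgroup.mem_centralizer_singleton_iff]
  constructor
  · intro h
    calc x * y * x⁻¹ * (x * g * x⁻¹) = x * (y * g) * x⁻¹ := by group
      _ = x * g * x⁻¹ * (x * y * x⁻¹) := by rw [h]; group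
  · intro h
    calc y * g = x⁻¹ * (x * y * x⁻¹ * (x * g * x⁻¹)) * x := by group
      _ = g * y := by rw [h]; group

include hm hF in
lemma ti_torus {g : Sz F m} (hg : FPF g) (x c : Sz F m) (hc : c ∈ Subgroup.centralizer {g})
    (h1 : c ≠ 1) (hx : x * c * x⁻¹ ∈ Subgroup.centralizer {g}) :
    x ∈ Subgroup.normalizer ((Subgroup.centralizer {g} : Subgroup (Sz F m)) : Set (Sz F m)) := by
  rw [Subgroup.mem_normalizer_iff]
  intro y
  have e1 := centralizer_eq_of_mem hm hF hg hc h1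
  have e2 := centralizer_eq_of_mem hm hF hg hx (fun h => h1 (conj_eq_one_iff.mp h))
  conv_lhs => rw [← e1]
  conv_rhs => rw [← e2]
  exact centralizer_conj hm hF

include hm in
lemma card_normalizer_dSub :
    Nat.card (Subgroup.normalizer (dSub hF : Set (Sz F m))) =
      2 * (2 ^ (2 * m + 1) - 1) := by
  classical
  obtain ⟨k, hk0, hk1⟩ := exists_ne_zero_one hm hF
  set N := Subgroup.normalizer (dSub hF : Set (Sz F m)) with hN
  have hd1 : (Units.mk0 k hk0 : Fˣ) ≠ 1 := fun h => hk1 (congrArg Units.val h)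
  have hd1' : dSz hF (Units.mk0 k hk0) ≠ 1 := fun h =>
    hd1 (dSz_inj hF (h.trans (dSz_one hF).symm))
  have hw : wSz hF ∈ N := by
    refine ti_dSub hm hF _ _ ((mem_dSub hF).mpr ⟨_, rfl⟩) hd1' ?_
    rw [wSz_conj_dSz, mul_inv_cancel_right]
    exact (mem_dSub hF).mpr ⟨_, rfl⟩
  have hdN : dSub hF ≤ N := Subgroup.le_normalizer
  let f : Bool × dSub hF → N := fun p =>
    ⟨(bif p.1 then wSz hF else 1) * (p.2 : Sz F m), by
      refine mul_mem ?_ (hdN p.2.2)
      cases p.1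
      · exact one_mem _
      · exact hw⟩
  have hwd : ∀ d ∈ dSub hF, wSz hF ≠ d := by
    intro d hd h
    obtain ⟨l, rfl⟩ := (mem_dSub hF).mp hd
    have := congrArg (fun g : Sz F m => g • suzukiPointInfinity F) h
    simp only [wSz_smul_infinity, dSz_smul_infinity] at this
    exact pointZero_ne_infinity this
  have hf : Function.Bijective f := by
    constructor
    · rintro ⟨b, d⟩ ⟨b', d'⟩ h
      have h' : (bif b then wSz hF else 1) * (d : Sz F m) =
          (bif b' then wSz hF else 1) * (d' : Sz F m) := congrArg Subtype.val h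
      cases b <;> cases b' <;> simp only [cond_true, cond_false, one_mul] at h'
      · rw [Subtype.ext h']
      · exact absurd (eq_mul_inv_of_mul_eq h'.symm) (hwd _ (mul_mem d.2 (inv_mem d'.2)))
      · exact absurd (eq_mul_inv_of_mul_eq h') (hwd _ (mul_mem d'.2 (inv_mem d.2)))
      · rw [Subtype.ext (mul_left_cancel h')]
    · rintro ⟨n, hn⟩
      have hn' := (Subgroup.mem_normalizer_iff''.mp hn (dSz hF (Units.mk0 k hk0))).mp
        ((mem_dSub hF).mpr ⟨_, rfl⟩)
      obtain ⟨l, hl⟩ := (mem_dSub hF).mp hn'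
      have hn2 : n * dSz hF l = dSz hF (Units.mk0 k hk0) * n := by rw [← hl]; group
      have fixed : ∀ p ∈ suzukiOvoid F m, dSz hF (Units.mk0 k hk0) • p = p →
          p = suzukiPointInfinity F ∨ p = suzukiPointZero F := by
        intro p hpm hp
        rcases mem_ovoid_iff.mp hpm with rfl | ⟨x, y, rfl⟩
        · exact Or.inl rfl
        · right
          by_contra hne
          refine hd1 (eq_one_of_dSz_fix hF (fun h => hne ?_) hp)
          rw [h.1, h.2, pt_zero_zero]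
      have fi := fixed (n • suzukiPointInfinity F) (smul_mem_ovoid n infinity_mem)
        (by rw [← mul_smul, ← hn2, mul_smul, dSz_smul_infinity])
      have fz' := fixed (n • suzukiPointZero F) (smul_mem_ovoid n pointZero_mem)
        (by rw [← mul_smul, ← hn2, mul_smul, dSz_smul_zero])
      rcases fi with fi | fi <;> rcases fz' with fz' | fz'
      · exact absurd (smul_left_cancel n (fi.trans fz'.symm)) pointZero_ne_infinity.symm
      · obtain ⟨j, rfl⟩ := exists_dSz_of_fix hm hF fi fz'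
        exact ⟨(false, ⟨_, (mem_dSub hF).mpr ⟨j, rfl⟩⟩), Subtype.ext (one_mul _)⟩
      · obtain ⟨j, hj⟩ := exists_dSz_of_fix hm hF (g := wSz hF * n)
          (by rw [mul_smul, fi, wSz_smul_zero]) (by rw [mul_smul, fz', wSz_smul_infinity])
        exact ⟨(true, ⟨_, (mem_dSub hF).mpr ⟨j, rfl⟩⟩), Subtype.ext (by
          show wSz hF * dSz hF j = n
          rw [← hj, ← mul_assoc, wSz_mul_self, one_mul])⟩
      · exact absurd (smul_left_cancel n (fi.trans fz'.symm)) pointZero_ne_infinity.symm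
  rw [← Nat.card_congr (Equiv.ofBijective f hf), Nat.card_prod, card_dSub]
  simp

include hm in
/-- Every non-identity element is unipotent-type, torus-type or fixed-point-free, exclusively. -/
theorem mem_cases {g : Sz F m} (hg : g ≠ 1) :
    (g ∈ conjSet (uSub hF) ∧ g ∉ conjSet (dSub hF) ∧ ¬ FPF g) ∨
    (g ∉ conjSet (uSub hF) ∧ g ∈ conjSet (dSub hF) ∧ ¬ FPF g) ∨
    (g ∉ conjSet (uSub hF) ∧ g ∉ conjSet (dSub hF) ∧ FPF g) := by
  have hu : g ∈ conjSet (uSub hF) → ¬ FPF g := by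
    rintro ⟨x, _, ⟨a, b, rfl⟩, -, rfl⟩ h
    exact h (x • suzukiPointInfinity F) (smul_mem_ovoid x infinity_mem)
      (by rw [mul_smul, mul_smul, inv_smul_smul, tSz_smul_infinity])
  have hd : g ∈ conjSet (dSub hF) → ¬ FPF g := by
    rintro ⟨x, c, hc, -, rfl⟩ h
    obtain ⟨k, rfl⟩ := (mem_dSub hF).mp hc
    exact h (x • suzukiPointInfinity F) (smul_mem_ovoid x infinity_mem)
      (by rw [mul_smul, mul_smul, inv_smul_smul, dSz_smul_infinity])
  have hud : g ∈ conjSet (uSub hF) → g ∉ conjSet (dSub hF) := by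
    rintro ⟨x, c, ⟨a, b, rfl⟩, hc1, rfl⟩ ⟨y, d, hd', hd1, he⟩
    obtain ⟨k, rfl⟩ := (mem_dSub hF).mp hd'
    -- `dSz k` would then have a unique fixed point
    have hk : dSz hF k = (y⁻¹ * x) * tSz hF a b * (y⁻¹ * x)⁻¹ := by
      calc dSz hF k = y⁻¹ * (y * dSz hF k * y⁻¹) * y := by group
        _ = _ := by rw [← he]; group
    have key : ∀ p ∈ suzukiOvoid F m, dSz hF k • p = p →
        p = (y⁻¹ * x) • suzukiPointInfinity F := by
      intro p hp hfix
      rw [hk, mul_smul, mul_smul, ← eq_inv_smul_iff] at hfix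
      have := uSub_fix_eq hF (a := a) (b := b)
        (fun h => hc1 ((tSz_eq_one_iff hF).mpr h)) (smul_mem_ovoid _ hp) hfix
      exact inv_smul_eq_iff.mp this
    exact pointZero_ne_infinity ((key _ pointZero_mem (dSz_smul_zero hF k)).trans
      (key _ infinity_mem (dSz_smul_infinity hF k)).symm)
  by_cases hf : FPF g
  · exact Or.inr (Or.inr ⟨fun h => hu h hf, fun h => hd h hf, hf⟩)
  · have hf' := hf
    simp only [FPF, not_forall, not_not] at hf'
    obtain ⟨p, hp, hfix⟩ := hf'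
    rcases fixer_cases hm hF hg hp hfix with ⟨s, a, b, hab, -, rfl⟩ | ⟨s, k, hk, rfl⟩
    · have hmem : s * tSz hF a b * s⁻¹ ∈ conjSet (uSub hF) :=
        ⟨s, _, tSz_mem_uSub hF a b, fun h => hab ((tSz_eq_one_iff hF).mp h), rfl⟩
      exact Or.inl ⟨hmem, hud hmem, hf⟩
    · have hmem : s * dSz hF k * s⁻¹ ∈ conjSet (dSub hF) :=
        ⟨s, _, (mem_dSub hF).mpr ⟨k, rfl⟩,
          fun h => hk (dSz_inj hF (h.trans (dSz_one hF).symm)), rfl⟩
      exact Or.inr (Or.inl ⟨fun h => hud h hmem, hmem, hf⟩)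

lemma one_notMem_conjSet {G : Type*} [Group G] (C : Subgroup G) : (1 : G) ∉ conjSet C := by
  rintro ⟨x, c, -, hc, he⟩
  exact hc (conj_eq_one_iff.mp he.symm)

include hm hF in
/-- The number of fixed-point-free elements. -/
theorem card_fpf :
    2 * ((2 ^ (2 * m + 1)) ^ 2 + 1) * {g : Sz F m | FPF g}.ncard =
      Nat.card (Sz F m) * (2 ^ (2 * m + 1) * (2 ^ (2 * m + 1) - 1)) := by
  have hU := card_conjSet (uSub hF) (ti_uSub hm hF)
  have hD := card_conjSet (dSub hF) (ti_dSub hm hF)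
  rw [normalizer_uSub hm hF, card_stabilizer hm hF, card_uSub] at hU
  rw [card_normalizer_dSub hm hF, card_dSub] at hD
  have e : (Set.univ : Set (Sz F m)) = {1} ∪
      (conjSet (uSub hF) ∪ (conjSet (dSub hF) ∪ {g : Sz F m | FPF g})) := by
    ext g
    simp only [Set.mem_univ, Set.mem_union, Set.mem_singleton_iff, Set.mem_setOf_eq, true_iff]
    rcases eq_or_ne g 1 with h | h
    · exact Or.inl h
    · rcases mem_cases hm hF h with ⟨a, -, -⟩ | ⟨-, a, -⟩ | ⟨-, -, a⟩
      · exact Or.inr (Or.inl a)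
      · exact Or.inr (Or.inr (Or.inl a))
      · exact Or.inr (Or.inr (Or.inr a))
  have d1 : Disjoint ({1} : Set (Sz F m))
      (conjSet (uSub hF) ∪ (conjSet (dSub hF) ∪ {g : Sz F m | FPF g})) := by
    rw [Set.disjoint_singleton_left]
    rintro (h | h | h)
    · exact one_notMem_conjSet _ h
    · exact one_notMem_conjSet _ h
    · exact ne_one_of_fpf h rfl
  have d2 : Disjoint (conjSet (uSub hF)) (conjSet (dSub hF) ∪ {g : Sz F m | FPF g}) := by
    rw [Set.disjoint_left]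
    intro g hg h
    have hg1 : g ≠ 1 := fun e => one_notMem_conjSet _ (e ▸ hg)
    rcases mem_cases hm hF hg1 with ⟨-, b, c⟩ | ⟨a, -⟩ | ⟨a, -⟩
    · exact h.elim b c
    · exact a hg
    · exact a hg
  have d3 : Disjoint (conjSet (dSub hF)) {g : Sz F m | FPF g} := by
    rw [Set.disjoint_left]
    intro g hg h
    have hg1 : g ≠ 1 := fun e => one_notMem_conjSet _ (e ▸ hg)
    rcases mem_cases hm hF hg1 with ⟨-, b, -⟩ | ⟨-, -, c⟩ | ⟨-, b, -⟩
    · exact b hg
    · exact c h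
    · exact b hg
  have hsum := congrArg Set.ncard e
  rw [Set.ncard_univ, Set.ncard_union_eq d1 (Set.toFinite _) (Set.toFinite _),
    Set.ncard_union_eq d2 (Set.toFinite _) (Set.toFinite _),
    Set.ncard_union_eq d3 (Set.toFinite _) (Set.toFinite _), Set.ncard_singleton] at hsum
  rw [card_sz hm hF] at hsum hU hD ⊢
  generalize (conjSet (uSub hF)).ncard = sU at hsum hU
  generalize (conjSet (dSub hF)).ncard = sD at hsum hD
  generalize {g : Sz F m | FPF g}.ncard = Φ at hsum ⊢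
  generalize hq : 2 ^ (2 * m + 1) = q at hsum hU hD ⊢
  have hq2 : 2 ≤ q := hq ▸ le_self_pow₀ (by norm_num : 1 ≤ 2) (by omega)
  obtain ⟨r, rfl⟩ : ∃ r, q = r + 2 := ⟨q - 2, by omega⟩
  have hq1 : r + 2 - 1 = r + 1 := by omega
  rw [hq1] at hsum hU hD ⊢
  have hsq : (r + 2) ^ 2 - 1 = (r + 1) * (r + 3) := by
    rw [show (r + 2) ^ 2 = (r + 1) * (r + 3) + 1 by ring]; rfl
  rw [hsq] at hU
  rw [show r + 1 - 1 = r by omega] at hD
  have hU' : sU = ((r + 2) ^ 2 + 1) * ((r + 1) * (r + 3)) := by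
    have hpos : 0 < (r + 2) ^ 2 * (r + 1) := by positivity
    apply Nat.eq_of_mul_eq_mul_right hpos
    rw [hU]; ring
  have hD' : 2 * sD = (r + 2) ^ 2 * ((r + 2) ^ 2 + 1) * r := by
    apply Nat.eq_of_mul_eq_mul_right (Nat.succ_pos r)
    show 2 * sD * (r + 1) = (r + 2) ^ 2 * ((r + 2) ^ 2 + 1) * r * (r + 1)
    linear_combination hD
  subst hU'
  zify at hsum hD' ⊢
  linear_combination (-(2 * (((r : ℤ) + 2) ^ 2 + 1))) * hsum - (((r : ℤ) + 2) ^ 2 + 1) * hD'

end Cfsg.Agent.Suzuki
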