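import Cfsg.Agent.Lib.Suzuki.Parts
import Cfsg.Agent.Lib.Suzuki.Borel

/-!
# No nilpotent minimal cover

`no_nilpotent_minimal_cover`: replacing, in a nilpotent cover, the members by Borel subgroups and
tori gives a strictly smaller cover.
-/

set_option autoImplicit false
set_option linter.style.haveILetI false

namespace Cfsg.Agent.Suzuki

open Cfsg
open scoped Matrix commutatorElement

variable {F : Type*} [Field F] {m : ℕ} [Fintype F]
variable (hm : 1 ≤ m) (hF : Fintype.card F = 2 ^ (2 * m + 1))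

/-- `U` is a part of the partition. -/
def IsPart (m : ℕ) (U : Subgroup (Sz F m)) : Prop :=
  (∃ P : Sylow 2 (Sz F m), U = (P : Subgroup (Sz F m))) ∨
    (IsCyclic U ∧ Nat.card U ∈ ({2 ^ (2 * m + 1) - 1, torusA m, torusB m} : Set ℕ))

omit [Fintype F] in
lemma center_nontrivial_of_nilpotent {G : Type*} [Group G] [Group.IsNilpotent G] [Nontrivial G] :
    Nontrivial (Subgroup.center G) := by
  rw [Subgroup.nontrivial_iff_ne_bot]
  intro h
  have hstep : ∀ n, Subgroup.upperCentralSeries G n = ⊥ := by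
    intro n
    induction n with
    | zero => exact Subgroup.upperCentralSeries_zero G
    | succ n ih =>
      rw [eq_bot_iff]
      intro x hx
      have hx' : x ∈ Subgroup.center G := by
        rw [Subgroup.mem_center_iff]
        intro y
        have h1 := Subgroup.mem_upperCentralSeries_succ_iff.mp hx y
        rw [ih, Subgroup.mem_bot] at h1
        exact (commutatorElement_eq_one_iff_commute.mp h1).eq.symm
      rwa [h] at hx'
  obtain ⟨n, hn⟩ := Group.IsNilpotent.nilpotent (G := G)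
  rw [hstep n] at hn
  exact bot_ne_top hn

include hm hF in
/-- A nilpotent subgroup lies in a single part. -/
lemma exists_part_of_nilpotent {A : Subgroup (Sz F m)} (hA : Group.IsNilpotent A) :
    ∀ x ∈ A, x ≠ 1 → ∀ y ∈ A, y ≠ 1 → ∀ U V : Subgroup (Sz F m),
      IsPart m U → IsPart m V → x ∈ U → y ∈ V → U = V := by
  haveI : Fact (Nat.Prime 2) := ⟨Nat.prime_two⟩
  intro x hx hx1 y hy hy1 U V hU hV hxU hyV
  haveI := hA
  haveI : Nontrivial A := ⟨⟨⟨x, hx⟩, 1, fun h => hx1 (congrArg Subtype.val h)⟩⟩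
  haveI := center_nontrivial_of_nilpotent (G := A)
  obtain ⟨⟨z, hz⟩, hz1⟩ := exists_ne (1 : Subgroup.center A)
  have hz' : (z : Sz F m) ≠ 1 := fun h => hz1 (Subtype.ext (Subtype.ext h))
  have hle : A ≤ Subgroup.centralizer {(z : Sz F m)} := fun a ha => by
    rw [Subgroup.mem_centralizer_singleton_iff]
    exact congrArg Subtype.val (Subgroup.mem_center_iff.mp hz ⟨a, ha⟩)
  obtain ⟨W, hW, hzW⟩ : ∃ W, IsPart m W ∧ ∀ a ∈ A, a ∈ W := by
    rcases centralizer_cases hm hF hz' with ⟨s, hs⟩ | ⟨hc, -, hcard⟩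
    · refine ⟨(s • uSylow hm hF : Sylow 2 (Sz F m)), Or.inl ⟨_, rfl⟩, fun a ha => ?_⟩
      rw [Sylow.coe_subgroup_smul]
      exact hs (hle ha)
    · exact ⟨_, Or.inr ⟨hc, hcard⟩, hle⟩
  exact ((partition_unique hm hF hx1).unique ⟨hU, hxU⟩ ⟨hW, hzW x hx⟩).trans
    ((partition_unique hm hF hy1).unique ⟨hV, hyV⟩ ⟨hW, hzW y hy⟩).symm

include hm hF in
/-- There is no minimal cover consisting of nilpotent subgroups. -/
theorem no_nilpotent_minimal_cover :
    ¬ ∃ 𝓐 : Finset (Subgroup (Sz F m)),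
      ((∀ A ∈ 𝓐, A ≠ ⊤) ∧ ∀ g : Sz F m, ∃ A ∈ 𝓐, g ∈ A) ∧
      (∀ 𝓑 : Finset (Subgroup (Sz F m)),
        (∀ A ∈ 𝓑, A ≠ ⊤) ∧ (∀ g : Sz F m, ∃ A ∈ 𝓑, g ∈ A) → 𝓐.card ≤ 𝓑.card) ∧
      (∀ A ∈ 𝓐, Group.IsNilpotent A) := by
  classical
  rintro ⟨𝓐, ⟨htop, hcover⟩, hmin, hnil⟩
  haveI : Fact (Nat.Prime 2) := ⟨Nat.prime_two⟩
  obtain ⟨k, hk0, hk1⟩ := exists_ne_zero_one hm hF
  set d := dSz hF (Units.mk0 k hk0) with hd
  have hd1 : d ≠ 1 := fun h =>
    hk1 (congrArg Units.val (dSz_inj hF (h.trans (dSz_one hF).symm)))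
  -- the part attached to a member
  let φ : Subgroup (Sz F m) → Subgroup (Sz F m) := fun A =>
    if h : ∃ U, IsPart m U ∧ ∃ a ∈ A, a ≠ 1 ∧ a ∈ U then
      (if ∃ P : Sylow 2 (Sz F m), h.choose = (P : Subgroup (Sz F m)) then
        Subgroup.normalizer (h.choose : Set (Sz F m)) else h.choose)
    else ⊥
  obtain ⟨A₀, hA₀, hdA₀⟩ := hcover d
  set 𝓑 := (𝓐.erase A₀).image φ with h𝓑
  have hcard : 𝓑.card < 𝓐.card :=
    Finset.card_image_le.trans_lt (Finset.card_erase_lt_of_mem hA₀)
  refine absurd (hmin 𝓑 ⟨?_, ?_⟩) (not_le.mpr hcard)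
  · intro B hB
    obtain ⟨A, -, rfl⟩ := Finset.mem_image.mp hB
    simp only [φ]
    split
    · rename_i h
      split
      · rename_i h'
        obtain ⟨P, hP⟩ := h'
        rw [hP]
        exact (borel_maximal hm hF P).1.1
      · intro e
        rcases h.choose_spec.1 with hP | ⟨hc, -⟩
        · rename_i h'; exact h' hP
        · rw [e] at hc
          haveI := hc
          haveI : IsCyclic (Sz F m) :=
            isCyclic_of_surjective Subgroup.topEquiv.toMonoidHom Subgroup.topEquiv.surjective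
          letI := IsCyclic.commGroup (α := Sz F m)
          have h1 : commutator (Sz F m) = ⊥ := Subgroup.commutator_eq_bot_iff_le_centralizer.mpr
            (fun a _ => Subgroup.mem_centralizer_iff.mpr fun b _ => mul_comm b a)
          have h2 : (⊥ : Subgroup (Sz F m)) = ⊤ := h1.symm.trans (commutator_eq_top hm hF)
          exact hd1 (Subgroup.mem_bot.mp (h2 ▸ Subgroup.mem_top d))
    · intro e
      exact hd1 (Subgroup.mem_bot.mp (e ▸ Subgroup.mem_top d))
  · -- every element is covered: a part of a unipotent element or torus is reached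
    have reach : ∀ U, IsPart m U → ∀ A ∈ 𝓐, ∀ a ∈ A, a ≠ 1 → a ∈ U →
        φ A = (if ∃ P : Sylow 2 (Sz F m), U = (P : Subgroup (Sz F m)) then
          Subgroup.normalizer (U : Set (Sz F m)) else U) := by
      intro U hU A hA a ha ha1 haU
      have h : ∃ U, IsPart m U ∧ ∃ a ∈ A, a ≠ 1 ∧ a ∈ U := ⟨U, hU, a, ha, ha1, haU⟩
      simp only [φ, dif_pos h]
      obtain ⟨hP, b, hb, hb1, hbU⟩ := h.choose_spec
      rw [exists_part_of_nilpotent hm hF (hnil A hA) b hb hb1 a ha ha1 _ _ hP hU hbU haU]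
    have hDpart : IsPart m (dSub hF) :=
      Or.inr ⟨isCyclic_of_surjective (dHom hF).rangeRestrict (dHom hF).rangeRestrict_surjective,
        Or.inl (card_dSub hF)⟩
    have hdD : d ∈ dSub hF := (mem_dSub hF).mpr ⟨_, rfl⟩
    -- a member meeting a part other than the torus is not the removed one
    have avoid : ∀ U, IsPart m U → U ≠ dSub hF → ∀ A ∈ 𝓐, ∀ a ∈ A, a ≠ 1 → a ∈ U →
        A ∈ 𝓐.erase A₀ := by
      intro U hU hne A hA a ha ha1 haU
      refine Finset.mem_erase.mpr ⟨fun e => hne ?_, hA⟩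
      exact exists_part_of_nilpotent hm hF (hnil A hA) a ha ha1 d (e ▸ hdA₀) hd1 U _ hU hDpart
        haU hdD
    have sylow_reach : ∀ P : Sylow 2 (Sz F m),
        Subgroup.normalizer ((P : Subgroup (Sz F m)) : Set (Sz F m)) ∈ 𝓑 := by
      intro P
      have hne : (P : Subgroup (Sz F m)) ≠ ⊥ := by
        intro h
        have := congrArg (fun H : Subgroup (Sz F m) => Nat.card H) h
        simp only [Subgroup.card_bot] at this
        rw [(sylow_two_structure hm hF P).1] at this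
        have h4 : 2 ≤ 2 ^ (2 * m + 1) := le_self_pow₀ (by norm_num : 1 ≤ 2) (by omega)
        nlinarith
      obtain ⟨⟨a, haP⟩, ha1⟩ := Subgroup.ne_bot_iff_exists_ne_one.mp hne
      have ha1' : a ≠ 1 := fun h => ha1 (Subtype.ext h)
      have hPne : (P : Subgroup (Sz F m)) ≠ dSub hF := fun h => by
        have := congrArg (fun H : Subgroup (Sz F m) => Nat.card H) h
        simp only [(sylow_two_structure hm hF P).1, card_dSub] at this
        generalize hq : 2 ^ (2 * m + 1) = q at this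
        have : q ≤ q ^ 2 := Nat.le_self_pow two_ne_zero q
        have : 0 < 2 ^ (2 * m + 1) := Nat.two_pow_pos _
        omega
      obtain ⟨A, hA, haA⟩ := hcover a
      refine Finset.mem_image.mpr
        ⟨A, avoid _ (Or.inl ⟨P, rfl⟩) hPne A hA a haA ha1' haP, ?_⟩
      rw [reach _ (Or.inl ⟨P, rfl⟩) A hA a haA ha1' haP, if_pos ⟨P, rfl⟩]
    intro g
    rcases eq_or_ne g 1 with rfl | hg
    · exact ⟨_, sylow_reach (uSylow hm hF), one_mem _⟩
    rcases mem_cases hm hF hg with ⟨⟨s, c, hc, -, rfl⟩, -, -⟩ | ⟨-, ⟨s, c, hc, -, rfl⟩, -⟩ |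
        ⟨-, -, hf⟩
    · refine ⟨_, sylow_reach (s • uSylow hm hF), Subgroup.le_normalizer ?_⟩
      rw [Sylow.coe_subgroup_smul]
      exact ⟨c, hc, rfl⟩
    · refine ⟨_, sylow_reach (s • uSylow hm hF), ?_⟩
      rw [Sylow.coe_subgroup_smul]
      show s * c * s⁻¹ ∈ Subgroup.normalizer
        (((uSub hF).map (MulAut.conj s).toMonoidHom : Subgroup (Sz F m)) : Set (Sz F m))
      rw [← Subgroup.map_equiv_normalizer_eq, normalizer_uSub hm hF]
      obtain ⟨l, rfl⟩ := (mem_dSub hF).mp hc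
      exact ⟨_, dSz_smul_infinity hF l, rfl⟩
    · have hU : IsPart m (torus g) :=
        Or.inr ⟨cyclic_centralizer_of_fpf hm hF hf, Or.inr (torus_data hm hF hf).1⟩
      have hne : torus g ≠ dSub hF := fun h => by
        obtain ⟨l, hl⟩ := (mem_dSub hF).mp (h ▸ self_mem_torus g)
        exact hf _ infinity_mem (by rw [hl, dSz_smul_infinity])
      have hns : ¬ ∃ P : Sylow 2 (Sz F m), torus g = (P : Subgroup (Sz F m)) := by
        rintro ⟨P, hP⟩
        obtain ⟨s, hs⟩ := MulAction.exists_smul_eq (Sz F m) (uSylow hm hF) P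
        have hgP := hP ▸ self_mem_torus g
        rw [← hs, Sylow.coe_subgroup_smul] at hgP
        obtain ⟨c, ⟨a, b, rfl⟩, hc⟩ := hgP
        exact hf _ (smul_mem_ovoid s infinity_mem) (by
          rw [← hc]
          show (s * tSz hF a b * s⁻¹) • s • suzukiPointInfinity F = _
          rw [mul_smul, mul_smul, inv_smul_smul, tSz_smul_infinity])
      obtain ⟨A, hA, hgA⟩ := hcover g
      refine ⟨torus g, Finset.mem_image.mpr
        ⟨A, avoid _ hU hne A hA g hgA hg (self_mem_torus g), ?_⟩, self_mem_torus g⟩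
      rw [reach _ hU A hA g hgA hg (self_mem_torus g), if_neg hns]

end Cfsg.Agent.Suzuki
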