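import Cfsg.Agent.Lib.Suzuki.Ovoid

/-!
# Distinguished elements of the Suzuki group `Cfsg.Sz F m`

`tSz hF a b` (unipotent), `dSz hF k` (torus), `wSz hF` (inversion), their action on the ovoid,
their relations, and the subgroup `uSub hF`.
-/

set_option autoImplicit false
set_option linter.style.haveILetI false

namespace Cfsg.Agent.Suzuki

open Cfsg
open scoped Matrix

variable {F : Type*} [Field F] {m : ℕ}

/-- Unipotent matrix fixing `(1,0,0,0)`. -/
def tMat (m : ℕ) (a b : F) : Matrix (Fin 4) (Fin 4) F :=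
  !![1, a, b + th m a * a, fz m a b; 0, 1, th m a, b; 0, 0, 1, a; 0, 0, 0, 1]

lemma det_tMat (a b : F) : (tMat m a b).det = 1 := by
  have h : (tMat m a b).BlockTriangular id := by
    intro i j hij
    fin_cases i <;> fin_cases j <;> simp at hij ⊢ <;> simp [tMat]
  rw [Matrix.det_of_upperTriangular h]
  simp [Fin.prod_univ_four, tMat]

/-- The unipotent element in `SL₄`. -/
def tSL (m : ℕ) (a b : F) : Matrix.SpecialLinearGroup (Fin 4) F := ⟨tMat m a b, det_tMat a b⟩

lemma tSL_coe (a b : F) : ((tSL m a b : Matrix.SpecialLinearGroup (Fin 4) F) :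
    Matrix (Fin 4) (Fin 4) F) = tMat m a b := rfl

/-- The diagonal of a torus element. -/
def dVec (m : ℕ) (k : Fˣ) : Fin 4 → F :=
  ![(k : F) ^ (2 ^ m) * k, (k : F) ^ (2 ^ m), ((k : F) ^ (2 ^ m))⁻¹, ((k : F) ^ (2 ^ m) * k)⁻¹]

lemma det_dMat (k : Fˣ) : (Matrix.diagonal (dVec m k)).det = 1 := by
  have h : (k : F) ^ (2 ^ m) ≠ 0 := pow_ne_zero _ k.ne_zero
  simp [Matrix.det_diagonal, Fin.prod_univ_four, dVec]
  field_simp

/-- The torus element in `SL₄`. -/
def dSL (m : ℕ) (k : Fˣ) : Matrix.SpecialLinearGroup (Fin 4) F :=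
  ⟨Matrix.diagonal (dVec m k), det_dMat k⟩

lemma det_suzukiForm : (suzukiForm F).det = 1 := by
  simp [suzukiForm, Matrix.det_succ_row_zero, Fin.sum_univ_succ, Fin.succAbove]
  norm_num

/-- The inversion in `SL₄`. -/
def wSL (F : Type*) [Field F] : Matrix.SpecialLinearGroup (Fin 4) F :=
  ⟨suzukiForm F, det_suzukiForm⟩

lemma smul_vec_def (g : Matrix.SpecialLinearGroup (Fin 4) F) (v : Fin 4 → F) :
    g • v = (g : Matrix (Fin 4) (Fin 4) F) *ᵥ v := rfl

lemma smul_mk_eq {g : Matrix.SpecialLinearGroup (Fin 4) F} {v v' : Fin 4 → F} (hv : v ≠ 0)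
    (hv' : v' ≠ 0) (c : F) (h : (g : Matrix (Fin 4) (Fin 4) F) *ᵥ v = c • v') :
    g • Projectivization.mk F v hv = Projectivization.mk F v' hv' := by
  rw [Projectivization.smul_mk]
  exact (Projectivization.mk_eq_mk_iff' F _ _ _ _).mpr ⟨c, h.symm⟩

lemma tSL_smul_infinity (a b : F) : tSL m a b • suzukiPointInfinity F = suzukiPointInfinity F := by
  refine smul_mk_eq _ _ 1 ?_
  funext i
  fin_cases i <;> simp [tSL_coe, tMat, Matrix.mulVec, dotProduct, Fin.sum_univ_four]

lemma dSL_smul_infinity (k : Fˣ) : dSL m k • suzukiPointInfinity F = suzukiPointInfinity F := by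
  refine smul_mk_eq _ _ ((k : F) ^ (2 ^ m) * k) ?_
  funext i
  fin_cases i <;> simp [dSL, dVec, Matrix.mulVec_diagonal]

lemma wSL_smul_infinity : wSL F • suzukiPointInfinity F = suzukiPointZero F := by
  refine smul_mk_eq _ _ 1 ?_
  funext i
  fin_cases i <;> simp [wSL, suzukiForm, Matrix.mulVec, dotProduct, Fin.sum_univ_four]

lemma wSL_smul_zero : wSL F • suzukiPointZero F = suzukiPointInfinity F := by
  refine smul_mk_eq _ _ 1 ?_
  funext i
  fin_cases i <;> simp [wSL, suzukiForm, Matrix.mulVec, dotProduct, Fin.sum_univ_four]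

lemma th_eq_sq (x : F) : th m x = (x ^ (2 ^ m)) ^ 2 := by
  rw [th, pow_succ, pow_mul]

section finite

variable [Fintype F]

lemma tSL_smul_pt (hF : Fintype.card F = 2 ^ (2 * m + 1)) (a b x y : F) :
    tSL m a b • pt m x y = pt m (x + a) (y + th m a * x + b) := by
  refine smul_mk_eq _ _ 1 ?_
  funext i
  fin_cases i <;>
    simp [tSL_coe, tMat, vec, Matrix.mulVec, dotProduct, Fin.sum_univ_four, fz_translate hF]

lemma dSL_smul_pt (hF : Fintype.card F = 2 ^ (2 * m + 1)) (k : Fˣ) (x y : F) :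
    dSL m k • pt m x y = pt m ((k : F) * x) (th m (k : F) * (k : F) * y) := by
  have h : (k : F) ^ (2 ^ m) ≠ 0 := pow_ne_zero _ k.ne_zero
  refine smul_mk_eq _ _ (((k : F) ^ (2 ^ m) * k)⁻¹) ?_
  funext i
  fin_cases i <;> simp [dSL, dVec, vec, Matrix.mulVec_diagonal, fz_scale hF] <;>
    (try simp [th_eq_sq (k : F)]) <;> field_simp

lemma wSL_smul_pt (hF : Fintype.card F = 2 ^ (2 * m + 1)) (x y : F) (h : fz m x y ≠ 0) :
    wSL F • pt m x y = pt m (y / fz m x y) (x / fz m x y) := by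
  refine smul_mk_eq _ _ (fz m x y) ?_
  funext i
  fin_cases i <;>
    simp [wSL, suzukiForm, vec, Matrix.mulVec, dotProduct, Fin.sum_univ_four, fz_invert hF h] <;>
    field_simp

lemma tSL_mem (hF : Fintype.card F = 2 ^ (2 * m + 1)) (a b : F) : tSL m a b ∈ Sz F m := by
  refine (MulAction.mem_stabilizer_set' ovoid_finite).mpr fun p hp => ?_
  rcases mem_ovoid_iff.mp hp with rfl | ⟨x, y, rfl⟩
  · rw [tSL_smul_infinity]; exact infinity_mem
  · rw [tSL_smul_pt hF]; exact pt_mem _ _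

lemma dSL_mem (hF : Fintype.card F = 2 ^ (2 * m + 1)) (k : Fˣ) : dSL m k ∈ Sz F m := by
  refine (MulAction.mem_stabilizer_set' ovoid_finite).mpr fun p hp => ?_
  rcases mem_ovoid_iff.mp hp with rfl | ⟨x, y, rfl⟩
  · rw [dSL_smul_infinity]; exact infinity_mem
  · rw [dSL_smul_pt hF]; exact pt_mem _ _

lemma wSL_mem (hF : Fintype.card F = 2 ^ (2 * m + 1)) : wSL F ∈ Sz F m := by
  refine (MulAction.mem_stabilizer_set' ovoid_finite).mpr fun p hp => ?_
  rcases mem_ovoid_iff.mp hp with rfl | ⟨x, y, rfl⟩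
  · rw [wSL_smul_infinity]; exact pointZero_mem
  · by_cases h : fz m x y = 0
    · obtain ⟨rfl, rfl⟩ := fz_eq_zero hF h
      rw [pt_zero_zero, wSL_smul_zero]; exact infinity_mem
    · rw [wSL_smul_pt hF x y h]; exact pt_mem _ _

/-- Unipotent element of the Suzuki group. -/
def tSz (hF : Fintype.card F = 2 ^ (2 * m + 1)) (a b : F) : Sz F m := ⟨tSL m a b, tSL_mem hF a b⟩

/-- Torus element of the Suzuki group. -/
def dSz (hF : Fintype.card F = 2 ^ (2 * m + 1)) (k : Fˣ) : Sz F m := ⟨dSL m k, dSL_mem hF k⟩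

/-- The inversion in the Suzuki group. -/
def wSz (hF : Fintype.card F = 2 ^ (2 * m + 1)) : Sz F m := ⟨wSL F, wSL_mem hF⟩

variable (hF : Fintype.card F = 2 ^ (2 * m + 1))

lemma tSz_smul_infinity (a b : F) :
    tSz hF a b • suzukiPointInfinity F = suzukiPointInfinity F := tSL_smul_infinity a b

lemma dSz_smul_infinity (k : Fˣ) :
    dSz hF k • suzukiPointInfinity F = suzukiPointInfinity F := dSL_smul_infinity k

lemma wSz_smul_infinity : wSz hF • suzukiPointInfinity F = suzukiPointZero F := wSL_smul_infinity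

lemma wSz_smul_zero : wSz hF • suzukiPointZero F = suzukiPointInfinity F := wSL_smul_zero

lemma tSz_smul_pt (a b x y : F) :
    tSz hF a b • pt m x y = pt m (x + a) (y + th m a * x + b) := tSL_smul_pt hF a b x y

lemma dSz_smul_pt (k : Fˣ) (x y : F) :
    dSz hF k • pt m x y = pt m ((k : F) * x) (th m (k : F) * (k : F) * y) := dSL_smul_pt hF k x y

lemma tSz_smul_zero (a b : F) : tSz hF a b • suzukiPointZero F = pt m a b := by
  rw [← pt_zero_zero (m := m), tSz_smul_pt]; simp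

lemma dSz_smul_zero (k : Fˣ) : dSz hF k • suzukiPointZero F = suzukiPointZero F := by
  rw [← pt_zero_zero (m := m), dSz_smul_pt]; simp

lemma tSz_mul (a b c d : F) :
    tSz hF a b * tSz hF c d = tSz hF (a + c) (b + d + th m a * c) := by
  haveI := charTwo hF
  apply Subtype.ext
  apply Subtype.ext
  show tMat m a b * tMat m c d = tMat m (a + c) (b + d + th m a * c)
  ext i j
  fin_cases i <;> fin_cases j <;>
    simp [tMat, Matrix.mul_apply, Fin.sum_univ_four, fz, th_add, th_mul, th_th hF] <;> grind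

lemma tSz_inj {a b c d : F} (h : tSz hF a b = tSz hF c d) : a = c ∧ b = d := by
  have h' : tMat m a b = tMat m c d := congrArg (fun g : Sz F m =>
    ((g : Matrix.SpecialLinearGroup (Fin 4) F) : Matrix (Fin 4) (Fin 4) F)) h
  have ha := congrFun (congrFun h' 0) 1
  have hb := congrFun (congrFun h' 1) 3
  simp [tMat] at ha hb
  exact ⟨ha, hb⟩

lemma tSz_zero : tSz hF (0 : F) 0 = 1 := by
  apply Subtype.ext
  apply Subtype.ext
  show tMat m 0 0 = 1
  ext i j
  fin_cases i <;> fin_cases j <;> simp [tMat]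

lemma tSz_eq_one_iff {a b : F} : tSz hF a b = 1 ↔ a = 0 ∧ b = 0 :=
  ⟨fun h => tSz_inj hF (h.trans (tSz_zero hF).symm),
    fun ⟨ha, hb⟩ => by subst ha hb; exact tSz_zero hF⟩

lemma tSz_inv (a b : F) : (tSz hF a b)⁻¹ = tSz hF a (b + th m a * a) := by
  haveI := charTwo hF
  apply inv_eq_of_mul_eq_one_right
  rw [tSz_mul, tSz_eq_one_iff]
  constructor <;> grind

lemma dSz_mul (k l : Fˣ) : dSz hF k * dSz hF l = dSz hF (k * l) := by
  apply Subtype.ext
  apply Subtype.ext
  show Matrix.diagonal (dVec m k) * Matrix.diagonal (dVec m l) = Matrix.diagonal (dVec m (k * l))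
  rw [Matrix.diagonal_mul_diagonal]
  congr 1
  funext i
  fin_cases i <;> simp [dVec, mul_pow] <;> ring

lemma dSz_one : dSz hF (1 : Fˣ) = 1 := by
  apply Subtype.ext
  apply Subtype.ext
  show Matrix.diagonal (dVec m 1) = 1
  rw [← Matrix.diagonal_one]
  congr 1
  funext i
  fin_cases i <;> simp [dVec]

lemma dSz_inj {k l : Fˣ} (h : dSz hF k = dSz hF l) : k = l := by
  haveI := charTwo hF
  have h' : dVec m k = dVec m l := Matrix.diagonal_injective (congrArg (fun g : Sz F m =>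
    ((g : Matrix.SpecialLinearGroup (Fin 4) F) : Matrix (Fin 4) (Fin 4) F)) h)
  have h1 := congrFun h' 1
  have h0 := congrFun h' 0
  simp [dVec] at h1 h0
  rw [h1] at h0
  exact Units.ext (mul_left_cancel₀ (pow_ne_zero _ l.ne_zero) h0)

lemma dSz_conj_tSz (k : Fˣ) (a b : F) :
    dSz hF k * tSz hF a b = tSz hF ((k : F) * a) (th m (k : F) * (k : F) * b) * dSz hF k := by
  have h : (k : F) ^ (2 ^ m) ≠ 0 := pow_ne_zero _ k.ne_zero
  apply Subtype.ext
  apply Subtype.ext
  show Matrix.diagonal (dVec m k) * tMat m a b =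
    tMat m ((k : F) * a) (th m (k : F) * (k : F) * b) * Matrix.diagonal (dVec m k)
  ext i j
  rw [Matrix.diagonal_mul, Matrix.mul_diagonal]
  fin_cases i <;> fin_cases j <;> simp [tMat, dVec, fz_scale hF, th_mul] <;>
    (try simp [th_eq_sq (k : F)]) <;> field_simp

lemma wSz_mul_self : wSz hF * wSz hF = 1 := by
  apply Subtype.ext
  apply Subtype.ext
  show suzukiForm F * suzukiForm F = 1
  ext i j
  fin_cases i <;> fin_cases j <;> simp [suzukiForm, Matrix.mul_apply, Fin.sum_univ_four]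

lemma wSz_inv : (wSz hF)⁻¹ = wSz hF := inv_eq_of_mul_eq_one_right (wSz_mul_self hF)

lemma wSz_conj_dSz (k : Fˣ) : wSz hF * dSz hF k = dSz hF k⁻¹ * wSz hF := by
  apply Subtype.ext
  apply Subtype.ext
  show suzukiForm F * Matrix.diagonal (dVec m k) = Matrix.diagonal (dVec m k⁻¹) * suzukiForm F
  ext i j
  rw [Matrix.diagonal_mul, Matrix.mul_diagonal]
  fin_cases i <;> fin_cases j <;> simp [suzukiForm, dVec, mul_inv_rev, mul_comm]

/-- The torus as a homomorphism. -/
def dHom : Fˣ →* Sz F m where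
  toFun := dSz hF
  map_one' := dSz_one hF
  map_mul' k l := (dSz_mul hF k l).symm

/-- The torus fixing infinity and zero. -/
def dSub : Subgroup (Sz F m) := (dHom hF).range

lemma mem_dSub {g : Sz F m} : g ∈ dSub hF ↔ ∃ k, g = dSz hF k :=
  ⟨fun ⟨k, hk⟩ => ⟨k, hk.symm⟩, fun ⟨k, hk⟩ => ⟨k, hk.symm⟩⟩

/-- The unipotent subgroup fixing infinity. -/
def uSub : Subgroup (Sz F m) where
  carrier := {g | ∃ a b, g = tSz hF a b}
  one_mem' := ⟨0, 0, (tSz_zero hF).symm⟩
  mul_mem' := by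
    rintro _ _ ⟨a, b, rfl⟩ ⟨c, d, rfl⟩
    exact ⟨_, _, tSz_mul hF a b c d⟩
  inv_mem' := by
    rintro _ ⟨a, b, rfl⟩
    exact ⟨_, _, tSz_inv hF a b⟩

lemma mem_uSub {g : Sz F m} : g ∈ uSub hF ↔ ∃ a b, g = tSz hF a b := Iff.rfl

lemma tSz_mem_uSub (a b : F) : tSz hF a b ∈ uSub hF := ⟨a, b, rfl⟩

lemma card_uSub : Nat.card (uSub hF) = (2 ^ (2 * m + 1)) ^ 2 := by
  rw [← Nat.card_congr (Equiv.ofBijective
    (fun p : F × F => (⟨tSz hF p.1 p.2, tSz_mem_uSub hF p.1 p.2⟩ : uSub hF))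
    ⟨fun p q h => Prod.ext (tSz_inj hF (Subtype.mk.inj h)).1 (tSz_inj hF (Subtype.mk.inj h)).2,
      fun ⟨g, a, b, h⟩ => ⟨(a, b), Subtype.ext h.symm⟩⟩),
    Nat.card_prod, Nat.card_eq_fintype_card, hF, sq]

lemma card_dSub : Nat.card (dSub hF) = 2 ^ (2 * m + 1) - 1 := by
  rw [dSub, ← Nat.card_congr (MonoidHom.ofInjective (f := dHom hF)
      (fun k l h => dSz_inj hF h)).toEquiv, Nat.card_units, Nat.card_eq_fintype_card, hF]

end finite

end Cfsg.Agent.Suzuki
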