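import Cfsg.Agent.Lib.Suzuki.Centralizers

/-!
# Fixed-point-free elements act irreducibly; their centralisers are cyclic

The spread of lines (`OnSpread`), `irreducible_of_fpf`, `cyclic_centralizer_of_fpf`,
`centralizer_eq_of_mem`, `card_normalizer_le`.
-/

set_option autoImplicit false
set_option linter.style.haveILetI false

namespace Cfsg.Agent.Suzuki

open Cfsg
open scoped Matrix

variable {F : Type*} [Field F] {m : ℕ}

/-- The matrix of an element. -/
abbrev mat (g : Sz F m) : Matrix (Fin 4) (Fin 4) F :=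
  ((g : Matrix.SpecialLinearGroup (Fin 4) F) : Matrix (Fin 4) (Fin 4) F)

lemma mat_mul (g h : Sz F m) : mat (g * h) = mat g * mat h := rfl

lemma mat_one : mat (1 : Sz F m) = 1 := rfl

lemma mat_injective : Function.Injective (mat (F := F) (m := m)) :=
  fun _ _ h => Subtype.ext (Subtype.ext h)

lemma mat_mulVec_ne {g : Sz F m} {v : Fin 4 → F} (hv : v ≠ 0) : mat g *ᵥ v ≠ 0 :=
  fun h => hv (smul_left_cancel (g : Matrix.SpecialLinearGroup (Fin 4) F)
    ((show (g : Matrix.SpecialLinearGroup (Fin 4) F) • v = 0 from h).trans (smul_zero _).symm))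

/-- The vector `v` lies on the spread line attached to the ovoid point `p`. -/
def OnSpread (m : ℕ) (v : Fin 4 → F) (p : Projectivization F (Fin 4 → F)) : Prop :=
  ∃ g : Sz F m, g • suzukiPointInfinity F = p ∧ (mat g⁻¹ *ᵥ v) 2 = 0 ∧ (mat g⁻¹ *ᵥ v) 3 = 0

variable [Fintype F]
variable (hm : 1 ≤ m) (hF : Fintype.card F = 2 ^ (2 * m + 1))

include hm in
lemma fix_infinity_line {s : Sz F m} (hs : s • suzukiPointInfinity F = suzukiPointInfinity F)
    (hF : Fintype.card F = 2 ^ (2 * m + 1)) {u : Fin 4 → F} (h2 : u 2 = 0) (h3 : u 3 = 0) :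
    (mat s *ᵥ u) 2 = 0 ∧ (mat s *ᵥ u) 3 = 0 := by
  obtain ⟨a, b, k, rfl⟩ := exists_tSz_dSz_of_fix hm hF hs
  rw [mat_mul, ← Matrix.mulVec_mulVec,
    show mat (tSz hF a b) = tMat m a b from rfl,
    show mat (dSz hF k) = Matrix.diagonal (dVec m k) from rfl]
  simp [tMat, Matrix.mulVec, dotProduct, Fin.sum_univ_four, Matrix.diagonal_apply, h2, h3]

include hm hF in
lemma onSpread_indep {v : Fin 4 → F} {p : Projectivization F (Fin 4 → F)} (h : OnSpread m v p)
    {g : Sz F m} (hg : g • suzukiPointInfinity F = p) :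
    (mat g⁻¹ *ᵥ v) 2 = 0 ∧ (mat g⁻¹ *ᵥ v) 3 = 0 := by
  obtain ⟨g', hg', h2, h3⟩ := h
  have hs : (g⁻¹ * g') • suzukiPointInfinity F = suzukiPointInfinity F := by
    rw [mul_smul, hg', ← hg, inv_smul_smul]
  have := fix_infinity_line hm hs hF h2 h3
  rw [Matrix.mulVec_mulVec, ← mat_mul, mul_assoc, mul_inv_cancel, mul_one] at this
  exact this

include hm hF in
/-- Two distinct spread lines meet trivially. -/
lemma onSpread_unique {v : Fin 4 → F} (hv : v ≠ 0) {p p' : Projectivization F (Fin 4 → F)}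
    (h : OnSpread m v p) (h' : OnSpread m v p') : p = p' := by
  by_contra hne
  obtain ⟨g0, hg0, -⟩ := id h
  obtain ⟨g0', hg0', -⟩ := id h'
  obtain ⟨g, hg, hg'⟩ := exists_move hF (hg0 ▸ smul_mem_ovoid g0 (infinity_mem (m := m)))
    (hg0' ▸ smul_mem_ovoid g0' (infinity_mem (m := m))) hne
  obtain ⟨h2, h3⟩ := onSpread_indep hm hF h hg
  obtain ⟨k2, k3⟩ := onSpread_indep hm hF h' (g := g * wSz hF)
    (by rw [mul_smul, wSz_smul_infinity, hg'])
  rw [mul_inv_rev, wSz_inv, mat_mul, ← Matrix.mulVec_mulVec,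
    show mat (wSz hF) = suzukiForm F from rfl] at k2 k3
  simp [suzukiForm, Matrix.mulVec, dotProduct, Fin.sum_univ_four] at k2 k3
  refine mat_mulVec_ne (g := g⁻¹) hv ?_
  funext i
  fin_cases i
  · simpa [Matrix.mulVec, dotProduct, Fin.sum_univ_four] using k3
  · simpa [Matrix.mulVec, dotProduct, Fin.sum_univ_four] using k2
  · exact h2
  · exact h3

include hF in
/-- Every vector lies on a spread line. -/
lemma onSpread_exists (v : Fin 4 → F) : ∃ p ∈ suzukiOvoid F m, OnSpread m v p := by
  haveI := charTwo hF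
  by_cases h23 : v 2 = 0 ∧ v 3 = 0
  · refine ⟨suzukiPointInfinity F, infinity_mem, 1, one_smul _ _, ?_⟩
    simpa [mat_one] using h23
  suffices h : ∃ a b : F,
      v 0 + a * v 1 + (b + th m a * a) * v 2 + fz m a b * v 3 = 0 ∧
        v 1 + th m a * v 2 + b * v 3 = 0 by
    obtain ⟨a, b, h0, h1⟩ := h
    refine ⟨((tSz hF a b)⁻¹ * wSz hF) • suzukiPointInfinity F, smul_mem_ovoid _ infinity_mem,
      (tSz hF a b)⁻¹ * wSz hF, rfl, ?_⟩
    rw [mul_inv_rev, inv_inv, wSz_inv, mat_mul, ← Matrix.mulVec_mulVec,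
      show mat (tSz hF a b) = tMat m a b from rfl,
      show mat (wSz hF) = suzukiForm F from rfl]
    simp [suzukiForm, tMat, Matrix.mulVec, dotProduct, Fin.sum_univ_four]
    exact ⟨h1, h0⟩
  by_cases h3 : v 3 = 0
  · have h2 : v 2 ≠ 0 := fun h => h23 ⟨h, h3⟩
    obtain ⟨a, ha⟩ : ∃ a : F, th m a = v 1 / v 2 :=
      (Finite.injective_iff_surjective.mp
        (fun x y h => by
          have := congrArg (th m) h
          simp only [th_th hF] at this
          rcases sq_eq_sq_iff_eq_or_eq_neg.mp this with e | e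
          · exact e
          · rw [e, CharTwo.neg_eq]) : Function.Surjective (th (F := F) m)) _
    refine ⟨a, (v 0 + a * v 1) / v 2 + th m a * a, ?_, ?_⟩
    · rw [h3]; field_simp; grind
    · rw [h3, ha]; field_simp; grind
  · obtain ⟨x, hx⟩ : ∃ x, x = v 2 / v 3 := ⟨_, rfl⟩
    obtain ⟨y, hy⟩ : ∃ y, y = v 1 / v 3 := ⟨_, rfl⟩
    obtain ⟨z, hz⟩ : ∃ z, z = v 0 / v 3 := ⟨_, rfl⟩
    -- a bijection: `s ↦ th s * s ^ 2 = th (th s * s)`
    have hbij : Function.Injective (fun s : F => th m s * s ^ 2) := by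
      intro s t h
      simp only at h
      have e : ∀ u : F, th m (th m u * u) = th m u * u ^ 2 := fun u => by
        rw [th_mul, th_th hF]; ring
      rw [← e, ← e] at h
      have h' := congrArg (th m) h
      rw [th_th hF, th_th hF] at h'
      rcases sq_eq_sq_iff_eq_or_eq_neg.mp h' with e' | e'
      · exact thSucc_injective hF e'
      · exact thSucc_injective hF (e'.trans (CharTwo.neg_eq _))
    obtain ⟨s, hs⟩ := Finite.injective_iff_surjective.mp hbij (z + fz m x y)
    simp only at hs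
    have e1 : v 1 = v 3 * y := by rw [hy]; field_simp
    have e2 : v 2 = v 3 * x := by rw [hx]; field_simp
    have e0 : v 0 = v 3 * z := by rw [hz]; field_simp
    refine ⟨x + s, y + th m (x + s) * x, ?_, ?_⟩
    · rw [e0, e1, e2]
      simp only [fz, th_add, th_mul, th_th hF] at hs ⊢
      grind
    · rw [e1, e2]; grind

include hm hF in
/-- A fixed-point-free element has no eigenvector. -/
lemma no_eigenvector {g : Sz F m} (hg : FPF g) {v : Fin 4 → F} (hv : v ≠ 0) (c : F) :
    mat g *ᵥ v ≠ c • v := by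
  intro h
  obtain ⟨p, hp, hpv⟩ := onSpread_exists hF v
  refine hg p hp (onSpread_unique hm hF hv ?_ hpv)
  obtain ⟨s, hs, h2, h3⟩ := hpv
  have hmul : mat g *ᵥ v = c • v := h
  have h1 : OnSpread m (mat g *ᵥ v) (g • p) := by
    refine ⟨g * s, by rw [mul_smul, hs], ?_⟩
    rw [mul_inv_rev, mat_mul, ← Matrix.mulVec_mulVec, Matrix.mulVec_mulVec v (mat g⁻¹), ← mat_mul,
      inv_mul_cancel, mat_one, Matrix.one_mulVec]
    exact ⟨h2, h3⟩
  obtain ⟨r, hr, r2, r3⟩ := h1
  have hc : c ≠ 0 := fun hc => mat_mulVec_ne (g := g) hv (by rw [hmul, hc, zero_smul])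
  rw [hmul, Matrix.mulVec_smul] at r2 r3
  simp [hc] at r2 r3
  exact ⟨r, hr, r2, r3⟩

lemma mat_pow (g : Sz F m) (n : ℕ) : mat (g ^ n) = mat g ^ n := by
  induction n with
  | zero => rfl
  | succ n ih => rw [pow_succ, pow_succ, mat_mul, ih]

omit [Fintype F] in
lemma pow_mulVec_mem {M : Matrix (Fin 4) (Fin 4) F} {L : Submodule F (Fin 4 → F)}
    (hL : ∀ v ∈ L, M *ᵥ v ∈ L) (n : ℕ) : ∀ v ∈ L, (M ^ n) *ᵥ v ∈ L := by
  induction n with
  | zero => intro v hv; simpa using hv
  | succ n ih =>
    intro v hv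
    rw [pow_succ', ← Matrix.mulVec_mulVec]
    exact hL _ (ih v hv)

lemma prime_not_dvd_pow_sub_one {p q k : ℕ} (hp : p.Prime) (hq2 : 2 ∣ q)
    (h : p ∣ q ^ 2 + 1) (hk : k = 1 ∨ k = 2 ∨ k = 3) : ¬ p ∣ q ^ k - 1 := by
  intro hd
  haveI := Fact.mk hp
  rcases Nat.eq_zero_or_pos q with rfl | hq0
  · exact hp.ne_one (Nat.dvd_one.mp (by simpa using h))
  have h1 : (q : ZMod p) ^ 2 + 1 = 0 := by
    exact_mod_cast (ZMod.natCast_eq_zero_iff (q ^ 2 + 1) p).mpr h
  have h2 : (q : ZMod p) ^ k - 1 = 0 := by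
    have := (ZMod.natCast_eq_zero_iff (q ^ k - 1) p).mpr hd
    rw [Nat.cast_sub (Nat.one_le_pow _ _ hq0)] at this
    exact_mod_cast this
  have h3 : ((2 : ℕ) : ZMod p) = 0 := by
    rcases hk with rfl | rfl | rfl <;> grind
  obtain rfl := (Nat.prime_dvd_prime_iff_eq hp Nat.prime_two).mp
    ((ZMod.natCast_eq_zero_iff 2 p).mp h3)
  have : 2 ∣ q ^ 2 := dvd_pow hq2 two_ne_zero
  omega

include hm hF in
/-- A fixed-point-free element has no invariant subspace other than `⊥` and `⊤`. -/
theorem irreducible_of_fpf {g : Sz F m} (hg : FPF g) {L : Submodule F (Fin 4 → F)}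
    (hL : ∀ v ∈ L, mat g *ᵥ v ∈ L) : L = ⊥ ∨ L = ⊤ := by
  by_contra hcon
  push Not at hcon
  obtain ⟨hbot, htop⟩ := hcon
  have hk : Module.finrank F L = 1 ∨ Module.finrank F L = 2 ∨ Module.finrank F L = 3 := by
    have h1 : Module.finrank F L ≠ 0 := fun h => hbot (Submodule.finrank_eq_zero.mp h)
    have h2 : Module.finrank F L < 4 := by
      have := Submodule.finrank_lt htop
      simpa using this
    omega
  obtain ⟨p, hp, hpdvd⟩ := Nat.exists_prime_and_dvd (orderOf_eq_one_iff.not.mpr (ne_one_of_fpf hg))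
  obtain ⟨d, hd⟩ := hpdvd
  haveI := Fact.mk hp
  have hd0 : d ≠ 0 := fun h0 => by
    have := orderOf_pos g
    rw [h0, mul_zero] at hd; omega
  have hord : orderOf (g ^ d) = p := by
    rw [orderOf_pow' g hd0, hd, Nat.gcd_eq_right (dvd_mul_left d p),
      Nat.mul_div_cancel _ (Nat.pos_of_ne_zero hd0)]
  set h := g ^ d with hh
  have hfpf : FPF h := fpf_of_commute hm hF hg
    (fun h1 => hp.ne_one (by rw [← hord, h1, orderOf_one])) (Commute.self_pow g d)
  have hinv : ∀ v ∈ L, mat h *ᵥ v ∈ L := by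
    intro v hv; rw [hh, mat_pow]; exact pow_mulVec_mem hL d v hv
  have hinv' : ∀ x ∈ Subgroup.zpowers h, ∀ v ∈ L, mat x *ᵥ v ∈ L := by
    intro x hx v hv
    obtain ⟨n, rfl⟩ := mem_powers_iff_mem_zpowers.mpr hx
    show mat (h ^ n) *ᵥ v ∈ L
    rw [mat_pow]
    exact pow_mulVec_mem hinv n v hv
  let act : MulAction (Subgroup.zpowers h) L :=
    { smul := fun x v => ⟨mat (x : Sz F m) *ᵥ v, hinv' x x.2 v v.2⟩
      one_smul := fun v => Subtype.ext (by
        show mat (1 : Sz F m) *ᵥ (v : Fin 4 → F) = v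
        rw [mat_one, Matrix.one_mulVec])
      mul_smul := fun x y v => Subtype.ext (by
        show mat ((x : Sz F m) * (y : Sz F m)) *ᵥ (v : Fin 4 → F) =
          mat (x : Sz F m) *ᵥ (mat (y : Sz F m) *ᵥ v)
        rw [mat_mul, Matrix.mulVec_mulVec]) }
  have hfix : MulAction.fixedPoints (Subgroup.zpowers h) L = {0} := by
    ext ⟨v, hv⟩
    simp only [Set.mem_singleton_iff]
    constructor
    · intro hx
      by_contra hne
      refine no_eigenvector hm hF hfpf (fun e => hne (Subtype.ext e)) 1 ?_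
      rw [one_smul]
      exact congrArg Subtype.val (hx ⟨h, Subgroup.mem_zpowers h⟩)
    · intro e x
      apply Subtype.ext
      show mat (x : Sz F m) *ᵥ v = v
      rw [show v = 0 from congrArg Subtype.val e, Matrix.mulVec_zero]
  have hP : IsPGroup p (Subgroup.zpowers h) :=
    IsPGroup.of_card (n := 1) (by rw [Nat.card_zpowers, hord, pow_one])
  have hmod := hP.card_modEq_card_fixedPoints L
  rw [hfix, Module.natCard_eq_pow_finrank (K := F), Nat.card_eq_fintype_card, hF] at hmod
  simp at hmod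
  refine prime_not_dvd_pow_sub_one hp two_dvd_q
    (prime_dvd_of_fpf hm hF hg hp ⟨d, hd⟩) hk ?_
  exact (Nat.modEq_iff_dvd' (Nat.one_le_pow _ _ (by positivity))).mp hmod.symm

include hm hF in
/-- Non-zero matrices commuting with a fixed-point-free element are injective. -/
lemma mulVec_injective_of_commute {g : Sz F m} (hg : FPF g) {A : Matrix (Fin 4) (Fin 4) F}
    (hA : mat g * A = A * mat g) (hA0 : A ≠ 0) {v : Fin 4 → F} (hv : A *ᵥ v = 0) : v = 0 := by
  rcases irreducible_of_fpf hm hF hg (L := LinearMap.ker A.mulVecLin) (fun w hw => by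
    simp only [LinearMap.mem_ker, Matrix.mulVecLin_apply] at hw ⊢
    rw [Matrix.mulVec_mulVec, ← hA, ← Matrix.mulVec_mulVec, hw, Matrix.mulVec_zero]) with h | h
  · exact (Submodule.eq_bot_iff _).mp h v (by simpa using hv)
  · exfalso
    apply hA0
    have h0 : A.mulVecLin = 0 := LinearMap.ker_eq_top.mp h
    ext i j
    have := congrFun (congrArg (fun f => f (Pi.single j 1)) h0) i
    simpa using this

/-- The algebra of matrices commuting with `g`. -/
abbrev commAlg (g : Sz F m) : Subalgebra F (Matrix (Fin 4) (Fin 4) F) :=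
  Subalgebra.centralizer F {mat g}

include hm hF in
lemma commAlg_isField {g : Sz F m} (hg : FPF g) : IsField (commAlg g) := by
  haveI : IsDomain (commAlg g) := by
    haveI : NoZeroDivisors (commAlg g) := ⟨fun {a b} hab => by
      by_contra hne
      push Not at hne
      have ha : mat g * (a : Matrix (Fin 4) (Fin 4) F) = a * mat g :=
        (Subalgebra.mem_centralizer_iff F).mp a.2 _ rfl
      have ha0 : (a : Matrix (Fin 4) (Fin 4) F) ≠ 0 := fun e => hne.1 (Subtype.ext e)
      refine hne.2 (Subtype.ext (Matrix.ext fun i j => ?_))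
      have h1 : (a : Matrix (Fin 4) (Fin 4) F) *ᵥ
          ((b : Matrix (Fin 4) (Fin 4) F) *ᵥ Pi.single j 1) = 0 := by
        rw [Matrix.mulVec_mulVec,
          show (a : Matrix (Fin 4) (Fin 4) F) * (b : Matrix (Fin 4) (Fin 4) F) = 0 from
            congrArg Subtype.val hab, Matrix.zero_mulVec]
      simpa using congrFun (mulVec_injective_of_commute hm hF hg ha ha0 h1) i⟩
    exact NoZeroDivisors.to_isDomain _
  exact Finite.isDomain_to_isField _

include hm hF in
/-- The centraliser of a fixed-point-free element is cyclic. -/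
theorem cyclic_centralizer_of_fpf {g : Sz F m} (hg : FPF g) :
    IsCyclic (Subgroup.centralizer {g}) := by
  letI : CommRing (commAlg g) :=
    { (inferInstance : Ring (commAlg g)) with mul_comm := (commAlg_isField hm hF hg).mul_comm }
  haveI : IsDomain (commAlg g) := (commAlg_isField hm hF hg).isDomain
  let f : Subgroup.centralizer {g} →* commAlg g :=
    { toFun := fun x => ⟨mat (x : Sz F m), (Subalgebra.mem_centralizer_iff F).mpr fun y hy => by
        rw [Set.mem_singleton_iff] at hy
        rw [hy, ← mat_mul, ← mat_mul, Subgroup.mem_centralizer_singleton_iff.mp x.2]⟩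
      map_one' := rfl
      map_mul' := fun _ _ => rfl }
  refine isCyclic_of_subgroup_isDomain f fun x y h => Subtype.ext (mat_injective ?_)
  exact congrArg (fun z : commAlg g => (z : Matrix (Fin 4) (Fin 4) F)) h

include hm hF in
/-- Every non-identity element of a torus centralises exactly the torus. -/
theorem centralizer_eq_of_mem {g x : Sz F m} (hg : FPF g) (hx : x ∈ Subgroup.centralizer {g})
    (hx1 : x ≠ 1) : Subgroup.centralizer {x} = Subgroup.centralizer {g} := by
  have hc : Commute g x := (Subgroup.mem_centralizer_singleton_iff.mp hx).symm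
  have hxf : FPF x := fpf_of_commute hm hF hg hx1 hc
  haveI := cyclic_centralizer_of_fpf hm hF hg
  haveI := cyclic_centralizer_of_fpf hm hF hxf
  apply le_antisymm
  · intro y hy
    rw [Subgroup.mem_centralizer_singleton_iff]
    have hgx : g ∈ Subgroup.centralizer {x} := Subgroup.mem_centralizer_singleton_iff.mpr hc
    letI := IsCyclic.commGroup (α := Subgroup.centralizer {x})
    exact congrArg Subtype.val (mul_comm (⟨y, hy⟩ : Subgroup.centralizer {x}) ⟨g, hgx⟩)
  · intro y hy
    rw [Subgroup.mem_centralizer_singleton_iff]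
    letI := IsCyclic.commGroup (α := Subgroup.centralizer {g})
    exact congrArg Subtype.val (mul_comm (⟨y, hy⟩ : Subgroup.centralizer {g}) ⟨x, hx⟩)

omit [Fintype F] in
/-- A field has at most `natDegree p` roots of `p`. -/
lemma natCard_le_natDegree {K : Type*} [Ring K] [Algebra F K] (hK : IsField K)
    {p : Polynomial F} (hp : p.Monic) {X : Type*} (f : X → K) (hf : Function.Injective f)
    (hroot : ∀ x, Polynomial.aeval (f x) p = 0) : Nat.card X ≤ p.natDegree := by
  classical
  letI : CommRing K := { ‹Ring K› with mul_comm := hK.mul_comm }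
  haveI : IsDomain K := hK.isDomain
  haveI := hK.nontrivial
  let P : Polynomial K := p.map (algebraMap F K)
  have hP : P.Monic := hp.map _
  have hmem : ∀ x, f x ∈ P.roots.toFinset := fun x => by
    rw [Multiset.mem_toFinset, Polynomial.mem_roots hP.ne_zero, Polynomial.IsRoot.def]
    show Polynomial.eval (f x) (p.map (algebraMap F K)) = 0
    rw [Polynomial.eval_map_algebraMap]
    exact hroot x
  refine (Nat.card_le_card_of_injective (fun x => (⟨f x, hmem x⟩ : {y // y ∈ P.roots.toFinset}))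
    (fun x y h => hf (Subtype.mk.inj h))).trans ?_
  rw [Nat.card_eq_finsetCard]
  refine (P.roots.toFinset_card_le.trans (Polynomial.card_roots' P)).trans ?_
  exact (hp.natDegree_map (algebraMap F K)).le

omit [Fintype F] in
/-- A conjugate of a matrix is a root of its characteristic polynomial. -/
lemma aeval_conj_charpoly {ι : Type*} [Fintype ι] [DecidableEq ι] {A B M : Matrix ι ι F}
    (h1 : A * B = 1) (h2 : B * A = 1) : Polynomial.aeval (A * M * B) M.charpoly = 0 := by
  obtain ⟨u, hu, hu'⟩ : ∃ u : (Matrix ι ι F)ˣ, (u : Matrix ι ι F) = A ∧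
      ((u⁻¹ : (Matrix ι ι F)ˣ) : Matrix ι ι F) = B := ⟨⟨A, B, h1, h2⟩, rfl, rfl⟩
  rw [← Matrix.charpoly_units_conj u M, hu, Matrix.inv_eq_right_inv h1]
  exact Matrix.aeval_self_charpoly _

include hm hF in
/-- The normaliser of a torus contains it with index at most four. -/
theorem card_normalizer_le {g : Sz F m} (hg : FPF g) :
    Nat.card (Subgroup.normalizer ((Subgroup.centralizer {g} : Subgroup (Sz F m)) : Set (Sz F m))) ≤
      4 * Nat.card (Subgroup.centralizer {g}) := by
  classical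
  set C := Subgroup.centralizer {g} with hC
  set N := Subgroup.normalizer (C : Set (Sz F m)) with hN
  have hgC : g ∈ C := Subgroup.mem_centralizer_singleton_iff.mpr rfl
  have hle : C ≤ N := Subgroup.le_normalizer
  have halg : ∀ n : N, mat ((n : Sz F m) * g * (n : Sz F m)⁻¹) ∈ commAlg g := fun n => by
    have := (Subgroup.mem_normalizer_iff.mp n.2 g).mp hgC
    rw [Subalgebra.mem_centralizer_iff]
    intro y hy
    rw [Set.mem_singleton_iff] at hy
    rw [hy, ← mat_mul, ← mat_mul, Subgroup.mem_centralizer_singleton_iff.mp this]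
  have hroot : ∀ n : N, Polynomial.aeval (⟨_, halg n⟩ : commAlg g) (mat g).charpoly = 0 := by
    intro n
    apply Subtype.ext
    have h1 := Polynomial.aeval_algHom_apply (commAlg g).val (⟨_, halg n⟩ : commAlg g)
      (mat g).charpoly
    refine h1.symm.trans ?_
    show Polynomial.aeval (mat ((n : Sz F m) * g * (n : Sz F m)⁻¹)) (mat g).charpoly = 0
    rw [mat_mul, mat_mul]
    exact aeval_conj_charpoly (by rw [← mat_mul, mul_inv_cancel, mat_one])
      (by rw [← mat_mul, inv_mul_cancel, mat_one])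
  let φ : N → commAlg g := fun n => ⟨_, halg n⟩
  have hfib : ∀ n n' : N, φ n = φ n' → (n : Sz F m)⁻¹ * n' ∈ C := by
    intro n n' h
    have e : (n : Sz F m) * g * (n : Sz F m)⁻¹ = (n' : Sz F m) * g * (n' : Sz F m)⁻¹ :=
      mat_injective (congrArg (fun z : commAlg g => (z : Matrix (Fin 4) (Fin 4) F)) h)
    rw [hC, Subgroup.mem_centralizer_singleton_iff]
    calc (n : Sz F m)⁻¹ * n' * g = (n : Sz F m)⁻¹ * (n' * g * (n' : Sz F m)⁻¹) * n' := by group
      _ = g * ((n : Sz F m)⁻¹ * n') := by rw [← e]; group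
  have hq : Function.Injective (fun x : N ⧸ C.subgroupOf N => φ x.out) := by
    intro x y h
    rw [← QuotientGroup.out_eq' x, ← QuotientGroup.out_eq' y, QuotientGroup.eq,
      Subgroup.mem_subgroupOf]
    exact hfib _ _ h
  have hidx : Nat.card (N ⧸ C.subgroupOf N) ≤ 4 := by
    refine (natCard_le_natDegree (commAlg_isField hm hF hg) (Matrix.charpoly_monic (mat g)) _ hq
      (fun x => hroot x.out)).trans ?_
    rw [Matrix.charpoly_natDegree_eq_dim, Fintype.card_fin]
  rw [Subgroup.card_eq_card_quotient_mul_card_subgroup (C.subgroupOf N),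
    Nat.card_congr (Subgroup.subgroupOfEquivOfLe hle).toEquiv]
  exact Nat.mul_le_mul_right _ hidx

end Cfsg.Agent.Suzuki
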