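import Cfsg.Agent.Lib.Suzuki.LieModel
import Cfsg.Agent.Lib.Suzuki.Irreducible

/-!
# No law holds in infinitely many Suzuki groups

`law_fails`: for a reduced non-empty word in the free group and large `m`, some substitution is
non-trivial (a leading-coefficient argument with conjugates of the torus).
-/

set_option autoImplicit false
set_option linter.style.haveILetI false

namespace Cfsg.Agent.Suzuki

open Cfsg
open scoped Matrix

variable {F : Type*} [Field F] {m : ℕ} [Fintype F]
variable (hm : 1 ≤ m) (hF : Fintype.card F = 2 ^ (2 * m + 1))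

/-- The exponents of the scaled torus. -/
def lawExp (E : ℕ) (ε : Bool) : Fin 4 → ℕ :=
  if ε then ![2 * E + 2, 2 * E + 1, 1, 0] else ![0, 1, 2 * E + 1, 2 * E + 2]

/-- The coordinate of maximal exponent. -/
def lawTop (ε : Bool) : Fin 4 := if ε then 0 else 3

lemma lawExp_le (E : ℕ) (ε : Bool) (i : Fin 4) : lawExp E ε i ≤ 2 * E + 2 := by
  cases ε <;> fin_cases i <;> simp [lawExp]

lemma lawExp_top (E : ℕ) (ε : Bool) (i : Fin 4) :
    lawExp E ε i = 2 * E + 2 ↔ i = lawTop ε := by
  cases ε <;> fin_cases i <;> simp [lawExp, lawTop] <;> omega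

open Polynomial in
/-- One letter as a matrix of polynomials. -/
noncomputable def lawPoly (E : ℕ) (C Ci : Matrix (Fin 4) (Fin 4) F) (ε : Bool) :
    Matrix (Fin 4) (Fin 4) F[X] :=
  Matrix.of fun i j => ∑ k, Polynomial.C (C i k * Ci k j) * X ^ lawExp E ε k

open Polynomial in
omit [Fintype F] in
lemma natDegree_lawPoly_le (E : ℕ) (C Ci : Matrix (Fin 4) (Fin 4) F) (ε : Bool) (i j : Fin 4) :
    (lawPoly E C Ci ε i j).natDegree ≤ 2 * E + 2 := by
  simp only [lawPoly, Matrix.of_apply]
  exact natDegree_sum_le_of_forall_le _ _ fun k _ =>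
    (natDegree_C_mul_X_pow_le _ _).trans (lawExp_le E ε k)

open Polynomial in
omit [Fintype F] in
lemma coeff_lawPoly_top (E : ℕ) (C Ci : Matrix (Fin 4) (Fin 4) F) (ε : Bool) (i j : Fin 4) :
    (lawPoly E C Ci ε i j).coeff (2 * E + 2) = C i (lawTop ε) * Ci (lawTop ε) j := by
  simp only [lawPoly, Matrix.of_apply, finsetSum_coeff, coeff_C_mul_X_pow]
  rw [Finset.sum_eq_single (lawTop ε)]
  · rw [if_pos ((lawExp_top E ε _).mpr rfl).symm]
  · intro k _ hk
    rw [if_neg fun h => hk ((lawExp_top E ε k).mp h.symm)]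
  · simp

open Polynomial in
/-- The leading coefficient of a product of letters is a non-zero matrix of rank one. -/
lemma exists_leading {ι : Type*} (E : ℕ) (C Ci : ι → Matrix (Fin 4) (Fin 4) F)
    (hC : ∀ i, Ci i * C i = 1) :
    ∀ L : List (ι × Bool), L ≠ [] →
      List.IsChain (fun a b => (Ci a.1 * C b.1) (lawTop a.2) (lawTop b.2) ≠ 0) L →
      let Q := (L.map fun a => lawPoly E (C a.1) (Ci a.1) a.2).prod
      (∀ i j, (Q i j).natDegree ≤ L.length * (2 * E + 2)) ∧
      ∃ v : Fin 4 → F, v ≠ 0 ∧ ∀ a ∈ L.head?,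
        ∀ i j, (Q i j).coeff (L.length * (2 * E + 2)) = C a.1 i (lawTop a.2) * v j := by
  intro L
  induction L with
  | nil => simp
  | cons a L ih =>
    intro _ hchain
    rcases L with _ | ⟨b, L⟩
    · refine ⟨fun i j => by simpa using natDegree_lawPoly_le E _ _ _ i j,
        fun j => Ci a.1 (lawTop a.2) j, fun h => ?_, ?_⟩
      · have := congrFun (congrFun (hC a.1) (lawTop a.2)) (lawTop a.2)
        rw [Matrix.mul_apply] at this
        simp [congrFun h] at this
      · intro x hx i j
        simp only [List.head?_cons, Option.mem_def, Option.some.injEq] at hx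
        subst hx
        simpa using coeff_lawPoly_top E (C a.1) (Ci a.1) a.2 i j
    · rw [List.isChain_cons_cons] at hchain
      obtain ⟨hdeg, v, hv, hlead⟩ := ih (by simp) hchain.2
      have hb := hlead b (by simp)
      simp only [List.map_cons, List.prod_cons] at hdeg hb ⊢
      set Q := lawPoly E (C b.1) (Ci b.1) b.2 *
        (L.map fun a => lawPoly E (C a.1) (Ci a.1) a.2).prod with hQ
      set D := (b :: L).length * (2 * E + 2) with hD
      have hlen : (a :: b :: L).length * (2 * E + 2) = (2 * E + 2) + D := by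
        rw [hD, List.length_cons (a := a)]; ring
      refine ⟨fun i j => ?_, fun j => (Ci a.1 * C b.1) (lawTop a.2) (lawTop b.2) * v j, ?_, ?_⟩
      · rw [Matrix.mul_apply, hlen]
        exact natDegree_sum_le_of_forall_le _ _ fun k _ =>
          natDegree_mul_le.trans (Nat.add_le_add (natDegree_lawPoly_le E _ _ _ i k) (hdeg k j))
      · intro h
        apply hv
        funext j
        exact (mul_eq_zero.mp (congrFun h j)).resolve_left hchain.1
      · intro x hx i j
        simp only [List.head?_cons, Option.mem_def, Option.some.injEq] at hx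
        subst hx
        rw [Matrix.mul_apply, hlen, finsetSum_coeff]
        simp only [Matrix.mul_apply, Finset.sum_mul, Finset.mul_sum]
        refine Finset.sum_congr rfl fun k _ => ?_
        rw [coeff_mul_add_eq_of_natDegree_le (natDegree_lawPoly_le E _ _ _ i k) (hdeg k j),
          coeff_lawPoly_top, hb]
        ring

include hF in
lemma exists_frames {ι : Type*} [Finite ι] (hι : Nat.card ι ≤ 2 ^ (2 * m + 1)) :
    ∃ C : ι → Sz F m, ∀ i j, i ≠ j → ∀ a b : Bool,
      (mat ((C i)⁻¹ * C j)) (lawTop a) (lawTop b) ≠ 0 := by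
  obtain ⟨f⟩ : Nonempty (ι ↪ F) := by
    haveI := Fintype.ofFinite ι
    refine Function.Embedding.nonempty_of_card_le ?_
    rw [hF, ← Nat.card_eq_fintype_card]
    exact hι
  have hC : ∀ i, ∃ g : Sz F m, g • suzukiPointInfinity F = pt m (f i) 0 ∧
      g • suzukiPointZero F = pt m (f i) 1 := fun i =>
    exists_move hF (pt_mem (f i) (0 : F)) (pt_mem (f i) (1 : F)) fun h => zero_ne_one (α := F) (pt_inj h).2
  choose C hC0 hC1 using hC
  refine ⟨C, fun i j hij a b => ?_⟩
  -- the image of each of the two base points avoids both base points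
  have key : ∀ p : Projectivization F (Fin 4 → F), (∃ y : F, p = pt m (f j) y) →
      ((C i)⁻¹ • p ≠ suzukiPointInfinity F ∧ (C i)⁻¹ • p ≠ suzukiPointZero F) := by
    rintro p ⟨y, rfl⟩
    refine ⟨fun h => ?_, fun h => ?_⟩
    · rw [inv_smul_eq_iff, hC0] at h
      exact hij (f.injective (pt_inj h).1.symm)
    · rw [inv_smul_eq_iff, hC1] at h
      exact hij (f.injective (pt_inj h).1.symm)
  set g := (C i)⁻¹ * C j with hg
  set M := mat g with hM
  have h0 := key (C j • suzukiPointInfinity F) ⟨0, hC0 j⟩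
  have h1 := key (C j • suzukiPointZero F) ⟨1, hC1 j⟩
  rw [← mul_smul] at h0 h1
  have corner : ∀ (c : Fin 4) (p : Projectivization F (Fin 4 → F)) (hp : Pi.single c 1 ≠ (0 : Fin 4 → F)),
      p = Projectivization.mk F (Pi.single c 1) hp → p ∈ suzukiOvoid F m →
      g • p ≠ suzukiPointInfinity F → g • p ≠ suzukiPointZero F → M 0 c ≠ 0 ∧ M 3 c ≠ 0 := by
    intro c p hp hpe hpm ha hb
    obtain ⟨x, y, hxy⟩ := (mem_ovoid_iff.mp (smul_mem_ovoid g hpm)).resolve_left ha
    have hne : fz m x y ≠ 0 := fun hz => by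
      obtain ⟨rfl, rfl⟩ := fz_eq_zero hF hz
      exact hb (hxy.trans pt_zero_zero)
    change (g : Matrix.SpecialLinearGroup (Fin 4) F) • p = _ at hxy
    rw [hpe, pt, Projectivization.smul_mk] at hxy
    obtain ⟨l, hl⟩ := (Projectivization.mk_eq_mk_iff' F _ _ _ _).mp hxy
    have hl0 : l ≠ 0 := by
      rintro rfl
      rw [zero_smul] at hl
      exact hp (smul_left_cancel (g : Matrix.SpecialLinearGroup (Fin 4) F)
        (hl.symm.trans (smul_zero _).symm))
    have e : ∀ r, M r c = l * vec m x y r := fun r => by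
      have := congrFun hl r
      simp only [smul_vec_def, Pi.smul_apply, smul_eq_mul] at this
      rw [this, Matrix.mulVec_single_one]
      rfl
    refine ⟨?_, ?_⟩
    · rw [e]; exact mul_ne_zero hl0 (by simpa [vec] using hne)
    · rw [e]; exact mul_ne_zero hl0 (by simp [vec])
  have e0 := corner 0 (suzukiPointInfinity F) (fun h => one_ne_zero (α := F) (by simpa using congrFun h 0))
    (by unfold suzukiPointInfinity; congr 1; funext r; fin_cases r <;> simp)
    infinity_mem h0.1 h0.2
  have e3 := corner 3 (suzukiPointZero F) (fun h => one_ne_zero (α := F) (by simpa using congrFun h 3))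
    (by unfold suzukiPointZero; congr 1; funext r; fin_cases r <;> simp)
    pointZero_mem h1.1 h1.2
  cases a <;> cases b <;> simp [lawTop, e0.1, e0.2, e3.1, e3.2]

open Polynomial in
include hF in
lemma eval_lawPoly (C : Sz F m) (ε : Bool) (k : Fˣ) (i j : Fin 4) :
    (lawPoly (2 ^ m) (mat C) (mat C⁻¹) ε i j).eval (k : F) =
      (k : F) ^ (2 ^ m + 1) *
        (mat (cond ε (C * dSz hF k * C⁻¹) (C * dSz hF k * C⁻¹)⁻¹)) i j := by
  have h : (k : F) ^ (2 ^ m) ≠ 0 := pow_ne_zero _ k.ne_zero
  have hd : ∀ l : Fˣ, mat (C * dSz hF l * C⁻¹) i j =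
      ∑ r, mat C i r * dVec m l r * mat C⁻¹ r j := by
    intro l
    rw [mat_mul, mat_mul, show mat (dSz hF l) = Matrix.diagonal (dVec m l) from rfl,
      Matrix.mul_apply]
    simp [Matrix.mul_diagonal]
  cases ε
  · rw [cond_false, show (C * dSz hF k * C⁻¹)⁻¹ = C * dSz hF k⁻¹ * C⁻¹ by
      rw [mul_inv_rev, mul_inv_rev, inv_inv, show (dSz hF k)⁻¹ = dSz hF k⁻¹ from
        ((dHom hF).map_inv k).symm, mul_assoc], hd]
    simp [lawPoly, eval_finsetSum, Finset.mul_sum, Fin.sum_univ_four, lawExp, dVec, pow_add,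
      pow_mul', mul_pow]
    field_simp
  · rw [cond_true, hd]
    simp [lawPoly, eval_finsetSum, Finset.mul_sum, Fin.sum_univ_four, lawExp, dVec, pow_add,
      pow_mul', mul_pow]
    field_simp

open Polynomial in
include hF in
lemma eval_lawProd {ι : Type*} (C : ι → Sz F m) (k : Fˣ) :
    ∀ (L : List (ι × Bool)) (i j : Fin 4),
      ((L.map fun a => lawPoly (2 ^ m) (mat (C a.1)) (mat (C a.1)⁻¹) a.2).prod i j).eval (k : F) =
        (k : F) ^ (L.length * (2 ^ m + 1)) *
          (mat (L.map fun a => cond a.2 (C a.1 * dSz hF k * (C a.1)⁻¹)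
            (C a.1 * dSz hF k * (C a.1)⁻¹)⁻¹).prod) i j := by
  intro L
  induction L with
  | nil =>
    intro i j
    simp [mat_one, Matrix.one_apply, apply_ite (fun p : F[X] => p.eval (k : F))]
  | cons a L ih =>
    intro i j
    simp only [List.map_cons, List.prod_cons, List.length_cons, mat_mul, Matrix.mul_apply,
      eval_finsetSum, eval_mul, Finset.mul_sum, ih, eval_lawPoly hF]
    refine Finset.sum_congr rfl fun r _ => ?_
    rw [add_mul, one_mul, pow_add]
    ring

include hF in
open Polynomial in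
/-- A reduced word is not a law in a large Suzuki group. -/
theorem law_fails (w : FreeGroup ℕ) (hw : w ≠ 1) (hN : 2 * w.toWord.length + 4 ≤ m) :
    ∃ f : ℕ → Sz F m, FreeGroup.lift f w ≠ 1 := by
  classical
  set L := w.toWord with hL
  have hLne : L ≠ [] := fun h => hw (FreeGroup.toWord_eq_nil_iff.mp h)
  set S := (L.map Prod.fst).toFinset with hS
  have hScard : S.card ≤ L.length := (List.toFinset_card_le _).trans (by simp)
  have hlen : L.length * (2 * 2 ^ m + 2) + 1 < 2 ^ (2 * m + 1) := by
    have h1 : 2 * 2 ^ m + 2 ≤ 2 ^ (m + 2) := by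
      have : 1 ≤ 2 ^ m := Nat.one_le_pow _ _ (by norm_num)
      rw [pow_succ, pow_succ]; omega
    have h2 : L.length < 2 ^ (m - 2) :=
      (Nat.lt_two_pow_self).trans_le (Nat.pow_le_pow_right (by norm_num) (by omega))
    have h3 : L.length * (2 * 2 ^ m + 2) + 1 ≤ 2 ^ (m - 2) * 2 ^ (m + 2) :=
      (Nat.add_le_add (Nat.mul_le_mul_left _ h1) (Nat.one_le_pow _ _ (by norm_num))).trans
        ((by rw [Nat.succ_mul] : L.length * 2 ^ (m + 2) + 2 ^ (m + 2) =
          (L.length + 1) * 2 ^ (m + 2)).le.trans (Nat.mul_le_mul_right _ h2))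
    rw [← pow_add, show m - 2 + (m + 2) = 2 * m by omega] at h3
    rw [pow_succ]
    have : 1 ≤ 2 ^ (2 * m) := Nat.one_le_pow _ _ (by norm_num)
    omega
  obtain ⟨C', hC'⟩ := exists_frames (ι := S) hF (by
    rw [Nat.card_eq_finsetCard]
    have := Nat.le_mul_of_pos_right L.length (show 0 < 2 * 2 ^ m + 2 by omega)
    omega)
  let C : ℕ → Sz F m := fun i => if h : i ∈ S then C' ⟨i, h⟩ else 1
  have hinv : ∀ i, mat (C i)⁻¹ * mat (C i) = 1 := fun i => by
    rw [← mat_mul, inv_mul_cancel, mat_one]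
  have hchain : L.IsChain (fun a b =>
      (mat (C a.1)⁻¹ * mat (C b.1)) (lawTop a.2) (lawTop b.2) ≠ 0) := by
    refine (w.isReduced_toWord).imp_of_mem_imp fun a b ha hb hab => ?_
    have haS : a.1 ∈ S := List.mem_toFinset.mpr (List.mem_map_of_mem ha)
    have hbS : b.1 ∈ S := List.mem_toFinset.mpr (List.mem_map_of_mem hb)
    rcases eq_or_ne a.1 b.1 with he | he
    · rw [← he, hinv, ← hab he, Matrix.one_apply_eq]
      exact one_ne_zero
    · simp only [C, dif_pos haS, dif_pos hbS, ← mat_mul]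
      exact hC' _ _ (fun h => he (congrArg Subtype.val h)) _ _
  obtain ⟨hdeg, v, hv, hlead⟩ := exists_leading (2 ^ m) (fun i => mat (C i))
    (fun i => mat (C i)⁻¹) hinv L hLne hchain
  set Q := (L.map fun a => lawPoly (2 ^ m) (mat (C a.1)) (mat (C a.1)⁻¹) a.2).prod with hQ
  by_contra hall
  push Not at hall
  obtain ⟨j, hj⟩ := Function.ne_iff.mp hv
  have hhead := hlead (L.head hLne) (List.head?_eq_some_head hLne)
  obtain ⟨i, hi⟩ : ∃ i, mat (C (L.head hLne).1) i (lawTop (L.head hLne).2) ≠ 0 := by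
    by_contra h
    push Not at h
    have := congrFun (congrFun (hinv (L.head hLne).1) (lawTop (L.head hLne).2))
      (lawTop (L.head hLne).2)
    simp [Matrix.mul_apply, h] at this
  set D := L.length * (2 * 2 ^ m + 2) with hD
  have hhalf : L.length * (2 ^ m + 1) < D := by
    rw [hD]
    refine Nat.mul_lt_mul_of_pos_left ?_ (List.length_pos_iff.mpr hLne)
    omega
  set P : F[X] := (Q i j - Polynomial.C ((1 : Matrix (Fin 4) (Fin 4) F) i j) *
    X ^ (L.length * (2 ^ m + 1))) * X with hP
  have hPtop : P.coeff (D + 1) ≠ 0 := by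
    rw [hP, coeff_mul_X, coeff_sub, hhead i j, coeff_C_mul_X_pow, if_neg hhalf.ne', sub_zero]
    exact mul_ne_zero hi hj
  apply hPtop
  have hP0 : P = 0 := by
    refine eq_zero_of_natDegree_lt_card_of_eval_eq_zero P (f := id) Function.injective_id
      (fun x => ?_) ?_
    · rw [hP, id, eval_mul, eval_X]
      rcases eq_or_ne x 0 with rfl | hx
      · rw [mul_zero]
      have h1 := hall fun i => C i * dSz hF (Units.mk0 x hx) * (C i)⁻¹
      rw [← FreeGroup.mk_toWord (x := w), FreeGroup.lift_mk] at h1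
      have h2 := eval_lawProd hF C (Units.mk0 x hx) L i j
      rw [Units.val_mk0, ← hQ, h1, mat_one] at h2
      rw [eval_sub, h2, eval_mul, eval_C, eval_pow, eval_X, mul_comm (_ ^ _), sub_self, zero_mul]
    · rw [hF]
      refine lt_of_le_of_lt (natDegree_mul_le.trans
        (Nat.add_le_add ((natDegree_sub_le _ _).trans (max_le (hdeg i j) ?_)) natDegree_X_le)) hlen
      exact (natDegree_C_mul_X_pow_le _ _).trans hhalf.le
  rw [hP0, coeff_zero]

end Cfsg.Agent.Suzuki
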