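import Cfsg.Agent.Lib.Suzuki.Borel

/-!
# Minimal degree of a faithful representation of the Suzuki group

Over `ℂ` every non-trivial representation has degree at least `2^m (q - 1)`
(`degree_ge`): the `q - 1` non-trivial eigenspaces of the root centre are permuted by the torus and
each carries a Heisenberg-type action of degree at least `2^m`.
-/

set_option autoImplicit false
set_option linter.style.haveILetI false

namespace Cfsg.Agent.Suzuki

open Cfsg

variable {F : Type*} [Field F] {m : ℕ} [Fintype F]
variable (hm : 1 ≤ m) (hF : Fintype.card F = 2 ^ (2 * m + 1))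

section characters

variable [CharP F 2]

/-- The trace to the prime field. -/
noncomputable def ftr (F : Type*) [Field F] [CharP F 2] : F →+ ZMod 2 :=
  letI := ZMod.algebra F 2
  (Algebra.trace (ZMod 2) F).toAddMonoidHom

omit [Fintype F] in
lemma zmod_two_sign (u v : ZMod 2) : (if u + v = 0 then (1 : ℂ) else -1) =
    (if u = 0 then 1 else -1) * (if v = 0 then 1 else -1) := by
  rcases (by decide : ∀ w : ZMod 2, w = 0 ∨ w = 1) u with rfl | rfl <;>
    rcases (by decide : ∀ w : ZMod 2, w = 0 ∨ w = 1) v with rfl | rfl <;>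
    simp [show (1 : ZMod 2) + 1 = 0 from by decide]

omit [Fintype F] in
/-- The sign of the trace of `c * b`. -/
noncomputable def sgnChar (c b : F) : ℂ := if ftr F (c * b) = 0 then 1 else -1

omit [Fintype F] in
lemma sgnChar_add (c b b' : F) : sgnChar c (b + b') = sgnChar c b * sgnChar c b' := by
  unfold sgnChar
  rw [mul_add, map_add]
  exact zmod_two_sign _ _

omit [Fintype F] in
lemma sgnChar_zero_left (b : F) : sgnChar 0 b = 1 := by simp [sgnChar]

omit [Fintype F] in
lemma sgnChar_zero_right (c : F) : sgnChar c 0 = 1 := by simp [sgnChar]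

omit [Fintype F] in
lemma sgnChar_ne_zero (c b : F) : sgnChar c b ≠ 0 := by
  unfold sgnChar; split_ifs <;> simp

lemma eq_zero_of_sgnChar {c : F} (h : ∀ b, sgnChar c b = 1) : c = 0 := by
  letI := ZMod.algebra F 2
  have hall : ∀ b, Algebra.trace (ZMod 2) F (c * b) = 0 := fun b => by
    have := h b
    unfold sgnChar at this
    split_ifs at this with h'
    · exact h'
    · exact absurd this (by norm_num)
  by_contra hc
  exact hc ((traceForm_nondegenerate (ZMod 2) F).1 c fun b => hall b)

open scoped Classical in
lemma sum_sgnChar_left (b : F) :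
    ∑ c : F, sgnChar c b = if b = 0 then (Fintype.card F : ℂ) else 0 := by
  classical
  split_ifs with hb
  · subst hb; simp [sgnChar_zero_right]
  · obtain ⟨c0, hc0⟩ : ∃ c0, sgnChar c0 b ≠ 1 := by
      by_contra h
      push Not at h
      refine hb (eq_zero_of_sgnChar fun c => ?_)
      have := h c
      unfold sgnChar at this ⊢
      rwa [mul_comm]
    have key : ∑ c : F, sgnChar c b = sgnChar c0 b * ∑ c : F, sgnChar c b := by
      rw [Finset.mul_sum]
      refine (Fintype.sum_equiv (Equiv.addRight c0) _ _ fun c => ?_).symm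
      unfold sgnChar
      rw [Equiv.coe_addRight, add_mul, map_add]
      rw [zmod_two_sign]; ring
    have h2 : (1 - sgnChar c0 b) * ∑ c : F, sgnChar c b = 0 := by
      rw [sub_mul, one_mul, ← key, sub_self]
    exact (mul_eq_zero.mp h2).resolve_left (sub_ne_zero.mpr (Ne.symm hc0))

open scoped Classical in
lemma sum_sgnChar_mul (c c' : F) :
    ∑ b : F, sgnChar c b * sgnChar c' b = if c = c' then (Fintype.card F : ℂ) else 0 := by
  have hmul : ∀ b, sgnChar c b * sgnChar c' b = sgnChar b (c + c') := fun b => by
    unfold sgnChar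
    rw [mul_add, map_add, mul_comm b c, mul_comm b c']
    rw [zmod_two_sign]
  simp only [hmul]
  rw [sum_sgnChar_left]
  exact if_congr ⟨fun h => by grind, fun h => by grind⟩ rfl rfl

include hF in
lemma ftr_th (x : F) : ftr F (th m x) = ftr F x := by
  letI := ZMod.algebra F 2
  haveI := Fact.mk Nat.prime_two
  have h2 : ∀ y : F, Algebra.trace (ZMod 2) F (y ^ 2) = Algebra.trace (ZMod 2) F y := fun y => by
    have := Algebra.trace_eq_of_algEquiv (FiniteField.frobeniusAlgEquivOfAlgebraic (ZMod 2) F) y
    simpa [FiniteField.coe_frobeniusAlgEquivOfAlgebraic, ZMod.card] using this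
  have hn : ∀ (n : ℕ) (y : F),
      Algebra.trace (ZMod 2) F (y ^ (2 ^ n)) = Algebra.trace (ZMod 2) F y := by
    intro n
    induction n with
    | zero => simp
    | succ n ih => intro y; rw [pow_succ, pow_mul, h2, ih]
  exact hn _ x

end characters

section representation

variable {V : Type*} [AddCommGroup V] [Module ℂ V] [FiniteDimensional ℂ V]
variable (ρ : Representation ℂ (Sz F m) V)

/-- The eigenspace of the root centre for the character attached to `c`. -/
noncomputable def eigenZ [CharP F 2] (c : F) : Submodule ℂ V where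
  carrier := {v | ∀ b : F, ρ (tSz hF 0 b) v = sgnChar c b • v}
  add_mem' := fun {v w} hv hw b => by rw [map_add, hv b, hw b, smul_add]
  zero_mem' := fun b => by simp
  smul_mem' := fun r v hv b => by rw [map_smul, hv b, smul_comm]

/-- The projection onto `eigenZ`, scaled by `q`. -/
noncomputable def projZ [CharP F 2] (c : F) : V →ₗ[ℂ] V :=
  ∑ b : F, sgnChar c b • ρ (tSz hF 0 b)

lemma projZ_mem [CharP F 2] (c : F) (v : V) : projZ hF ρ c v ∈ eigenZ hF ρ c := by
  intro b'
  unfold projZ
  simp only [LinearMap.coe_sum, Finset.sum_apply, LinearMap.smul_apply, map_sum, map_smul,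
    Finset.smul_sum, smul_smul]
  refine Fintype.sum_equiv (Equiv.addRight b') _ _ fun b => ?_
  have hz : tSz hF 0 b' * tSz hF 0 b = tSz hF 0 (b + b') := by
    rw [tSz_mul]; congr 1 <;> simp [add_comm]
  rw [Equiv.coe_addRight, ← Module.End.mul_apply, ← map_mul, hz]
  congr 1
  rw [sgnChar_add, ← mul_assoc, mul_comm (sgnChar c b') (sgnChar c b), mul_assoc]
  have : sgnChar c b' * sgnChar c b' = 1 := by
    unfold sgnChar; split_ifs <;> ring
  rw [this, mul_one]

open scoped Classical in
lemma projZ_eigen [CharP F 2] {c c' : F} {v : V} (hv : v ∈ eigenZ hF ρ c') :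
    projZ hF ρ c v = (if c = c' then (Fintype.card F : ℂ) else 0) • v := by
  rw [← sum_sgnChar_mul, Finset.sum_smul]
  unfold projZ
  simp only [LinearMap.coe_sum, Finset.sum_apply, LinearMap.smul_apply]
  exact Finset.sum_congr rfl fun b _ => by rw [hv b, smul_smul]

lemma tSz_comm (a d : F) :
    tSz hF d 0 * tSz hF a 0 =
      tSz hF 0 (th m a * d + th m d * a) * (tSz hF a 0 * tSz hF d 0) := by
  haveI := charTwo hF
  rw [tSz_mul, tSz_mul, tSz_mul]
  congr 1 <;> simp <;> grind

lemma tSz_mem_eigen [CharP F 2] {c : F} (a : F) {v : V} (hv : v ∈ eigenZ hF ρ c) :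
    ρ (tSz hF a 0) v ∈ eigenZ hF ρ c := by
  intro b
  have hz : tSz hF 0 b * tSz hF a 0 = tSz hF a 0 * tSz hF 0 b := by
    rw [tSz_mul, tSz_mul]; congr 1 <;> simp
  rw [← Module.End.mul_apply, ← map_mul, hz, map_mul, Module.End.mul_apply, hv b, map_smul]

include hm in
/-- Each non-trivial eigenspace has dimension at least `2^m`. -/
lemma eigen_dim_ge [CharP F 2] {c : F} (hc : c ≠ 0) (hne : eigenZ hF ρ c ≠ ⊥) :
    2 ^ m ≤ Module.finrank ℂ (eigenZ hF ρ c) := by
  classical
  set W := eigenZ hF ρ c
  haveI : Nontrivial W := Submodule.nontrivial_iff_ne_bot.mpr hne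
  let E : F → Module.End ℂ W := fun a =>
    (ρ (tSz hF a 0)).restrict fun v hv => tSz_mem_eigen hF ρ a hv
  let B : F → Multiplicative F →* ℂ := fun a =>
    { toFun := fun d => sgnChar c (th m a * d.toAdd + th m d.toAdd * a)
      map_one' := by simp [sgnChar_zero_right]
      map_mul' := fun d d' => by
        rw [← sgnChar_add, toAdd_mul]
        congr 1
        rw [th_add]; ring }
  have hcomm : ∀ a (d : Multiplicative F), E d.toAdd * E a = B a d • (E a * E d.toAdd) := by
    intro a d
    refine LinearMap.ext fun v => Subtype.ext ?_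
    show ρ (tSz hF d.toAdd 0) (ρ (tSz hF a 0) v) =
      sgnChar c _ • ρ (tSz hF a 0) (ρ (tSz hF d.toAdd 0) v)
    rw [← Module.End.mul_apply, ← map_mul, tSz_comm, map_mul, Module.End.mul_apply, map_mul,
      Module.End.mul_apply]
    exact tSz_mem_eigen hF ρ a (tSz_mem_eigen hF ρ _ v.2) _
  have hE : ∀ a, E a ≠ 0 := fun a h => by
    obtain ⟨v, hv⟩ := exists_ne (0 : W)
    have h1 : ρ (tSz hF a 0) (v : V) = 0 := congrArg Subtype.val (LinearMap.congr_fun h v)
    apply hv
    apply Subtype.ext
    have h2 := congrArg (ρ (tSz hF a 0)⁻¹) h1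
    rw [← Module.End.mul_apply, ← map_mul, inv_mul_cancel, map_one, Module.End.one_apply,
      map_zero] at h2
    exact h2
  -- representatives for the distinct characters
  set S := Finset.univ.image B with hS
  have hfib : Fintype.card F ≤ 2 * S.card := by
    refine Finset.card_le_mul_card_image (s := (Finset.univ : Finset F)) (f := B) 2 ?_
    intro χ _
    by_contra hgt
    push Not at hgt
    obtain ⟨a1, a2, a3, h1, h2, h3, n12, n13, n23⟩ := Finset.two_lt_card_iff.mp hgt
    simp only [Finset.mem_filter, Finset.mem_univ, true_and] at h1 h2 h3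
    have key : ∀ a a', B a = χ → B a' = χ → a ≠ a' → th m c * (a + a') = c := by
      intro a a' ha ha' hne'
      have hd : ∀ d, ftr F (c * (th m (a + a') * d + th m d * (a + a'))) = 0 := by
        intro d
        have e := congrArg (fun f : Multiplicative F →* ℂ => f (Multiplicative.ofAdd d))
          (ha.trans ha'.symm)
        have e' : sgnChar c (th m a * d + th m d * a) = sgnChar c (th m a' * d + th m d * a') := e
        have hz : ftr F (c * (th m a * d + th m d * a)) =
            ftr F (c * (th m a' * d + th m d * a')) := by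
          unfold sgnChar at e'
          generalize ftr F (c * (th m a * d + th m d * a)) = u at e' ⊢
          generalize ftr F (c * (th m a' * d + th m d * a')) = v at e' ⊢
          rcases (by decide : ∀ w : ZMod 2, w = 0 ∨ w = 1) u with rfl | rfl <;>
            rcases (by decide : ∀ w : ZMod 2, w = 0 ∨ w = 1) v with rfl | rfl <;>
            first
            | rfl
            | exact absurd e' (by norm_num)
        rw [th_add, show c * ((th m a + th m a') * d + th m d * (a + a')) =
          c * (th m a * d + th m d * a) + c * (th m a' * d + th m d * a') by ring, map_add, hz,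
          CharTwo.add_self_eq_zero]
      set e := a + a' with he
      have he0 : e ≠ 0 := fun h => hne' (by grind)
      have h0 : th m c * e ^ 2 + c * e = 0 := by
        refine eq_zero_of_sgnChar fun y => ?_
        obtain ⟨d, rfl⟩ := (Finite.injective_iff_surjective.mp (fun x y h => by
            have := congrArg (th m) h
            rw [th_th hF, th_th hF] at this
            rcases sq_eq_sq_iff_eq_or_eq_neg.mp this with e | e
            · exact e
            · rw [e, CharTwo.neg_eq]) : Function.Surjective (th (F := F) m)) y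
        unfold sgnChar
        rw [if_pos]
        have h1' := hd d
        rw [mul_add, map_add, ← ftr_th hF (c * (th m e * d)), th_mul, th_mul, th_th hF,
          ← map_add] at h1'
        rw [← h1']
        congr 1
        ring
      apply mul_right_cancel₀ he0
      grind
    have e12 := key a1 a2 h1 h2 n12
    have e13 := key a1 a3 h1 h3 n13
    apply n23
    have := mul_left_cancel₀ (th_ne_zero hc) (e12.trans e13.symm)
    exact add_left_cancel this
  let rep : S → F := fun χ => (Finset.mem_image.mp χ.2).choose
  have hrep : ∀ χ : S, B (rep χ) = (χ : Multiplicative F →* ℂ) := fun χ =>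
    (Finset.mem_image.mp χ.2).choose_spec.2
  have hli : LinearIndependent ℂ (fun χ : S => E (rep χ)) := by
    rw [Fintype.linearIndependent_iff]
    intro g hg χ0
    by_contra hg0
    obtain ⟨v, hv⟩ : ∃ v, E (rep χ0) v ≠ 0 := by
      by_contra h
      push Not at h
      exact hE _ (LinearMap.ext h)
    obtain ⟨f, hf⟩ : ∃ f : W →ₗ[ℂ] ℂ, f (E (rep χ0) v) ≠ 0 := by
      by_contra h
      push Not at h
      exact hv ((Module.forall_dual_apply_eq_zero_iff ℂ _).mp h)
    have hchar : ∑ χ : S, (g χ * f (E (rep χ) v)) •
        ((χ : Multiplicative F →* ℂ) : Multiplicative F → ℂ) = 0 := by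
      funext d
      simp only [Finset.sum_apply, Pi.smul_apply, smul_eq_mul, Pi.zero_apply]
      -- conjugate the relation by `E d`
      have hEd : ∀ χ : S, (χ : Multiplicative F →* ℂ) d • (E (rep χ) * E d.toAdd) =
          E d.toAdd * E (rep χ) := fun χ => by rw [hcomm, hrep]
      have hsum : ∑ χ : S, (g χ * (χ : Multiplicative F →* ℂ) d) •
          (E (rep χ) * E d.toAdd) = 0 := by
        rw [show (∑ χ : S, (g χ * (χ : Multiplicative F →* ℂ) d) • (E (rep χ) * E d.toAdd)) =
            E d.toAdd * ∑ χ : S, g χ • E (rep χ) from ?_, hg, mul_zero]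
        rw [Finset.mul_sum]
        exact Finset.sum_congr rfl fun χ _ => by rw [← smul_smul, hEd, mul_smul_comm]
      have hinvol : ∃ u : W, E d.toAdd u = v := by
        have hinj : Function.Injective (E d.toAdd) := fun x y h => by
          apply Subtype.ext
          have h2 := congrArg (fun z : W => ρ (tSz hF d.toAdd 0)⁻¹ (z : V)) h
          simp only [E, LinearMap.coe_restrict_apply, ← Module.End.mul_apply, ← map_mul,
            inv_mul_cancel, map_one, Module.End.one_apply] at h2
          exact h2
        exact (LinearMap.injective_iff_surjective.mp hinj) v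
      obtain ⟨u, rfl⟩ := hinvol
      have := congrArg (fun T : Module.End ℂ W => f (T u)) hsum
      simp only [LinearMap.coe_sum, Finset.sum_apply, LinearMap.smul_apply, Module.End.mul_apply,
        map_sum, map_smul, smul_eq_mul, LinearMap.zero_apply, map_zero] at this
      rw [← this]
      exact Finset.sum_congr rfl fun χ _ => by ring
    have hdd := (linearIndependent_monoidHom (Multiplicative F) ℂ).comp
      (fun χ : S => (χ : Multiplicative F →* ℂ)) Subtype.val_injective
    exact mul_ne_zero hg0 hf (Fintype.linearIndependent_iff.mp hdd _ hchar χ0)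
  have h1 := hli.fintype_card_le_finrank
  rw [Fintype.card_coe, Module.finrank_linearMap] at h1
  rw [hF] at hfib
  by_contra hlt
  push Not at hlt
  have : Module.finrank ℂ W * Module.finrank ℂ W < 2 ^ m * 2 ^ m :=
    Nat.mul_lt_mul_of_lt_of_lt hlt hlt
  rw [pow_succ, pow_mul', sq] at hfib
  omega

include hm hF in
/-- Non-trivial representations have degree at least `2^m (q - 1)`. -/
theorem degree_ge (hρ : ∃ g, ρ g ≠ 1) :
    2 ^ m * (2 ^ (2 * m + 1) - 1) ≤ Module.finrank ℂ V := by
  classical
  haveI := charTwo hF
  haveI := isSimpleGroup_sz hm hF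
  -- faithful
  have hz : ρ (tSz hF 0 1) ≠ 1 := by
    intro h
    obtain ⟨g, hg⟩ := hρ
    rcases (MonoidHom.normal_ker ρ).eq_bot_or_eq_top with hb | ht
    · have h' : tSz hF 0 1 ∈ ρ.ker := h
      rw [hb, Subgroup.mem_bot, tSz_eq_one_iff] at h'
      exact one_ne_zero h'.2
    · exact hg (MonoidHom.mem_ker.mp (ht ▸ Subgroup.mem_top g))
  -- a non-trivial eigenspace
  obtain ⟨c0, hc0, hne0⟩ : ∃ c : F, c ≠ 0 ∧ eigenZ hF ρ c ≠ ⊥ := by
    by_contra h
    push Not at h
    apply hz
    refine LinearMap.ext fun v => ?_
    have hq : (Fintype.card F : ℂ) ≠ 0 := Nat.cast_ne_zero.mpr Fintype.card_ne_zero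
    have hsum : ∑ c : F, projZ hF ρ c v = (Fintype.card F : ℂ) • v := by
      unfold projZ
      simp only [LinearMap.coe_sum, Finset.sum_apply, LinearMap.smul_apply]
      rw [Finset.sum_comm]
      simp only [← Finset.sum_smul, sum_sgnChar_left, ite_smul, zero_smul]
      rw [Finset.sum_ite_eq', if_pos (Finset.mem_univ _), tSz_zero, map_one, Module.End.one_apply]
    rw [Finset.sum_eq_single (0 : F) (fun c _ hc => by
      have := projZ_mem hF ρ c v
      rwa [h c hc, Submodule.mem_bot] at this) (by simp)] at hsum
    have := projZ_mem hF ρ 0 v 1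
    rw [sgnChar_zero_left, one_smul, hsum, map_smul] at this
    exact smul_right_injective V hq this
  -- all of them
  have hall : ∀ c : F, c ≠ 0 → eigenZ hF ρ c ≠ ⊥ := by
    intro c hc
    obtain ⟨v, hv, hv0⟩ := Submodule.exists_mem_ne_zero_of_ne_bot hne0
    obtain ⟨k, hk⟩ := (thSucc_bijective hF).2 (c0 / c)
    simp only at hk
    have hk0 : k ≠ 0 := fun h => div_ne_zero hc0 hc (by rw [← hk, h, mul_zero])
    intro hbot
    have hmem : ρ (dSz hF (Units.mk0 k hk0)) v ∈ eigenZ hF ρ c := by
      intro b
      have e : tSz hF 0 b * dSz hF (Units.mk0 k hk0) =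
          dSz hF (Units.mk0 k hk0) * tSz hF 0 (b / (th m k * k)) := by
        rw [dSz_conj_tSz, Units.val_mk0, mul_zero,
          mul_div_cancel₀ b (mul_ne_zero (th_ne_zero hk0) hk0)]
      rw [← Module.End.mul_apply, ← map_mul, e, map_mul, Module.End.mul_apply, hv, map_smul]
      congr 1
      unfold sgnChar
      rw [hk, show c0 * (b / (c0 / c)) = c * b by field_simp]
    rw [hbot, Submodule.mem_bot] at hmem
    apply hv0
    have h2 := congrArg (ρ (dSz hF (Units.mk0 k hk0))⁻¹) hmem
    rwa [← Module.End.mul_apply, ← map_mul, inv_mul_cancel, map_one, Module.End.one_apply,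
      map_zero] at h2
  -- independence
  let Φ : (∀ c : Fˣ, eigenZ hF ρ (c : F)) →ₗ[ℂ] V :=
    ∑ c : Fˣ, (eigenZ hF ρ (c : F)).subtype ∘ₗ LinearMap.proj c
  have hinj : Function.Injective Φ := by
    rw [← LinearMap.ker_eq_bot, LinearMap.ker_eq_bot']
    intro x hx
    funext c
    apply Subtype.ext
    have := congrArg (projZ hF ρ (c : F)) hx
    simp only [Φ, LinearMap.coe_sum, Finset.sum_apply, LinearMap.comp_apply, LinearMap.proj_apply,
      Submodule.subtype_apply, map_sum, map_zero] at this
    rw [Finset.sum_eq_single c (fun d _ hd => by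
      rw [projZ_eigen hF ρ (x d).2, if_neg (fun e => hd (Units.ext e).symm), zero_smul])
      (by simp), projZ_eigen hF ρ (x c).2, if_pos rfl, smul_eq_zero] at this
    exact this.resolve_left (Nat.cast_ne_zero.mpr Fintype.card_ne_zero)
  refine le_trans ?_ (LinearMap.finrank_le_finrank_of_injective hinj)
  rw [Module.finrank_pi_fintype]
  calc 2 ^ m * (2 ^ (2 * m + 1) - 1) = ∑ _c : Fˣ, 2 ^ m := by
        rw [Finset.sum_const, Finset.card_univ, ← Nat.card_eq_fintype_card, Nat.card_units,
          Nat.card_eq_fintype_card, hF, smul_eq_mul, mul_comm]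
    _ ≤ _ := Finset.sum_le_sum fun c _ => eigen_dim_ge hm hF ρ c.ne_zero (hall _ c.ne_zero)

end representation

end Cfsg.Agent.Suzuki
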