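import Cfsg.Agent.Lib.Suzuki.Field

/-!
# The Suzuki–Tits ovoid

`pt m x y` (the affine points), `mem_ovoid_iff`, `pt_inj`, `ovoidEquiv : Option (F × F) ≃ ovoid`,
`card_ovoid`.
-/

set_option autoImplicit false
set_option linter.style.haveILetI false

namespace Cfsg.Agent.Suzuki

open Cfsg
open scoped Matrix

variable {F : Type*} [Field F] {m : ℕ}

/-- The representative vector of an affine ovoid point. -/
def vec (m : ℕ) (x y : F) : Fin 4 → F := ![fz m x y, y, x, 1]

lemma vec_ne_zero (x y : F) : vec m x y ≠ 0 :=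
  fun h => one_ne_zero (congrFun h 3)

/-- The affine ovoid point with parameters `x, y`. -/
def pt (m : ℕ) (x y : F) : Projectivization F (Fin 4 → F) :=
  Projectivization.mk F (vec m x y) (vec_ne_zero x y)

lemma pt_zero_zero : pt m (0 : F) 0 = suzukiPointZero F := by
  unfold pt suzukiPointZero vec
  congr 1
  funext i; fin_cases i <;> simp [fz]

lemma pt_ne_infinity (x y : F) : pt m x y ≠ suzukiPointInfinity F := by
  intro h
  obtain ⟨a, ha⟩ := (Projectivization.mk_eq_mk_iff' F _ _ _ _).mp h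
  have h3 := congrFun ha 3
  simp [vec] at h3

lemma pointZero_ne_infinity : suzukiPointZero F ≠ suzukiPointInfinity F := by
  rw [← pt_zero_zero (m := 0)]; exact pt_ne_infinity 0 0

lemma pt_inj {x y x' y' : F} (h : pt m x y = pt m x' y') : x = x' ∧ y = y' := by
  obtain ⟨a, ha⟩ := (Projectivization.mk_eq_mk_iff' F _ _ _ _).mp h
  have h3 := congrFun ha 3
  have h2 := congrFun ha 2
  have h1 := congrFun ha 1
  simp [vec] at h3 h2 h1
  subst h3
  simp at h2 h1
  exact ⟨h2.symm, h1.symm⟩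

lemma mem_ovoid_iff {p : Projectivization F (Fin 4 → F)} :
    p ∈ suzukiOvoid F m ↔ p = suzukiPointInfinity F ∨ ∃ x y, p = pt m x y := by
  constructor
  · rintro ⟨v, hv, rfl, hcase⟩
    rcases hcase with rfl | ⟨x, y, rfl⟩
    · exact Or.inl rfl
    · exact Or.inr ⟨x, y, by simp only [pt, vec, fz, th, pow_add]⟩
  · rintro (rfl | ⟨x, y, rfl⟩)
    · exact ⟨![1, 0, 0, 0], by simp, rfl, Or.inl rfl⟩
    · exact ⟨vec m x y, vec_ne_zero x y, rfl, Or.inr ⟨x, y, by simp only [vec, fz, th, pow_add]⟩⟩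

lemma infinity_mem : suzukiPointInfinity F ∈ suzukiOvoid F m := mem_ovoid_iff.mpr (Or.inl rfl)

lemma pt_mem (x y : F) : pt m x y ∈ suzukiOvoid F m := mem_ovoid_iff.mpr (Or.inr ⟨x, y, rfl⟩)

lemma pointZero_mem : suzukiPointZero F ∈ suzukiOvoid F m := pt_zero_zero (F := F) (m := m) ▸ pt_mem 0 0

/-- Parametrisation of the ovoid. -/
noncomputable def ovoidEquiv (F : Type*) [Field F] (m : ℕ) :
    Option (F × F) ≃ suzukiOvoid F m :=
  Equiv.ofBijective
    (fun o => match o with
      | none => ⟨suzukiPointInfinity F, infinity_mem⟩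
      | some (x, y) => ⟨pt m x y, pt_mem x y⟩)
    ⟨by
      rintro (_ | ⟨x, y⟩) (_ | ⟨x', y'⟩) h
      · rfl
      · exact absurd (Subtype.mk.inj h).symm (pt_ne_infinity x' y')
      · exact absurd (Subtype.mk.inj h) (pt_ne_infinity x y)
      · obtain ⟨rfl, rfl⟩ := pt_inj (Subtype.mk.inj h)
        rfl,
    by
      rintro ⟨p, hp⟩
      rcases mem_ovoid_iff.mp hp with rfl | ⟨x, y, rfl⟩
      · exact ⟨none, rfl⟩
      · exact ⟨some (x, y), rfl⟩⟩

lemma ovoid_finite [Finite F] : (suzukiOvoid F m).Finite :=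
  Set.finite_coe_iff.mp (Finite.of_equiv _ (ovoidEquiv F m))

lemma card_ovoid [Fintype F] (m : ℕ) :
    Nat.card (suzukiOvoid F m) = Fintype.card F ^ 2 + 1 := by
  rw [← Nat.card_congr (ovoidEquiv F m), Finite.card_option, Nat.card_prod,
    Nat.card_eq_fintype_card, sq]

end Cfsg.Agent.Suzuki
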