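import Cfsg.Agent.Lib.Suzuki.Solubilizer

/-!
# Orders of the solubilizers in Suzuki groups over fields of prime degree

`solSet_card_two`, `solSet_card_four`, `solSet_card_pred`, `solSet_card_torus`.
-/

set_option autoImplicit false
set_option linter.style.haveILetI false

namespace Cfsg.Agent.Suzuki

open Cfsg
open scoped Matrix

variable {F : Type*} [Field F] {m : ℕ} [Fintype F]
variable (hm : 1 ≤ m) (hF : Fintype.card F = 2 ^ (2 * m + 1))

include hm hF

/-- The elements of a torus are semisimple. -/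
lemma TorusDatum.not_mem_conjSet {T : Subgroup (Sz F m)} {n : ℕ} (hT : TorusDatum T n)
    {t : Sz F m} (ht : t ∈ T) (h1 : t ≠ 1) : t ∉ conjSet (uSub hF) := by
  rintro ⟨s, c, ⟨a, b, rfl⟩, hc1, rfl⟩
  have hle : T ≤ (uSub hF).map (MulAut.conj s).toMonoidHom := by
    intro y hy
    rw [← hT.cent _ ht h1, centralizer_conj hm hF (x := s⁻¹),
      show s⁻¹ * (s * tSz hF a b * s⁻¹) * s⁻¹⁻¹ = tSz hF a b by group] at hy
    have := centralizer_tSz_le hm hF (fun e => hc1 ((tSz_eq_one_iff hF).mpr e)) hy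
    rw [map_conj_iff]
    simpa using this
  have hd := Subgroup.card_dvd_of_le hle
  rw [card_map_conj, card_uSub] at hd
  have hc : (Nat.card T).Coprime ((2 ^ (2 * m + 1)) ^ 2) :=
    Nat.Coprime.pow_right _ (Nat.Coprime.pow_right _ (Nat.coprime_two_right.mpr hT.odd))
  have := Nat.eq_one_of_dvd_coprimes hc dvd_rfl hd
  have := hT.one_lt
  omega

lemma TorusDatum.ne_top {T : Subgroup (Sz F m)} {n : ℕ} (hT : TorusDatum T n) :
    Subgroup.normalizer (T : Set (Sz F m)) ≠ ⊤ := by
  intro h
  haveI := isSimpleGroup_sz hm hF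
  haveI : T.Normal := Subgroup.normalizer_eq_top_iff.mp h
  rcases this.eq_bot_or_eq_top with e | e
  · have := hT.one_lt; rw [e, Subgroup.card_bot] at this; omega
  · refine hT.not_mem_conjSet hm hF (e ▸ Subgroup.mem_top (tSz hF 0 1)) (fun e' =>
      one_ne_zero ((tSz_eq_one_iff hF).mp e').2) ⟨1, _, tSz_mem_uSub hF 0 1, fun e' =>
      one_ne_zero ((tSz_eq_one_iff hF).mp e').2, by rw [one_mul, inv_one, mul_one]⟩

lemma borel_ne_top : borelSub F m ≠ ⊤ := fun h =>
  pointZero_ne_infinity ((wSz_smul_infinity hF).symm.trans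
    (MulAction.mem_stabilizer_iff.mp
      (show wSz hF ∈ borelSub F m by rw [h]; exact Subgroup.mem_top _)))

/-- Every centraliser of a semisimple element is conjugate to one of three tori. -/
lemma exists_type {gA gB a : Sz F m} (hA : FPF gA) (hAc : Nat.card (torus gA) = torusA m)
    (hB : FPF gB) (hBc : Nat.card (torus gB) = torusB m) (ha : a ≠ 1)
    (hau : a ∉ conjSet (uSub hF)) :
    Subgroup.centralizer {a} ∈ conjugatesOf' (dSub hF) ∨
      Subgroup.centralizer {a} ∈ conjugatesOf' (torus gA) ∨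
      Subgroup.centralizer {a} ∈ conjugatesOf' (torus gB) := by
  rcases mem_cases hm hF ha with ⟨h, -⟩ | ⟨-, ⟨s, d, hd, hd1, rfl⟩, -⟩ | ⟨-, -, hf⟩
  · exact absurd h hau
  · left
    obtain ⟨k, rfl⟩ := (mem_dSub hF).mp hd
    refine mem_conjugatesOf'.mpr ⟨s, ?_⟩
    ext y
    have hk1 : k ≠ 1 := fun h => hd1 (by rw [h, dSz_one])
    rw [map_conj_iff, ← centralizer_dSz hm hF hk1,
      centralizer_conj hm hF (x := s), show s * (s⁻¹ * y * s) * s⁻¹ = y by group]
  · right
    have hAB : torusA m ≠ torusB m := fun e => by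
      have hc := (coprime_orders m).2.2
      rw [e, Nat.coprime_self] at hc
      have := five_le_card_torus hm hF hB
      omega
    rcases (torus_data hm hF hf).1 with e | e
    · left
      have hmem : a ∈ conjSet (torus gA) := by
        by_contra hn
        rcases two_classes_orders hm hF hA hf hn with ⟨e1, e2⟩ | ⟨e1, e2⟩ <;>
          rw [e] at e2 <;> first | exact hAB e2 | exact hAB (hAc.symm.trans e1)
      obtain ⟨x, hx⟩ := torus_of_mem_conjSet hm hF hA hmem
      exact mem_conjugatesOf'.mpr ⟨x, hx.symm⟩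
    · right
      have hmem : a ∈ conjSet (torus gB) := by
        by_contra hn
        rcases two_classes_orders hm hF hB hf hn with ⟨e1, e2⟩ | ⟨e1, e2⟩ <;>
          rw [e] at e2 <;> first | exact hAB e2.symm | exact hAB (e1.symm.trans hBc)
      obtain ⟨x, hx⟩ := torus_of_mem_conjSet hm hF hB hmem
      exact mem_conjugatesOf'.mpr ⟨x, hx.symm⟩

lemma datum_of_mem {T S : Subgroup (Sz F m)} {n : ℕ} (hT : TorusDatum T n)
    (hS : S ∈ conjugatesOf' T) : TorusDatum S n ∧ Nat.card S = Nat.card T := by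
  obtain ⟨g, rfl⟩ := mem_conjugatesOf'.mp hS
  exact ⟨hT.map g, card_map_conj T g⟩

open scoped Classical in
/-- The solubilizer of a unipotent element: one Borel subgroup and the torus normalisers. -/
lemma solSet_card_unipotent (hp : (2 * m + 1).Prime) {a b : F}
    (ho : orderOf (tSz hF a b) = 2 ∨ orderOf (tSz hF a b) = 4)
    {gA gB : Sz F m} (hA : FPF gA) (hAc : Nat.card (torus gA) = torusA m)
    (hB : FPF gB) (hBc : Nat.card (torus gB) = torusB m) :
    (solSet (tSz hF a b)).ncard = (2 ^ (2 * m + 1)) ^ 2 * (2 ^ (2 * m + 1) - 1) +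
      (((conjugatesOf' (dSub hF)).filter fun S =>
          tSz hF a b ∈ Subgroup.normalizer ((S : Subgroup (Sz F m)) : Set (Sz F m))).card *
          (2 * (2 ^ (2 * m + 1) - 1) - 2) +
        ((conjugatesOf' (torus gA)).filter fun S =>
          tSz hF a b ∈ Subgroup.normalizer ((S : Subgroup (Sz F m)) : Set (Sz F m))).card *
          (4 * torusA m - 4) +
        ((conjugatesOf' (torus gB)).filter fun S =>
          tSz hF a b ∈ Subgroup.normalizer ((S : Subgroup (Sz F m)) : Set (Sz F m))).card *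
          (4 * torusB m - 4)) := by
  haveI : Fintype (Sz F m) := Fintype.ofFinite _
  set x := tSz hF a b with hxdef
  have hxu : ¬ (a = 0 ∧ b = 0) := by
    rintro ⟨rfl, rfl⟩
    rw [hxdef, tSz_zero, orderOf_one] at ho
    omega
  have hxB : x ∈ borelSub F m := tSz_smul_infinity hF a b
  have hD := torusDatum_dSub hm hF
  have hTA := torusDatum_torus hm hF hA
  have hTB := torusDatum_torus hm hF hB
  set CD := (conjugatesOf' (dSub hF)).filter fun S =>
    x ∈ Subgroup.normalizer ((S : Subgroup (Sz F m)) : Set (Sz F m))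
  set CA := (conjugatesOf' (torus gA)).filter fun S =>
    x ∈ Subgroup.normalizer ((S : Subgroup (Sz F m)) : Set (Sz F m))
  set CB := (conjugatesOf' (torus gB)).filter fun S =>
    x ∈ Subgroup.normalizer ((S : Subgroup (Sz F m)) : Set (Sz F m))
  set TS := CD ∪ CA ∪ CB with hTSdef
  have hdat : ∀ S ∈ TS, ∃ n, TorusDatum S n ∧
      x ∈ Subgroup.normalizer ((S : Subgroup (Sz F m)) : Set (Sz F m)) := by
    intro S hS
    simp only [hTSdef, Finset.mem_union] at hS
    rcases hS with (h | h) | h <;> obtain ⟨h1, h2⟩ := Finset.mem_filter.mp h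
    · exact ⟨2, (datum_of_mem hm hF hD h1).1, h2⟩
    · exact ⟨4, (datum_of_mem hm hF hTA h1).1, h2⟩
    · exact ⟨4, (datum_of_mem hm hF hTB h1).1, h2⟩
  let f : Subgroup (Sz F m) → Finset (Sz F m) := fun S => Finset.univ.filter fun y =>
    y ∈ Subgroup.normalizer (S : Set (Sz F m)) ∧ y ∉ borelSub F m
  have hfcard : ∀ S n, TorusDatum S n →
      x ∈ Subgroup.normalizer ((S : Subgroup (Sz F m)) : Set (Sz F m)) →
      (f S).card = n * Nat.card S - n := by
    intro S n hS hx
    have hu := fun t ht h1 => hS.not_mem_conjSet hm hF (t := t) ht h1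
    have hi := card_norm_inter hm hF hS hu ho hx
    have e : (f S : Set (Sz F m)) = (Subgroup.normalizer (S : Set (Sz F m)) : Set (Sz F m)) \
        (Subgroup.normalizer (S : Set (Sz F m)) ⊓ borelSub F m : Subgroup (Sz F m)) := by
      ext y; simp [f]
    rw [← Set.ncard_coe_finset, e, Set.ncard_diff (by intro y hy; exact hy.1),
      ← Nat.card_coe_set_eq, ← Nat.card_coe_set_eq]
    change Nat.card (Subgroup.normalizer (S : Set (Sz F m))) -
      Nat.card (Subgroup.normalizer (S : Set (Sz F m)) ⊓ borelSub F m : Subgroup (Sz F m)) = _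
    rw [hi, hS.card_norm]
  have hset : solSet x = (borelSub F m : Set (Sz F m)) ∪ ↑(TS.biUnion f) := by
    ext y
    rw [mem_solSet_iff hm hF hp]
    constructor
    · rintro ⟨M, hM, hxM, hyM⟩
      haveI := isSolvable_of_ne_top hm hF hp hM
      rcases container_cases hm hF (H := M) with ⟨p, hpm, hfix⟩ | ⟨c, hc, hcu, hle⟩
      · left
        have := uSub_fix_eq hF hxu hpm (hfix x hxM)
        exact MulAction.mem_stabilizer_iff.mpr (this ▸ hfix y hyM)
      · by_cases hyB : y ∈ borelSub F m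
        · exact Or.inl hyB
        right
        rw [Finset.mem_coe, Finset.mem_biUnion]
        refine ⟨Subgroup.centralizer {c}, ?_,
          Finset.mem_filter.mpr ⟨Finset.mem_univ _, hle hyM, hyB⟩⟩
        simp only [hTSdef, Finset.mem_union]
        rcases exists_type hm hF hA hAc hB hBc hc hcu with h | h | h
        · exact Or.inl (Or.inl (Finset.mem_filter.mpr ⟨h, hle hxM⟩))
        · exact Or.inl (Or.inr (Finset.mem_filter.mpr ⟨h, hle hxM⟩))
        · exact Or.inr (Finset.mem_filter.mpr ⟨h, hle hxM⟩)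
    · rintro (h | h)
      · exact ⟨_, borel_ne_top hm hF, hxB, h⟩
      · rw [Finset.mem_coe, Finset.mem_biUnion] at h
        obtain ⟨S, hS, hy⟩ := h
        obtain ⟨n, hn, hx⟩ := hdat S hS
        exact ⟨_, hn.ne_top hm hF, hx, (Finset.mem_filter.mp hy).2.1⟩
  have hdisj : Disjoint (borelSub F m : Set (Sz F m)) ↑(TS.biUnion f) := by
    rw [Set.disjoint_left]
    intro y hy h
    rw [Finset.mem_coe, Finset.mem_biUnion] at h
    obtain ⟨S, -, hy'⟩ := h
    exact (Finset.mem_filter.mp hy').2.2 hy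
  have hpd : (TS : Set (Subgroup (Sz F m))).PairwiseDisjoint f := by
    intro S hS S' hS' hne
    rw [Function.onFun, Finset.disjoint_left]
    intro y hy hy'
    obtain ⟨n, hn, hx⟩ := hdat S hS
    obtain ⟨n', hn', hx'⟩ := hdat S' hS'
    obtain ⟨-, hyN, hyB⟩ := Finset.mem_filter.mp hy
    obtain ⟨-, hyN', -⟩ := Finset.mem_filter.mp hy'
    -- the commutator lies in both normalisers
    set H := Subgroup.normalizer ((S : Subgroup (Sz F m)) : Set (Sz F m)) ⊓
      Subgroup.normalizer ((S' : Subgroup (Sz F m)) : Set (Sz F m)) with hH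
    have htriv : ∀ t ∈ H, t ∈ S → t = 1 := by
      intro t ht htS
      by_contra h1
      refine hne (hn.eq_of_common hn' htS (hn'.mem_of_odd ht.2 (hn.order_odd htS)) h1)
    -- `H` embeds in the quotient of order at most four
    set K := S.subgroupOf (Subgroup.normalizer ((S : Subgroup (Sz F m)) : Set (Sz F m)))
    have hq : Nat.card (Subgroup.normalizer ((S : Subgroup (Sz F m)) : Set (Sz F m)) ⧸ K) = n := by
      rw [← Subgroup.index_eq_card]; exact hn.relIndex_eq
    haveI : Fact (Nat.Prime 2) := ⟨Nat.prime_two⟩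
    have hcomm : ∀ u v : Subgroup.normalizer ((S : Subgroup (Sz F m)) : Set (Sz F m)) ⧸ K,
        u * v = v * u := by
      rcases hn.n_cases with e | e
      · haveI := isCyclic_of_prime_card (p := 2) (hq.trans e)
        exact fun u v => mul_comm' u v
      · exact IsPGroup.commutative_of_card_eq_prime_sq (p := 2)
          (by rw [hq, e]; norm_num)
    have hxy : x * y = y * x := by
      have h := hcomm (QuotientGroup.mk ⟨x, hx⟩) (QuotientGroup.mk ⟨y, hyN⟩)
      rw [← QuotientGroup.mk_mul, ← QuotientGroup.mk_mul, QuotientGroup.eq,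
        Subgroup.mem_subgroupOf] at h
      have hmem : (x * y)⁻¹ * (y * x) ∈ H :=
        mul_mem (inv_mem (mul_mem ⟨hx, hx'⟩ ⟨hyN, hyN'⟩)) (mul_mem ⟨hyN, hyN'⟩ ⟨hx, hx'⟩)
      exact inv_mul_eq_one.mp (htriv _ hmem h)
    exact hyB (MulAction.mem_stabilizer_iff.mpr
      (uSub_fix_eq hF hxu (smul_mem_ovoid y infinity_mem) (by
        rw [← hxdef, ← mul_smul, hxy, mul_smul, hxdef, tSz_smul_infinity])))
  rw [hset, Set.ncard_union_eq hdisj, ← Nat.card_coe_set_eq, Set.ncard_coe_finset,
    Finset.card_biUnion hpd]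
  change Nat.card (borelSub F m) + _ = _
  rw [card_stabilizer hm hF]
  congr 1
  have hlt : torusB m < torusA m := by
    have : 0 < 2 ^ (m + 1) := by positivity
    have := sigma_le m
    unfold torusA torusB
    omega
  have dAB : Disjoint CA CB := Finset.disjoint_left.mpr fun S hS hS' => by
    have h1 := (datum_of_mem hm hF hTA (Finset.mem_filter.mp hS).1).2
    have h2 := (datum_of_mem hm hF hTB (Finset.mem_filter.mp hS').1).2
    omega
  have hnD : ∀ S ∈ CD, ∀ g : Sz F m, FPF g → S ∈ conjugatesOf' (torus g) → False := by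
    intro S hS g hg hS'
    have h1 := (datum_of_mem hm hF hD (Finset.mem_filter.mp hS).1).2
    have h2 := (datum_of_mem hm hF (torusDatum_torus hm hF hg) hS').2
    rw [h1, card_dSub] at h2
    have hd := card_torus_dvd hm hF hg
    rw [← h2] at hd
    have := Nat.eq_one_of_dvd_coprimes (coprime_pred _ two_dvd_q) dvd_rfl hd
    have := five_le_card_torus hm hF hg
    omega
  have dD : Disjoint (CD ∪ CA) CB := Finset.disjoint_union_left.mpr
    ⟨Finset.disjoint_left.mpr fun S hS hS' => hnD S hS gB hB (Finset.mem_filter.mp hS').1, dAB⟩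
  have dDA : Disjoint CD CA := Finset.disjoint_left.mpr fun S hS hS' =>
    hnD S hS gA hA (Finset.mem_filter.mp hS').1
  rw [hTSdef, Finset.sum_union dD, Finset.sum_union dDA]
  congr 1
  · congr 1
    · rw [Finset.sum_const_nat (m := 2 * (2 ^ (2 * m + 1) - 1) - 2) fun S hS => ?_]
      obtain ⟨h1, h2⟩ := Finset.mem_filter.mp hS
      obtain ⟨hd, hc⟩ := datum_of_mem hm hF hD h1
      rw [hfcard S 2 hd h2, hc, card_dSub]
    · rw [Finset.sum_const_nat (m := 4 * torusA m - 4) fun S hS => ?_]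
      obtain ⟨h1, h2⟩ := Finset.mem_filter.mp hS
      obtain ⟨hd, hc⟩ := datum_of_mem hm hF hTA h1
      rw [hfcard S 4 hd h2, hc, hAc]
  · rw [Finset.sum_const_nat (m := 4 * torusB m - 4) fun S hS => ?_]
    obtain ⟨h1, h2⟩ := Finset.mem_filter.mp hS
    obtain ⟨hd, hc⟩ := datum_of_mem hm hF hTB h1
    rw [hfcard S 4 hd h2, hc, hBc]

open scoped Classical in
/-- Solubilizers of involutions. -/
theorem solSet_card_two (hp : (2 * m + 1).Prime) {x : Sz F m} (hx : orderOf x = 2) :
    (solSet x).ncard = (2 ^ (2 * m + 1)) ^ 2 * (4 * 2 ^ (2 * m + 1) - 3) := by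
  obtain ⟨s, a, b, rfl⟩ := exists_conj_tSz hm hF (j := 1) (by rw [hx]; norm_num)
  have ho : orderOf (tSz hF a b) = 2 :=
    (MulEquiv.orderOf_eq (MulAut.conj s) (tSz hF a b)).symm.trans hx
  rw [solSet_conj]
  obtain ⟨rfl, hb⟩ := orderOf_tSz_two hm hF ho
  obtain ⟨⟨gA, hA, hAc⟩, ⟨gB, hB, hBc⟩⟩ := exists_torus hm hF
  rw [solSet_card_unipotent hm hF hp (Or.inl ho) hA hAc hB hBc]
  have key : ∀ (T : Subgroup (Sz F m)) (n : ℕ), TorusDatum T n →
      n * ((conjugatesOf' T).filter fun S =>
        tSz hF 0 b ∈ Subgroup.normalizer ((S : Subgroup (Sz F m)) : Set (Sz F m))).card =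
        (2 ^ (2 * m + 1)) ^ 2 := by
    intro T n hT
    have h := card_containing T (tSz hF 0 b) (Nat.card T) (fun S hS => by
      obtain ⟨hd, hc⟩ := datum_of_mem hm hF hT hS
      rw [class_inter_two hm hF hd hb, hc])
    rw [hT.card_norm, centralizer_invol hm hF hb, card_uSub] at h
    apply Nat.eq_of_mul_eq_mul_left (show 0 < Nat.card T from Nat.card_pos)
    rw [← h]; ring
  have hD := key _ _ (torusDatum_dSub hm hF)
  have hAn := key _ _ (torusDatum_torus hm hF hA)
  have hBn := key _ _ (torusDatum_torus hm hF hB)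
  have hsum := torusA_add_torusB m
  have hA1 : 1 ≤ torusA m := by rw [← hAc]; exact Nat.card_pos
  have hB1 : 1 ≤ torusB m := by rw [← hBc]; exact Nat.card_pos
  have hq : 2 ^ 3 ≤ 2 ^ (2 * m + 1) := Nat.pow_le_pow_right (by norm_num) (by omega)
  generalize ((conjugatesOf' (dSub hF)).filter fun S =>
    tSz hF 0 b ∈ Subgroup.normalizer ((S : Subgroup (Sz F m)) : Set (Sz F m))).card = u at hD ⊢
  generalize ((conjugatesOf' (torus gA)).filter fun S =>
    tSz hF 0 b ∈ Subgroup.normalizer ((S : Subgroup (Sz F m)) : Set (Sz F m))).card = v at hAn ⊢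
  generalize ((conjugatesOf' (torus gB)).filter fun S =>
    tSz hF 0 b ∈ Subgroup.normalizer ((S : Subgroup (Sz F m)) : Set (Sz F m))).card = w at hBn ⊢
  generalize 2 ^ (2 * m + 1) = q at hD hAn hBn hsum hq ⊢
  generalize torusA m = A at hsum hA1 ⊢
  generalize torusB m = B at hsum hB1 ⊢
  zify [show 1 ≤ q by omega, show 3 ≤ 4 * q by omega, show 2 ≤ 2 * (q - 1) by omega,
    show 4 ≤ 4 * A by omega, show 4 ≤ 4 * B by omega] at hD hAn hBn hsum ⊢
  linear_combination ((q : ℤ) - 2) * hD + ((A : ℤ) - 1) * hAn + ((B : ℤ) - 1) * hBn +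
    (q : ℤ) ^ 2 * hsum

open scoped Classical in
/-- Solubilizers of elements of order four. -/
theorem solSet_card_four (hp : (2 * m + 1).Prime) {x : Sz F m} (hx : orderOf x = 4) :
    (solSet x).ncard = (2 ^ (2 * m + 1)) ^ 2 * (2 ^ (2 * m + 1) + 3) := by
  obtain ⟨s, a, b, rfl⟩ := exists_conj_tSz hm hF (j := 2) (by rw [hx]; norm_num)
  have ho : orderOf (tSz hF a b) = 4 :=
    (MulEquiv.orderOf_eq (MulAut.conj s) (tSz hF a b)).symm.trans hx
  rw [solSet_conj]
  have ha := orderOf_tSz_four hm hF ho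
  obtain ⟨⟨gA, hA, hAc⟩, ⟨gB, hB, hBc⟩⟩ := exists_torus hm hF
  rw [solSet_card_unipotent hm hF hp (Or.inr ho) hA hAc hB hBc]
  have key : ∀ (T : Subgroup (Sz F m)) (n : ℕ), TorusDatum T n →
      2 * n * ((conjugatesOf' T).filter fun S =>
        tSz hF a b ∈ Subgroup.normalizer ((S : Subgroup (Sz F m)) : Set (Sz F m))).card =
        (n - 2) * (2 * 2 ^ (2 * m + 1)) := by
    intro T n hT
    set v := {y | y ∈ Subgroup.normalizer (T : Set (Sz F m)) ∧
      IsConj (tSz hF a b) y}.ncard with hv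
    have hv2 : 2 * v = (n - 2) * Nat.card T := class_inter_four hm hF hT ho
    have h := card_containing T (tSz hF a b) v (fun S hS => by
      obtain ⟨hd, hc⟩ := datum_of_mem hm hF hT hS
      have h2 := class_inter_four hm hF hd (a := a) (b := b) ho
      rw [hc] at h2
      omega)
    rw [hT.card_norm, card_centralizer_four hm hF ha] at h
    apply Nat.eq_of_mul_eq_mul_left (show 0 < Nat.card T from Nat.card_pos)
    calc Nat.card T * (2 * n * _) = 2 * (v * (2 * 2 ^ (2 * m + 1))) := by rw [← h]; ring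
      _ = Nat.card T * ((n - 2) * (2 * 2 ^ (2 * m + 1))) := by
        rw [← mul_assoc, hv2]; ring
  have hD := key _ _ (torusDatum_dSub hm hF)
  have hAn := key _ _ (torusDatum_torus hm hF hA)
  have hBn := key _ _ (torusDatum_torus hm hF hB)
  have hsum := torusA_add_torusB m
  have hA1 : 1 ≤ torusA m := by rw [← hAc]; exact Nat.card_pos
  have hB1 : 1 ≤ torusB m := by rw [← hBc]; exact Nat.card_pos
  have hq : 2 ^ 3 ≤ 2 ^ (2 * m + 1) := Nat.pow_le_pow_right (by norm_num) (by omega)
  generalize ((conjugatesOf' (dSub hF)).filter fun S =>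
    tSz hF a b ∈ Subgroup.normalizer ((S : Subgroup (Sz F m)) : Set (Sz F m))).card = u at hD ⊢
  generalize ((conjugatesOf' (torus gA)).filter fun S =>
    tSz hF a b ∈ Subgroup.normalizer ((S : Subgroup (Sz F m)) : Set (Sz F m))).card = v at hAn ⊢
  generalize ((conjugatesOf' (torus gB)).filter fun S =>
    tSz hF a b ∈ Subgroup.normalizer ((S : Subgroup (Sz F m)) : Set (Sz F m))).card = w at hBn ⊢
  generalize 2 ^ (2 * m + 1) = q at hD hAn hBn hsum hq ⊢
  generalize torusA m = A at hsum hA1 ⊢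
  generalize torusB m = B at hsum hB1 ⊢
  obtain rfl : u = 0 := by omega
  rw [zero_mul, zero_add]
  norm_num at hAn hBn
  zify [show 1 ≤ q by omega,
    show 4 ≤ 4 * A by omega, show 4 ≤ 4 * B by omega] at hAn hBn hsum ⊢
  obtain hv' : 4 * (v : ℤ) = 2 * q := by linarith
  obtain hw' : 4 * (w : ℤ) = 2 * q := by linarith
  linear_combination ((A : ℤ) - 1) * hv' + ((B : ℤ) - 1) * hw' + 2 * (q : ℤ) * hsum

lemma not_mem_conjSet_of_odd {x : Sz F m} (hx : x ≠ 1) (ho : Odd (orderOf x)) :
    x ∉ conjSet (uSub hF) := by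
  rintro ⟨s, c, hc, hc1, rfl⟩
  haveI : Fact (Nat.Prime 2) := ⟨Nat.prime_two⟩
  obtain ⟨j, hj⟩ := IsPGroup.iff_orderOf.mp (isPGroup_uSub hF) (⟨c, hc⟩ : uSub hF)
  rw [Subgroup.orderOf_mk] at hj
  rw [show orderOf (s * c * s⁻¹) = orderOf c from MulEquiv.orderOf_eq (MulAut.conj s) c, hj] at ho
  rcases Nat.eq_zero_or_pos j with rfl | hj0
  · rw [pow_zero, orderOf_eq_one_iff] at hj
    exact hc1 hj
  · exact absurd ho (Nat.not_odd_iff_even.mpr (Nat.even_pow.mpr ⟨even_two, hj0.ne'⟩))

/-- Solubilizers of elements of the split torus. -/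
theorem solSet_card_pred (hp : (2 * m + 1).Prime) {x : Sz F m} (hx : x ≠ 1)
    (hd : orderOf x ∣ 2 ^ (2 * m + 1) - 1) :
    (solSet x).ncard = 2 * (2 ^ (2 * m + 1)) ^ 2 * (2 ^ (2 * m + 1) - 1) := by
  classical
  have hodd : Odd (orderOf x) := by
    refine Odd.of_dvd_nat ?_ hd
    have := two_dvd_q (m := m)
    have : 1 ≤ 2 ^ (2 * m + 1) := Nat.one_le_two_pow
    rw [Nat.odd_iff]; omega
  rcases mem_cases hm hF hx with ⟨h, -⟩ | ⟨-, ⟨s, d, hdd, hd1, rfl⟩, -⟩ | ⟨-, -, hf⟩
  · exact absurd h (not_mem_conjSet_of_odd hm hF hx hodd)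
  swap
  · exact absurd (orderOf_eq_one_iff.mp (Nat.eq_one_of_dvd_coprimes
      (coprime_pred _ two_dvd_q) hd (orderOf_dvd_of_fpf hm hF hf))) hx
  rw [solSet_conj]
  obtain ⟨k, rfl⟩ := (mem_dSub hF).mp hdd
  have hk : k ≠ 1 := fun h => hd1 (by rw [h, dSz_one])
  have hxodd : Odd (orderOf (dSz hF k)) := by
    rwa [show orderOf (s * dSz hF k * s⁻¹) = orderOf (dSz hF k) from
      MulEquiv.orderOf_eq (MulAut.conj s) _] at hodd
  have hD := torusDatum_dSub hm hF
  set B : Set (Sz F m) := (borelSub F m : Set (Sz F m))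
  set B0 : Set (Sz F m) :=
    (MulAction.stabilizer (Sz F m) (suzukiPointZero F) : Set (Sz F m))
  set N : Set (Sz F m) := (Subgroup.normalizer (dSub hF : Set (Sz F m)) : Set (Sz F m))
  have hkD : dSz hF k ∈ dSub hF := (mem_dSub hF).mpr ⟨k, rfl⟩
  have fixed : ∀ p ∈ suzukiOvoid F m, dSz hF k • p = p →
      p = suzukiPointInfinity F ∨ p = suzukiPointZero F := by
    intro p hpm hfix
    rcases mem_ovoid_iff.mp hpm with rfl | ⟨u, v, rfl⟩
    · exact Or.inl rfl
    · right
      by_contra hne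
      exact hk (eq_one_of_dSz_fix hF (fun h => hne (by rw [h.1, h.2, pt_zero_zero])) hfix)
  have hset : solSet (dSz hF k) = B ∪ B0 ∪ N := by
    ext y
    rw [mem_solSet_iff hm hF hp]
    constructor
    · rintro ⟨M, hM, hxM, hyM⟩
      haveI := isSolvable_of_ne_top hm hF hp hM
      rcases container_cases hm hF (H := M) with ⟨p, hpm, hfix⟩ | ⟨c, hc, hcu, hle⟩
      · rcases fixed p hpm (hfix _ hxM) with rfl | rfl
        · exact Or.inl (Or.inl (hfix y hyM))
        · exact Or.inl (Or.inr (hfix y hyM))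
      · right
        obtain ⟨⟨gA, hA, hAc⟩, ⟨gB, hB, hBc⟩⟩ := exists_torus hm hF
        obtain ⟨n, hn⟩ : ∃ n, TorusDatum (Subgroup.centralizer {c}) n := by
          rcases exists_type hm hF hA hAc hB hBc hc hcu with h | h | h
          · exact ⟨_, (datum_of_mem hm hF hD h).1⟩
          · exact ⟨_, (datum_of_mem hm hF (torusDatum_torus hm hF hA) h).1⟩
          · exact ⟨_, (datum_of_mem hm hF (torusDatum_torus hm hF hB) h).1⟩
        have := hn.eq_of_common hD (hn.mem_of_odd (hle hxM) hxodd) hkD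
          (fun e => hd1 e)
        show y ∈ Subgroup.normalizer (dSub hF : Set (Sz F m))
        rw [← this]
        exact hle hyM
    · rintro ((h | h) | h)
      · exact ⟨_, borel_ne_top hm hF, dSz_smul_infinity hF k, h⟩
      · refine ⟨MulAction.stabilizer (Sz F m) (suzukiPointZero F), fun e => ?_,
          dSz_smul_zero hF k, h⟩
        exact pointZero_ne_infinity ((MulAction.mem_stabilizer_iff.mp
          (e ▸ Subgroup.mem_top (wSz hF))).symm.trans (wSz_smul_zero hF))
      · exact ⟨_, hD.ne_top hm hF, Subgroup.le_normalizer hkD, h⟩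
  have hBB : B ∩ B0 = (dSub hF : Set (Sz F m)) := by
    ext y
    constructor
    · rintro ⟨h1, h2⟩
      obtain ⟨j, rfl⟩ := exists_dSz_of_fix hm hF h1 h2
      exact (mem_dSub hF).mpr ⟨j, rfl⟩
    · intro h
      obtain ⟨j, rfl⟩ := (mem_dSub hF).mp h
      exact ⟨dSz_smul_infinity hF j, dSz_smul_zero hF j⟩
  have hN : (B ∪ B0) ∩ N = (dSub hF : Set (Sz F m)) := by
    ext y
    constructor
    · rintro ⟨h1, h2⟩
      have hc := (Subgroup.mem_normalizer_iff''.mp h2 (dSz hF k)).mp hkD
      obtain ⟨l, hl⟩ := (mem_dSub hF).mp hc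
      have hfix : ∀ p : Projectivization F (Fin 4 → F), dSz hF l • p = p →
          dSz hF k • (y • p) = y • p := fun p hp => by
        have e : dSz hF k * y = y * dSz hF l := by rw [← hl]; group
        rw [← mul_smul, e, mul_smul, hp]
      rcases h1 with h1 | h1
      · rcases fixed _ (smul_mem_ovoid y pointZero_mem) (hfix _ (dSz_smul_zero hF l)) with e | e
        · exact absurd (smul_left_cancel y
            (e.trans (MulAction.mem_stabilizer_iff.mp h1).symm)) pointZero_ne_infinity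
        · exact hBB ▸ (⟨h1, MulAction.mem_stabilizer_iff.mpr e⟩ : y ∈ B ∩ B0)
      · rcases fixed _ (smul_mem_ovoid y infinity_mem) (hfix _ (dSz_smul_infinity hF l)) with e | e
        · exact hBB ▸ (⟨MulAction.mem_stabilizer_iff.mpr e, h1⟩ : y ∈ B ∩ B0)
        · exact absurd (smul_left_cancel y
            (e.trans (MulAction.mem_stabilizer_iff.mp h1).symm)) pointZero_ne_infinity.symm
    · intro h
      exact ⟨Or.inl (hBB.symm ▸ h : y ∈ B ∩ B0).1, Subgroup.le_normalizer h⟩
  have h1 := Set.ncard_union_add_ncard_inter B B0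
  have h2 := Set.ncard_union_add_ncard_inter (B ∪ B0) N
  rw [hBB] at h1
  rw [hN] at h2
  have cB : B.ncard = (2 ^ (2 * m + 1)) ^ 2 * (2 ^ (2 * m + 1) - 1) := by
    rw [← Nat.card_coe_set_eq]; exact card_stabilizer hm hF
  have cB0 : B0.ncard = B.ncard := by
    rw [← Set.ncard_image_of_injective B (MulAut.conj (wSz hF)).injective]
    congr 1
    ext y
    constructor
    · intro h
      refine ⟨(MulAut.conj (wSz hF)).symm y, ?_, MulEquiv.apply_symm_apply _ _⟩
      refine MulAction.mem_stabilizer_iff.mpr ?_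
      rw [MulAut.conj_symm_apply, wSz_inv, mul_smul, mul_smul, wSz_smul_infinity,
        MulAction.mem_stabilizer_iff.mp h, wSz_smul_zero]
    · rintro ⟨z, hz, rfl⟩
      refine MulAction.mem_stabilizer_iff.mpr ?_
      rw [MulAut.conj_apply, wSz_inv, mul_smul, mul_smul, wSz_smul_zero,
        MulAction.mem_stabilizer_iff.mp hz, wSz_smul_infinity]
  have cN : N.ncard = 2 * (2 ^ (2 * m + 1) - 1) := by
    rw [← Nat.card_coe_set_eq]; exact card_normalizer_dSub hm hF
  have cD : (dSub hF : Set (Sz F m)).ncard = 2 ^ (2 * m + 1) - 1 := by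
    rw [← Nat.card_coe_set_eq]; exact card_dSub hF
  rw [cD] at h1 h2
  rw [hset, mul_assoc]
  omega

/-- Solubilizers of fixed-point-free elements. -/
theorem solSet_card_torus (hp : (2 * m + 1).Prime) {x : Sz F m} (hx : x ≠ 1) {A : ℕ}
    (hA : A = torusA m ∨ A = torusB m) (hd : orderOf x ∣ A) : (solSet x).ncard = 4 * A := by
  classical
  have hAd : A ∣ (2 ^ (2 * m + 1)) ^ 2 + 1 := by
    rw [← torusA_mul_torusB]
    rcases hA with rfl | rfl
    · exact dvd_mul_right _ _
    · exact dvd_mul_left _ _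
  have hodd : Odd (orderOf x) := by
    refine Odd.of_dvd_nat ?_ (hd.trans hAd)
    rw [← Nat.not_even_iff_odd, Nat.even_add_one, not_not]
    exact (even_iff_two_dvd.mpr two_dvd_q).pow_of_ne_zero two_ne_zero
  have hf : FPF x := by
    rcases mem_cases hm hF hx with ⟨h, -⟩ | ⟨-, ⟨s, d, hdd, -, rfl⟩, -⟩ | ⟨-, -, hf⟩
    · exact absurd h (not_mem_conjSet_of_odd hm hF hx hodd)
    · have hq1 : orderOf (s * d * s⁻¹) ∣ 2 ^ (2 * m + 1) - 1 := by
        rw [show orderOf (s * d * s⁻¹) = orderOf d from MulEquiv.orderOf_eq (MulAut.conj s) d,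
          ← card_dSub hF]
        exact Subgroup.orderOf_dvd_natCard _ hdd
      exact absurd (orderOf_eq_one_iff.mp (Nat.eq_one_of_dvd_coprimes
        (coprime_pred _ two_dvd_q) hq1 (hd.trans hAd))) hx
    · exact hf
  have hT := torusDatum_torus hm hF hf
  have hcard : Nat.card (torus x) = A := by
    have h1 : orderOf x ∣ Nat.card (torus x) := Subgroup.orderOf_dvd_natCard _ (self_mem_torus x)
    have hc := (coprime_orders m).2.2
    rcases (torus_data hm hF hf).1 with e | e <;> rcases hA with rfl | rfl <;>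
      first
        | exact e
        | (rw [e] at h1
           exact absurd (orderOf_eq_one_iff.mp (Nat.eq_one_of_dvd_coprimes hc h1 hd)) hx)
        | (rw [e] at h1
           exact absurd (orderOf_eq_one_iff.mp (Nat.eq_one_of_dvd_coprimes hc hd h1)) hx)
  have hset : solSet x = (Subgroup.normalizer (torus x : Set (Sz F m)) : Set (Sz F m)) := by
    ext y
    rw [mem_solSet_iff hm hF hp]
    constructor
    · rintro ⟨M, hM, hxM, hyM⟩
      haveI := isSolvable_of_ne_top hm hF hp hM
      rcases container_cases hm hF (H := M) with ⟨p, hpm, hfix⟩ | ⟨c, hc, hcu, hle⟩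
      · exact absurd (hfix x hxM) (hf p hpm)
      · obtain ⟨⟨gA, hgA, hAc⟩, ⟨gB, hgB, hBc⟩⟩ := exists_torus hm hF
        obtain ⟨n, hn⟩ : ∃ n, TorusDatum (Subgroup.centralizer {c}) n := by
          rcases exists_type hm hF hgA hAc hgB hBc hc hcu with h | h | h
          · exact ⟨_, (datum_of_mem hm hF (torusDatum_dSub hm hF) h).1⟩
          · exact ⟨_, (datum_of_mem hm hF (torusDatum_torus hm hF hgA) h).1⟩
          · exact ⟨_, (datum_of_mem hm hF (torusDatum_torus hm hF hgB) h).1⟩
        have := hn.eq_of_common hT (hn.mem_of_odd (hle hxM) hodd) (self_mem_torus x) hx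
        show y ∈ Subgroup.normalizer (torus x : Set (Sz F m))
        rw [← this]
        exact hle hyM
    · exact fun h => ⟨_, hT.ne_top hm hF, Subgroup.le_normalizer (self_mem_torus x), h⟩
  rw [hset, ← Nat.card_coe_set_eq]
  exact hT.card_norm.trans (by rw [hcard])

end Cfsg.Agent.Suzuki
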