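import Cfsg.Agent.Lib.Suzuki.Multiplier

/-!
# The multiplier of `Sz(8)`: the upper bound

`stem_kernel_le_four`: the kernel of every finite stem extension of `Sz(8)` is an image of the
four-group.
-/

set_option autoImplicit false
set_option linter.style.haveILetI false

namespace Cfsg.Agent.Suzuki.Eight

open Cfsg
open scoped commutatorElement

variable {F : Type*} [Field F] [Fintype F]
variable (hF : Fintype.card F = 2 ^ (2 * 1 + 1))

include hF in
lemma pow_seven {x : F} (hx : x ≠ 0) : x ^ 7 = 1 := by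
  have := FiniteField.pow_card_sub_one_eq_one x hx
  rwa [hF] at this

include hF in
lemma sum_pow_eq_one {t : F} (ht0 : t ≠ 0) (ht1 : t ≠ 1) :
    t + t ^ 2 + t ^ 3 + t ^ 4 + t ^ 5 + t ^ 6 = 1 := by
  haveI := charTwo hF
  have h7 := pow_seven hF ht0
  have h1 : t + 1 ≠ 0 := fun h => ht1 (by grind)
  have : (t + 1) * (t + t ^ 2 + t ^ 3 + t ^ 4 + t ^ 5 + t ^ 6 + 1) = 0 := by grind
  rcases mul_eq_zero.mp this with h | h
  · exact absurd h h1
  · grind

include hF in
lemma span_three {t : F} (ht0 : t ≠ 0) (ht1 : t ≠ 1) (b : F) :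
    ∃ e f g : ZMod 2, haveI := charTwo hF
      b = ZMod.castHom (dvd_refl 2) F e + ZMod.castHom (dvd_refl 2) F f * t +
        ZMod.castHom (dvd_refl 2) F g * t ^ 2 := by
  classical
  haveI := charTwo hF
  let c := ZMod.castHom (dvd_refl 2) F
  let ι : ZMod 2 × ZMod 2 × ZMod 2 → F := fun v => c v.1 + c v.2.1 * t + c v.2.2 * t ^ 2
  have hinj : Function.Injective ι := by
    intro v w h
    have hz : ∀ e f g : ZMod 2, c e + c f * t + c g * t ^ 2 = 0 → e = 0 ∧ f = 0 ∧ g = 0 := by
      intro e f g h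
      have h3 := sq_add_add_one_ne_zero hF t
      have h01 : ∀ x : ZMod 2, x = 0 ∨ x = 1 := by decide
      rcases h01 e with rfl | rfl <;> rcases h01 f with rfl | rfl <;> rcases h01 g with rfl | rfl <;>
        simp only [map_zero, map_one, zero_mul, one_mul, add_zero, zero_add] at h <;>
        first
          | exact ⟨rfl, rfl, rfl⟩
          | exact absurd (pow_eq_zero_iff (two_ne_zero (α := ℕ)) |>.mp h) ht0
          | exact absurd h ht0
          | exact absurd h one_ne_zero
          | exact absurd (show t ^ 2 + t + 1 = 0 by grind) h3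
          | (exfalso; apply ht1; grind)
          | (exfalso
             have h5 : t * (t + 1) = 0 := by grind
             rcases mul_eq_zero.mp h5 with h6 | h6
             · exact ht0 h6
             · exact ht1 (by grind))
          | (exfalso
             have h5 : (t + 1) * (t + 1) = 0 := by grind
             rcases mul_eq_zero.mp h5 with h6 | h6 <;> exact ht1 (by grind))
    have h' : c (v.1 - w.1) + c (v.2.1 - w.2.1) * t + c (v.2.2 - w.2.2) * t ^ 2 = 0 := by
      simp only [map_sub]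
      simp only [ι] at h
      linear_combination (norm := ring_nf) h
    obtain ⟨e1, e2, e3⟩ := hz _ _ _ h'
    exact Prod.ext (sub_eq_zero.mp e1) (Prod.ext (sub_eq_zero.mp e2) (sub_eq_zero.mp e3))
  have hcard : Fintype.card (ZMod 2 × ZMod 2 × ZMod 2) = Fintype.card F := by simp [hF]
  obtain ⟨⟨e, f, g⟩, hv⟩ := (((Fintype.bijective_iff_injective_and_card ι).mpr ⟨hinj, hcard⟩)).2 b
  exact ⟨e, f, g, hv.symm⟩

universe u

variable {Γ : Type u} [Group Γ] {σ : Γ →* Sz F 1}

include hF in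
/-- The kernel of a finite stem extension of `Sz(8)` is an image of the four-group. -/
theorem stem_kernel_le_four [Finite Γ] (hσ : Cfsg.IsStemExtension σ) :
    ∃ π : Multiplicative (ZMod 2 × ZMod 2) →* σ.ker, Function.Surjective π := by
  classical
  haveI := charTwo hF
  obtain ⟨hsur, hker, hcom⟩ := id hσ
  choose L hL using fun p : F × F => hsur (tSz hF p.1 p.2)
  choose D hD using fun k : Fˣ => hsur (dSz hF k)
  have hcen : ∀ {c : Γ}, σ c = 1 → ∀ g, g * c = c * g := fun hc g =>
    Subgroup.mem_center_iff.mp (hker hc) g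
  have hK : ∀ b (p : F × F), ⁅L (0, b), L p⁆ ∈ σ.ker := fun b p => by
    rw [MonoidHom.mem_ker, map_commutatorElement, hL, hL, commutator_tSz]
    simp [tSz_zero]
  have hmulL : ∀ p q : F × F, σ (L p * L q) = σ (L (p.1 + q.1, p.2 + q.2 + th 1 p.1 * q.1)) :=
    fun p q => by rw [map_mul, hL, hL, hL, tSz_mul]
  have hth : ∀ x : F, th 1 x = x ^ 4 := fun x => by simp [th]
  have hadd1 : ∀ b b' p, ⁅L (0, b + b'), L p⁆ = ⁅L (0, b), L p⁆ * ⁅L (0, b'), L p⁆ := by
    intro b b' p
    rw [comm_congr hker (x' := L (0, b) * L (0, b')) (y' := L p) (by rw [hmulL]; simp) rfl]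
    have h' := hcen (hK b' p) (L (0, b))
    calc ⁅L (0, b) * L (0, b'), L p⁆
        = L (0, b) * ⁅L (0, b'), L p⁆ * (L (0, b))⁻¹ * ⁅L (0, b), L p⁆ := by
          simp only [commutatorElement_def]; group
      _ = ⁅L (0, b'), L p⁆ * ⁅L (0, b), L p⁆ := by rw [h', mul_inv_cancel_right]
      _ = _ := (hcen (hK b' p) _).symm
  obtain ⟨φ, hφ⟩ : ∃ φ : F → Γ, ∀ b, φ b = ⁅L (0, b), L (1, 0)⁆ := ⟨_, fun _ => rfl⟩
  have hφadd : ∀ b b', φ (b + b') = φ b * φ b' := fun b b' => by simp only [hφ, hadd1]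
  have hφ0 : φ 0 = 1 := by
    have := hφadd 0 0
    rw [add_zero] at this
    exact left_eq_mul.mp this
  have hφK : ∀ b, φ b ∈ σ.ker := fun b => by rw [hφ]; exact hK _ _
  -- the torus moves every pairing value to `φ`
  have hpair : ∀ b a x y, σ x = tSz hF 0 b → σ y = tSz hF a 0 → ⁅x, y⁆ = φ (b * a ^ 2) := by
    intro b a x y hx hy
    rw [comm_congr hker (hx.trans (hL (0, b)).symm) (hy.trans (hL (a, 0)).symm)]
    rcases eq_or_ne a 0 with rfl | ha
    · rw [zero_pow two_ne_zero, mul_zero, hφ0, comm_congr hker (x' := L (0, b)) (y' := 1) rfl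
        (by rw [hL, map_one, tSz_zero]), commutatorElement_one_right]
    obtain ⟨k, hk⟩ : ∃ k : Fˣ, (k : F) = a⁻¹ := ⟨Units.mk0 _ (inv_ne_zero ha), rfl⟩
    have hconjL : ∀ p : F × F,
        σ (D k * L p * (D k)⁻¹) = σ (L ((k : F) * p.1, th 1 (k : F) * k * p.2)) := fun p => by
      rw [map_mul, map_mul, map_inv, hL, hL, hD, mul_inv_eq_iff_eq_mul, dSz_conj_tSz]
    have h5 : th 1 (k : F) * k * b = b * a ^ 2 := by
      rw [hth, hk]
      have := pow_seven hF ha
      field_simp
      grind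
    calc ⁅L (0, b), L (a, 0)⁆ = D k * ⁅L (0, b), L (a, 0)⁆ * (D k)⁻¹ := by
          rw [hcen (hK b (a, 0)), mul_inv_cancel_right]
      _ = ⁅D k * L (0, b) * (D k)⁻¹, D k * L (a, 0) * (D k)⁻¹⁆ := by
          simp only [commutatorElement_def]; group
      _ = φ (b * a ^ 2) := by
          rw [hφ]
          refine comm_congr hker ?_ ?_
          · rw [hconjL]; simp [h5]
          · rw [hconjL]; simp [hk, ha]
  -- Hall–Witt
  have hwitt : ∀ a b c : F, φ ((b ^ 4 * a + a ^ 4 * b) * c ^ 2) *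
      φ ((c ^ 4 * b + b ^ 4 * c) * a ^ 2) * φ ((a ^ 4 * c + c ^ 4 * a) * b ^ 2) = 1 := by
    intro a b c
    have hin : ∀ u v w : F, ⁅⁅(L (u, 0))⁻¹, L (v, 0)⁆, L (w, 0)⁆ =
        φ ((u ^ 4 * v + v ^ 4 * u) * w ^ 2) := by
      intro u v w
      refine hpair _ _ _ _ ?_ (hL _)
      rw [map_commutatorElement, map_inv, hL, hL, tSz_inv, commutator_tSz, hth, hth]
    have hwit : ∀ A B C : Γ,
        B * ⁅⁅B⁻¹, A⁆, C⁆ * B⁻¹ * (C * ⁅⁅C⁻¹, B⁆, A⁆ * C⁻¹) * (A * ⁅⁅A⁻¹, C⁆, B⁆ * A⁻¹) = 1 := by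
      intro A B C
      simp only [commutatorElement_def]
      group
    have h := hwit (L (a, 0)) (L (b, 0)) (L (c, 0))
    have hcc : ∀ (g : Γ) e, g * φ e * g⁻¹ = φ e := fun g e => by
      rw [hcen (hφK e), mul_inv_cancel_right]
    rw [hin b a c, hin c b a, hin a c b, hcc, hcc, hcc] at h
    exact h
  obtain ⟨t, ht0, ht1⟩ := exists_ne_zero_one (m := 1) le_rfl hF
  have hone : φ 1 = 1 := by
    have h := hwitt 1 t (t ^ 2)
    rw [← hφadd, ← hφadd] at h
    rw [← sum_pow_eq_one hF ht0 ht1]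
    have h7 := pow_seven hF ht0
    convert h using 2
    grind
  let c2 := ZMod.castHom (dvd_refl 2) F
  have hc2 : ∀ (e : ZMod 2), φ (c2 e) = 1 := by
    intro e
    rcases (show ∀ x : ZMod 2, x = 0 ∨ x = 1 by decide) e with rfl | rfl
    · rw [map_zero, hφ0]
    · rw [map_one, hone]
  let π0 : Multiplicative (ZMod 2 × ZMod 2) →* σ.ker :=
    { toFun := fun v => ⟨φ (c2 v.toAdd.1 * t + c2 v.toAdd.2 * t ^ 2), hφK _⟩
      map_one' := Subtype.ext (by simp [hφ0])
      map_mul' := fun v w => Subtype.ext (by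
        show φ _ = φ _ * φ _
        rw [← hφadd]
        congr 1
        simp only [toAdd_mul, Prod.fst_add, Prod.snd_add, map_add]
        ring) }
  have hπ0 : ∀ b, ∃ v, (π0 v : Γ) = φ b := by
    intro b
    obtain ⟨e, f, g, he⟩ := span_three hF ht0 ht1 b
    refine ⟨Multiplicative.ofAdd (f, g), ?_⟩
    show φ _ = φ b
    rw [he, add_assoc, hφadd (c2 e) _, hc2, one_mul]
    rfl
  refine ⟨π0, ?_⟩
  -- the quotient by the image has trivial kernel
  set N : Subgroup Γ := π0.range.map σ.ker.subtype with hN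
  have hNle : N ≤ σ.ker := by rintro _ ⟨x, _, rfl⟩; exact x.2
  have hφN : ∀ b, φ b ∈ N := fun b => by
    obtain ⟨v, hv⟩ := hπ0 b
    exact ⟨π0 v, ⟨v, rfl⟩, hv⟩
  haveI : N.Normal := ⟨fun n hn g => by rwa [hcen (hNle hn), mul_inv_cancel_right]⟩
  let σ' : Γ ⧸ N →* Sz F 1 := QuotientGroup.lift N σ hNle
  have hσ' : Cfsg.IsStemExtension σ' := by
    refine ⟨fun y => ?_, ?_, ?_⟩
    · obtain ⟨x, rfl⟩ := hsur y
      exact ⟨x, rfl⟩
    · intro q hq
      induction q using QuotientGroup.induction_on with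
      | H x =>
        rw [Subgroup.mem_center_iff]
        intro r
        induction r using QuotientGroup.induction_on with
        | H y => exact congrArg QuotientGroup.mk (hcen (hq : σ x = 1) y)
    · intro q hq
      induction q using QuotientGroup.induction_on with
      | H x =>
        have := Subgroup.mem_map_of_mem (QuotientGroup.mk' N) (hcom (hq : σ x = 1))
        rw [commutator_def, Subgroup.map_commutator] at this
        exact Subgroup.commutator_mono le_top le_top this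
  have hpair' : ∀ b a x y, σ' x = tSz hF 0 b → σ' y = tSz hF a 0 → ⁅x, y⁆ = 1 := by
    intro b a x y
    induction x using QuotientGroup.induction_on with
    | H x =>
      induction y using QuotientGroup.induction_on with
      | H y =>
        intro hx hy
        rw [show ⁅(x : Γ ⧸ N), (y : Γ ⧸ N)⁆ = QuotientGroup.mk' N ⁅x, y⁆ from
          (map_commutatorElement (QuotientGroup.mk' N) x y).symm, QuotientGroup.mk'_apply,
          QuotientGroup.eq_one_iff, hpair b a x y hx hy]
        exact hφN _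
  have htriv : ∀ q ∈ σ'.ker, q = 1 := by
    by_contra hne
    push Not at hne
    obtain ⟨q, hq, hq1⟩ := hne
    obtain ⟨r, hr, hrd⟩ := Nat.exists_prime_and_dvd (mt orderOf_eq_one_iff.mp hq1)
    have hpow : (q ^ (orderOf q / r)) ^ r = 1 := by
      rw [← pow_mul, Nat.div_mul_cancel hrd, pow_orderOf_eq_one]
    have hord : q ^ (orderOf q / r) ≠ 1 := by
      refine pow_ne_one_of_lt_orderOf (Nat.div_pos (Nat.le_of_dvd (orderOf_pos q) hrd) hr.pos).ne' ?_
      exact Nat.div_lt_self (orderOf_pos q) hr.one_lt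
    refine hord ?_
    have hk : q ^ (orderOf q / r) ∈ σ'.ker := Subgroup.pow_mem _ hq _
    rcases eq_or_ne r 2 with rfl | hr2
    · exact twoPart_trivial_of_pairing hF le_rfl hσ' hpair' hk hpow
    · haveI := Fact.mk hr
      obtain ⟨P⟩ : Nonempty (Sylow r (Sz F 1)) := inferInstance
      haveI := sylow_odd_cyclic (m := 1) le_rfl hF hr2 P
      obtain ⟨g, hg⟩ := (Subgroup.isCyclic_iff_exists_zpowers_eq_top (P : Subgroup (Sz F 1))).mp
        inferInstance
      exact Schur.eq_one_of_cyclic hσ' hr g (hg ▸ P.not_dvd_index) hk (k := 1)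
        (by rw [pow_one]; exact hpow)
  intro z
  have hzN : (z : Γ) ∈ N := (QuotientGroup.eq_one_iff _).mp (htriv (z.1 : Γ ⧸ N) z.2)
  obtain ⟨w, ⟨v, hv⟩, hw⟩ := hzN
  exact ⟨v, by rw [hv]; exact Subtype.ext hw⟩

end Cfsg.Agent.Suzuki.Eight
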