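import Cfsg.Agent.Lib.Suzuki.CharBorel
import Cfsg.Prelude.Def_KGroupFacts

/-!
# The multiplier of `Sz(8)`: a stem extension with kernel the four-group

An explicit torus-invariant cocycle on the root group, extended to the Borel subgroup and
transferred to the whole group along the action on the ovoid.

`exists_stem_four`: there is a finite stem extension of `Sz(8)` with kernel the four-group.
-/

set_option autoImplicit false
set_option linter.style.haveILetI false
set_option linter.unusedSectionVars false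

namespace Cfsg.Agent.Suzuki.Eight

open Cfsg Cfsg.Agent.Suzuki.CharTable
open scoped commutatorElement

universe u

variable {F : Type u} [Field F] [Fintype F]
variable (hF : Fintype.card F = 2 ^ (2 * 1 + 1))

/-- The four-group, written additively. -/
abbrev Four : Type := ZMod 2 × ZMod 2

/-- The trace to the prime field, as a bit. -/
noncomputable def tr (v : F) : ZMod 2 :=
  haveI := Classical.decEq F
  if v + v ^ 2 + v ^ 4 = 0 then 0 else 1

include hF in
lemma pow_eight (v : F) : v ^ 8 = v := by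
  have := FiniteField.pow_card v
  rwa [hF] at this

include hF in
lemma tr_sum_cases (v : F) : v + v ^ 2 + v ^ 4 = 0 ∨ v + v ^ 2 + v ^ 4 = 1 := by
  haveI := charTwo hF
  have h8 := pow_eight hF v
  have : (v + v ^ 2 + v ^ 4) * (v + v ^ 2 + v ^ 4 + 1) = 0 := by grind
  rcases mul_eq_zero.mp this with h | h
  · exact Or.inl h
  · exact Or.inr (by grind)

include hF in
lemma tr_add (v w : F) : tr (v + w) = tr v + tr w := by
  haveI := charTwo hF
  have he : v + w + (v + w) ^ 2 + (v + w) ^ 4 =
      (v + v ^ 2 + v ^ 4) + (w + w ^ 2 + w ^ 4) := by grind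
  have h2 : (1 : F) + 1 = 0 := CharTwo.add_self_eq_zero 1
  simp only [tr]
  rw [he]
  rcases tr_sum_cases hF v with h | h <;> rcases tr_sum_cases hF w with h' | h' <;>
    simp [h, h', h2]
  decide

include hF in
lemma tr_zero : tr (0 : F) = 0 := by simp [tr]

include hF in
lemma tr_one : tr (1 : F) = 1 := by
  haveI := charTwo hF
  simp [tr, CharTwo.add_self_eq_zero]

include hF in
lemma tr_pow_four (v : F) : tr (v ^ 4) = tr v := by
  haveI := charTwo hF
  have h8 := pow_eight hF v
  have hT : ∀ a b : F, a + a ^ 2 + a ^ 4 = b + b ^ 2 + b ^ 4 → tr a = tr b := fun a b h => by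
    unfold tr
    split_ifs with h1 h2 h2
    · rfl
    · exact absurd (h ▸ h1) h2
    · exact absurd (h.trans h2) h1
    · rfl
  exact hT _ _ (by grind)

/-- Multiplication of coordinates on the root group. -/
def mulU (p q : F × F) : F × F := (p.1 + q.1, p.2 + q.2 + p.1 ^ 4 * q.1)

/-- The torus action on coordinates. -/
def act (k : Fˣ) (p : F × F) : F × F := ((k : F) * p.1, (k : F) ^ 5 * p.2)

lemma act_mulU (k : Fˣ) (p q : F × F) : act k (mulU p q) = mulU (act k p) (act k q) :=
  Prod.ext (mul_add _ _ _) (by simp only [act, mulU]; ring)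

lemma act_act (k l : Fˣ) (p : F × F) : act k (act l p) = act (k * l) p :=
  Prod.ext (by simp [act, mul_assoc]) (by simp [act]; ring)

lemma act_one (p : F × F) : act 1 p = p := by simp [act]

lemma act_zero (k : Fˣ) : act k (0 : F × F) = 0 := by simp [act]

/-- The scalar form of the cocycle. -/
noncomputable def eS (s : F) (p q : F × F) : ZMod 2 :=
  tr ((s + s ^ 4) * p.2 * q.1 ^ 2 + s * (p.1 ^ 5 * q.1 ^ 2 + p.1 * q.1 ^ 6))

include hF in
lemma eS_cocycle (s : F) (p q r : F × F) :
    eS s p q + eS s (mulU p q) r = eS s q r + eS s p (mulU q r) := by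
  haveI := charTwo hF
  have hkey : ∀ Y : F, tr (Y + Y ^ 4) = 0 := fun Y => by
    rw [tr_add hF, tr_pow_four hF, CharTwo.add_self_eq_zero]
  have hsum : eS s p q + eS s (mulU p q) r + (eS s q r + eS s p (mulU q r)) = 0 := by
    simp only [eS, ← tr_add hF]
    rw [← hkey (s * (p.1 ^ 4 * q.1 * r.1 ^ 2) ^ 2)]
    congr 1
    have h1 := pow_eight hF p.1
    have h2 := pow_eight hF q.1
    have h3 := pow_eight hF r.1
    simp only [mulU]
    grind
  exact CharTwo.add_eq_zero.mp hsum

include hF in
lemma eS_act (s : F) (k : Fˣ) (p q : F × F) : eS s (act k p) (act k q) = eS s p q := by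
  have h7 : (k : F) ^ 7 = 1 := by
    have := FiniteField.pow_card_sub_one_eq_one (k : F) k.ne_zero
    rwa [hF] at this
  simp only [eS, act]
  congr 1
  grind

lemma eS_zero_left (s : F) (q : F × F) : eS s 0 q = tr (0 : F) := by simp [eS]

lemma eS_zero_right (s : F) (p : F × F) : eS s p 0 = tr (0 : F) := by simp [eS]

/-- The cocycle on the root group with values in the four-group. -/
noncomputable def eU (t : F) (p q : F × F) : Four := (eS t p q, eS (t ^ 2) p q)

include hF in
lemma eU_cocycle (t : F) (p q r : F × F) :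
    eU t p q + eU t (mulU p q) r = eU t q r + eU t p (mulU q r) :=
  Prod.ext (eS_cocycle hF _ p q r) (eS_cocycle hF _ p q r)

include hF in
lemma eU_act (t : F) (k : Fˣ) (p q : F × F) : eU t (act k p) (act k q) = eU t p q :=
  Prod.ext (eS_act hF _ k p q) (eS_act hF _ k p q)

include hF in
lemma eU_zero_left (t : F) (q : F × F) : eU t 0 q = 0 :=
  Prod.ext ((eS_zero_left _ q).trans (tr_zero hF)) ((eS_zero_left _ q).trans (tr_zero hF))

include hF in
lemma eU_zero_right (t : F) (p : F × F) : eU t p 0 = 0 :=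
  Prod.ext ((eS_zero_right _ p).trans (tr_zero hF)) ((eS_zero_right _ p).trans (tr_zero hF))

/-- Coordinates of a Borel element. -/
noncomputable def co (β : bor F 1) : (F × F) × Fˣ := (bEquiv le_rfl hF).symm β

lemma co_mul (β γ : bor F 1) :
    co hF (β * γ) = (mulU (co hF β).1 (act (co hF β).2 (co hF γ).1), (co hF β).2 * (co hF γ).2) := by
  apply (bEquiv le_rfl hF).injective
  simp only [co, Equiv.apply_symm_apply]
  conv_lhs => rw [← (bEquiv le_rfl hF).apply_symm_apply β, ← (bEquiv le_rfl hF).apply_symm_apply γ]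
  generalize (bEquiv le_rfl hF).symm β = P
  generalize (bEquiv le_rfl hF).symm γ = Q
  obtain ⟨⟨a, b⟩, k⟩ := P
  obtain ⟨⟨c, d⟩, l⟩ := Q
  simp only [bEquiv_apply, mulU, act]
  apply Subtype.ext
  show tSz hF a b * dSz hF k * (tSz hF c d * dSz hF l) = _
  rw [tSz_dSz_mul]
  show _ = tSz hF _ _ * dSz hF _
  congr 2 <;> simp only [th] <;> ring

lemma co_one : co hF 1 = (0, 1) := by
  apply (bEquiv le_rfl hF).injective
  rw [co, Equiv.apply_symm_apply]
  show (1 : bor F 1) = bt hF 0 0 * bd hF 1
  rw [bt_zero, bd_one, one_mul]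

lemma co_bt (a b : F) : co hF (bt hF a b) = ((a, b), 1) := by
  apply (bEquiv le_rfl hF).injective
  rw [co, Equiv.apply_symm_apply, bEquiv_apply, bd_one, mul_one]

/-- The cocycle on the Borel subgroup. -/
noncomputable def eB (t : F) (β γ : bor F 1) : Four :=
  eU t (co hF β).1 (act (co hF β).2 (co hF γ).1)

lemma eB_cocycle (t : F) (β γ δ : bor F 1) :
    eB hF t β γ + eB hF t (β * γ) δ = eB hF t γ δ + eB hF t β (γ * δ) := by
  simp only [eB, co_mul]
  rw [eU_cocycle hF, act_mulU, act_act, ← eU_act hF t (co hF β).2 (co hF γ).1, act_act]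

lemma eB_one_left (t : F) (γ : bor F 1) : eB hF t 1 γ = 0 := by
  rw [eB, co_one]; exact eU_zero_left hF _ _

lemma eB_one_right (t : F) (β : bor F 1) : eB hF t β 1 = 0 := by
  rw [eB, co_one]
  simp only [act_zero, eU_zero_right hF]

/-- The point of the ovoid with the given index. -/
noncomputable def pnt (o : Option (F × F)) : suzukiOvoid F 1 := ovoidEquiv F 1 o

/-- The action on indices of ovoid points. -/
noncomputable def op (g : Sz F 1) : Option (F × F) ≃ Option (F × F) :=
  ((ovoidEquiv F 1).trans (MulAction.toPerm g)).trans (ovoidEquiv F 1).symm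

lemma pnt_op (g : Sz F 1) (o : Option (F × F)) :
    (pnt (op g o) : Projectivization F (Fin 4 → F)) = g • (pnt o).1 := by
  simp only [op, pnt, Equiv.trans_apply, Equiv.apply_symm_apply, MulAction.toPerm_apply]
  rfl

lemma op_mul (g h : Sz F 1) (o : Option (F × F)) : op (g * h) o = op g (op h o) := by
  simp only [op, Equiv.trans_apply, Equiv.apply_symm_apply, MulAction.toPerm_apply, mul_smul]

lemma op_one (o : Option (F × F)) : op (1 : Sz F 1) o = o := by
  simp [op]

/-- A section of the orbit map at infinity. -/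
noncomputable def sec (o : Option (F × F)) : Sz F 1 :=
  match o with
  | none => 1
  | some (x, y) => tSz hF x y * wSz hF

lemma sec_smul (o : Option (F × F)) :
    sec hF o • suzukiPointInfinity F = (pnt o).1 := by
  rcases o with _ | ⟨x, y⟩
  · exact one_smul _ _
  · show (tSz hF x y * wSz hF) • suzukiPointInfinity F = _
    rw [mul_smul, wSz_smul_infinity, tSz_smul_zero]
    rfl

/-- The Borel component of `g` at a point. -/
noncomputable def bcyc (g : Sz F 1) (o : Option (F × F)) : bor F 1 :=
  ⟨(sec hF (op g o))⁻¹ * (g * sec hF o), by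
    rw [MulAction.mem_stabilizer_iff, mul_smul, inv_smul_eq_iff, mul_smul, sec_smul, sec_smul,
      pnt_op]⟩

lemma bcyc_mul (g h : Sz F 1) (o : Option (F × F)) :
    bcyc hF (g * h) o = bcyc hF g (op h o) * bcyc hF h o := by
  apply Subtype.ext
  show (sec hF (op (g * h) o))⁻¹ * (g * h * sec hF o) =
    (sec hF (op g (op h o)))⁻¹ * (g * sec hF (op h o)) *
      ((sec hF (op h o))⁻¹ * (h * sec hF o))
  rw [op_mul]
  group

lemma bcyc_one (o : Option (F × F)) : bcyc hF 1 o = 1 := by
  apply Subtype.ext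
  show (sec hF (op 1 o))⁻¹ * (1 * sec hF o) = 1
  rw [op_one]
  group

/-- The cocycle on the whole group. -/
noncomputable def eG (t : F) (g h : Sz F 1) : Four :=
  ∑ o : Option (F × F), eB hF t (bcyc hF g (op h o)) (bcyc hF h o)

lemma eG_cocycle (t : F) (g h l : Sz F 1) :
    eG hF t g h + eG hF t (g * h) l = eG hF t h l + eG hF t g (h * l) := by
  simp only [eG]
  rw [← Equiv.sum_comp (op l) (fun o => eB hF t (bcyc hF g (op h o)) (bcyc hF h o)),
    ← Finset.sum_add_distrib, ← Finset.sum_add_distrib]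
  refine Finset.sum_congr rfl fun o _ => ?_
  rw [bcyc_mul hF g h, bcyc_mul hF h l, op_mul, eB_cocycle]

lemma eG_one_left (t : F) (h : Sz F 1) : eG hF t 1 h = 0 :=
  Finset.sum_eq_zero fun o _ => by rw [bcyc_one, eB_one_left]

lemma eG_one_right (t : F) (g : Sz F 1) : eG hF t g 1 = 0 :=
  Finset.sum_eq_zero fun o _ => by rw [bcyc_one, eB_one_right]

lemma bcyc_tSz_none (a b : F) :
    bcyc hF (tSz hF a b) none = bt hF a b := by
  have ho : op (tSz hF a b) none = none := by
    apply (ovoidEquiv F 1).injective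
    apply Subtype.ext
    show (pnt (op (tSz hF a b) none)).1 = _
    rw [pnt_op]
    exact tSz_smul_infinity hF a b
  apply Subtype.ext
  show (sec hF (op (tSz hF a b) none))⁻¹ * (tSz hF a b * sec hF none) = tSz hF a b
  rw [ho]
  simp [sec]

lemma op_tSz_some (a b x y : F) :
    op (tSz hF a b) (some (x, y)) = some (x + a, y + th 1 a * x + b) := by
  apply (ovoidEquiv F 1).injective
  apply Subtype.ext
  show (pnt (op (tSz hF a b) (some (x, y)))).1 = _
  rw [pnt_op]
  exact tSz_smul_pt hF a b x y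

lemma bcyc_tSz_some (a b : F) (p : F × F) : bcyc hF (tSz hF a b) (some p) = 1 := by
  obtain ⟨x, y⟩ := p
  apply Subtype.ext
  show (sec hF (op (tSz hF a b) (some (x, y))))⁻¹ * (tSz hF a b * sec hF (some (x, y))) = 1
  rw [op_tSz_some, inv_mul_eq_one]
  show tSz hF _ _ * wSz hF = tSz hF a b * (tSz hF x y * wSz hF)
  rw [← mul_assoc, tSz_mul]
  congr 2
  · exact add_comm _ _
  · ring

lemma eG_tSz (t a b c d : F) :
    eG hF t (tSz hF a b) (tSz hF c d) = eU t (a, b) (c, d) := by
  rw [eG, Finset.sum_eq_single none ?_ (fun h => absurd (Finset.mem_univ _) h)]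
  · have ho : op (tSz hF c d) none = none := by
      apply (ovoidEquiv F 1).injective
      apply Subtype.ext
      show (pnt (op (tSz hF c d) none)).1 = _
      rw [pnt_op]
      exact tSz_smul_infinity hF c d
    rw [ho, bcyc_tSz_none, bcyc_tSz_none, eB, co_bt, co_bt]
    simp only [act_one]
  · rintro (_ | ⟨x, y⟩) _ h
    · exact absurd rfl h
    · rw [op_tSz_some, bcyc_tSz_some, bcyc_tSz_some]
      exact eB_one_left hF t 1

/-- The extension of `Sz(8)` by the four-group given by the cocycle. -/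
@[ext]
structure Ext (t : F) (hF : Fintype.card F = 2 ^ (2 * 1 + 1)) where
  /-- The kernel component. -/
  ker : Four
  /-- The quotient component. -/
  base : Sz F 1

variable {hF} {t : F}

noncomputable instance : Mul (Ext t hF) :=
  ⟨fun x y => ⟨x.ker + y.ker + eG hF t x.base y.base, x.base * y.base⟩⟩

noncomputable instance : One (Ext t hF) := ⟨⟨0, 1⟩⟩

noncomputable instance : Inv (Ext t hF) :=
  ⟨fun x => ⟨-(x.ker + eG hF t x.base⁻¹ x.base), x.base⁻¹⟩⟩

lemma ext_mul_ker (x y : Ext t hF) : (x * y).ker = x.ker + y.ker + eG hF t x.base y.base := rfl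

lemma ext_mul_base (x y : Ext t hF) : (x * y).base = x.base * y.base := rfl

noncomputable instance : Group (Ext t hF) :=
  Group.ofLeftAxioms
    (fun x y z => by
      refine Ext.ext ?_ (mul_assoc _ _ _)
      simp only [ext_mul_ker, ext_mul_base]
      linear_combination eG_cocycle hF t x.base y.base z.base)
    (fun x => by
      refine Ext.ext ?_ (one_mul _)
      show (0 : Four) + x.ker + eG hF t 1 x.base = x.ker
      rw [eG_one_left, zero_add, add_zero])
    (fun x => by
      refine Ext.ext ?_ (inv_mul_cancel _)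
      show -(x.ker + eG hF t x.base⁻¹ x.base) + x.ker + eG hF t x.base⁻¹ x.base = 0
      abel)

/-- The projection. -/
noncomputable def proj (t : F) (hF : Fintype.card F = 2 ^ (2 * 1 + 1)) : Ext t hF →* Sz F 1 where
  toFun := Ext.base
  map_one' := rfl
  map_mul' _ _ := rfl

/-- The inclusion of the kernel. -/
noncomputable def incl (t : F) (hF : Fintype.card F = 2 ^ (2 * 1 + 1)) :
    Multiplicative Four →* Ext t hF where
  toFun v := ⟨v.toAdd, 1⟩
  map_one' := rfl
  map_mul' v w := by
    refine Ext.ext ?_ (one_mul _).symm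
    show v.toAdd + w.toAdd = v.toAdd + w.toAdd + eG hF t 1 1
    rw [eG_one_left, add_zero]

lemma four_cases : ∀ x y z v : Four, x.1 = 1 → y.2 = 1 → z.1 + z.2 = 1 →
    v = 0 ∨ v = x ∨ v = y ∨ v = z ∨ v = x + y ∨ v = x + z ∨ v = y + z ∨ v = x + y + z := by
  decide

variable (hF)

include hF in
/-- A stem extension of `Sz(8)` with kernel the four-group. -/
theorem exists_stem_four : ∃ (Γ : Type u) (_ : Group Γ) (_ : Finite Γ) (σ : Γ →* Sz F 1),
    Cfsg.IsStemExtension σ ∧ Nonempty (σ.ker ≃* Multiplicative (ZMod 2 × ZMod 2)) := by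
  haveI := charTwo hF
  obtain ⟨t, ht0, ht1⟩ := exists_ne_zero_one (m := 1) le_rfl hF
  have hu0 : t + t ^ 4 ≠ 0 := by
    intro h
    apply ht1
    have h7 : t ^ 7 = 1 := by
      have := FiniteField.pow_card_sub_one_eq_one t ht0
      rwa [hF] at this
    have h3 : t ^ 3 = 1 := by
      have : t * (t ^ 3 + 1) = 0 := by grind
      have := (mul_eq_zero.mp this).resolve_left ht0
      grind
    grind
  have hu1 : t + t ^ 4 ≠ 1 := fun h => th_eq_add_one hF (t := t) (by simp [th]; grind)
  haveI : Finite (Ext t hF) :=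
    Finite.of_injective (fun x : Ext t hF => (x.ker, x.base))
      fun x y h => Ext.ext (Prod.mk.inj h).1 (Prod.mk.inj h).2
  have hker : ∀ x : Ext t hF, x ∈ (proj t hF).ker → x = incl t hF (Multiplicative.ofAdd x.ker) :=
    fun x hx => Ext.ext rfl hx
  -- commutators of lifts of commuting root elements
  have hcom : ∀ b, incl t hF (Multiplicative.ofAdd
      ((tr ((t + t ^ 4) * b), tr ((t + t ^ 4) ^ 2 * b)) : Four)) ∈ commutator (Ext t hF) := by
    intro b
    have he : eG hF t (tSz hF 0 b) (tSz hF 1 0) =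
        ((tr ((t + t ^ 4) * b), tr ((t + t ^ 4) ^ 2 * b)) : Four) := by
      rw [eG_tSz]
      refine Prod.ext ?_ ?_ <;> simp only [eU, eS] <;> congr 1 <;> grind
    have he' : eG hF t (tSz hF 1 0) (tSz hF 0 b) = 0 := by
      rw [eG_tSz]
      refine Prod.ext ?_ ?_ <;> simp [eU, eS, tr_zero hF]
    have hgh : tSz hF 0 b * tSz hF 1 0 = tSz hF 1 0 * tSz hF 0 b := by
      rw [tSz_mul, tSz_mul]; simp [th]
    have hswap : (⟨0, tSz hF 0 b⟩ : Ext t hF) * ⟨0, tSz hF 1 0⟩ =
        incl t hF (Multiplicative.ofAdd (eG hF t (tSz hF 0 b) (tSz hF 1 0))) *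
          (⟨0, tSz hF 1 0⟩ * ⟨0, tSz hF 0 b⟩) := by
      refine Ext.ext ?_ (hgh.trans (one_mul _).symm)
      show (0 : Four) + 0 + _ = _ + ((0 : Four) + 0 + _) + eG hF t 1 _
      rw [he', eG_one_left]
      simp
      rfl
    rw [← he, eq_mul_inv_of_mul_eq hswap.symm, commutator_def]
    have := Subgroup.commutator_mem_commutator (Subgroup.mem_top (⟨0, tSz hF 0 b⟩ : Ext t hF))
      (Subgroup.mem_top (⟨0, tSz hF 1 0⟩ : Ext t hF))
    rwa [commutatorElement_def, mul_assoc, ← mul_inv_rev] at this
  have hall : ∀ v : Four, incl t hF (Multiplicative.ofAdd v) ∈ commutator (Ext t hF) := by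
    intro v
    have h1 : ∀ c : F, c ≠ 0 → ∃ b, tr (c * b) = 1 := fun c hc =>
      ⟨c⁻¹, by rw [mul_inv_cancel₀ hc, tr_one hF]⟩
    obtain ⟨b1, hb1⟩ := h1 _ hu0
    obtain ⟨b2, hb2⟩ := h1 _ (pow_ne_zero 2 hu0)
    obtain ⟨b3, hb3⟩ := h1 ((t + t ^ 4) + (t + t ^ 4) ^ 2) (by
      intro h
      have : (t + t ^ 4) * (t + t ^ 4 + 1) = 0 := by grind
      rcases mul_eq_zero.mp this with h' | h'
      · exact hu0 h'
      · exact hu1 (by grind))
    rw [add_mul, tr_add hF] at hb3
    have m1 := hcom b1
    have m2 := hcom b2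
    have m3 := hcom b3
    rcases four_cases _ _ _ v (show ((tr ((t + t ^ 4) * b1), tr ((t + t ^ 4) ^ 2 * b1)) : Four).1 = 1
        from hb1)
      (show ((tr ((t + t ^ 4) * b2), tr ((t + t ^ 4) ^ 2 * b2)) : Four).2 = 1 from hb2)
      (show ((tr ((t + t ^ 4) * b3), tr ((t + t ^ 4) ^ 2 * b3)) : Four).1 +
          ((tr ((t + t ^ 4) * b3), tr ((t + t ^ 4) ^ 2 * b3)) : Four).2 = 1 from hb3)
      with rfl | rfl | rfl | rfl | rfl | rfl | rfl | rfl
    · rw [ofAdd_zero, map_one]; exact one_mem _
    · exact m1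
    · exact m2
    · exact m3
    · rw [ofAdd_add, map_mul]; exact mul_mem m1 m2
    · rw [ofAdd_add, map_mul]; exact mul_mem m1 m3
    · rw [ofAdd_add, map_mul]; exact mul_mem m2 m3
    · rw [ofAdd_add, map_mul, ofAdd_add, map_mul]; exact mul_mem (mul_mem m1 m2) m3
  refine ⟨Ext t hF, inferInstance, inferInstance, proj t hF,
    ⟨fun g => ⟨⟨0, g⟩, rfl⟩, ?_, fun x hx => hker x hx ▸ hall x.ker⟩, ⟨?_⟩⟩
  · intro x hx
    rw [Subgroup.mem_center_iff]
    intro y
    have hb : x.base = 1 := hx
    refine Ext.ext ?_ (show y.base * x.base = x.base * y.base by rw [hb, mul_one, one_mul])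
    rw [ext_mul_ker, ext_mul_ker, hb, eG_one_left, eG_one_right]
    abel
  · exact (MulEquiv.ofBijective ((incl t hF).codRestrict (proj t hF).ker fun v => rfl)
      ⟨fun v w h => congrArg (fun x => Multiplicative.ofAdd (Ext.ker (Subtype.val x))) h,
        fun x => ⟨Multiplicative.ofAdd x.1.ker, Subtype.ext (hker x.1 x.2).symm⟩⟩).symm

end Cfsg.Agent.Suzuki.Eight
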